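import Mathlib.AlgebraicGeometry.Morphisms.Flat
import Mathlib.AlgebraicGeometry.Morphisms.UnderlyingMap
import Mathlib.RingTheory.Flat.FaithfullyFlat.Algebra
import Mathlib.RingTheory.RingHom.Flat

/-! Flatness descends along flat surjective maps on the source. -/

set_option autoImplicit false
universe u

open AlgebraicGeometry CategoryTheory TensorProduct

namespace Groth.Agent.FlatMor66

theorem flat_of_faithfullyFlat_top (A B C : Type u) [CommRing A] [CommRing B] [CommRing C]
    [Algebra A B] [Algebra B C] [Algebra A C] [IsScalarTower A B C]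
    [Module.FaithfullyFlat B C] [Module.Flat A C] : Module.Flat A B := by
  rw [Module.Flat.iff_lTensor_preserves_injective_linearMap]
  intro M N _ _ _ _ g hg
  let G : B ⊗[A] M →ₗ[B] B ⊗[A] N := AlgebraTensorModule.map LinearMap.id g
  suffices Function.Injective G from this
  rw [← Module.FaithfullyFlat.lTensor_injective_iff_injective B C]
  have key : (AlgebraTensorModule.cancelBaseChange A B C C N).toLinearMap.restrictScalars B ∘ₗ G.lTensor C =
      (AlgebraTensorModule.map LinearMap.id g : C ⊗[A] M →ₗ[C] C ⊗[A] N).restrictScalars B ∘ₗ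
        (AlgebraTensorModule.cancelBaseChange A B C C M).toLinearMap.restrictScalars B := by
    refine TensorProduct.ext' fun c x => ?_
    induction x with
    | zero => simp
    | tmul b m => simp [G]
    | add x y hx hy =>
      simp only [tmul_add, map_add, hx, hy]
  have h2 : Function.Injective (g.lTensor C) := Module.Flat.lTensor_preserves_injective_linearMap g hg
  have h3 : Function.Injective
      ((AlgebraTensorModule.cancelBaseChange A B C C N).toLinearMap.restrictScalars B ∘ₗ G.lTensor C) := by
    rw [key]
    exact h2.comp (AlgebraTensorModule.cancelBaseChange A B C C M).injective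
  exact fun a b e => h3 (by simp only [LinearMap.coe_comp, Function.comp_apply, e])

theorem flat_of_comp_localHom {A B C : Type u} [CommRing A] [CommRing B] [CommRing C]
    [IsLocalRing B] [IsLocalRing C] (φ : A →+* B) (ψ : B →+* C) [IsLocalHom ψ]
    (hψ : ψ.Flat) (h : (ψ.comp φ).Flat) : φ.Flat := by
  algebraize [φ, ψ, ψ.comp φ]
  have : Module.FaithfullyFlat B C := Module.FaithfullyFlat.of_flat_of_isLocalHom
  exact flat_of_faithfullyFlat_top A B C

theorem flat_of_comp_surjective {X Y Z : Scheme.{u}} (f : X ⟶ Y) (g : Y ⟶ Z) [Flat f] [Surjective f]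
    [Flat (f ≫ g)] : Flat g := by
  refine Flat.of_stalkMap g fun y => ?_
  obtain ⟨x, rfl⟩ := f.surjective y
  have h := Flat.stalkMap (f ≫ g) x
  rw [Scheme.Hom.stalkMap_comp] at h
  exact flat_of_comp_localHom _ (f.stalkMap x).hom (Flat.stalkMap f x) h

end Groth.Agent.FlatMor66
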