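import Groth.Agent.FlatMor66.NilBC
import Groth.Agent.FlatCrit65.Basic

/-!
Algebra behind deforming properties over a nilpotent ideal.
-/

set_option autoImplicit false
set_option backward.isDefEq.respectTransparency.types false
universe u

namespace Groth.Agent.FlatMor66

open TensorProduct

section Alg

variable {A B C : Type u} [CommRing A] [CommRing B] [CommRing C] [Algebra A B] [Algebra A C] [Algebra B C]
  [IsScalarTower A B C] (I : Ideal A)

lemma lTensor_injective_map [Module.Flat A C] :
    Function.Injective (((I.map (algebraMap A B)).subtype).lTensor C) := by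
  let J : Ideal B := I.map (algebraMap A B)
  let incl : I →ₗ[A] J := ((Algebra.linearMap A B).comp I.subtype).codRestrict (J.restrictScalars A)
    fun x => Ideal.mem_map_of_mem _ x.2
  let π : C ⊗[A] I →ₗ[A] C ⊗[B] J :=
    (TensorProduct.mapOfCompatibleSMul B A A C J).comp (incl.lTensor C)
  have hπ : ∀ (c : C) (i : I), π (c ⊗ₜ[A] i) = c ⊗ₜ[B] incl i := fun c i => rfl
  have hsurj : Function.Surjective π := by
    intro z
    induction z using TensorProduct.induction_on with
    | zero => exact ⟨0, map_zero _⟩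
    | add x y hx hy =>
      obtain ⟨a, rfl⟩ := hx; obtain ⟨b, rfl⟩ := hy
      exact ⟨a + b, map_add _ _ _⟩
    | tmul c j =>
      obtain ⟨j, hj⟩ := j
      have hj' : j ∈ Submodule.span B (algebraMap A B '' I) := hj
      have : ∀ c : C, ∀ hj, ∃ w, π w = c ⊗ₜ[B] (⟨j, hj⟩ : J) := by
        clear hj
        induction hj' using Submodule.span_induction with
        | mem x hx =>
          obtain ⟨i, hi, rfl⟩ := hx
          exact fun c hj => ⟨c ⊗ₜ ⟨i, hi⟩, rfl⟩
        | zero => exact fun c hj => ⟨0, by rw [map_zero, show (⟨0, hj⟩ : J) = 0 from rfl, TensorProduct.tmul_zero]⟩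
        | add x y hx hy ihx ihy =>
          intro c hj
          obtain ⟨a, ha⟩ := ihx c hx
          obtain ⟨b, hb⟩ := ihy c hy
          exact ⟨a + b, by rw [map_add, ha, hb, ← TensorProduct.tmul_add]; rfl⟩
        | smul b x hx ihx =>
          intro c hj
          obtain ⟨w, hw⟩ := ihx (b • c) hx
          exact ⟨w, by rw [hw, TensorProduct.smul_tmul]; rfl⟩
      exact this c hj
  have hinj : Function.Injective (I.subtype.lTensor C) :=
    Module.Flat.lTensor_preserves_injective_linearMap _ I.injective_subtype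
  intro x y h
  obtain ⟨x, rfl⟩ := hsurj x
  obtain ⟨y, rfl⟩ := hsurj y
  refine congrArg π (hinj ?_)
  have key : ∀ z : C ⊗[A] I, TensorProduct.rid A C (I.subtype.lTensor C z) = TensorProduct.rid B C (J.subtype.lTensor C (π z)) := by
    intro z
    induction z using TensorProduct.induction_on with
    | zero => simp
    | add a b ha hb => simp only [map_add, ha, hb]
    | tmul c i =>
      rw [hπ, LinearMap.lTensor_tmul, TensorProduct.rid_tmul, LinearMap.lTensor_tmul, TensorProduct.rid_tmul]
      exact (algebraMap_smul B (i : A) c).symm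
  apply (TensorProduct.rid A C).injective
  rw [key, key, h]

theorem flat_of_flat_mod (hI : IsNilpotent I) [Module.Flat A C]
    (h : Module.Flat (B ⧸ I.map (algebraMap A B)) ((B ⧸ I.map (algebraMap A B)) ⊗[B] C)) : Module.Flat B C := by
  refine FlatCrit65.flat_of_injective_of_isNilpotent ?_ (lTensor_injective_map I) h
  obtain ⟨n, hn⟩ := hI
  exact ⟨n, by rw [← Ideal.map_pow, hn, Ideal.zero_eq_bot, Ideal.map_bot]; rfl⟩

lemma one_tmul_eq_zero_iff {R : Type u} [CommRing R] (J : Ideal R) {M : Type u} [AddCommGroup M] [Module R M] (z : M) :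
    (1 : R ⧸ J) ⊗ₜ[R] z = 0 ↔ z ∈ J • (⊤ : Submodule R M) := by
  rw [← (TensorProduct.quotTensorEquivQuotSMul M J).map_eq_zero_iff, ← map_one (Ideal.Quotient.mk J),
    TensorProduct.quotTensorEquivQuotSMul_mk_tmul, one_smul, Submodule.Quotient.mk_eq_zero]

lemma includeRight_quot_surjective {R : Type u} [CommRing R] (J : Ideal R) (P : Type u) [CommRing P] [Algebra R P] :
    Function.Surjective (Algebra.TensorProduct.includeRight : P →ₐ[R] (R ⧸ J) ⊗[R] P) := fun z => by
  induction z using TensorProduct.induction_on with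
  | zero => exact ⟨0, map_zero _⟩
  | add x y hx hy =>
    obtain ⟨a, rfl⟩ := hx; obtain ⟨b, rfl⟩ := hy
    exact ⟨a + b, map_add _ _ _⟩
  | tmul c p =>
    obtain ⟨b, rfl⟩ := Ideal.Quotient.mk_surjective c
    refine ⟨b • p, ?_⟩
    show (1 : R ⧸ J) ⊗ₜ[R] (b • p) = _
    rw [← TensorProduct.smul_tmul, Algebra.smul_def, mul_one]
    rfl

/-- The kernel of a presentation is finitely generated if it is so modulo the nilpotent ideal. -/
lemma ker_fg_of_mod (hI : IsNilpotent I) [Module.Flat A C] {P : Type u} [CommRing P] [Algebra A P] [Algebra B P]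
    [IsScalarTower A B P] (φ : P →ₐ[B] C) (hφ : Function.Surjective φ)
    (hfg : (RingHom.ker (Algebra.TensorProduct.map (AlgHom.id (B ⧸ I.map (algebraMap A B)) (B ⧸ I.map (algebraMap A B))) φ).toRingHom).FG) :
    (RingHom.ker φ.toRingHom).FG := by
  classical
  let J : Ideal B := I.map (algebraMap A B)
  let φA : P →ₗ[A] C := φ.toLinearMap.restrictScalars A
  let M : Submodule A P := LinearMap.ker φA
  obtain ⟨s, hs⟩ := hfg
  have hlift : ∀ y : (B ⧸ J) ⊗[B] P, (Algebra.TensorProduct.map (AlgHom.id (B ⧸ J) (B ⧸ J)) φ) y = 0 →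
      ∃ k : P, φ k = 0 ∧ (1 : B ⧸ J) ⊗ₜ[B] k = y := by
    intro y hy
    obtain ⟨p, rfl⟩ := includeRight_quot_surjective J P y
    have h1 : (1 : B ⧸ J) ⊗ₜ[B] φ p = 0 := hy
    rw [one_tmul_eq_zero_iff] at h1
    obtain ⟨q, hq, hqe⟩ : φ p ∈ (J • (⊤ : Submodule B P)).map φ.toLinearMap := by
      rwa [Submodule.map_smul'', Submodule.map_top, LinearMap.range_eq_top.mpr hφ]
    refine ⟨p - q, ?_, ?_⟩
    · rw [map_sub, sub_eq_zero]
      exact hqe.symm
    · rw [TensorProduct.tmul_sub, (one_tmul_eq_zero_iff J q).mpr hq, sub_zero]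
      rfl
  choose k hk hkρ using fun y : s => hlift y.1 (hs.le (Ideal.subset_span y.2))
  let K0 : Ideal P := Ideal.span (Set.range k)
  have hK0 : K0.restrictScalars A ≤ M := fun z hz =>
    (Ideal.span_le (I := RingHom.ker φ.toRingHom)).mpr (Set.range_subset_iff.mpr hk) hz
  have hsplit : M ≤ K0.restrictScalars A ⊔ I • M := by
    intro z hz
    have h0 : (1 : B ⧸ J) ⊗ₜ[B] z ∈ Ideal.map (Algebra.TensorProduct.includeRight : P →ₐ[B] (B ⧸ J) ⊗[B] P) K0 := by
      refine (Ideal.span_le (s := (s : Set ((B ⧸ J) ⊗[B] P)))).mpr ?_ (hs.ge ?_)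
      · intro y hy
        have e := hkρ ⟨y, hy⟩
        rw [show y = (⟨y, hy⟩ : s).1 from rfl, ← e]
        exact Ideal.mem_map_of_mem _ (Ideal.subset_span ⟨_, rfl⟩)
      · show (1 : B ⧸ J) ⊗ₜ[B] φ z = 0
        rw [show φ z = 0 from hz, TensorProduct.tmul_zero]
    obtain ⟨a, ha, haz⟩ := (Ideal.mem_map_iff_of_surjective _ (includeRight_quot_surjective J P)).mp h0
    have h1 : z - a ∈ I • (⊤ : Submodule A P) := by
      have : (1 : B ⧸ J) ⊗ₜ[B] (z - a) = 0 := by
        rw [TensorProduct.tmul_sub, sub_eq_zero]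
        exact haz.symm
      rw [one_tmul_eq_zero_iff] at this
      refine Submodule.smul_induction_on this (fun j hj p _ => ?_) (fun x y hx hy => add_mem hx hy)
      have : ∀ p : P, j • p ∈ I • (⊤ : Submodule A P) := by
        induction hj using Submodule.span_induction with
        | mem x hx =>
          obtain ⟨i, hi, rfl⟩ := hx
          intro p
          rw [algebraMap_smul]
          exact Submodule.smul_mem_smul hi Submodule.mem_top
        | zero => intro p; rw [zero_smul]; exact zero_mem _
        | add x y _ _ ihx ihy => intro p; rw [add_smul]; exact add_mem (ihx p) (ihy p)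
        | smul b x _ ihx => intro p; rw [smul_assoc, smul_comm]; exact ihx (b • p)
      exact this p
    have hex : Function.Exact M.subtype φA := fun x => ⟨fun hx => ⟨⟨x, hx⟩, rfl⟩, fun ⟨y, hy⟩ => hy ▸ y.2⟩
    have hinj : Function.Injective (M.subtype.lTensor (A ⧸ I)) :=
      LinearMap.lTensor_injective_of_exact_of_flat φA hφ M.subtype M.injective_subtype hex (A ⧸ I)
    have hza : z - a ∈ M := M.sub_mem hz (hK0 ha)
    have h2 : (1 : A ⧸ I) ⊗ₜ[A] (⟨z - a, hza⟩ : M) = 0 := by
      apply hinj
      rw [map_zero, LinearMap.lTensor_tmul]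
      exact (one_tmul_eq_zero_iff I _).mpr h1
    have h3 := Submodule.mem_map_of_mem (f := M.subtype) ((one_tmul_eq_zero_iff I _).mp h2)
    rw [Submodule.map_smul'', Submodule.map_top, Submodule.range_subtype] at h3
    have := Submodule.add_mem_sup (show a ∈ K0.restrictScalars A from ha) h3
    rwa [show a + M.subtype ⟨z - a, hza⟩ = z from add_sub_cancel a z] at this
  obtain ⟨n, hn⟩ := hI
  have key : ∀ m : ℕ, M ≤ K0.restrictScalars A ⊔ (I ^ m) • M := by
    intro m
    induction m with
    | zero => simp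
    | succ m ih =>
      refine ih.trans (sup_le le_sup_left ?_)
      calc (I ^ m) • M ≤ (I ^ m) • (K0.restrictScalars A ⊔ I • M) := smul_mono_right (I ^ m) hsplit
        _ ≤ _ := by
          rw [Submodule.smul_sup, ← Submodule.smul_assoc, pow_succ, Ideal.smul_eq_mul]
          exact sup_le_sup_right Submodule.smul_le_right _
  have hle := key n
  rw [hn, Ideal.zero_eq_bot, Submodule.bot_smul, sup_bot_eq] at hle
  have hKeq : RingHom.ker φ.toRingHom = K0 := le_antisymm (fun z hz => hle hz) (fun z hz => hK0 hz)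
  rw [hKeq]
  exact Submodule.fg_span (Set.finite_range k)

lemma ker_baseChange_fg {R : Type u} [CommRing R] (T : Type u) [CommRing T] [Algebra R T] {P D : Type u} [CommRing P] [CommRing D]
    [Algebra R P] [Algebra R D] [Algebra.FinitePresentation R P] [Algebra.FinitePresentation T (T ⊗[R] D)]
    (φ : P →ₐ[R] D) (hφ : Function.Surjective φ) :
    (RingHom.ker (Algebra.TensorProduct.map (AlgHom.id T T) φ).toRingHom).FG :=
  Algebra.FinitePresentation.ker_fG_of_surjective (R := T) _ (by
    intro z
    induction z using TensorProduct.induction_on with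
    | zero => exact ⟨0, map_zero _⟩
    | add x y hx hy =>
      obtain ⟨a, rfl⟩ := hx; obtain ⟨b, rfl⟩ := hy
      exact ⟨a + b, map_add _ _ _⟩
    | tmul t d =>
      obtain ⟨p, rfl⟩ := hφ d
      exact ⟨t ⊗ₜ p, Algebra.TensorProduct.map_tmul _ _ _ _⟩)

lemma finitePresentation_of_presentation (hI : IsNilpotent I) [Module.Flat A C] {P : Type u} [CommRing P] [Algebra A P]
    [Algebra B P] [IsScalarTower A B P] [Algebra.FinitePresentation B P]
    [Algebra.FinitePresentation (B ⧸ I.map (algebraMap A B)) ((B ⧸ I.map (algebraMap A B)) ⊗[B] C)]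
    (φ : P →ₐ[B] C) (hφ : Function.Surjective φ) : Algebra.FinitePresentation B C :=
  Algebra.FinitePresentation.of_surjective hφ
    (ker_fg_of_mod I hI φ hφ (ker_baseChange_fg (B ⧸ I.map (algebraMap A B)) φ hφ))

theorem finitePresentation_of_mod (hI : IsNilpotent I) [Module.Flat A C]
    [h : Algebra.FinitePresentation (B ⧸ I.map (algebraMap A B)) ((B ⧸ I.map (algebraMap A B)) ⊗[B] C)] :
    Algebra.FinitePresentation B C := by
  have hJ : IsNilpotent (I.map (algebraMap A B)) := by
    obtain ⟨n, hn⟩ := hI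
    exact ⟨n, by rw [← Ideal.map_pow, hn, Ideal.zero_eq_bot, Ideal.map_bot]; rfl⟩
  have : Algebra.FiniteType B C :=
    @finiteType_of_nilpotent B C _ _ _ _ hJ inferInstance
  obtain ⟨n, φ, hφ⟩ := Algebra.FiniteType.iff_quotient_mvPolynomial''.mp this
  exact @finitePresentation_of_presentation A B C _ _ _ _ _ _ _ I hI _ (MvPolynomial (Fin n) B) _ _ _ _ _ h φ hφ

end Alg


end Groth.Agent.FlatMor66
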