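import Groth.Agent.FlatMor66.NilBC
import Groth.Agent.FlatMor66.DeformAlg
import Groth.Agent.MP99.Basic
import Groth.Agent.MP99.Ops
import Groth.Agent.FlatMor68.ThickeningFT
import Groth.Prelude.Def_Mor2

/-!
Deforming properties of morphisms of flat schemes over a finite order thickening.
-/

set_option autoImplicit false
set_option backward.isDefEq.respectTransparency.types false
universe u

namespace Groth.Agent.FlatMor66

open TensorProduct

section Geom

open AlgebraicGeometry CategoryTheory CategoryTheory.Limits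

variable {X X' Y Y' S S' : Scheme.{u}} {iX : X ⟶ X'} {iY : Y ⟶ Y'} {iS : S ⟶ S'}
    {f : X ⟶ Y} {f' : X' ⟶ Y'} {g : Y ⟶ S} {g' : Y' ⟶ S'}

lemma deform_isPullback (hcX : IsPullback iX (f ≫ g) (f' ≫ g') iS) (hcY : IsPullback iY g g' iS)
    (w : iX ≫ f' = f ≫ iY) : IsPullback iX f f' iY :=
  IsPullback.of_bot hcX w hcY

lemma ker_isPullback_eq_comap [IsClosedImmersion iS] (hcY : IsPullback iY g g' iS) :
    iY.ker = iS.ker.comap g' := by
  have : IsClosedImmersion iY := MorphismProperty.of_isPullback hcY.flip (inferInstance : IsClosedImmersion iS)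
  have h := hcY.isoPullback_hom_fst
  rw [← h, Scheme.Hom.ker_comp_of_isIso, Scheme.IdealSheafData.ker_fst_of_isClosedImmersion]

lemma deform_thickening (hS : MoreMor.IsFiniteOrderThickening iS) (hcY : IsPullback iY g g' iS) :
    MoreMor.IsFiniteOrderThickening iY := by
  have := hS.1.1
  refine ⟨⟨MorphismProperty.of_isPullback hcY.flip hS.1.1, MorphismProperty.of_isPullback hcY.flip hS.1.2⟩, ?_⟩
  obtain ⟨n, hn⟩ := hS.2
  refine ⟨n + 1, ?_⟩
  rw [ker_isPullback_eq_comap hcY]
  have hp : ∀ m : ℕ, (iS.ker.comap g') ^ (m + 1) = (iS.ker ^ (m + 1)).comap g' := by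
    intro m
    induction m with
    | zero => rw [pow_one, pow_one]
    | succ m ih => rw [pow_succ, ih, pow_succ iS.ker (m + 1), MP99.comap_mul]
  rw [hp, pow_succ, hn, zero_mul]
  exact Scheme.IdealSheafData.comap_bot g'

/-- The data attached to a chart of `f'` over an affine open of `S'`. -/
lemma deform_chart [IsClosedImmersion iS] (hcY : IsPullback iY g g' iS) (W : S'.affineOpens) (V : Y'.affineOpens)
    (e : V.1 ≤ g' ⁻¹ᵁ W.1) :
    iY.ker.ideal V = (iS.ker.ideal W).map (g'.appLE W V e).hom := by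
  rw [ker_isPullback_eq_comap hcY, MP99.ideal_comap _ g' W V e]

/-- Reduction to charts. -/
lemma deform_of_charts (P : MorphismProperty Scheme.{u}) [IsZariskiLocalAtSource P] [P.IsStableUnderComposition]
    (hP : ∀ {A B : Scheme.{u}} (j : A ⟶ B), IsOpenImmersion j → P j) (f' : X' ⟶ Y') (g' : Y' ⟶ S')
    (h : ∀ (W : S'.affineOpens) (V : Y'.affineOpens) (U : X'.affineOpens) (eW : V.1 ≤ g' ⁻¹ᵁ W.1) (eV : U.1 ≤ f' ⁻¹ᵁ V.1),
      P (Spec.map (f'.appLE V U eV))) : P f' := by
  have hc : ∀ x : X', ∃ (W : S'.affineOpens) (V : Y'.affineOpens) (U : X'.affineOpens),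
      x ∈ U.1 ∧ V.1 ≤ g' ⁻¹ᵁ W.1 ∧ U.1 ≤ f' ⁻¹ᵁ V.1 := fun x => by
    obtain ⟨_, ⟨W, hW, rfl⟩, hxW, -⟩ := S'.isBasis_affineOpens.exists_subset_of_mem_open (Set.mem_univ (g' (f' x))) isOpen_univ
    obtain ⟨_, ⟨V, hV, rfl⟩, hxV, eW⟩ := Y'.isBasis_affineOpens.exists_subset_of_mem_open hxW (g' ⁻¹ᵁ W).isOpen
    obtain ⟨_, ⟨U, hU, rfl⟩, hxU, eV⟩ := X'.isBasis_affineOpens.exists_subset_of_mem_open hxV (f' ⁻¹ᵁ V).isOpen
    exact ⟨⟨W, hW⟩, ⟨V, hV⟩, ⟨U, hU⟩, hxU, eW, eV⟩
  choose W V U hxU eW eV using hc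
  refine IsZariskiLocalAtSource.of_iSup_eq_top (P := P) (fun x => (U x).1)
    (eq_top_iff.mpr fun x _ => TopologicalSpace.Opens.mem_iSup.mpr ⟨x, hxU x⟩) fun x => ?_
  have hU : IsAffineOpen (U x).1 := (U x).2
  have hV : IsAffineOpen (V x).1 := (V x).2
  have e : (U x).1.ι ≫ f' = hU.isoSpec.hom ≫ Spec.map (f'.appLE (V x) (U x) (eV x)) ≫ hV.fromSpec := by
    rw [IsAffineOpen.SpecMap_appLE_fromSpec f' hV hU (eV x), IsAffineOpen.isoSpec_hom, IsAffineOpen.toSpecΓ_fromSpec_assoc]
  rw [e]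
  exact P.comp_mem _ _ (hP _ inferInstance) (P.comp_mem _ _ (h _ _ _ (eW x) (eV x)) (hP _ inferInstance))

theorem deform_flat (hS : MoreMor.IsFiniteOrderThickening iS) (hcX : IsPullback iX (f ≫ g) (f' ≫ g') iS)
    (hcY : IsPullback iY g g' iS) (w : iX ≫ f' = f ≫ iY) [Flat (f' ≫ g')] : Flat f ↔ Flat f' := by
  have hc := deform_isPullback hcX hcY w
  refine ⟨fun h => ?_, fun h => MorphismProperty.of_isPullback hc h⟩
  have := hS.1.1
  have := (deform_thickening hS hcY).1.1
  refine deform_of_charts @Flat (fun j _ => inferInstance) f' g' fun W V U eW eV => ?_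
  have eU : U.1 ≤ (f' ≫ g') ⁻¹ᵁ W.1 := fun x hx => eW (eV hx)
  algebraize [(f'.appLE V U eV).hom, (g'.appLE W V eW).hom, ((f' ≫ g').appLE W U eU).hom]
  have : IsScalarTower Γ(S', W.1) Γ(Y', V.1) Γ(X', U.1) := .of_algebraMap_eq' (by
    have e := Scheme.Hom.appLE_comp_appLE f' g' W.1 V.1 U.1 eW eV
    exact congrArg CommRingCat.Hom.hom e.symm)
  have hAC : Module.Flat Γ(S', W.1) Γ(X', U.1) :=
    RingHom.flat_algebraMap_iff.mp (HasRingHomProperty.appLE (P := @Flat) (f' ≫ g') inferInstance W U eU)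
  have h2 := algebra_chart_of_thickening @Flat (fun j _ => inferInstance) hc h V U eV
  rw [HasRingHomProperty.Spec_iff (P := @Flat)] at h2
  have h3 := RingHom.flat_algebraMap_iff.mp h2
  rw [HasRingHomProperty.Spec_iff (P := @Flat)]
  obtain ⟨n, hn⟩ := hS.2
  refine RingHom.flat_algebraMap_iff.mpr (flat_of_flat_mod (iS.ker.ideal W)
    ⟨n, by simpa using congrArg (fun K => Scheme.IdealSheafData.ideal K W) hn⟩ ?_)
  rw [deform_chart hcY W V eW] at h3
  exact h3

theorem deform_lfp (hS : MoreMor.IsFiniteOrderThickening iS) (hcX : IsPullback iX (f ≫ g) (f' ≫ g') iS)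
    (hcY : IsPullback iY g g' iS) (w : iX ≫ f' = f ≫ iY) [Flat (f' ≫ g')] :
    LocallyOfFinitePresentation f ↔ LocallyOfFinitePresentation f' := by
  have hc := deform_isPullback hcX hcY w
  refine ⟨fun h => ?_, fun h => MorphismProperty.of_isPullback hc h⟩
  have := hS.1.1
  have := (deform_thickening hS hcY).1.1
  refine deform_of_charts @LocallyOfFinitePresentation (fun j _ => inferInstance) f' g' fun W V U eW eV => ?_
  have eU : U.1 ≤ (f' ≫ g') ⁻¹ᵁ W.1 := fun x hx => eW (eV hx)
  algebraize [(f'.appLE V U eV).hom, (g'.appLE W V eW).hom, ((f' ≫ g').appLE W U eU).hom]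
  have : IsScalarTower Γ(S', W.1) Γ(Y', V.1) Γ(X', U.1) := .of_algebraMap_eq' (by
    have e := Scheme.Hom.appLE_comp_appLE f' g' W.1 V.1 U.1 eW eV
    exact congrArg CommRingCat.Hom.hom e.symm)
  have hAC : Module.Flat Γ(S', W.1) Γ(X', U.1) :=
    RingHom.flat_algebraMap_iff.mp (HasRingHomProperty.appLE (P := @Flat) (f' ≫ g') inferInstance W U eU)
  have h2 := algebra_chart_of_thickening @LocallyOfFinitePresentation (fun j _ => inferInstance) hc h V U eV
  rw [HasRingHomProperty.Spec_iff (P := @LocallyOfFinitePresentation)] at h2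
  have h3 := RingHom.finitePresentation_algebraMap.mp h2
  rw [HasRingHomProperty.Spec_iff (P := @LocallyOfFinitePresentation)]
  obtain ⟨n, hn⟩ := hS.2
  rw [deform_chart hcY W V eW] at h3
  exact RingHom.finitePresentation_algebraMap.mpr (finitePresentation_of_mod (iS.ker.ideal W)
    ⟨n, by simpa using congrArg (fun K => Scheme.IdealSheafData.ideal K W) hn⟩ (h := h3))

theorem deform_isIso (hS : MoreMor.IsFiniteOrderThickening iS) (hcX : IsPullback iX (f ≫ g) (f' ≫ g') iS)
    (hcY : IsPullback iY g g' iS) (w : iX ≫ f' = f ≫ iY) [Flat (f' ≫ g')] : IsIso f ↔ IsIso f' := by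
  have hc := deform_isPullback hcX hcY w
  refine ⟨fun h => ?_, fun h => MorphismProperty.of_isPullback (P := MorphismProperty.isomorphisms _) hc h⟩
  have hY := deform_thickening hS hcY
  have := hY.1.1
  have := hY.1.2
  have : Flat f' := (deform_flat hS hcX hcY w).mp inferInstance
  have : Mono f' := (mono_iff iX iY f f' hY hc).mp inferInstance
  have : Surjective iX := MorphismProperty.of_isPullback hc.flip hY.1.2
  have : IsClosedImmersion iX := MorphismProperty.of_isPullback hc.flip hY.1.1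
  have hs : Surjective (iX ≫ f') := by rw [w]; infer_instance
  have : Surjective f' := ⟨fun y => by
    obtain ⟨x, hx⟩ := hs.surj y
    exact ⟨iX x, by rwa [← Scheme.Hom.comp_apply]⟩⟩
  have : QuasiCompact (iX ≫ f') := by rw [w]; infer_instance
  have : QuasiCompact f' := quasiCompact_of_comp_surjective iX f'
  exact MorphismProperty.of_pullback_fst_of_descendsAlong (P := MorphismProperty.isomorphisms Scheme.{u})
    (Q := @Surjective ⊓ @Flat ⊓ @QuasiCompact) (f := f') (g := f') ⟨⟨inferInstance, inferInstance⟩, inferInstance⟩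
    (show IsIso (pullback.fst f' f') from inferInstance)

theorem deform_isOpenImmersion (hS : MoreMor.IsFiniteOrderThickening iS) (hcX : IsPullback iX (f ≫ g) (f' ≫ g') iS)
    (hcY : IsPullback iY g g' iS) (w : iX ≫ f' = f ≫ iY) [Flat (f' ≫ g')] :
    IsOpenImmersion f ↔ IsOpenImmersion f' := by
  have hc := deform_isPullback hcX hcY w
  refine ⟨fun h => ?_, fun h => MorphismProperty.of_isPullback hc h⟩
  have hY := deform_thickening hS hcY
  have := hY.1.1
  have : Surjective iX := MorphismProperty.of_isPullback hc.flip hY.1.2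
  obtain ⟨W, hW, hWe⟩ := (iY.isClosedEmbedding.isInducing.isOpen_iff).mp f.opensRange.isOpen
  let W' : Y'.Opens := ⟨W, hW⟩
  have e : iY ⁻¹ᵁ W' = f.opensRange := TopologicalSpace.Opens.ext hWe
  have hr : Set.range f' ⊆ Set.range W'.ι := by
    rintro _ ⟨x, rfl⟩
    obtain ⟨x, rfl⟩ := iX.surjective x
    rw [Scheme.Opens.range_ι, ← Scheme.Hom.comp_apply, w, Scheme.Hom.comp_apply]
    exact e.ge ⟨x, rfl⟩
  let f₁ : X' ⟶ W' := IsOpenImmersion.lift W'.ι f' hr
  have hf₁ : f₁ ≫ W'.ι = f' := IsOpenImmersion.lift_fac _ _ _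
  have hr2 : Set.range f ⊆ Set.range (iY ⁻¹ᵁ W').ι := by
    rw [Scheme.Opens.range_ι, e]
    exact subset_rfl
  let f₀ : X ⟶ (iY ⁻¹ᵁ W').toScheme := IsOpenImmersion.lift (iY ⁻¹ᵁ W').ι f hr2
  have hf₀ : f₀ ≫ (iY ⁻¹ᵁ W').ι = f := IsOpenImmersion.lift_fac _ _ _
  have : IsOpenImmersion f₀ := by
    have : IsOpenImmersion (f₀ ≫ (iY ⁻¹ᵁ W').ι) := hf₀ ▸ inferInstance
    exact IsOpenImmersion.of_comp f₀ (iY ⁻¹ᵁ W').ι
  have : IsIso f₀ := by
    refine isIso_of_isOpenImmersion_of_opensRange_eq_top f₀ (TopologicalSpace.Opens.ext (Set.range_eq_univ.mpr fun y => ?_))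
    obtain ⟨x, hx⟩ := e.le y.2
    exact ⟨x, (iY ⁻¹ᵁ W').ι.injective (by rw [← Scheme.Hom.comp_apply, hf₀]; exact hx)⟩
  have : Flat (f₁ ≫ W'.ι ≫ g') := by rw [← Category.assoc, hf₁]; infer_instance
  have := (deform_isIso (f := f₀) (f' := f₁) (iY := iY ∣_ W') (g := (iY ⁻¹ᵁ W').ι ≫ g) (g' := W'.ι ≫ g') hS
    (by rw [← Category.assoc, hf₀, ← Category.assoc, hf₁]; exact hcX)
    ((isPullback_morphismRestrict iY W').paste_vert hcY)
    (by rw [← cancel_mono W'.ι, Category.assoc, Category.assoc, hf₁, morphismRestrict_ι, reassoc_of% hf₀, w])).mp inferInstance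
  rw [← hf₁]
  infer_instance

theorem deform_smooth (hS : MoreMor.IsFiniteOrderThickening iS) (hcX : IsPullback iX (f ≫ g) (f' ≫ g') iS)
    (hcY : IsPullback iY g g' iS) (w : iX ≫ f' = f ≫ iY) [Flat (f' ≫ g')] : Smooth f ↔ Smooth f' := by
  have hc := deform_isPullback hcX hcY w
  refine ⟨fun h => ?_, fun h => MorphismProperty.of_isPullback hc h⟩
  have hY := deform_thickening hS hcY
  have := hY.1.1
  have := hY.1.2
  have : Flat f' := (deform_flat hS hcX hcY w).mp inferInstance
  have : LocallyOfFinitePresentation f' := (deform_lfp hS hcX hcY w).mp inferInstance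
  refine Smooth.of_smooth_fiberToSpecResidueField f' fun y => ?_
  obtain ⟨y, rfl⟩ := iY.surjective y
  let j := Spec.map (iY.residueFieldMap y)
  have hj : j ≫ Y'.fromSpecResidueField (iY y) = Y.fromSpecResidueField y ≫ iY :=
    Scheme.Hom.SpecMap_residueFieldMap_fromSpecResidueField iY y
  have h1 : IsPullback (pullback.fst f (Y.fromSpecResidueField y) ≫ iX) (pullback.snd f (Y.fromSpecResidueField y)) f'
      (j ≫ Y'.fromSpecResidueField (iY y)) := by
    rw [hj]
    exact (IsPullback.of_hasPullback f (Y.fromSpecResidueField y)).paste_horiz hc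
  have hF : IsPullback (f'.fiberι (iY y)) (f'.fiberToSpecResidueField (iY y)) f' (Y'.fromSpecResidueField (iY y)) :=
    IsPullback.of_hasPullback _ _
  let m := hF.lift (pullback.fst f (Y.fromSpecResidueField y) ≫ iX) (pullback.snd f (Y.fromSpecResidueField y) ≫ j)
    (by rw [h1.w, Category.assoc])
  have h2 : IsPullback m (pullback.snd f (Y.fromSpecResidueField y)) (f'.fiberToSpecResidueField (iY y)) j :=
    IsPullback.of_right (by rw [hF.lift_fst]; exact h1) (hF.lift_snd _ _ _) hF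
  have : IsIso j := by
    have : IsIso (iY.residueFieldMap y) :=
      (ConcreteCategory.isIso_iff_bijective _).mpr ⟨RingHom.injective (iY.residueFieldMap y).hom, fun z => by
        obtain ⟨w, rfl⟩ := Y.residue_surjective y z
        obtain ⟨v, rfl⟩ := iY.stalkMap_surjective y w
        exact ⟨Y'.residue _ v, congr($(Scheme.residue_residueFieldMap iY y).hom v)⟩⟩
    infer_instance
  have : IsIso m := MorphismProperty.of_isPullback (P := MorphismProperty.isomorphisms _) h2.flip this
  have hs : Smooth (pullback.snd f (Y.fromSpecResidueField y) ≫ j) := inferInstance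
  rw [← h2.w] at hs
  exact (MorphismProperty.cancel_left_of_respectsIso @Smooth m _).mp hs

theorem deform_etale (hS : MoreMor.IsFiniteOrderThickening iS) (hcX : IsPullback iX (f ≫ g) (f' ≫ g') iS)
    (hcY : IsPullback iY g g' iS) (w : iX ≫ f' = f ≫ iY) [Flat (f' ≫ g')] : Etale f ↔ Etale f' := by
  have hc := deform_isPullback hcX hcY w
  refine ⟨fun h => ?_, fun h => MorphismProperty.of_isPullback hc h⟩
  have hY := deform_thickening hS hcY
  have := (deform_smooth hS hcX hcY w).mp inferInstance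
  have := (formallyUnramified_iff iX iY f f' hY.1 (Or.inl hY.2) hc).mp inferInstance
  exact Etale.of_formallyUnramified_of_flat f'

theorem deform_finLocFree (d : ℕ) (hS : MoreMor.IsFiniteOrderThickening iS)
    (hcX : IsPullback iX (f ≫ g) (f' ≫ g') iS) (hcY : IsPullback iY g g' iS) (w : iX ≫ f' = f ≫ iY)
    [Flat (f' ≫ g')] : Mor2.IsFinLocFreeOfDeg d f ↔ Mor2.IsFinLocFreeOfDeg d f' := by
  have hc := deform_isPullback hcX hcY w
  have hY := deform_thickening hS hcY
  have := hY.1.1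
  have := hY.1.2
  constructor
  · rintro ⟨⟨h1, h2, h3⟩, h4⟩
    have hflat : Flat f' := (deform_flat hS hcX hcY w).mp h2
    have hfp : LocallyOfFinitePresentation f' := (deform_lfp hS hcX hcY w).mp h3
    have : IsClosedImmersion iX := MorphismProperty.of_isPullback hc.flip hY.1.1
    have : Surjective iX := MorphismProperty.of_isPullback hc.flip hY.1.2
    have : IsFinite (iX ≫ f') := by rw [w]; infer_instance
    have : LocallyQuasiFinite f' := (locallyQuasiFinite_iff iX iY f f' hY.1 hc).mp inferInstance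
    have := FlatMor68.ThickeningFT.isSeparated_of_comp_surjective iX f'
    have := UniversallyClosed.of_comp_surjective iX f'
    have : IsProper f' := ⟨⟩
    have : IsFinite f' := .of_isProper_of_locallyQuasiFinite f'
    refine ⟨⟨this, hflat, hfp⟩, fun y => ?_⟩
    obtain ⟨y, rfl⟩ := iY.surjective y
    rw [← Scheme.Hom.finrank_of_isPullback iX f f' iY hc y]
    exact h4 y
  · rintro ⟨⟨h1, h2, h3⟩, h4⟩
    refine ⟨⟨MorphismProperty.of_isPullback hc h1, MorphismProperty.of_isPullback hc h2,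
      MorphismProperty.of_isPullback hc h3⟩, fun y => ?_⟩
    rw [Scheme.Hom.finrank_of_isPullback iX f f' iY hc y]
    exact h4 _

end Geom

end Groth.Agent.FlatMor66
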