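import Groth.Prelude.Def_MoreMor
import Mathlib.AlgebraicGeometry.Morphisms.UniversallyOpen
import Mathlib.AlgebraicGeometry.Morphisms.UniversallyInjective
import Mathlib.AlgebraicGeometry.Morphisms.Proper

/-! Elementary facts on closed immersions which are surjective. -/

set_option autoImplicit false
universe u

open AlgebraicGeometry CategoryTheory Limits MorphismProperty

namespace Groth.Agent.FlatMor66

variable {X Y Z : Scheme.{u}}

lemma universallyOpen_of_surjective_closedImmersion (i : X ⟶ Y) [IsClosedImmersion i] [Surjective i] :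
    UniversallyOpen i := by
  rw [UniversallyOpen.eq]
  intro X' Y' a b i' H
  have h1 : IsClosedImmersion i' := MorphismProperty.of_isPullback H.flip inferInstance
  have h2 : Surjective i' := MorphismProperty.of_isPullback H.flip inferInstance
  exact ((isHomeomorph_iff_isEmbedding_surjective).mpr ⟨i'.isClosedEmbedding.isEmbedding, h2.1⟩).isOpenMap

set_option backward.isDefEq.respectTransparency.types false in
lemma universallyOpen_of_comp_surjective (a : X ⟶ Y) (g : Y ⟶ Z)
    [UniversallyOpen (a ≫ g)] [Surjective a] : UniversallyOpen g := by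
  constructor
  intro Y' Z' i₁ i₂ g' H
  have := UniversallyOpen.universally_isOpenMap _ _ _
    ((IsPullback.of_hasPullback i₁ a).paste_horiz H)
  intro U hU
  have hs : Function.Surjective (pullback.fst i₁ a) := (MorphismProperty.pullback_fst (P := @Surjective) _ _ ‹_›).1
  have := this _ (hU.preimage (pullback.fst i₁ a).continuous)
  rwa [Scheme.Hom.comp_base, TopCat.coe_comp, Set.image_comp, Set.image_preimage_eq _ hs] at this

set_option backward.isDefEq.respectTransparency.types false in
lemma universallyInjective_of_comp_surjective (a : X ⟶ Y) (g : Y ⟶ Z)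
    [UniversallyInjective (a ≫ g)] [Surjective a] : UniversallyInjective g := by
  constructor
  intro Y' Z' i₁ i₂ g' H
  have h := UniversallyInjective.universally_injective _ _ _
    ((IsPullback.of_hasPullback i₁ a).paste_horiz H)
  have hs : Function.Surjective (pullback.fst i₁ a) := (MorphismProperty.pullback_fst (P := @Surjective) _ _ ‹_›).1
  intro y₁ y₂ e
  obtain ⟨x₁, rfl⟩ := hs y₁
  obtain ⟨x₂, rfl⟩ := hs y₂
  exact congrArg _ (h (by simpa using e))

lemma universallyInjective_of_comp (f : X ⟶ Y) (g : Y ⟶ Z) [UniversallyInjective (f ≫ g)] :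
    UniversallyInjective f := by
  have h := ((tfae_universallyInjective (f ≫ g)).out 0 1).mp ‹UniversallyInjective (f ≫ g)›
  refine ((tfae_universallyInjective f).out 0 1).mpr ?_
  intro K hK a b e
  exact @h K hK a b (by simpa [← Category.assoc] using congrArg (· ≫ g) e)

lemma universallyOpen_of_comp_mono (f : X ⟶ Y) (i : Y ⟶ Z) [Mono i] [UniversallyOpen (f ≫ i)] :
    UniversallyOpen f := by
  constructor
  intro X' Y' a b f' H
  apply UniversallyOpen.universally_isOpenMap (f := f ≫ i) a (b ≫ i) f'
  have h2 : IsPullback f' (𝟙 X') (𝟙 Y') f' := IsPullback.of_vert_isIso ⟨by simp⟩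
  refine ⟨⟨by simp [H.w_assoc]⟩, ⟨PullbackCone.IsLimit.mk _ (fun s => H.lift s.fst s.snd ?_) ?_ ?_ ?_⟩⟩
  · rw [← cancel_mono i]; simpa using s.condition
  · intro s; simp
  · intro s; simp
  · intro s m h₁ h₂
    apply H.hom_ext <;> simp [h₁, h₂]

lemma quasiCompact_of_comp_surjective (a : X ⟶ Y) (g : Y ⟶ Z)
    [QuasiCompact (a ≫ g)] [Surjective a] : QuasiCompact g := by
  refine ⟨fun U ho hU => ?_⟩
  have := QuasiCompact.isCompact_preimage (f := a ≫ g) U ho hU
  rw [Scheme.Hom.comp_base, TopCat.coe_comp, Set.preimage_comp] at this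
  simpa [Set.image_preimage_eq _ (Surjective.surj (f := a))] using this.image a.continuous

lemma quasiSeparated_of_comp_surjective (a : X ⟶ Y) (g : Y ⟶ Z)
    [QuasiSeparated (a ≫ g)] [QuasiCompact a] [Surjective a] : QuasiSeparated g := by
  rw [quasiSeparated_eq_diagonal_is_quasiCompact]
  change QuasiCompact (pullback.diagonal g)
  let m := pullback.map (a ≫ g) (a ≫ g) g g a a (𝟙 Z) (by simp) (by simp)
  have hm : QuasiCompact m := MorphismProperty.pullbackMap (P := @QuasiCompact) ‹QuasiCompact a› ‹QuasiCompact a› rfl rfl
  have e : a ≫ pullback.diagonal g = pullback.diagonal (a ≫ g) ≫ m := by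
    apply pullback.hom_ext <;> simp only [m, Category.assoc, pullback.diagonal_fst, pullback.diagonal_snd, pullback.lift_fst, pullback.lift_snd, pullback.diagonal_fst_assoc, pullback.diagonal_snd_assoc, Category.comp_id]
  have : QuasiCompact (a ≫ pullback.diagonal g) := by rw [e]; infer_instance
  exact quasiCompact_of_comp_surjective a (pullback.diagonal g)

end Groth.Agent.FlatMor66
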