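import Mathlib
import Groth.Prelude.Def_MoreMor
import Groth.Agent.FlatMor66.Thickening

/-!
Properties of morphisms detected after a nilpotent base change.
-/

set_option autoImplicit false
set_option backward.isDefEq.respectTransparency.types false
universe u

namespace Groth.Agent.FlatMor66

open TensorProduct

section Alg

variable {R A : Type u} [CommRing R] [CommRing A] [Algebra R A] (I : Ideal R)

lemma smul_top_iterate {M : Type u} [AddCommGroup M] [Module R M] (N : Submodule R M)
    (h : N ⊔ I • ⊤ = ⊤) (hI : IsNilpotent I) : N = ⊤ := by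
  obtain ⟨n, hn⟩ := hI
  have key : ∀ k : ℕ, N ⊔ (I ^ k) • ⊤ = ⊤ := by
    intro k
    induction k with
    | zero => simp
    | succ k ih =>
      apply le_antisymm le_top
      calc ⊤ = N ⊔ (I ^ k) • ⊤ := ih.symm
        _ ≤ N ⊔ (I ^ k) • (N ⊔ I • ⊤) := by rw [h]
        _ ≤ _ := by
          rw [Submodule.smul_sup, ← Submodule.smul_assoc, pow_succ, Ideal.smul_eq_mul]
          exact sup_le le_sup_left (sup_le (Submodule.smul_le_right.trans le_sup_left) le_sup_right)
  simpa [hn] using key n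

lemma finiteType_of_nilpotent (hI : IsNilpotent I) [h : Algebra.FiniteType (R ⧸ I) ((R ⧸ I) ⊗[R] A)] :
    Algebra.FiniteType R A := by
  have hB : Algebra.FiniteType R ((R ⧸ I) ⊗[R] A) := Algebra.FiniteType.trans (inferInstance : Algebra.FiniteType R (R ⧸ I)) h
  let π : A →ₐ[R] (R ⧸ I) ⊗[R] A := Algebra.TensorProduct.includeRight
  have hπ : Function.Surjective π := fun z => by
    induction z using TensorProduct.induction_on with
    | zero => exact ⟨0, map_zero _⟩
    | add x y hx hy =>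
      obtain ⟨a, rfl⟩ := hx; obtain ⟨b, rfl⟩ := hy
      exact ⟨a + b, map_add _ _ _⟩
    | tmul c a =>
      obtain ⟨r, rfl⟩ := Ideal.Quotient.mk_surjective c
      refine ⟨r • a, ?_⟩
      rw [show π (r • a) = (1 : R ⧸ I) ⊗ₜ[R] (r • a) from rfl, ← TensorProduct.smul_tmul, Algebra.smul_def, mul_one]
      rfl
  obtain ⟨s, hs⟩ := hB.out
  classical
  choose g hg using hπ
  refine ⟨⟨s.image g, ?_⟩⟩
  apply Subalgebra.toSubmodule_injective
  rw [Algebra.top_toSubmodule]
  apply smul_top_iterate I _ _ hI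
  rw [eq_top_iff]
  intro a _
  obtain ⟨b, hb, hab⟩ : π a ∈ (Algebra.adjoin R (↑(s.image g) : Set A)).map π := by
    rw [AlgHom.map_adjoin, Finset.coe_image, ← Set.image_comp,
      show (⇑π ∘ g) = id from funext hg, Set.image_id, hs]
    trivial
  refine Submodule.mem_sup.mpr ⟨b, hb, a - b, ?_, by abel⟩
  have h0 : (1 : R ⧸ I) ⊗ₜ[R] (a - b) = 0 := by
    rw [TensorProduct.tmul_sub]
    exact sub_eq_zero.mpr hab.symm
  have := congrArg (TensorProduct.quotTensorEquivQuotSMul A I) h0
  rw [map_zero, ← map_one (Ideal.Quotient.mk I), TensorProduct.quotTensorEquivQuotSMul_mk_tmul, one_smul] at this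
  exact (Submodule.Quotient.mk_eq_zero _).mp this

attribute [local instance] Algebra.TensorProduct.rightAlgebra in
lemma formallyUnramified_of_nilpotent (hI : IsNilpotent I)
    [Algebra.FormallyUnramified (R ⧸ I) ((R ⧸ I) ⊗[R] A)] : Algebra.FormallyUnramified R A := by
  refine ⟨?_⟩
  have h1 : Subsingleton ((R ⧸ I) ⊗[R] KaehlerDifferential R A) :=
    (KaehlerDifferential.tensorKaehlerEquivBase R (R ⧸ I) A ((R ⧸ I) ⊗[R] A)).toEquiv.subsingleton
  have h2 : Subsingleton (KaehlerDifferential R A ⧸ I • (⊤ : Submodule R (KaehlerDifferential R A))) :=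
    (TensorProduct.quotTensorEquivQuotSMul _ I).symm.toEquiv.subsingleton
  have h3 : (⊥ : Submodule R (KaehlerDifferential R A)) = ⊤ :=
    smul_top_iterate I _ (by rw [bot_sup_eq]; exact Submodule.Quotient.subsingleton_iff.mp h2) hI
  exact subsingleton_of_forall_eq 0 fun x => (Submodule.mem_bot R).mp (h3 ▸ Submodule.mem_top)

/-- An epimorphism modulo a nilpotent ideal is an epimorphism. -/
lemma isEpi_of_nilpotent (hI : IsNilpotent I) [hb : Algebra.IsEpi (R ⧸ I) ((R ⧸ I) ⊗[R] A)]
    [Algebra.FormallyUnramified R A] : Algebra.IsEpi R A := by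
  let μ := Algebra.TensorProduct.lmul' R (S := A)
  let K := RingHom.ker μ.toRingHom
  let L : Ideal (A ⊗[R] A) := I.map (algebraMap R (A ⊗[R] A))
  have hK2 : IsIdempotentElem K :=
    (Ideal.cotangent_subsingleton_iff _).mp (inferInstance : Subsingleton (KaehlerDifferential R A))
  have hKL : K ≤ L := by
    intro z hz
    let T := R ⧸ I
    let e : (T ⊗[R] A) ⊗[T] (T ⊗[R] A) ≃ₐ[T] T ⊗[R] (A ⊗[R] A) :=
      (Algebra.TensorProduct.cancelBaseChange _ _ T _ _).trans (Algebra.TensorProduct.assoc ..)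
    have hh : (Algebra.TensorProduct.lmul' T (S := T ⊗[R] A)) =
        (Algebra.TensorProduct.map (AlgHom.id T T) μ).comp e.toAlgHom := by
      ext <;> simp [e, μ, Algebra.TensorProduct.one_def]
    have hz1 : Algebra.TensorProduct.lmul' T (S := T ⊗[R] A) (e.symm ((1 : T) ⊗ₜ[R] z)) = 0 := by
      rw [hh]
      show (Algebra.TensorProduct.map (AlgHom.id T T) μ) (e (e.symm ((1 : T) ⊗ₜ[R] z))) = 0
      rw [e.apply_symm_apply, Algebra.TensorProduct.map_tmul, show μ z = 0 from hz, TensorProduct.tmul_zero]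
    have h0 : e.symm ((1 : T) ⊗ₜ[R] z) = 0 :=
      hb.injective_lift_mul (hz1.trans (map_zero (Algebra.TensorProduct.lmul' T (S := T ⊗[R] A))).symm)
    have h1 : (1 : R ⧸ I) ⊗ₜ[R] z = 0 := by simpa [T] using congrArg e h0
    have h2 := congrArg (TensorProduct.quotTensorEquivQuotSMul (A ⊗[R] A) I) h1
    rw [map_zero, ← map_one (Ideal.Quotient.mk I), TensorProduct.quotTensorEquivQuotSMul_mk_tmul, one_smul] at h2
    have h3 := (Submodule.Quotient.mk_eq_zero _).mp h2
    rwa [Ideal.smul_top_eq_map] at h3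
  have hK : K = ⊥ := by
    obtain ⟨n, hn⟩ := hI
    refine le_bot_iff.mp ?_
    calc K = K ^ (n + 1) := (hK2.pow_succ_eq n).symm
      _ ≤ L ^ (n + 1) := Ideal.pow_right_mono hKL _
      _ = ⊥ := by rw [← Ideal.map_pow, pow_succ, hn, zero_mul, Ideal.zero_eq_bot, Ideal.map_bot]
  refine ⟨fun x y h => ?_⟩
  rw [← sub_eq_zero]
  have : x - y ∈ K := by
    show μ (x - y) = 0
    rw [map_sub, sub_eq_zero]
    exact h
  rwa [hK, Ideal.mem_bot] at this

attribute [local instance] Algebra.TensorProduct.rightAlgebra in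
lemma formallyUnramified_of_le_jacobson (hI : I.map (algebraMap R A) ≤ (⊥ : Ideal A).jacobson) [Algebra.FiniteType R A]
    [Algebra.FormallyUnramified (R ⧸ I) ((R ⧸ I) ⊗[R] A)] : Algebra.FormallyUnramified R A := by
  refine ⟨?_⟩
  have h1 : Subsingleton ((R ⧸ I) ⊗[R] KaehlerDifferential R A) :=
    (KaehlerDifferential.tensorKaehlerEquivBase R (R ⧸ I) A ((R ⧸ I) ⊗[R] A)).toEquiv.subsingleton
  have h2 : Subsingleton (KaehlerDifferential R A ⧸ I • (⊤ : Submodule R (KaehlerDifferential R A))) :=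
    (TensorProduct.quotTensorEquivQuotSMul _ I).symm.toEquiv.subsingleton
  have h3 : (⊤ : Submodule A (KaehlerDifferential R A)) = ⊥ := by
    refine Submodule.eq_bot_of_le_smul_of_le_jacobson_bot (I.map (algebraMap R A)) ⊤ Module.Finite.fg_top ?_ hI
    intro m _
    have hm : m ∈ I • (⊤ : Submodule R (KaehlerDifferential R A)) := by
      rw [Submodule.Quotient.subsingleton_iff.mp h2]; trivial
    refine Submodule.smul_induction_on hm (fun r hr n _ => ?_) (fun a b ha hb => add_mem ha hb)
    rw [← algebraMap_smul A r n]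
    exact Submodule.smul_mem_smul (Ideal.mem_map_of_mem _ hr) Submodule.mem_top
  exact subsingleton_of_forall_eq 0 fun x => (Submodule.mem_bot A).mp (h3 ▸ Submodule.mem_top)

end Alg

section Geom

open AlgebraicGeometry CategoryTheory CategoryTheory.Limits

/-- Over an affine open `V`, the base change of an affine chart along `Spec (Γ(V)/I) → Spec Γ(V)`
inherits the property. -/
lemma chart_of_thickening (P : MorphismProperty Scheme.{u}) [P.IsStableUnderBaseChange] [P.IsStableUnderComposition]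
    (hP : ∀ {A B : Scheme.{u}} (j : A ⟶ B), IsOpenImmersion j → P j)
    {X X' S S' : Scheme.{u}} {iX : X ⟶ X'} {iS : S ⟶ S'} {f : X ⟶ S} {f' : X' ⟶ S'} [IsClosedImmersion iS]
    (hc : IsPullback iX f f' iS) (hf : P f) (V : S'.affineOpens) (U : X'.affineOpens) (e : U.1 ≤ f' ⁻¹ᵁ V.1) :
    P (pullback.snd (Spec.map (f'.appLE V U e))
      (Spec.map (CommRingCat.ofHom (Ideal.Quotient.mk (iS.ker.ideal V))))) := by
  let mk := Spec.map (CommRingCat.ofHom (Ideal.Quotient.mk (iS.ker.ideal V)))
  let t : Spec (CommRingCat.of (Γ(S', V.1) ⧸ iS.ker.ideal V)) ⟶ S := iS.ker.subschemeCover.f V ≫ inv iS.toImage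
  have hV : IsAffineOpen V.1 := V.2
  have hU : IsAffineOpen U.1 := U.2
  have ht : t ≫ iS = mk ≫ hV.fromSpec := by
    have e1 : inv iS.toImage ≫ iS = iS.imageι := by rw [IsIso.inv_comp_eq, Scheme.Hom.toImage_imageι]
    rw [Category.assoc, e1]
    exact (iS.ker.subschemeCover_map_subschemeι V).trans (iS.ker.glueDataObjι_ι V)
  have hsq : IsPullback (pullback.fst f t ≫ iX) (pullback.snd f t) f' (t ≫ iS) :=
    (IsPullback.of_hasPullback f t).paste_horiz hc
  let p := pullback.fst (Spec.map (f'.appLE V U e)) mk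
  let q := pullback.snd (Spec.map (f'.appLE V U e)) mk
  have hφ : Spec.map (f'.appLE V U e) ≫ hV.fromSpec = hU.fromSpec ≫ f' :=
    IsAffineOpen.SpecMap_appLE_fromSpec f' hV hU e
  have hbig : IsPullback p q (hU.fromSpec ≫ f') (t ≫ iS) := by
    refine IsPullback.of_isLimit' ⟨?_⟩ (PullbackCone.IsLimit.mk _
      (fun s => pullback.lift s.fst s.snd ?_) (fun s => pullback.lift_fst _ _ _) (fun s => pullback.lift_snd _ _ _)
      (fun s m h1 h2 => ?_))
    · rw [← hφ, ht, ← Category.assoc, pullback.condition, Category.assoc]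
    · exact (cancel_mono hV.fromSpec).mp ((Category.assoc _ _ _).trans ((congrArg (s.fst ≫ ·) hφ).trans
        (s.condition.trans ((congrArg (s.snd ≫ ·) ht).trans (Category.assoc _ _ _).symm))))
    · apply pullback.hom_ext
      · rw [pullback.lift_fst]; exact h1
      · rw [pullback.lift_snd]; exact h2
  let h := hsq.lift (p ≫ hU.fromSpec) q (by rw [Category.assoc]; exact hbig.w)
  have h2 : h ≫ pullback.snd f t = q := hsq.lift_snd _ _ _
  have hh : IsPullback p h hU.fromSpec (pullback.fst f t ≫ iX) :=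
    IsPullback.of_bot (by rw [h2]; exact hbig) (hsq.lift_fst _ _ _).symm hsq
  have : IsOpenImmersion h := MorphismProperty.of_isPullback hh (inferInstance : IsOpenImmersion hU.fromSpec)
  show P q
  rw [← h2]
  exact P.comp_mem _ _ (hP h this) (P.pullback_snd f t hf)

lemma isNilpotent_of_mem_ker {S S' : Scheme.{u}} (iS : S ⟶ S') [IsClosedImmersion iS] [Surjective iS]
    (V : S'.affineOpens) {s : Γ(S', V.1)} (hs : s ∈ iS.ker.ideal V) : IsNilpotent s := by
  rw [Scheme.Hom.ker_apply, RingHom.mem_ker] at hs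
  rw [Scheme.isNilpotent_iff_basicOpen_eq_bot_of_isCompact (IsAffineOpen.isCompact V.2) s, eq_bot_iff]
  intro x hx
  obtain ⟨y, rfl⟩ := iS.surjective x
  have := (Scheme.preimage_basicOpen iS s).le hx
  rw [hs, Scheme.basicOpen_zero] at this
  exact this.elim

/-- The chart of `chart_of_thickening`, read on rings. -/
lemma algebra_chart_of_thickening (P : MorphismProperty Scheme.{u}) [P.IsStableUnderBaseChange] [P.IsStableUnderComposition]
    (hP : ∀ {A B : Scheme.{u}} (j : A ⟶ B), IsOpenImmersion j → P j)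
    {X X' S S' : Scheme.{u}} {iX : X ⟶ X'} {iS : S ⟶ S'} {f : X ⟶ S} {f' : X' ⟶ S'} [IsClosedImmersion iS]
    (hc : IsPullback iX f f' iS) (hf : P f) (V : S'.affineOpens) (U : X'.affineOpens) (e : U.1 ≤ f' ⁻¹ᵁ V.1) :
    letI := (f'.appLE V U e).hom.toAlgebra
    P (Spec.map (CommRingCat.ofHom (algebraMap (Γ(S', V.1) ⧸ iS.ker.ideal V)
      ((Γ(S', V.1) ⧸ iS.ker.ideal V) ⊗[Γ(S', V.1)] Γ(X', U.1))))) := by
  letI := (f'.appLE V U e).hom.toAlgebra
  have h := chart_of_thickening P hP hc hf V U e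
  let T := Γ(S', V.1) ⧸ iS.ker.ideal V
  let ε := pullbackSymmetry (Spec.map (f'.appLE V U e)) (Spec.map (CommRingCat.ofHom (Ideal.Quotient.mk (iS.ker.ideal V)))) ≪≫
    pullbackSpecIso Γ(S', V.1) T Γ(X', U.1)
  have : ε.inv ≫ pullback.snd _ _ = Spec.map (CommRingCat.ofHom (algebraMap T (T ⊗[Γ(S', V.1)] Γ(X', U.1)))) := by
    simp only [ε, Iso.trans_inv, Category.assoc, pullbackSymmetry_inv_comp_snd]
    exact pullbackSpecIso_inv_fst _ _ _
  have h' := (P.cancel_left_of_respectsIso ε.inv (pullback.snd _ _)).mpr h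
  rwa [this] at h'

theorem locallyOfFiniteType_iff {X X' S S' : Scheme.{u}} (iX : X ⟶ X') (iS : S ⟶ S') (f : X ⟶ S) (f' : X' ⟶ S')
    (hS : MoreMor.IsFiniteOrderThickening iS) (hc : IsPullback iX f f' iS) :
    LocallyOfFiniteType f ↔ LocallyOfFiniteType f' := by
  refine ⟨fun h => ?_, fun h => MorphismProperty.of_isPullback hc.flip.flip h⟩
  have := hS.1.1
  rw [HasRingHomProperty.iff_appLE (P := @LocallyOfFiniteType)]
  intro V U e
  algebraize [(f'.appLE V U e).hom]
  have hI : IsNilpotent (iS.ker.ideal V) := by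
    obtain ⟨n, hn⟩ := hS.2
    exact ⟨n, by simpa using congrArg (fun K => Scheme.IdealSheafData.ideal K V) hn⟩
  have h2 := algebra_chart_of_thickening @LocallyOfFiniteType (fun j _ => inferInstance) hc h V U e
  rw [HasRingHomProperty.Spec_iff (P := @LocallyOfFiniteType)] at h2
  have := RingHom.finiteType_algebraMap.mp h2
  exact RingHom.finiteType_algebraMap.mpr (finiteType_of_nilpotent _ hI)

theorem formallyUnramified_iff {X X' S S' : Scheme.{u}} (iX : X ⟶ X') (iS : S ⟶ S') (f : X ⟶ S) (f' : X' ⟶ S')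
    (hS : MoreMor.IsThickening iS) (hn : IsNilpotent iS.ker ∨ LocallyOfFiniteType f') (hc : IsPullback iX f f' iS) :
    FormallyUnramified f ↔ FormallyUnramified f' := by
  refine ⟨fun h => ?_, fun h => MorphismProperty.of_isPullback hc h⟩
  have := hS.1
  have := hS.2
  rw [HasRingHomProperty.iff_appLE (P := @FormallyUnramified)]
  intro V U e
  algebraize [(f'.appLE V U e).hom]
  have h2 := algebra_chart_of_thickening @FormallyUnramified (fun j _ => inferInstance) hc h V U e
  rw [HasRingHomProperty.Spec_iff (P := @FormallyUnramified)] at h2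
  have := RingHom.formallyUnramified_algebraMap.mp h2
  refine RingHom.formallyUnramified_algebraMap.mpr ?_
  rcases hn with ⟨n, hn⟩ | hn
  · exact formallyUnramified_of_nilpotent (iS.ker.ideal V) ⟨n, by simpa using congrArg (fun K => Scheme.IdealSheafData.ideal K V) hn⟩
  · have := RingHom.finiteType_algebraMap.mp (HasRingHomProperty.appLE (P := @LocallyOfFiniteType) f' hn V U e)
    refine formallyUnramified_of_le_jacobson (iS.ker.ideal V) ?_
    rw [Ideal.map_le_iff_le_comap]
    intro s hs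
    exact Ideal.radical_le_jacobson ((isNilpotent_of_mem_ker iS V hs).map (algebraMap _ _) |>
      fun h => mem_nilradical.mpr h)

theorem universallyInjective_iff {X X' S S' : Scheme.{u}} (iX : X ⟶ X') (iS : S ⟶ S') (f : X ⟶ S) (f' : X' ⟶ S')
    (hS : MoreMor.IsThickening iS) (hc : IsPullback iX f f' iS) :
    UniversallyInjective f ↔ UniversallyInjective f' := by
  refine ⟨fun h => ?_, fun h => MorphismProperty.of_isPullback hc h⟩
  have := hS.1
  have := hS.2
  have : Surjective iX := MorphismProperty.of_isPullback hc.flip hS.2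
  have : UniversallyInjective (iX ≫ f') := hc.w ▸ MorphismProperty.comp_mem _ f iS h inferInstance
  exact universallyInjective_of_comp_surjective iX f'

lemma formallyUnramified_of_mono {X Y : Scheme.{u}} (f : X ⟶ Y) [Mono f] : FormallyUnramified f := by
  have := (pullback.isIso_diagonal_iff f).mpr inferInstance
  infer_instance

/-- Monomorphisms along thickenings, for morphisms locally of finite type. -/
theorem mono_iff_lft {X X' S S' : Scheme.{u}} (iX : X ⟶ X') (iS : S ⟶ S') (f : X ⟶ S) (f' : X' ⟶ S')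
    (hS : MoreMor.IsThickening iS) (hc : IsPullback iX f f' iS) [LocallyOfFiniteType f'] :
    Mono f ↔ Mono f' := by
  refine ⟨fun h => ?_, fun h => MorphismProperty.of_isPullback (P := MorphismProperty.monomorphisms _) hc h⟩
  have := (formallyUnramified_iff iX iS f f' hS (Or.inr ‹_›) hc).mp (formallyUnramified_of_mono f)
  have := (universallyInjective_iff iX iS f f' hS hc).mp inferInstance
  have : Surjective (pullback.diagonal f') := (UniversallyInjective.iff_diagonal f').mp this
  have : IsIso (pullback.diagonal f') := by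
    exact isIso_of_isOpenImmersion_of_opensRange_eq_top _ (TopologicalSpace.Opens.ext (Set.range_eq_univ.mpr this.surj))
  exact (pullback.isIso_diagonal_iff f').mp this

/-- Monomorphisms along finite order thickenings. -/
theorem mono_iff {X X' S S' : Scheme.{u}} (iX : X ⟶ X') (iS : S ⟶ S') (f : X ⟶ S) (f' : X' ⟶ S')
    (hS : MoreMor.IsFiniteOrderThickening iS) (hc : IsPullback iX f f' iS) :
    Mono f ↔ Mono f' := by
  refine ⟨fun h => ?_, fun h => MorphismProperty.of_isPullback (P := MorphismProperty.monomorphisms _) hc h⟩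
  have := hS.1.1
  have hu := (formallyUnramified_iff iX iS f f' hS.1 (Or.inl hS.2) hc).mp (formallyUnramified_of_mono f)
  have := (universallyInjective_iff iX iS f f' hS.1 hc).mp inferInstance
  refine ⟨fun {T} a b hab => ?_⟩
  have hpt : ∀ t, a t = b t := fun t => by
    obtain ⟨x, hx⟩ := ((UniversallyInjective.iff_diagonal f').mp this).surj (pullback.lift a b hab t)
    have h1 := congrArg (pullback.fst f' f') hx
    have h2 := congrArg (pullback.snd f' f') hx
    rw [← Scheme.Hom.comp_apply, pullback.diagonal_fst, ← Scheme.Hom.comp_apply, pullback.lift_fst] at h1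
    rw [← Scheme.Hom.comp_apply, pullback.diagonal_snd, ← Scheme.Hom.comp_apply, pullback.lift_snd] at h2
    exact h1.symm.trans h2
  have hc' : ∀ t : T, ∃ (V : S'.affineOpens) (U : X'.affineOpens), a t ∈ U.1 ∧ U.1 ≤ f' ⁻¹ᵁ V.1 := fun t => by
    obtain ⟨_, ⟨V, hV, rfl⟩, hxV, -⟩ := S'.isBasis_affineOpens.exists_subset_of_mem_open (Set.mem_univ (f' (a t))) isOpen_univ
    obtain ⟨_, ⟨U, hU, rfl⟩, hxU, e⟩ := X'.isBasis_affineOpens.exists_subset_of_mem_open hxV (f' ⁻¹ᵁ V).isOpen
    exact ⟨⟨V, hV⟩, ⟨U, hU⟩, hxU, e⟩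
  choose V U htU e using hc'
  let W : T → T.Opens := fun t => a ⁻¹ᵁ (U t).1
  refine (T.openCoverOfIsOpenCover W (eq_top_iff.mpr fun t _ => TopologicalSpace.Opens.mem_iSup.mpr ⟨t, htU t⟩)).hom_ext _ _ fun t => ?_
  show (W t).ι ≫ a = (W t).ι ≫ b
  have hW : W t ≤ b ⁻¹ᵁ (U t).1 := fun s hs => show b s ∈ (U t).1 from hpt s ▸ hs
  rw [← Scheme.Hom.resLE_comp_ι a le_rfl, ← Scheme.Hom.resLE_comp_ι b hW]
  congr 1
  have hUa : IsAffineOpen (U t).1 := (U t).2
  have hVa : IsAffineOpen (V t).1 := (V t).2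
  rw [← cancel_mono hUa.isoSpec.hom]
  have : Mono (Spec.map (f'.appLE (V t) (U t) (e t))) := by
    algebraize [(f'.appLE (V t) (U t) (e t)).hom]
    have h2 := algebra_chart_of_thickening (MorphismProperty.monomorphisms _) (fun j _ => inferInstance) hc h (V t) (U t) (e t)
    rw [MorphismProperty.monomorphisms.iff] at h2
    have hep : Algebra.IsEpi (Γ(S', (V t).1) ⧸ iS.ker.ideal (V t))
        ((Γ(S', (V t).1) ⧸ iS.ker.ideal (V t)) ⊗[Γ(S', (V t).1)] Γ(X', (U t).1)) := by
      refine CommRingCat.epi_iff_epi.mp ?_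
      exact ⟨fun g₁ g₂ hg => Spec.map_injective ((cancel_mono _).mp (by rw [← Spec.map_comp, ← Spec.map_comp, hg]))⟩
    have := RingHom.formallyUnramified_algebraMap.mp (HasRingHomProperty.appLE (P := @FormallyUnramified) f' hu (V t) (U t) (e t))
    have hI : IsNilpotent (iS.ker.ideal (V t)) := by
      obtain ⟨n, hn⟩ := hS.2
      exact ⟨n, by simpa using congrArg (fun K => Scheme.IdealSheafData.ideal K (V t)) hn⟩
    have := CommRingCat.epi_iff_epi.mpr (isEpi_of_nilpotent (A := Γ(X', (U t).1)) _ hI)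
    exact (Functor.map_mono (Scheme.Spec) (f'.appLE (V t) (U t) (e t)).op :)
  rw [← cancel_mono (Spec.map (f'.appLE (V t) (U t) (e t)) ≫ hVa.fromSpec)]
  simp only [Category.assoc, IsAffineOpen.SpecMap_appLE_fromSpec f' hVa hUa (e t), IsAffineOpen.isoSpec_hom,
    IsAffineOpen.toSpecΓ_fromSpec_assoc, Scheme.Hom.resLE_comp_ι_assoc, hab]
  rfl

theorem locallyQuasiFinite_iff {X X' S S' : Scheme.{u}} (iX : X ⟶ X') (iS : S ⟶ S') (f : X ⟶ S) (f' : X' ⟶ S')
    (hS : MoreMor.IsThickening iS) (hc : IsPullback iX f f' iS) [LocallyOfFiniteType f'] :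
    LocallyQuasiFinite f ↔ LocallyQuasiFinite f' := by
  refine ⟨fun h => ?_, fun h => MorphismProperty.of_isPullback hc h⟩
  have := hS.1
  have : Surjective iX := MorphismProperty.of_isPullback hc.flip hS.2
  have : IsClosedImmersion iX := MorphismProperty.of_isPullback hc.flip hS.1
  have : LocallyQuasiFinite (iX ≫ f') := hc.w ▸ inferInstance
  rw [locallyQuasiFinite_iff_isDiscrete_preimage_singleton]
  intro y
  have hd := (iX ≫ f').isDiscrete_preimage_singleton y
  have := hd.image iX.isClosedEmbedding.isInducing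
  rwa [Scheme.Hom.comp_base, TopCat.coe_comp, Set.preimage_comp, Set.image_preimage_eq _ iX.surjective] at this

theorem isClosedImmersion_iff {X X' S S' : Scheme.{u}} (iX : X ⟶ X') (iS : S ⟶ S') (f : X ⟶ S) (f' : X' ⟶ S')
    (hS : MoreMor.IsThickening iS) (hc : IsPullback iX f f' iS) [LocallyOfFiniteType f'] :
    IsClosedImmersion f ↔ IsClosedImmersion f' := by
  refine ⟨fun h => ?_, fun h => MorphismProperty.of_isPullback hc h⟩
  have := hS.1
  have := hS.2
  have := (mono_iff_lft iX iS f f' hS hc).mp inferInstance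
  have : Surjective iX := MorphismProperty.of_isPullback hc.flip hS.2
  have : UniversallyClosed (iX ≫ f') := hc.w ▸ inferInstance
  have := UniversallyClosed.of_comp_surjective iX f'
  have := (locallyQuasiFinite_iff iX iS f f' hS hc).mp inferInstance
  have : QuasiCompact f' := inferInstance
  have : IsProper f' := ⟨⟩
  refine (IsClosedImmersion.iff_isFinite_and_mono f').mpr ⟨?_, inferInstance⟩
  exact (IsFinite.iff_isProper_and_locallyQuasiFinite (f := f')).mpr ⟨inferInstance, inferInstance⟩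

theorem isImmersion_iff {X X' S S' : Scheme.{u}} (iX : X ⟶ X') (iS : S ⟶ S') (f : X ⟶ S) (f' : X' ⟶ S')
    (hS : MoreMor.IsThickening iS) (hc : IsPullback iX f f' iS) [LocallyOfFiniteType f'] :
    IsImmersion f ↔ IsImmersion f' := by
  refine ⟨fun h => ?_, fun h => MorphismProperty.of_isPullback hc h⟩
  have := hS.1
  have := hS.2
  have : Surjective iX := MorphismProperty.of_isPullback hc.flip hS.2
  obtain ⟨W, hW, hWe⟩ := (iS.isClosedEmbedding.isInducing.isOpen_iff).mp f.coborderRange.isOpen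
  let W' : S'.Opens := ⟨W, hW⟩
  have e : iS ⁻¹ᵁ W' = f.coborderRange := TopologicalSpace.Opens.ext hWe
  have hall : f' ⁻¹ᵁ W' = ⊤ := by
    rw [eq_top_iff]
    intro x _
    obtain ⟨x, rfl⟩ := iX.surjective x
    show f' (iX x) ∈ W
    rw [← Scheme.Hom.comp_apply, hc.w, Scheme.Hom.comp_apply]
    show f x ∈ iS ⁻¹ᵁ W'
    rw [e]
    exact subset_coborder ⟨x, rfl⟩
  let f₁ : X' ⟶ W' := IsOpenImmersion.lift W'.ι f' (by
    rintro _ ⟨x, rfl⟩
    rw [Scheme.Opens.range_ι]
    exact hall.ge trivial)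
  have hf₁ : f₁ ≫ W'.ι = f' := IsOpenImmersion.lift_fac _ _ _
  have hlift : IsClosedImmersion f.liftCoborder := inferInstance
  let g : X ⟶ (iS ⁻¹ᵁ W').toScheme := f.liftCoborder ≫ S.homOfLE e.ge
  have hg : g ≫ (iS ⁻¹ᵁ W').ι = f := by rw [Category.assoc, Scheme.homOfLE_ι, Scheme.Hom.liftCoborder_ι]
  have : IsIso (S.homOfLE e.ge) := by
    have : Surjective (S.homOfLE e.ge) := ⟨fun x => ⟨⟨x.1, e.le x.2⟩, by
      apply Subtype.ext
      simp⟩⟩
    exact isIso_of_isOpenImmersion_of_opensRange_eq_top _ (TopologicalSpace.Opens.ext (Set.range_eq_univ.mpr this.surj))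
  have hsq : IsPullback iX g f₁ (iS ∣_ W') := by
    refine IsPullback.of_bot (by rw [hg, hf₁]; exact hc) ?_ (isPullback_morphismRestrict iS W')
    rw [← cancel_mono W'.ι, Category.assoc, Category.assoc, hf₁, morphismRestrict_ι, reassoc_of% hg, hc.w]
  have hW' : MoreMor.IsThickening (iS ∣_ W') :=
    ⟨inferInstance, IsZariskiLocalAtTarget.restrict (P := @Surjective) hS.2 W'⟩
  have : LocallyOfFiniteType f₁ := by
    have : LocallyOfFiniteType (f₁ ≫ W'.ι) := hf₁ ▸ inferInstance
    exact locallyOfFiniteType_of_comp f₁ W'.ι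
  have := (isClosedImmersion_iff iX (iS ∣_ W') g f₁ hW' hsq).mp inferInstance
  rw [← hf₁]
  infer_instance

end Geom

end Groth.Agent.FlatMor66
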