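import Groth.Prelude.Def_MoreMor
import Mathlib.AlgebraicGeometry.ZariskisMainTheorem
import Mathlib.AlgebraicGeometry.QuasiAffine

/-! Ind-quasi-affine morphisms. -/

set_option autoImplicit false
universe u

open AlgebraicGeometry CategoryTheory Limits TopologicalSpace

namespace Groth.Agent.FlatMor66

variable {X Y : Scheme.{u}}

theorem compactSpace_toScheme {U : X.Opens} (h : IsCompact (U : Set X)) : CompactSpace U.toScheme :=
  isCompact_iff_compactSpace.mp h

theorem isCompact_image_ι (U : X.Opens) (W : U.toScheme.Opens) (h : IsCompact (W : Set U.toScheme)) :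
    IsCompact ((U.ι ''ᵁ W : X.Opens) : Set X) := by
  simpa using h.image U.ι.continuous

theorem qa_congr {U V : Scheme.{u}} (e : U ≅ V) (h : Scheme.IsQuasiAffine V) : Scheme.IsQuasiAffine U := by
  have : CompactSpace U := e.inv.homeomorph.compactSpace
  exact Scheme.IsQuasiAffine.of_isImmersion e.hom

theorem qa_image_ι_iff (U : X.Opens) (W : U.toScheme.Opens) :
    Scheme.IsQuasiAffine W.toScheme ↔ Scheme.IsQuasiAffine (U.ι ''ᵁ W).toScheme :=
  ⟨qa_congr (U.ι.isoImage W).symm, qa_congr (U.ι.isoImage W)⟩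

theorem isIndQuasiAffineHom_iff (f : X ⟶ Y) : MoreMor.IsIndQuasiAffineHom f ↔
    ∀ V : Y.Opens, IsAffineOpen V → ∀ W : X.Opens, W ≤ f ⁻¹ᵁ V → IsCompact (W : Set X) →
      Scheme.IsQuasiAffine W.toScheme := by
  constructor
  · intro h V hV W hWV hW
    have e : (f ⁻¹ᵁ V).ι ''ᵁ ((f ⁻¹ᵁ V).ι ⁻¹ᵁ W) = W := by
      rw [Scheme.Hom.image_preimage_eq_opensRange_inf, Scheme.Opens.opensRange_ι, inf_eq_right]
      exact hWV
    have := h V hV ((f ⁻¹ᵁ V).ι ⁻¹ᵁ W) (by
      refine ((f ⁻¹ᵁ V).ι.isOpenEmbedding.isEmbedding.isCompact_iff).mpr ?_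
      change IsCompact (((f ⁻¹ᵁ V).ι ''ᵁ ((f ⁻¹ᵁ V).ι ⁻¹ᵁ W) : X.Opens) : Set X)
      rw [e]; exact hW)
    rw [qa_image_ι_iff, e] at this
    exact this
  · intro h V hV W hW
    rw [qa_image_ι_iff]
    refine h V hV _ ?_ (isCompact_image_ι _ W hW)
    exact ((f ⁻¹ᵁ V).ι.image_mono le_top).trans (by simp)

/-- A quasi-compact scheme covered by quasi-affine basic opens of global sections is quasi-affine. -/
theorem qa_of_basicOpens (W : Scheme.{u}) [CompactSpace W]
    (H : ∀ x : W, ∃ r : Γ(W, ⊤), x ∈ W.basicOpen r ∧ Scheme.IsQuasiAffine (W.basicOpen r).toScheme) :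
    Scheme.IsQuasiAffine W := by
  choose r hxr hr using H
  have : QuasiSeparatedSpace W := by
    refine .of_isOpenCover (U := fun x => W.basicOpen (r x))
      (eq_top_iff.mpr fun x _ ↦ Opens.mem_iSup.mpr ⟨x, hxr x⟩)
      (fun _ ↦ isRetrocompact_basicOpen _) (fun x ↦ ?_)
    have := hr x
    have h2 : IsQuasiSeparated (Set.univ : Set (W.basicOpen (r x)).toScheme) := isQuasiSeparated_univ
    simpa only [Set.image_univ, Scheme.Opens.range_ι] using h2.image_of_isEmbedding (W.basicOpen (r x)).ι.isOpenEmbedding.isEmbedding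
  refine .of_forall_exists_mem_basicOpen W fun x => ?_
  let P := W.basicOpen (r x)
  have : Scheme.IsQuasiAffine P.toScheme := hr x
  obtain ⟨_, ⟨_, ⟨s, hs, rfl⟩, rfl⟩, hxs, -⟩ :=
    (Scheme.IsQuasiAffine.isBasis_basicOpen P.toScheme).exists_subset_of_mem_open
      (Set.mem_univ (⟨x, hxr x⟩ : P.toScheme)) isOpen_univ
  have hloc := isLocalization_basicOpen_of_qcqs (U := (⊤ : W.Opens)) isCompact_univ isQuasiSeparated_univ (r x)
  obtain ⟨⟨t, ⟨_, n, rfl⟩⟩, ht⟩ := IsLocalization.surj (Submonoid.powers (r x)) (P.topIso.hom s)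
  refine ⟨t * r x, ?_⟩
  have key : W.basicOpen (t * r x) = P.ι ''ᵁ (P.toScheme.basicOpen s) := by
    have hu : IsUnit ((algebraMap Γ(W, ⊤) Γ(W, P)) (r x ^ n)) :=
      IsLocalization.map_units _ (⟨_, n, rfl⟩ : Submonoid.powers (r x))
    have e1 : W.basicOpen (P.topIso.hom s) = P.ι ''ᵁ (P.toScheme.basicOpen s) := by
      rw [Scheme.image_basicOpen, P.ι_appIso]
      change W.basicOpen (W.presheaf.map (eqToHom P.ι_image_top.symm).op s) = W.basicOpen s
      exact Scheme.basicOpen_res_eq _ _ _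
    have e2 : W.basicOpen ((algebraMap Γ(W, ⊤) Γ(W, P)) t) = W.basicOpen (P.topIso.hom s) := by
      refine ((congrArg W.basicOpen ht).symm.trans (Scheme.basicOpen_mul _ _ _)).trans ?_
      rw [W.basicOpen_of_isUnit hu, inf_eq_left]
      exact W.basicOpen_le _
    rw [← e1, ← e2, Scheme.basicOpen_mul]
    erw [Scheme.basicOpen_res]
    exact inf_comm _ _
  rw [key]
  exact ⟨hs.image_of_isOpenImmersion P.ι, ⟨⟨x, hxr x⟩, hxs, rfl⟩⟩

theorem qa_of_separated_lqf [IsAffine Y] (g : X ⟶ Y) [IsSeparated g] [LocallyQuasiFinite g]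
    [LocallyOfFiniteType g] [CompactSpace X] : Scheme.IsQuasiAffine X := by
  have : IsAffine g.normalization := isAffine_of_isAffineHom g.fromNormalization
  exact Scheme.IsQuasiAffine.of_isImmersion g.toNormalization

end Groth.Agent.FlatMor66
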