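import Groth.Agent.FlatMor66.EpiLoc
import Groth.Agent.FlatMor68.PullbackStalk
import Groth.Prelude.Def_FlatMod2

/-!
Stalks of a fibre product and flatness of modules under base change.
-/

set_option autoImplicit false
set_option linter.style.haveILetI false
set_option backward.isDefEq.respectTransparency.types false
universe u

namespace Groth.Agent.FlatMor66

open TensorProduct

section Alg

open CategoryTheory in
lemma tensor_lift_flat_of_isPushout {A B C D M : CommRingCat.{u}} {φ : A ⟶ B} {ψ : A ⟶ C} {a : B ⟶ D} {b : C ⟶ D}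
    (h : CategoryTheory.IsPushout φ ψ a b) (γ : D ⟶ M) (hγ : γ.hom.Flat) :
    letI := φ.hom.toAlgebra
    letI := ψ.hom.toAlgebra
    ∃ j : B ⊗[A] C →+* M, j.Flat ∧ (∀ x, j (x ⊗ₜ 1) = γ (a x)) ∧ (∀ x, j (1 ⊗ₜ x) = γ (b x)) := by
  letI := φ.hom.toAlgebra
  letI := ψ.hom.toAlgebra
  let e := (CommRingCat.isPushout_tensorProduct A B C).isoIsPushout _ _ h
  refine ⟨(e.hom ≫ γ).hom, ?_, fun x => ?_, fun x => ?_⟩
  · rw [CommRingCat.hom_comp]
    exact RingHom.Flat.comp (RingHom.Flat.of_bijective (CategoryTheory.ConcreteCategory.bijective_of_isIso e.hom)) hγ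
  · exact congrArg γ (CategoryTheory.ConcreteCategory.congr_hom ((CommRingCat.isPushout_tensorProduct A B C).inl_isoIsPushout_hom _ _ h) x)
  · exact congrArg γ (CategoryTheory.ConcreteCategory.congr_hom ((CommRingCat.isPushout_tensorProduct A B C).inr_isoIsPushout_hom _ _ h) x)

end Alg

section Geom

open AlgebraicGeometry CategoryTheory CategoryTheory.Limits

variable {X S X' S' : Scheme.{u}} {f : X ⟶ S} {f' : X' ⟶ S'} {g' : X' ⟶ X} {g : S' ⟶ S}

lemma stalk_germ_appLE {X Y : Scheme.{u}} (h : X ⟶ Y) {V : Y.Opens} {U : X.Opens} (e : U ≤ h ⁻¹ᵁ V) (x : X)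
    (hx : x ∈ U) (a : Γ(Y, V)) :
    h.stalkMap x (Y.presheaf.germ V (h x) (e hx) a) = X.presheaf.germ U x hx (h.appLE V U e a) := by
  rw [Scheme.Hom.germ_stalkMap_apply]
  exact (X.presheaf.germ_res_apply (homOfLE e) x hx _).symm

/-- The local ring of a fibre product is flat over the tensor product of the local rings. -/
theorem exists_tensor_stalk_flat (hc : IsPullback g' f' f g) (x' : X') (y : X) (z : S') (s : S)
    (hy : g' x' = y) (hz : f' x' = z) (hs : f y = s) (hs' : g z = s)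
    [Algebra (S.presheaf.stalk s) (X.presheaf.stalk y)] [Algebra (S.presheaf.stalk s) (S'.presheaf.stalk z)]
    (hf : algebraMap (S.presheaf.stalk s) (X.presheaf.stalk y) =
      ((S.presheaf.stalkCongr (.of_eq hs.symm)).hom ≫ f.stalkMap y).hom)
    (hg : algebraMap (S.presheaf.stalk s) (S'.presheaf.stalk z) =
      ((S.presheaf.stalkCongr (.of_eq hs'.symm)).hom ≫ g.stalkMap z).hom) :
    ∃ τ : X.presheaf.stalk y ⊗[S.presheaf.stalk s] S'.presheaf.stalk z →+* X'.presheaf.stalk x', τ.Flat ∧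
      (∀ a, τ (a ⊗ₜ 1) = ((X.presheaf.stalkCongr (.of_eq hy.symm)).hom ≫ g'.stalkMap x').hom a) ∧
      (∀ c, τ (1 ⊗ₜ c) = ((S'.presheaf.stalkCongr (.of_eq hz.symm)).hom ≫ f'.stalkMap x').hom c) := by
  subst hy hz
  have e₀ : g (f' x') = f (g' x') := by rw [← Scheme.Hom.comp_apply, ← hc.w, Scheme.Hom.comp_apply]
  subst hs
  obtain ⟨_, ⟨V, hV, rfl⟩, hxV, -⟩ :=
    S.isBasis_affineOpens.exists_subset_of_mem_open (Set.mem_univ (f (g' x'))) isOpen_univ
  obtain ⟨_, ⟨U, hU, rfl⟩, hxU, eU⟩ := X.isBasis_affineOpens.exists_subset_of_mem_open hxV (f ⁻¹ᵁ V).isOpen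
  obtain ⟨_, ⟨W, hW, rfl⟩, hxW, eW⟩ :=
    S'.isBasis_affineOpens.exists_subset_of_mem_open (show f' x' ∈ g ⁻¹ᵁ V from show g (f' x') ∈ V from e₀ ▸ hxV) (g ⁻¹ᵁ V).isOpen
  let P : X'.Opens := g' ⁻¹ᵁ U ⊓ f' ⁻¹ᵁ W
  have hxP : x' ∈ P := ⟨hxU, hxW⟩
  have hP : IsAffineOpen P := by
    have : IsAffine _ := hV
    have : IsAffine _ := hU
    have : IsAffine _ := hW
    exact .of_isIso (Scheme.Hom.isPullback_resLE hc eW eU (UY := P) rfl).isoPullback.hom
  have hpush := (isIso_pushoutSection_iff hc eW eU (UY := P) rfl).mp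
    (isIso_pushoutSection_of_isAffineOpen hc eW eU (UY := P) rfl hV hW hU)
  let γ : Γ(X', P) ⟶ X'.presheaf.stalk x' := X'.presheaf.germ P x' hxP
  have hγ : γ.hom.Flat := by
    letI : Algebra Γ(X', P) (X'.presheaf.stalk x') := X'.presheaf.algebra_section_stalk ⟨x', hxP⟩
    have := hP.isLocalization_stalk ⟨x', hxP⟩
    exact IsLocalization.flat (X'.presheaf.stalk x') (hP.primeIdealOf ⟨x', hxP⟩).asIdeal.primeCompl
  letI := (f.appLE V U eU).hom.toAlgebra
  letI := (g.appLE V W eW).hom.toAlgebra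
  obtain ⟨j, hj, hjB, hjC⟩ := tensor_lift_flat_of_isPushout hpush γ hγ
  let gX : X.presheaf.stalk (g' x') →+* X'.presheaf.stalk x' := (g'.stalkMap x').hom
  let gS : S'.presheaf.stalk (f' x') →+* X'.presheaf.stalk x' := (f'.stalkMap x').hom
  letI : Algebra Γ(X, U) (X.presheaf.stalk (g' x')) := X.presheaf.algebra_section_stalk ⟨g' x', hxU⟩
  letI : Algebra Γ(S', W) (S'.presheaf.stalk (f' x')) := S'.presheaf.algebra_section_stalk ⟨f' x', hxW⟩
  letI : Algebra Γ(S, V) (S.presheaf.stalk (f (g' x'))) := S.presheaf.algebra_section_stalk ⟨f (g' x'), hxV⟩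
  letI : Algebra Γ(S, V) (X.presheaf.stalk (g' x')) := ((algebraMap Γ(X, U) _).comp (f.appLE V U eU).hom).toAlgebra
  letI : Algebra Γ(S, V) (S'.presheaf.stalk (f' x')) := ((algebraMap Γ(S', W) _).comp (g.appLE V W eW).hom).toAlgebra
  have : IsScalarTower Γ(S, V) Γ(X, U) (X.presheaf.stalk (g' x')) := .of_algebraMap_eq' rfl
  have : IsScalarTower Γ(S, V) Γ(S', W) (S'.presheaf.stalk (f' x')) := .of_algebraMap_eq' rfl
  have t1 : IsScalarTower Γ(S, V) (S.presheaf.stalk (f (g' x'))) (X.presheaf.stalk (g' x')) :=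
    .of_algebraMap_eq fun a => by
      rw [hf]
      change X.presheaf.germ U _ hxU (f.appLE V U eU a) =
        f.stalkMap _ ((S.presheaf.stalkCongr (.of_eq rfl)).hom (S.presheaf.germ V _ hxV a))
      rw [TopCat.Presheaf.stalkCongr_hom]
      simp only [TopCat.Presheaf.germ_stalkSpecializes_apply]
      exact (stalk_germ_appLE f eU _ hxU a).symm
  have t2 : IsScalarTower Γ(S, V) (S.presheaf.stalk (f (g' x'))) (S'.presheaf.stalk (f' x')) :=
    .of_algebraMap_eq fun a => by
      rw [hg]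
      change S'.presheaf.germ W _ hxW (g.appLE V W eW a) =
        g.stalkMap _ ((S.presheaf.stalkCongr (.of_eq hs'.symm)).hom (S.presheaf.germ V _ hxV a))
      rw [TopCat.Presheaf.stalkCongr_hom]
      simp only [TopCat.Presheaf.germ_stalkSpecializes_apply]
      exact (stalk_germ_appLE g eW _ hxW a).symm
  have hcomp : ∀ a, gX (algebraMap _ _ a) = gS (algebraMap (S.presheaf.stalk (f (g' x'))) _ a) := by
    intro a
    obtain ⟨O, hO, a, rfl⟩ := S.presheaf.exists_germ_eq a
    rw [hf, hg]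
    simp only [gX, gS, CommRingCat.hom_comp, RingHom.comp_apply, TopCat.Presheaf.stalkCongr_hom,
      TopCat.Presheaf.germ_stalkSpecializes_apply]
    rw [stalk_germ_appLE f le_rfl _ hO, stalk_germ_appLE g le_rfl (f' x') (show f' x' ∈ g ⁻¹ᵁ O from show g (f' x') ∈ O from e₀ ▸ hO),
      stalk_germ_appLE g' (V := f ⁻¹ᵁ O) (U := g' ⁻¹ᵁ (f ⁻¹ᵁ O) ⊓ f' ⁻¹ᵁ (g ⁻¹ᵁ O)) inf_le_left x' ⟨hO, show g (f' x') ∈ O from e₀ ▸ hO⟩,
      stalk_germ_appLE f' (V := g ⁻¹ᵁ O) (U := g' ⁻¹ᵁ (f ⁻¹ᵁ O) ⊓ f' ⁻¹ᵁ (g ⁻¹ᵁ O)) inf_le_right x' ⟨hO, show g (f' x') ∈ O from e₀ ▸ hO⟩]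
    simp only [← RingHom.comp_apply, ← CommRingCat.hom_comp, Scheme.Hom.appLE_comp_appLE, hc.w]
  let τ : X.presheaf.stalk (g' x') ⊗[S.presheaf.stalk (f (g' x'))] S'.presheaf.stalk (f' x') →+* X'.presheaf.stalk x' :=
    letI : Algebra (S.presheaf.stalk (f (g' x'))) (X'.presheaf.stalk x') := (gX.comp (algebraMap _ _)).toAlgebra
    (Algebra.TensorProduct.lift (R := S.presheaf.stalk (f (g' x'))) (S := S.presheaf.stalk (f (g' x')))
      { gX with commutes' := fun _ => rfl } { gS with commutes' := fun a => (hcomp a).symm }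
      (fun _ _ => Commute.all _ _)).toRingHom
  have hτB : ∀ a, τ (a ⊗ₜ 1) = gX a := fun a => by
    show gX a * gS 1 = gX a
    rw [map_one, mul_one]
  have hτC : ∀ c, τ (1 ⊗ₜ c) = gS c := fun c => by
    show gX 1 * gS c = gS c
    rw [map_one, one_mul]
  have := hU.isLocalization_stalk ⟨g' x', hxU⟩
  have := hW.isLocalization_stalk ⟨f' x', hxW⟩
  refine ⟨τ, ?_, fun a => ?_, fun c => ?_⟩
  · refine flat_tensor_localization (A := Γ(S, V)) (hU.primeIdealOf ⟨g' x', hxU⟩).asIdeal.primeCompl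
      (hW.primeIdealOf ⟨f' x', hxW⟩).asIdeal.primeCompl τ j (fun b => ?_) (fun c => ?_) hj
    · rw [hjB, hτB]
      exact (stalk_germ_appLE g' _ x' hxP b).symm
    · rw [hjC, hτC]
      exact (stalk_germ_appLE f' _ x' hxP c).symm
  · rw [hτB]
    simp [gX, TopCat.Presheaf.stalkCongr_hom]
  · rw [hτC]
    simp [gS, TopCat.Presheaf.stalkCongr_hom]

/-- Flatness of a module at a point is stable under base change. -/
theorem isFlatOverAt_baseChange (hc : IsPullback g' f' f g) (F : X.Modules) (hF : Coh.IsQCoh F) (x' : X')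
    (h : FlatMod.IsFlatOverAt f F (g' x')) :
    FlatMod.IsFlatOverAt f' ((Scheme.Modules.pullback g').obj F) x' := by
  have : F.IsQuasicoherent := hF
  obtain ⟨E⟩ := FlatMor68.PullbackStalk.nonempty_stalkPullbackEquiv g' F x'
  let y := g' x'
  let z := f' x'
  have e₀ : g z = f y := by rw [← Scheme.Hom.comp_apply, ← hc.w, Scheme.Hom.comp_apply]
  let R := S.presheaf.stalk (f y)
  let B := X.presheaf.stalk y
  let R' := S'.presheaf.stalk z
  let M := X'.presheaf.stalk x'
  let Fy := F.presheaf.stalk y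
  letI iRB : Algebra R B := (f.stalkMap y).hom.toAlgebra
  letI iRR' : Algebra R R' := ((S.presheaf.stalkCongr (.of_eq e₀.symm)).hom ≫ g.stalkMap z).hom.toAlgebra
  obtain ⟨τ, hτ, hτB, hτC⟩ := exists_tensor_stalk_flat hc x' y z (f y) rfl rfl rfl e₀
    (by simp [RingHom.algebraMap_toAlgebra, iRB, TopCat.Presheaf.stalkCongr_hom]) rfl
  letI iBM : Algebra B M := (g'.stalkMap x').hom.toAlgebra
  letI iTM : Algebra (B ⊗[R] R') M := τ.toAlgebra
  letI iR'M : Algebra R' M := (f'.stalkMap x').hom.toAlgebra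
  letI iR'T : Algebra R' (B ⊗[R] R') := (Algebra.TensorProduct.includeRight : R' →ₐ[R] B ⊗[R] R').toRingHom.toAlgebra
  have : IsScalarTower B (B ⊗[R] R') M := .of_algebraMap_eq fun b => by
    show _ = τ (b ⊗ₜ 1)
    rw [hτB]
    simp [RingHom.algebraMap_toAlgebra, TopCat.Presheaf.stalkCongr_hom]
    rfl
  have : IsScalarTower R' (B ⊗[R] R') M := .of_algebraMap_eq fun c => by
    show _ = τ (1 ⊗ₜ c)
    rw [hτC]
    simp [RingHom.algebraMap_toAlgebra, TopCat.Presheaf.stalkCongr_hom]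
    rfl
  letI : Module R Fy := FlatMod.moduleStalkOver f F y
  have : IsScalarTower R B Fy := .of_algebraMap_smul fun r s => rfl
  have : Module.Flat R Fy := h
  have : Module.Flat R' ((B ⊗[R] R') ⊗[B] Fy) := flat_tensor_baseChange
  have : Module.Flat (B ⊗[R] R') M := hτ
  have : Module.Flat R' (M ⊗[B ⊗[R] R'] ((B ⊗[R] R') ⊗[B] Fy)) := FDesc60.flat_tensor_of_flat
  have h2 : Module.Flat R' (M ⊗[B] Fy) :=
    Module.Flat.of_linearEquiv ((AlgebraTensorModule.cancelBaseChange B (B ⊗[R] R') M M Fy).restrictScalars R').symm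
  letI : Module R' (((Scheme.Modules.pullback g').obj F).presheaf.stalk x') :=
    FlatMod.moduleStalkOver f' ((Scheme.Modules.pullback g').obj F) x'
  have : IsScalarTower R' M (((Scheme.Modules.pullback g').obj F).presheaf.stalk x') := .of_algebraMap_smul fun r s => rfl
  exact Module.Flat.of_linearEquiv (E.restrictScalars R')

/-- The base change of a morphism flat at a point is flat at the points over it. -/
theorem flat_stalkMap_fst (hc : IsPullback g' f' f g) (x' : X') (hg : (g.stalkMap (f' x')).hom.Flat) :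
    (g'.stalkMap x').hom.Flat := by
  let y := g' x'
  let z := f' x'
  have e₀ : g z = f y := by rw [← Scheme.Hom.comp_apply, ← hc.w, Scheme.Hom.comp_apply]
  let R := S.presheaf.stalk (f y)
  let B := X.presheaf.stalk y
  let R' := S'.presheaf.stalk z
  letI iRB : Algebra R B := (f.stalkMap y).hom.toAlgebra
  letI iRR' : Algebra R R' := ((S.presheaf.stalkCongr (.of_eq e₀.symm)).hom ≫ g.stalkMap z).hom.toAlgebra
  obtain ⟨τ, hτ, hτB, hτC⟩ := exists_tensor_stalk_flat hc x' y z (f y) rfl rfl rfl e₀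
    (by simp [RingHom.algebraMap_toAlgebra, iRB, TopCat.Presheaf.stalkCongr_hom]) rfl
  have : Module.Flat R R' := by
    show (algebraMap R R').Flat
    exact RingHom.Flat.comp (RingHom.Flat.of_bijective (ConcreteCategory.bijective_of_isIso _)) hg
  have h1 : (algebraMap B (B ⊗[R] R')).Flat := RingHom.flat_algebraMap_iff.mpr (Module.Flat.baseChange R B R')
  have h2 := RingHom.Flat.comp h1 hτ
  have e : τ.comp (algebraMap B (B ⊗[R] R')) = (g'.stalkMap x').hom := RingHom.ext fun b => by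
    show τ (b ⊗ₜ 1) = _
    rw [hτB]
    simp [TopCat.Presheaf.stalkCongr_hom]
    rfl
  rwa [e] at h2

/-- Flatness of a module at a point descends along a base change flat at that point. -/
theorem isFlatOverAt_of_baseChange (hc : IsPullback g' f' f g) (F : X.Modules) (hF : Coh.IsQCoh F) (x' : X')
    (hg : (g.stalkMap (f' x')).hom.Flat)
    (h : FlatMod.IsFlatOverAt f' ((Scheme.Modules.pullback g').obj F) x') :
    FlatMod.IsFlatOverAt f F (g' x') := by
  refine (FlatMor68.PullbackStalk.t9350 g' f F hF x' (flat_stalkMap_fst hc x' hg)).mpr ?_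
  rw [hc.w]
  let R' := S'.presheaf.stalk (f' x')
  let R := S.presheaf.stalk (g (f' x'))
  letI : Algebra R R' := (g.stalkMap (f' x')).hom.toAlgebra
  letI : Module R (((Scheme.Modules.pullback g').obj F).presheaf.stalk x') :=
    FlatMod.moduleStalkOver (f' ≫ g) ((Scheme.Modules.pullback g').obj F) x'
  letI : Module R' (((Scheme.Modules.pullback g').obj F).presheaf.stalk x') :=
    FlatMod.moduleStalkOver f' ((Scheme.Modules.pullback g').obj F) x'
  have : IsScalarTower R R' (((Scheme.Modules.pullback g').obj F).presheaf.stalk x') := .of_algebraMap_smul fun r s => by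
    change (f'.stalkMap x').hom ((g.stalkMap (f' x')).hom r) • s = ((f' ≫ g).stalkMap x').hom r • s
    rw [Scheme.Hom.stalkMap_comp]
    rfl
  have : Module.Flat R R' := hg
  have : Module.Flat R' (((Scheme.Modules.pullback g').obj F).presheaf.stalk x') := h
  exact Module.Flat.trans R R' _

end Geom

end Groth.Agent.FlatMor66
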