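import Groth.Agent.FlatMor66.FibCritAlg
import Groth.Agent.FlatMor68.FibreStalk
import Groth.Prelude.Def_MoreMor
import Mathlib.AlgebraicGeometry.Morphisms.FinitePresentation

/-!
The critère de platitude par fibres for schemes.
-/

set_option autoImplicit false
set_option linter.style.haveILetI false
universe u

open AlgebraicGeometry CategoryTheory Limits IsLocalRing

noncomputable section

namespace Groth.Agent.FlatMor66

section Chart

variable {X Y : Scheme.{u}} (h : X ⟶ Y) {U : Y.Opens} (hU : IsAffineOpen U) {W : X.Opens} (hW : IsAffineOpen W)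
  (e : W ≤ h ⁻¹ᵁ U) {x : X} (hx : x ∈ W)

/-- The stalk map on an affine chart. -/
theorem stalkMap_germ_appLE (a : Γ(Y, U)) :
    (h.stalkMap x).hom ((Y.presheaf.germ U (h x) (e hx)).hom a) =
      (X.presheaf.germ W x hx).hom ((h.appLE U W e).hom a) := by
  erw [Scheme.Hom.germ_stalkMap_apply]
  exact (X.presheaf.germ_res_apply (homOfLE e) x hx (h.app U a)).symm

/-- The prime of the image point on an affine chart. -/
theorem primeIdealOf_image :
    (hU.primeIdealOf ⟨h x, e hx⟩).asIdeal = (hW.primeIdealOf ⟨x, hx⟩).asIdeal.comap (h.appLE U W e).hom := by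
  letI := (h.appLE U W e).hom.toAlgebra
  letI := TopCat.Presheaf.algebra_section_stalk X.presheaf ⟨x, hx⟩
  letI := TopCat.Presheaf.algebra_section_stalk Y.presheaf ⟨h x, e hx⟩
  haveI : IsLocalization.AtPrime (X.presheaf.stalk x) (hW.primeIdealOf ⟨x, hx⟩).asIdeal := hW.isLocalization_stalk ⟨x, hx⟩
  haveI : IsLocalization.AtPrime (Y.presheaf.stalk (h x)) (hU.primeIdealOf ⟨h x, e hx⟩).asIdeal :=
    hU.isLocalization_stalk ⟨h x, e hx⟩
  haveI : IsLocalHom (h.stalkMap x).hom := h.toLRSHom.prop x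
  exact under_eq_of_isLocalHom (hU.primeIdealOf ⟨h x, e hx⟩).asIdeal (hW.primeIdealOf ⟨x, hx⟩).asIdeal
    (h.stalkMap x).hom (fun r => stalkMap_germ_appLE h e hx r)

include hU in
/-- Flatness of the stalk map on an affine chart. -/
theorem flat_stalkMap_iff_localization :
    letI := (h.appLE U W e).hom.toAlgebra
    (h.stalkMap x).hom.Flat ↔ Module.Flat Γ(Y, U) (Localization.AtPrime (hW.primeIdealOf ⟨x, hx⟩).asIdeal) := by
  letI := (h.appLE U W e).hom.toAlgebra
  letI := TopCat.Presheaf.algebra_section_stalk X.presheaf ⟨x, hx⟩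
  letI := TopCat.Presheaf.algebra_section_stalk Y.presheaf ⟨h x, e hx⟩
  haveI : IsLocalization.AtPrime (X.presheaf.stalk x) (hW.primeIdealOf ⟨x, hx⟩).asIdeal := hW.isLocalization_stalk ⟨x, hx⟩
  haveI : IsLocalization.AtPrime (Y.presheaf.stalk (h x)) (hU.primeIdealOf ⟨h x, e hx⟩).asIdeal :=
    hU.isLocalization_stalk ⟨h x, e hx⟩
  exact flat_iff_localization (hU.primeIdealOf ⟨h x, e hx⟩).asIdeal (hW.primeIdealOf ⟨x, hx⟩).asIdeal
    (h.stalkMap x).hom (fun r => stalkMap_germ_appLE h e hx r)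

end Chart

section Fibre

/-- Transport of a presentation of a fibre stalk along an equality of points. -/
theorem stalkCongr_fibre {Y S : Scheme.{u}} (g : Y ⟶ S) {y z : Y} (e : y = z) {R' : CommRingCat.{u}}
    (ψ : Y.presheaf.stalk z ⟶ R') (hs : Function.Surjective ψ.hom)
    (hk : RingHom.ker ψ.hom = (maximalIdeal (S.presheaf.stalk (g z))).map (g.stalkMap z).hom) :
    Function.Surjective ((Y.presheaf.stalkCongr (.of_eq e)).hom ≫ ψ).hom ∧
      RingHom.ker ((Y.presheaf.stalkCongr (.of_eq e)).hom ≫ ψ).hom =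
        (maximalIdeal (S.presheaf.stalk (g y))).map (g.stalkMap y).hom := by
  subst e
  simpa using And.intro hs hk

variable {X Y S : Scheme.{u}} (f : X ⟶ Y) (g : Y ⟶ S)

/-- The stalk map of a map of fibres is a quotient of the stalk map. -/
theorem exists_fibre_square (s : S) (x' : (f ≫ g).fiber s) :
    ∃ (cB : Y.presheaf.stalk (f ((f ≫ g).fiberι s x')) →+*
          (g.fiber s).presheaf.stalk (MoreMor.fiberMap f g s x')),
      Function.Surjective cB ∧ Function.Surjective (((f ≫ g).fiberι s).stalkMap x').hom ∧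
      RingHom.ker cB = (maximalIdeal (S.presheaf.stalk (g (f ((f ≫ g).fiberι s x'))))).map
        (g.stalkMap (f ((f ≫ g).fiberι s x'))).hom ∧
      RingHom.ker (((f ≫ g).fiberι s).stalkMap x').hom = (maximalIdeal (S.presheaf.stalk (g (f ((f ≫ g).fiberι s x'))))).map
        ((f.stalkMap ((f ≫ g).fiberι s x')).hom.comp (g.stalkMap (f ((f ≫ g).fiberι s x'))).hom) ∧
      ((MoreMor.fiberMap f g s).stalkMap x').hom.comp cB = (((f ≫ g).fiberι s).stalkMap x').hom.comp (f.stalkMap ((f ≫ g).fiberι s x')).hom := by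
  set φ := MoreMor.fiberMap f g s with hφ
  have hsq : φ ≫ g.fiberι s = (f ≫ g).fiberι s ≫ f := pullback.lift_fst _ _ _
  have hpt : g.fiberι s (φ x') = f ((f ≫ g).fiberι s x') := by
    rw [← Scheme.Hom.comp_apply, hsq, Scheme.Hom.comp_apply]
  obtain ⟨hbs, hbk⟩ := stalkCongr_fibre g hpt.symm ((g.fiberι s).stalkMap (φ x'))
    (FlatMor68.FibreStalk.fiberι_stalkMap_surjective g s (φ x'))
    (FlatMor68.FibreStalk.ker_fiberι_stalkMap g s (φ x'))
  refine ⟨_, hbs,
    FlatMor68.FibreStalk.fiberι_stalkMap_surjective (f ≫ g) s x', hbk, ?_, ?_⟩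
  · rw [FlatMor68.FibreStalk.ker_fiberι_stalkMap (f ≫ g) s x', Scheme.Hom.stalkMap_comp]
    rfl
  · rw [← CommRingCat.hom_comp, ← CommRingCat.hom_comp, Category.assoc]
    congr 1
    have e := Scheme.Hom.stalkMap_congr_hom _ _ hsq.symm x'
    rw [Scheme.Hom.stalkMap_comp, Scheme.Hom.stalkMap_comp] at e
    exact e.symm

end Fibre

section Critere

variable {X Y S : Scheme.{u}} (f : X ⟶ Y) (g : Y ⟶ S) [LocallyOfFinitePresentation (f ≫ g)] [LocallyOfFiniteType g]

theorem critere_scheme_aux (s : S) (x' : (f ≫ g).fiber s) :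
    (((f ≫ g).stalkMap ((f ≫ g).fiberι s x')).hom.Flat ∧ ((MoreMor.fiberMap f g s).stalkMap x').hom.Flat ↔
      (g.stalkMap (f ((f ≫ g).fiberι s x'))).hom.Flat ∧ (f.stalkMap ((f ≫ g).fiberι s x')).hom.Flat) ∧
    ((g.stalkMap (f ((f ≫ g).fiberι s x'))).hom.Flat ∧ (f.stalkMap ((f ≫ g).fiberι s x')).hom.Flat →
      ∃ O : X.Opens, (f ≫ g).fiberι s x' ∈ O ∧
        ∀ z ∈ O, (g.stalkMap (f z)).hom.Flat ∧ (f.stalkMap z).hom.Flat) := by
  obtain ⟨cB, hcB, hcC, kB, kC, sq⟩ := exists_fibre_square f g s x'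
  generalize (((f ≫ g).fiberι s).stalkMap x').hom = cC at hcC kC sq
  generalize ((MoreMor.fiberMap f g s).stalkMap x').hom = ψ at sq ⊢
  revert cB cC ψ
  generalize (f ≫ g).fiberι s x' = x
  intro cB hcB kB cC hcC kC ψ sq
  obtain ⟨V, hV, hgV, -⟩ := exists_isAffineOpen_mem_and_subset (U := (⊤ : S.Opens)) (x := g (f x)) trivial
  obtain ⟨U, hU, hfU, hUV⟩ := exists_isAffineOpen_mem_and_subset (U := g ⁻¹ᵁ V) (x := f x) hgV
  obtain ⟨W, hW, hxW, hWU⟩ := exists_isAffineOpen_mem_and_subset (U := f ⁻¹ᵁ U) (x := x) hfU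
  have hWV : W ≤ (f ≫ g) ⁻¹ᵁ V := fun z hz => hUV (hWU hz)
  let R := Γ(S, V)
  let B := Γ(Y, U)
  let C := Γ(X, W)
  letI : Algebra R B := (g.appLE V U hUV).hom.toAlgebra
  letI : Algebra B C := (f.appLE U W hWU).hom.toAlgebra
  letI : Algebra R C := ((f ≫ g).appLE V W hWV).hom.toAlgebra
  haveI : IsScalarTower R B C := IsScalarTower.of_algebraMap_eq fun r => by
    show ((f ≫ g).appLE V W hWV).hom r = (f.appLE U W hWU).hom ((g.appLE V U hUV).hom r)
    rw [← ConcreteCategory.comp_apply, Scheme.Hom.appLE_comp_appLE]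
  haveI : Algebra.FinitePresentation R C := (f ≫ g).finitePresentation_appLE hV hW hWV
  haveI : Algebra.FiniteType R B := g.finiteType_appLE hV hU hUV
  letI := TopCat.Presheaf.algebra_section_stalk S.presheaf ⟨g (f x), hgV⟩
  letI := TopCat.Presheaf.algebra_section_stalk Y.presheaf ⟨f x, hfU⟩
  letI := TopCat.Presheaf.algebra_section_stalk X.presheaf ⟨x, hxW⟩
  let p := (hV.primeIdealOf ⟨g (f x), hgV⟩).asIdeal
  let P := (hU.primeIdealOf ⟨f x, hfU⟩).asIdeal
  let Q := (hW.primeIdealOf ⟨x, hxW⟩).asIdeal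
  haveI : IsLocalization.AtPrime (S.presheaf.stalk (g (f x))) p := hV.isLocalization_stalk ⟨g (f x), hgV⟩
  haveI : IsLocalization.AtPrime (Y.presheaf.stalk (f x)) P := hU.isLocalization_stalk ⟨f x, hfU⟩
  haveI : IsLocalization.AtPrime (X.presheaf.stalk x) Q := hW.isLocalization_stalk ⟨x, hxW⟩
  haveI : IsLocalHom (g.stalkMap (f x)).hom := g.toLRSHom.prop (f x)
  haveI : IsLocalHom (f.stalkMap x).hom := f.toLRSHom.prop x
  have hc : ((f ≫ g).stalkMap x).hom = (f.stalkMap x).hom.comp (g.stalkMap (f x)).hom := by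
    rw [Scheme.Hom.stalkMap_comp]
    rfl
  obtain ⟨h1, h2⟩ := critere_local p P Q (g.stalkMap (f x)).hom (f.stalkMap x).hom
    (fun r => stalkMap_germ_appLE g hUV hfU r) (fun b => stalkMap_germ_appLE f hWU hxW b)
    cB cC ψ hcB hcC kB kC sq
  refine ⟨?_, fun h => ?_⟩
  · rw [hc]
    exact h1
  obtain ⟨t, ht, hflat⟩ := h2 h
  refine ⟨X.basicOpen t, ?_, fun z hz => ?_⟩
  · rw [X.mem_basicOpen t x hxW]
    exact IsLocalization.map_units (X.presheaf.stalk x) (⟨t, ht⟩ : Q.primeCompl)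
  · have hzW : z ∈ W := X.basicOpen_le t hz
    letI := TopCat.Presheaf.algebra_section_stalk X.presheaf ⟨z, hzW⟩
    haveI : IsLocalization.AtPrime (X.presheaf.stalk z) (hW.primeIdealOf ⟨z, hzW⟩).asIdeal :=
      hW.isLocalization_stalk ⟨z, hzW⟩
    have htz : t ∉ (hW.primeIdealOf ⟨z, hzW⟩).asIdeal := fun hmem => by
      rw [X.mem_basicOpen t z hzW] at hz
      exact ((IsLocalization.AtPrime.isUnit_to_map_iff (X.presheaf.stalk z)
        (hW.primeIdealOf ⟨z, hzW⟩).asIdeal t).mp hz) hmem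
    obtain ⟨hf, hg⟩ := hflat (hW.primeIdealOf ⟨z, hzW⟩).asIdeal htz
    refine ⟨(flat_stalkMap_iff_localization g hV hU hUV (hWU hzW)).mpr ?_,
      (flat_stalkMap_iff_localization f hU hW hWU hzW).mpr hf⟩
    have he : ((hW.primeIdealOf ⟨z, hzW⟩).asIdeal.under B) = (hU.primeIdealOf ⟨f z, hWU hzW⟩).asIdeal :=
      (primeIdealOf_image f hU hW hWU hzW).symm
    have hcast : ∀ (P' : Ideal B) [P'.IsPrime], (hW.primeIdealOf ⟨z, hzW⟩).asIdeal.under B = P' →
        Module.Flat R (Localization.AtPrime P') := by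
      rintro P' _ rfl
      exact hg
    exact hcast _ he

/-- **Critère de platitude par fibres.** -/
theorem critere_scheme :
    (∀ x : X, ((f ≫ g).stalkMap x).hom.Flat ∧
        ((MoreMor.fiberMap f g (g (f x))).stalkMap ((f ≫ g).asFiber x)).hom.Flat ↔
          (g.stalkMap (f x)).hom.Flat ∧ (f.stalkMap x).hom.Flat) ∧
      IsOpen {x : ↑X | (g.stalkMap (f x)).hom.Flat ∧ (f.stalkMap x).hom.Flat} := by
  refine ⟨fun x => ?_, isOpen_iff_forall_mem_open.mpr fun x hx => ?_⟩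
  · have h := (critere_scheme_aux f g ((f ≫ g) x) ((f ≫ g).asFiber x)).1
    rw [Scheme.Hom.fiberι_asFiber] at h
    exact h
  · have h := (critere_scheme_aux f g ((f ≫ g) x) ((f ≫ g).asFiber x)).2
    rw [Scheme.Hom.fiberι_asFiber] at h
    obtain ⟨O, hxO, hO⟩ := h hx
    exact ⟨O, hO, O.2, hxO⟩

end Critere

end Groth.Agent.FlatMor66
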