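import Groth.Agent.FlatMor66.Deform
import Groth.Agent.FlatMor66.FibCritScheme
import Groth.Agent.ConsProp93.Criterion
import Groth.Agent.SchBasics.FPCancel

/-!
Deforming properties of morphisms of flat finitely presented schemes over an arbitrary thickening.
-/

set_option autoImplicit false
set_option backward.isDefEq.respectTransparency.types false
universe u

open AlgebraicGeometry CategoryTheory CategoryTheory.Limits

namespace Groth.Agent.FlatMor66

/-- A closed immersion induces isomorphisms of residue fields. -/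
theorem isIso_SpecMap_residueFieldMap {Y Y' : Scheme.{u}} (i : Y ⟶ Y') [IsClosedImmersion i] (y : Y) :
    IsIso (Spec.map (i.residueFieldMap y)) := by
  have : IsIso (i.residueFieldMap y) :=
    (ConcreteCategory.isIso_iff_bijective _).mpr ⟨RingHom.injective (i.residueFieldMap y).hom, fun z => by
      obtain ⟨w, rfl⟩ := Y.residue_surjective y z
      obtain ⟨v, rfl⟩ := i.stalkMap_surjective y w
      exact ⟨Y'.residue _ v, congr($(Scheme.residue_residueFieldMap i y).hom v)⟩⟩
  infer_instance

variable {X X' Y Y' S S' : Scheme.{u}} {iX : X ⟶ X'} {iY : Y ⟶ Y'} {iS : S ⟶ S'}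
    {f : X ⟶ Y} {f' : X' ⟶ Y'} {g : Y ⟶ S} {g' : Y' ⟶ S'}

/-- The maps of fibres above a thickening are base changes of the map below. -/
theorem fiberMap_of_thickening (hS : MoreMor.IsThickening iS) (hcX : IsPullback iX (f ≫ g) (f' ≫ g') iS)
    (hcY : IsPullback iY g g' iS) (w : iX ≫ f' = f ≫ iY) (P : MorphismProperty Scheme.{u})
    [P.IsStableUnderBaseChange] (h : P f) (s' : S') : P (MoreMor.fiberMap f' g' s') := by
  have := hS.1
  obtain ⟨s, rfl⟩ := hS.2.surj s'
  have := isIso_SpecMap_residueFieldMap iS s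
  let σ : Spec (S'.residueField (iS s)) ⟶ S := inv (Spec.map (iS.residueFieldMap s)) ≫ S.fromSpecResidueField s
  have hσ : σ ≫ iS = S'.fromSpecResidueField (iS s) := by
    rw [Category.assoc, IsIso.inv_comp_eq, Scheme.Hom.SpecMap_residueFieldMap_fromSpecResidueField]
  let τ : g'.fiber (iS s) ⟶ Y := hcY.lift (g'.fiberι (iS s)) (g'.fiberToSpecResidueField (iS s) ≫ σ)
    (by rw [Category.assoc, hσ]; exact g'.fiber_fac (iS s))
  have hτ : τ ≫ iY = g'.fiberι (iS s) := hcY.lift_fst _ _ _
  have hb : IsPullback (MoreMor.fiberMap f' g' (iS s)) ((f' ≫ g').fiberι (iS s)) (τ ≫ iY) f' :=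
    hτ.symm ▸ (ConsProp93.isPullback_fiberMap f' g' (iS s)).flip
  have hc : IsPullback iX f f' iY := deform_isPullback hcX hcY w
  have h1 : IsPullback ((f' ≫ g').fiberι (iS s)) (MoreMor.fiberMap f' g' (iS s)) f' (τ ≫ iY) := hb.flip
  let m := hc.lift ((f' ≫ g').fiberι (iS s)) (MoreMor.fiberMap f' g' (iS s) ≫ τ) (by rw [h1.w, Category.assoc])
  have h2 : IsPullback m (MoreMor.fiberMap f' g' (iS s)) f τ :=
    IsPullback.of_right (by rw [hc.lift_fst]; exact h1) (hc.lift_snd _ _ _) hc
  exact MorphismProperty.of_isPullback h2 h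

variable [Flat (f' ≫ g')] [LocallyOfFinitePresentation (f' ≫ g')] [LocallyOfFiniteType g']

theorem deformFP_flat (hS : MoreMor.IsThickening iS) (hcX : IsPullback iX (f ≫ g) (f' ≫ g') iS)
    (hcY : IsPullback iY g g' iS) (w : iX ≫ f' = f ≫ iY) : Flat f ↔ Flat f' := by
  refine ⟨fun h => Flat.of_stalkMap _ fun x => ?_, fun h => MorphismProperty.of_isPullback (deform_isPullback hcX hcY w) h⟩
  have : Flat (MoreMor.fiberMap f' g' (g' (f' x))) := fiberMap_of_thickening hS hcX hcY w @Flat h _
  exact (((critere_scheme f' g').1 x).mp ⟨Flat.stalkMap _ x, Flat.stalkMap _ _⟩).2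

theorem deformFP_isIso (hS : MoreMor.IsThickening iS) (hcX : IsPullback iX (f ≫ g) (f' ≫ g') iS)
    (hcY : IsPullback iY g g' iS) (w : iX ≫ f' = f ≫ iY) : IsIso f ↔ IsIso f' := by
  have hc := deform_isPullback hcX hcY w
  refine ⟨fun h => ?_, fun h => MorphismProperty.of_isPullback (P := MorphismProperty.isomorphisms _) hc h⟩
  have hY1 : IsClosedImmersion iY := MorphismProperty.of_isPullback hcY.flip hS.1
  have hY2 : Surjective iY := MorphismProperty.of_isPullback hcY.flip hS.2
  have := SchBasics.locallyOfFinitePresentation_of_comp f' g'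
  have : Flat f' := (deformFP_flat hS hcX hcY w).mp inferInstance
  have : Mono f' := (mono_iff_lft iX iY f f' ⟨hY1, hY2⟩ hc).mp inferInstance
  have : Surjective iX := MorphismProperty.of_isPullback hc.flip hY2
  have : IsClosedImmersion iX := MorphismProperty.of_isPullback hc.flip hY1
  have hs : Surjective (iX ≫ f') := by rw [w]; infer_instance
  have : Surjective f' := ⟨fun y => by
    obtain ⟨x, hx⟩ := hs.surj y
    exact ⟨iX x, by rwa [← Scheme.Hom.comp_apply]⟩⟩
  have : QuasiCompact (iX ≫ f') := by rw [w]; infer_instance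
  have : QuasiCompact f' := quasiCompact_of_comp_surjective iX f'
  exact MorphismProperty.of_pullback_fst_of_descendsAlong (P := MorphismProperty.isomorphisms Scheme.{u})
    (Q := @Surjective ⊓ @Flat ⊓ @QuasiCompact) (f := f') (g := f') ⟨⟨inferInstance, inferInstance⟩, inferInstance⟩
    (show IsIso (pullback.fst f' f') from inferInstance)

theorem deformFP_isOpenImmersion (hS : MoreMor.IsThickening iS) (hcX : IsPullback iX (f ≫ g) (f' ≫ g') iS)
    (hcY : IsPullback iY g g' iS) (w : iX ≫ f' = f ≫ iY) : IsOpenImmersion f ↔ IsOpenImmersion f' := by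
  have hc := deform_isPullback hcX hcY w
  refine ⟨fun h => ?_, fun h => MorphismProperty.of_isPullback hc h⟩
  have hY1 : IsClosedImmersion iY := MorphismProperty.of_isPullback hcY.flip hS.1
  have hY2 : Surjective iY := MorphismProperty.of_isPullback hcY.flip hS.2
  have : Surjective iX := MorphismProperty.of_isPullback hc.flip hY2
  obtain ⟨W, hW, hWe⟩ := (iY.isClosedEmbedding.isInducing.isOpen_iff).mp f.opensRange.isOpen
  let W' : Y'.Opens := ⟨W, hW⟩
  have e : iY ⁻¹ᵁ W' = f.opensRange := TopologicalSpace.Opens.ext hWe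
  have hr : Set.range f' ⊆ Set.range W'.ι := by
    rintro _ ⟨x, rfl⟩
    obtain ⟨x, rfl⟩ := iX.surjective x
    rw [Scheme.Opens.range_ι, ← Scheme.Hom.comp_apply, w, Scheme.Hom.comp_apply]
    exact e.ge ⟨x, rfl⟩
  let f₁ : X' ⟶ W' := IsOpenImmersion.lift W'.ι f' hr
  have hf₁ : f₁ ≫ W'.ι = f' := IsOpenImmersion.lift_fac _ _ _
  have hr2 : Set.range f ⊆ Set.range (iY ⁻¹ᵁ W').ι := by
    rw [Scheme.Opens.range_ι, e]
    exact subset_rfl
  let f₀ : X ⟶ (iY ⁻¹ᵁ W').toScheme := IsOpenImmersion.lift (iY ⁻¹ᵁ W').ι f hr2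
  have hf₀ : f₀ ≫ (iY ⁻¹ᵁ W').ι = f := IsOpenImmersion.lift_fac _ _ _
  have : IsOpenImmersion f₀ := by
    have : IsOpenImmersion (f₀ ≫ (iY ⁻¹ᵁ W').ι) := hf₀ ▸ inferInstance
    exact IsOpenImmersion.of_comp f₀ (iY ⁻¹ᵁ W').ι
  have : IsIso f₀ := by
    refine isIso_of_isOpenImmersion_of_opensRange_eq_top f₀ (TopologicalSpace.Opens.ext (Set.range_eq_univ.mpr fun y => ?_))
    obtain ⟨x, hx⟩ := e.le y.2
    exact ⟨x, (iY ⁻¹ᵁ W').ι.injective (by rw [← Scheme.Hom.comp_apply, hf₀]; exact hx)⟩
  have : Flat (f₁ ≫ W'.ι ≫ g') := by rw [← Category.assoc, hf₁]; infer_instance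
  have : LocallyOfFinitePresentation (f₁ ≫ W'.ι ≫ g') := by rw [← Category.assoc, hf₁]; infer_instance
  have := (deformFP_isIso (f := f₀) (f' := f₁) (iY := iY ∣_ W') (g := (iY ⁻¹ᵁ W').ι ≫ g) (g' := W'.ι ≫ g') hS
    (by rw [← Category.assoc, hf₀, ← Category.assoc, hf₁]; exact hcX)
    ((isPullback_morphismRestrict iY W').paste_vert hcY)
    (by rw [← cancel_mono W'.ι, Category.assoc, Category.assoc, hf₁, morphismRestrict_ι, reassoc_of% hf₀, w])).mp inferInstance
  rw [← hf₁]
  infer_instance

theorem deformFP_smooth (hS : MoreMor.IsThickening iS) (hcX : IsPullback iX (f ≫ g) (f' ≫ g') iS)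
    (hcY : IsPullback iY g g' iS) (w : iX ≫ f' = f ≫ iY) : Smooth f ↔ Smooth f' := by
  have hc := deform_isPullback hcX hcY w
  refine ⟨fun h => ?_, fun h => MorphismProperty.of_isPullback hc h⟩
  have hY1 : IsClosedImmersion iY := MorphismProperty.of_isPullback hcY.flip hS.1
  have hY2 : Surjective iY := MorphismProperty.of_isPullback hcY.flip hS.2
  have : Flat f' := (deformFP_flat hS hcX hcY w).mp inferInstance
  have := SchBasics.locallyOfFinitePresentation_of_comp f' g'
  refine Smooth.of_smooth_fiberToSpecResidueField f' fun y => ?_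
  obtain ⟨y, rfl⟩ := iY.surjective y
  obtain ⟨m, -, hm⟩ := ConsProp93.exists_isPullback_fiber hc.flip.flip y
  have hj := isIso_SpecMap_residueFieldMap iY y
  have : IsIso m := MorphismProperty.of_isPullback (P := MorphismProperty.isomorphisms _) hm.flip hj
  have hs : Smooth (f.fiberToSpecResidueField y ≫ Spec.map (iY.residueFieldMap y)) :=
    MorphismProperty.comp_mem @Smooth _ _ (MorphismProperty.pullback_snd _ _ h) inferInstance
  rw [← hm.w] at hs
  exact (MorphismProperty.cancel_left_of_respectsIso @Smooth m _).mp hs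

theorem deformFP_etale (hS : MoreMor.IsThickening iS) (hcX : IsPullback iX (f ≫ g) (f' ≫ g') iS)
    (hcY : IsPullback iY g g' iS) (w : iX ≫ f' = f ≫ iY) : Etale f ↔ Etale f' := by
  have hc := deform_isPullback hcX hcY w
  refine ⟨fun h => ?_, fun h => MorphismProperty.of_isPullback hc h⟩
  have hY1 : IsClosedImmersion iY := MorphismProperty.of_isPullback hcY.flip hS.1
  have hY2 : Surjective iY := MorphismProperty.of_isPullback hcY.flip hS.2
  have := (deformFP_smooth hS hcX hcY w).mp inferInstance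
  have := (formallyUnramified_iff iX iY f f' ⟨hY1, hY2⟩ (Or.inr inferInstance) hc).mp inferInstance
  exact Etale.of_formallyUnramified_of_flat f'

end Groth.Agent.FlatMor66
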