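import Groth.Agent.FlatMor66.FibPoint

/-!
The critère de platitude par fibres at a point, with the middle algebra only of finite type.
-/

set_option autoImplicit false
set_option linter.style.haveILetI false
universe u

open TensorProduct

noncomputable section

namespace Groth.Agent.FlatMor66

attribute [local instance] Algebra.TensorProduct.rightAlgebra

/-- Flatness at a prime over the source of a surjection descends to the target. -/
theorem flat_of_flat_of_surjective {B' B M : Type u} [CommRing B'] [CommRing B] [Algebra B' B] [AddCommGroup M]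
    [Module B' M] [Module B M] [IsScalarTower B' B M] (h : Function.Surjective (algebraMap B' B)) [Module.Flat B' M] :
    Module.Flat B M :=
  FlatMor67.flat_of_flat_lmul' (lmul'_flat_of_ringHom_ext fun _ _ φ ψ e => RingHom.ext fun b => by
    obtain ⟨b, rfl⟩ := h b
    exact DFunLike.congr_fun e b) M

/-- If `C` is flat over `R` and over `B` at a prime then `B` is flat over `R` below it. -/
theorem flat_below_of_flat {R B C : Type u} [CommRing R] [CommRing B] [CommRing C] [Algebra R B] [Algebra R C]
    [Algebra B C] [IsScalarTower R B C] (Q : Ideal C) [Q.IsPrime] [Module.Flat R (Localization.AtPrime Q)]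
    [Module.Flat B (Localization.AtPrime Q)] : Module.Flat R (Localization.AtPrime (Q.under B)) := by
  let Br := Localization.AtPrime (Q.under B)
  let CQ := Localization.AtPrime Q
  letI : Algebra Br CQ := Localization.AtPrime.algebraOfLiesOver (Q.under B) Q
  haveI : IsScalarTower B Br CQ := inferInstance
  haveI : IsScalarTower R Br CQ := IsScalarTower.of_algebraMap_eq fun x => by
    rw [IsScalarTower.algebraMap_apply R B CQ, IsScalarTower.algebraMap_apply B Br CQ,
      ← IsScalarTower.algebraMap_apply R B Br]
  haveI : IsLocalHom (algebraMap Br CQ) :=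
    Localization.isLocalHom_localRingHom (Q.under B) Q (algebraMap B C) rfl
  haveI : Module.Flat Br CQ := (Module.flat_iff_of_isLocalization Br (Q.under B).primeCompl CQ).mpr inferInstance
  haveI : Module.FaithfullyFlat Br CQ := Module.FaithfullyFlat.of_flat_of_isLocalHom
  haveI : Module.Flat R (CQ ⊗[Br] Br) :=
    Module.Flat.of_linearEquiv ((AlgebraTensorModule.rid Br Br CQ).restrictScalars R)
  exact FlatMor68.PullbackStalk.flat_of_flat_tensor (S := Br) (L := CQ) (W := Br)

/-- **Critère de platitude par fibres**, ring form at a point, with openness. -/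
theorem critere_ring {R B C : Type u} [CommRing R] [CommRing B] [CommRing C] [Algebra R B] [Algebra R C]
    [Algebra B C] [IsScalarTower R B C] [Algebra.FiniteType R B] [Algebra.FinitePresentation R C]
    (Q : Ideal C) [Q.IsPrime] (hC : Module.Flat R (Localization.AtPrime Q))
    (hfib : ((Algebra.TensorProduct.map (AlgHom.id R ((Q.under B).under R).ResidueField)
      (IsScalarTower.toAlgHom R B (Localization.AtPrime Q))).toRingHom).Flat) :
    ∃ g ∉ Q, ∀ (Q' : Ideal C) [Q'.IsPrime], g ∉ Q' →
      Module.Flat B (Localization.AtPrime Q') ∧ Module.Flat R (Localization.AtPrime Q') ∧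
        Module.Flat R (Localization.AtPrime (Q'.under B)) := by
  classical
  obtain ⟨g₀, hg₀, hflat⟩ := exists_flat_nhd Q hC
  let C' := Localization.Away g₀
  have hdis : Disjoint (Submonoid.powers g₀ : Set C) (Q : Set C) :=
    (Ideal.disjoint_powers_iff_notMem g₀ (Ideal.IsPrime.isRadical inferInstance)).mpr hg₀
  let Q₀ : Ideal C' := Q.map (algebraMap C C')
  haveI hQ₀ : Q₀.IsPrime := IsLocalization.isPrime_of_isPrime_disjoint (Submonoid.powers g₀) C' Q ‹_› hdis
  have hQ₀c : Q₀.comap (algebraMap C C') = Q :=
    IsLocalization.comap_map_of_isPrime_disjoint (Submonoid.powers g₀) C' ‹_› hdis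
  haveI : IsLocalization.AtPrime (Localization.AtPrime Q₀) Q := by
    have h := IsLocalization.isLocalization_isLocalization_atPrime_isLocalization (M := Submonoid.powers g₀)
      (Localization.AtPrime Q₀) Q₀
    simp only [Ideal.under_def, hQ₀c] at h
    exact h
  haveI : Algebra.FinitePresentation R C' := Algebra.FinitePresentation.trans R C C'
  let ε : Localization.AtPrime Q ≃ₐ[C] Localization.AtPrime Q₀ := IsLocalization.algEquiv Q.primeCompl _ _
  let p := (Q.under B).under R
  have hp : (Q₀.under B).under R = p := by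
    simp only [p, Ideal.under_def, Ideal.comap_comap]
    rw [← IsScalarTower.algebraMap_eq R B C', ← IsScalarTower.algebraMap_eq R B C,
      IsScalarTower.algebraMap_eq R C C', ← Ideal.comap_comap, hQ₀c]
  let k := p.ResidueField
  have hfib₀ : ((Algebra.TensorProduct.map (AlgHom.id R k) (IsScalarTower.toAlgHom R B (Localization.AtPrime Q₀))).toRingHom).Flat := by
    let e : k ⊗[R] Localization.AtPrime Q ≃ₐ[k] k ⊗[R] Localization.AtPrime Q₀ :=
      Algebra.TensorProduct.congr AlgEquiv.refl (ε.restrictScalars R)
    have h := RingHom.Flat.comp hfib (RingHom.Flat.of_bijective (f := e.toRingEquiv.toRingHom) e.bijective)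
    convert h using 1
    refine RingHom.ext fun z => ?_
    induction z using TensorProduct.induction_on with
    | zero => simp
    | add x y hx hy => simp only [map_add, hx, hy]
    | tmul a b =>
      show a ⊗ₜ[R] algebraMap B (Localization.AtPrime Q₀) b = e (a ⊗ₜ algebraMap B (Localization.AtPrime Q) b)
      simp [e, IsScalarTower.algebraMap_apply B C (Localization.AtPrime Q), IsScalarTower.algebraMap_apply B C (Localization.AtPrime Q₀)]
  -- a finitely presented algebra with the same fibre
  obtain ⟨n, π, hπ⟩ := Algebra.FiniteType.iff_quotient_mvPolynomial''.mp ‹Algebra.FiniteType R B›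
  let P := MvPolynomial (Fin n) R
  haveI : Algebra.FiniteType k (k ⊗[R] P) := inferInstance
  haveI : IsNoetherianRing (k ⊗[R] P) := Algebra.FiniteType.isNoetherianRing k _
  let ι : P →ₐ[R] k ⊗[R] P := Algebra.TensorProduct.includeRight
  obtain ⟨T', hT', hTs⟩ := (Submodule.fg_span_iff_fg_span_finset_subset (R := k ⊗[R] P)
    (ι '' (RingHom.ker π : Set P))).mp (IsNoetherian.noetherian _)
  obtain ⟨T, hT, rfl⟩ := Finset.subset_set_image_iff.mp hT'
  let I : Ideal P := Ideal.span (T : Set P)
  have hI : I ≤ RingHom.ker π := Ideal.span_le.mpr hT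
  let Bj := P ⧸ I
  haveI : Algebra.FinitePresentation R Bj := Algebra.FinitePresentation.quotient (Submodule.fg_span T.finite_toSet)
  let q : P →ₐ[R] Bj := Ideal.Quotient.mkₐ R I
  let β : Bj →ₐ[R] B := Ideal.Quotient.liftₐ I π fun a ha => hI ha
  letI : Algebra Bj B := β.toRingHom.toAlgebra
  haveI : IsScalarTower R Bj B := .of_algebraMap_eq fun x => (β.commutes x).symm
  have hsurj : Function.Surjective (algebraMap Bj B) := fun b => by
    obtain ⟨x, rfl⟩ := hπ b
    exact ⟨q x, rfl⟩
  letI : Algebra Bj C' := ((algebraMap B C').comp (algebraMap Bj B)).toAlgebra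
  haveI : IsScalarTower Bj B C' := .of_algebraMap_eq' rfl
  haveI : IsScalarTower R Bj C' := IsScalarTower.of_algebraMap_eq (R := R) (S := Bj) (A := C') fun x => by
    rw [IsScalarTower.algebraMap_apply Bj B C', ← IsScalarTower.algebraMap_apply R Bj B,
      ← IsScalarTower.algebraMap_apply R B C']
  have hker : Function.Bijective (Algebra.TensorProduct.map (AlgHom.id R k) β) := by
    have hs : ∀ {X Y : Type u} [CommRing X] [CommRing Y] [Algebra R X] [Algebra R Y] (f : X →ₐ[R] Y),
        Function.Surjective f → Function.Surjective (Algebra.TensorProduct.map (AlgHom.id R k) f) := by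
      intro X Y _ _ _ _ f hf z
      induction z using TensorProduct.induction_on with
      | zero => exact ⟨0, map_zero _⟩
      | add x y hx hy =>
        obtain ⟨a, rfl⟩ := hx; obtain ⟨b, rfl⟩ := hy
        exact ⟨a + b, map_add _ _ _⟩
      | tmul a y =>
        obtain ⟨x, rfl⟩ := hf y
        exact ⟨a ⊗ₜ x, Algebra.TensorProduct.map_tmul _ _ _ _⟩
    refine ⟨(injective_iff_map_eq_zero _).mpr fun z hz => ?_, hs β hsurj⟩
    obtain ⟨w, rfl⟩ := hs q (Ideal.Quotient.mkₐ_surjective R I) z
    have h1 : Algebra.TensorProduct.map (AlgHom.id R k) π w = 0 := by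
      rw [← hz]
      have : π = β.comp q := AlgHom.ext fun x => rfl
      rw [this, ← AlgHom.comp_apply]
      congr 1
      exact Algebra.TensorProduct.ext (AlgHom.ext fun a => by simp) (AlgHom.ext fun a => by simp)
    have hw : w ∈ Ideal.map ι I := by
      have h2 : w ∈ RingHom.ker (Algebra.TensorProduct.map (AlgHom.id R k) π) := h1
      rw [Algebra.TensorProduct.lTensor_ker π hπ] at h2
      change w ∈ Ideal.span (ι '' (RingHom.ker π : Set P)) at h2
      change w ∈ Submodule.span (k ⊗[R] P) (ι '' (RingHom.ker π : Set P)) at h2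
      rw [hTs, Finset.coe_image] at h2
      rw [Ideal.map_span]
      exact h2
    have h3 : I.map ι ≤ RingHom.ker (Algebra.TensorProduct.map (AlgHom.id R k) q) := by
      rw [Algebra.TensorProduct.lTensor_ker q (Ideal.Quotient.mkₐ_surjective R I)]
      refine Ideal.map_mono fun a ha => ?_
      exact Ideal.Quotient.eq_zero_iff_mem.mpr ha
    exact h3 hw
  have hfibj : ((Algebra.TensorProduct.map (AlgHom.id R k) (IsScalarTower.toAlgHom R Bj (Localization.AtPrime Q₀))).toRingHom).Flat := by
    have hb : Function.Bijective (Algebra.TensorProduct.map (AlgHom.id R k) β).toRingHom := by exact hker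
    have h := RingHom.Flat.comp (RingHom.Flat.of_bijective (R := k ⊗[R] Bj) (S := k ⊗[R] B) (f := (Algebra.TensorProduct.map (AlgHom.id R k) β).toRingHom) hb) hfib₀
    convert h using 1
    refine RingHom.ext fun z => ?_
    induction z using TensorProduct.induction_on with
    | zero => simp
    | add x y hx hy => simp only [map_add, hx, hy]
    | tmul a b =>
      show a ⊗ₜ[R] algebraMap Bj (Localization.AtPrime Q₀) b =
        a ⊗ₜ[R] algebraMap B (Localization.AtPrime Q₀) (algebraMap Bj B b)
      rw [IsScalarTower.algebraMap_apply Bj C' (Localization.AtPrime Q₀), IsScalarTower.algebraMap_apply Bj B C',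
        ← IsScalarTower.algebraMap_apply B C' (Localization.AtPrime Q₀)]
  have hpj : (Q₀.under Bj).under R = p := by
    rw [← hp]
    simp only [Ideal.under_def, Ideal.comap_comap, ← IsScalarTower.algebraMap_eq]
  have hcast : ∀ (p' : Ideal R) [p'.IsPrime], p' = p →
      ((Algebra.TensorProduct.map (AlgHom.id R p'.ResidueField)
        (IsScalarTower.toAlgHom R Bj (Localization.AtPrime Q₀))).toRingHom).Flat := by
    rintro p' _ rfl
    exact hfibj
  have hQflat := flat_of_fibre_at (R := R) (B := Bj) (C := C') Q₀ (hcast _ hpj)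
  haveI : Algebra.FinitePresentation Bj C' := Algebra.FinitePresentation.of_restrict_scalars_finitePresentation R Bj C'
  obtain ⟨g₁, hg₁, hflat₁⟩ := exists_flat_nhd Q₀ hQflat
  obtain ⟨⟨a, s⟩, has⟩ := IsLocalization.surj (Submonoid.powers g₀) g₁
  have hunit : ∀ t : Submonoid.powers g₀, IsUnit (algebraMap C C' t) := fun t => IsLocalization.map_units C' t
  have haQ : a ∉ Q := by
    intro ha
    have h : algebraMap C C' a ∈ Q₀ := Ideal.mem_map_of_mem _ ha
    rw [← has] at h
    rcases hQ₀.mem_or_mem h with h | h
    · exact hg₁ h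
    · exact hQ₀.ne_top (Ideal.eq_top_of_isUnit_mem _ h (hunit s))
  refine ⟨g₀ * a, fun h => ((‹Q.IsPrime›).mem_or_mem h).elim hg₀ haQ, fun Q' _ hQ' => ?_⟩
  have hg₀' : g₀ ∉ Q' := fun h => hQ' (Q'.mul_mem_right _ h)
  have haQ' : a ∉ Q' := fun h => hQ' (Q'.mul_mem_left _ h)
  have hdis' : Disjoint (Submonoid.powers g₀ : Set C) (Q' : Set C) :=
    (Ideal.disjoint_powers_iff_notMem g₀ (Ideal.IsPrime.isRadical inferInstance)).mpr hg₀'
  let Q'₀ : Ideal C' := Q'.map (algebraMap C C')
  haveI hQ'₀ : Q'₀.IsPrime := IsLocalization.isPrime_of_isPrime_disjoint (Submonoid.powers g₀) C' Q' ‹_› hdis'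
  have hc' : Q'₀.comap (algebraMap C C') = Q' :=
    IsLocalization.comap_map_of_isPrime_disjoint (Submonoid.powers g₀) C' ‹_› hdis'
  haveI : IsLocalization.AtPrime (Localization.AtPrime Q'₀) Q' := by
    have h := IsLocalization.isLocalization_isLocalization_atPrime_isLocalization (M := Submonoid.powers g₀)
      (Localization.AtPrime Q'₀) Q'₀
    simp only [Ideal.under_def, hc'] at h
    exact h
  let L' := Localization.AtPrime Q'₀
  let ε' : Localization.AtPrime Q' ≃ₐ[C] L' := IsLocalization.algEquiv Q'.primeCompl _ _
  have hg₁' : g₁ ∉ Q'₀ := fun h => haQ' (by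
    rw [← hc', Ideal.mem_comap, ← has]
    exact Q'₀.mul_mem_right _ h)
  haveI : Module.Flat R L' := Module.Flat.trans R C' L'
  haveI : Module.Flat Bj L' := by
    let C'' := Localization.Away g₁
    have hle : Submonoid.powers g₁ ≤ Q'₀.primeCompl := Submonoid.powers_le.mpr hg₁'
    letI : Algebra C'' L' := IsLocalization.localizationAlgebraOfSubmonoidLe C'' L' (Submonoid.powers g₁) Q'₀.primeCompl hle
    haveI : IsScalarTower C' C'' L' :=
      IsLocalization.localization_isScalarTower_of_submonoid_le C'' L' (Submonoid.powers g₁) Q'₀.primeCompl hle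
    haveI : IsScalarTower Bj C'' L' := IsScalarTower.of_algebraMap_eq (R := Bj) (S := C'') (A := L') fun x => by
      rw [IsScalarTower.algebraMap_apply Bj C' C'', ← IsScalarTower.algebraMap_apply C' C'' L',
        ← IsScalarTower.algebraMap_apply Bj C' L']
    haveI : Module.Flat C'' L' :=
      (Module.flat_iff_of_isLocalization C'' (Submonoid.powers g₁) L').mpr (IsLocalization.flat _ Q'₀.primeCompl)
    exact Module.Flat.trans Bj C'' L'
  haveI : IsScalarTower Bj B L' := .of_algebraMap_eq fun x => by
    rw [IsScalarTower.algebraMap_apply Bj C' L', IsScalarTower.algebraMap_apply Bj B C',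
      ← IsScalarTower.algebraMap_apply B C' L']
  haveI hBL : Module.Flat B L' := flat_of_flat_of_surjective hsurj
  haveI : Module.Flat B (Localization.AtPrime Q') := Module.Flat.of_linearEquiv (ε'.restrictScalars B).toLinearEquiv
  haveI : Module.Flat R (Localization.AtPrime Q') := Module.Flat.of_linearEquiv (ε'.restrictScalars R).toLinearEquiv
  exact ⟨inferInstance, inferInstance, flat_below_of_flat Q'⟩

end Groth.Agent.FlatMor66
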