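import Groth.Agent.FlatMor66.BCStalk
import Groth.Agent.FlatMor66.FibCritScheme
import Groth.Agent.FlatMor66.DeformFP
import Groth.Agent.FlatMor68.FibreFree
import Groth.Agent.S1483
import Groth.Agent.Open62.FlatLocus
import Groth.Agent.SchBasics.FPCancel

/-!
The locus where a module flat over the base is flat over an intermediate scheme, and base change.
-/

set_option autoImplicit false
set_option linter.style.haveILetI false
set_option backward.isDefEq.respectTransparency.types false
universe u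

open AlgebraicGeometry CategoryTheory Limits IsLocalRing TensorProduct

noncomputable section

namespace Groth.Agent.FlatMor66

/-- Flatness of the restriction to a fibre, read on the quotient of the module. -/
theorem flat_quot_of_flat_tensor {B C CB CC M : Type u} [CommRing B] [CommRing C] [CommRing CB] [CommRing CC]
    [Algebra B C] [Algebra B CB] [Algebra C CC] [Algebra CB CC] [AddCommGroup M] [Module B M] [Module C M]
    [IsScalarTower B C M] (J : Ideal B) (hB : Function.Surjective (algebraMap B CB))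
    (hC : Function.Surjective (algebraMap C CC)) (kB : RingHom.ker (algebraMap B CB) = J)
    (kC : RingHom.ker (algebraMap C CC) = J.map (algebraMap B C))
    (sq : ∀ b, algebraMap CB CC (algebraMap B CB b) = algebraMap C CC (algebraMap B C b))
    (h : Module.Flat CB (CC ⊗[C] M)) :
    Module.Flat (B ⧸ J) (M ⧸ (J • (⊤ : Submodule B M))) := by
  haveI : Module.Flat CB (CC ⊗[C] M) := h
  let eB : B ⧸ J ≃+* CB := (Ideal.quotEquivOfEq kB.symm).trans (RingHom.quotientKerEquivOfSurjective hB)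
  letI : Algebra (B ⧸ J) CB := eB.toRingHom.toAlgebra
  haveI : Module.Flat (B ⧸ J) CB := RingHom.Flat.of_bijective (f := eB.toRingHom) eB.bijective
  letI : Module (B ⧸ J) (CC ⊗[C] M) := Module.compHom _ eB.toRingHom
  haveI : IsScalarTower (B ⧸ J) CB (CC ⊗[C] M) := .of_algebraMap_smul fun a n => rfl
  haveI : Module.Flat (B ⧸ J) (CC ⊗[C] M) := Module.Flat.trans (B ⧸ J) CB _
  let eC : (C ⧸ J.map (algebraMap B C)) ≃ₐ[C] CC := (Ideal.quotientEquivAlgOfEq C kC.symm).trans
    (Ideal.quotientKerAlgEquivOfSurjective (f := Algebra.ofId C CC) hC)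
  let eM : (M ⧸ ((J.map (algebraMap B C)) • (⊤ : Submodule C M))) ≃ₗ[C] CC ⊗[C] M :=
    (quotTensorEquivQuotSMul M (J.map (algebraMap B C))).symm ≪≫ₗ
      TensorProduct.congr eC.toLinearEquiv (LinearEquiv.refl C M)
  let q : M →+ CC ⊗[C] M := (eM.toLinearMap ∘ₗ ((J.map (algebraMap B C)) • (⊤ : Submodule C M)).mkQ).toAddMonoidHom
  have hsub : ∀ m : M, m ∈ J.map (algebraMap B C) • (⊤ : Submodule C M) ↔ m ∈ J • (⊤ : Submodule B M) := fun m =>
    ⟨FlatCrit65.mem_smul_restrictScalars J, fun hm => FlatCrit65.smul_top_restrictScalars_le J hm⟩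
  let qB : M →ₗ[B] M ⧸ (J • (⊤ : Submodule B M)) := (J • (⊤ : Submodule B M)).mkQ
  have hq : ∀ m, q m = 0 ↔ m ∈ J • (⊤ : Submodule B M) := fun m => by
    rw [← hsub]
    show eM (Submodule.Quotient.mk m) = 0 ↔ _
    rw [LinearEquiv.map_eq_zero_iff, Submodule.Quotient.mk_eq_zero]
  let qbar : (M ⧸ (J • (⊤ : Submodule B M))) →+ CC ⊗[C] M :=
    QuotientAddGroup.lift (J • (⊤ : Submodule B M)).toAddSubgroup q fun m hm => (hq m).mpr hm
  have hbij : Function.Bijective qbar := by
    refine ⟨(injective_iff_map_eq_zero qbar).mpr fun z hz => ?_, fun n => ?_⟩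
    · obtain ⟨m, rfl⟩ := Submodule.Quotient.mk_surjective _ z
      exact (Submodule.Quotient.mk_eq_zero _).mpr ((hq m).mp hz)
    · obtain ⟨z, rfl⟩ := eM.surjective n
      obtain ⟨m, rfl⟩ := Submodule.Quotient.mk_surjective _ z
      exact ⟨Submodule.Quotient.mk m, rfl⟩
  refine Module.Flat.of_linearEquiv (M := CC ⊗[C] M) (LinearEquiv.ofBijective { qbar with map_smul' := ?_ } hbij)
  intro a z
  obtain ⟨b, rfl⟩ := Ideal.Quotient.mk_surjective a
  obtain ⟨m, rfl⟩ := Submodule.Quotient.mk_surjective _ z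
  show q (b • m) = algebraMap B CB b • q m
  rw [← algebraMap_smul CC (algebraMap B CB b) (q m)]
  rw [sq, algebraMap_smul CC (algebraMap B C b) (q m), ← algebraMap_smul C b m]
  show eM (Submodule.Quotient.mk (algebraMap B C b • m)) = algebraMap B C b • eM (Submodule.Quotient.mk m)
  rw [Submodule.Quotient.mk_smul, map_smul]

/-- Flatness at a point is invariant under isomorphism of modules. -/
theorem isFlatOverAt_of_iso {X S : Scheme.{u}} (f : X ⟶ S) {F G : X.Modules} (e : F ≅ G) (x : X)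
    (h : FlatMod.IsFlatOverAt f F x) : FlatMod.IsFlatOverAt f G x := by
  letI := FlatMod.moduleStalkOver f F x
  letI := FlatMod.moduleStalkOver f G x
  let E := FlatMor68.FibreFree.stalkEquivOfIso e x
  haveI : Module.Flat (S.presheaf.stalk (f.base x)) (F.presheaf.stalk x) := h
  exact Module.Flat.of_linearEquiv
    (M := F.presheaf.stalk x) (N := G.presheaf.stalk x)
    { E.toAddEquiv.symm with map_smul' := fun r m => E.symm.map_smul ((f.stalkMap x).hom r) m }

variable {X Y S : Scheme.{u}} (f : X ⟶ Y) (g : Y ⟶ S)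

/-- A module flat on a fibre at a point gives the hypothesis of the fibrewise criterion. -/
theorem flat_quot_of_flat_fibre (F : X.Modules) (hF : Coh.IsQCoh F) (s : S) (z : (f ≫ g).fiber s)
    (h : FlatMod.IsFlatOverAt (MoreMor.fiberMap f g s) ((Scheme.Modules.pullback ((f ≫ g).fiberι s)).obj F) z) :
    letI := FlatMod.moduleStalkOver f F ((f ≫ g).fiberι s z)
    Module.Flat (↑(Y.presheaf.stalk (f ((f ≫ g).fiberι s z))) ⧸ Ideal.map (g.stalkMap (f ((f ≫ g).fiberι s z))).hom
        (maximalIdeal ↑(S.presheaf.stalk (g (f ((f ≫ g).fiberι s z))))))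
      (↑(F.presheaf.stalk ((f ≫ g).fiberι s z)) ⧸ (Ideal.map (g.stalkMap (f ((f ≫ g).fiberι s z))).hom
        (maximalIdeal ↑(S.presheaf.stalk (g (f ((f ≫ g).fiberι s z))))) •
          (⊤ : Submodule ↑(Y.presheaf.stalk (f ((f ≫ g).fiberι s z))) ↑(F.presheaf.stalk ((f ≫ g).fiberι s z))))) := by
  haveI : F.IsQuasicoherent := hF
  letI := FlatMod.moduleStalkOver f F ((f ≫ g).fiberι s z)
  obtain ⟨cB, hcB, hcC, kB, kC, sq⟩ := exists_fibre_square f g s z
  obtain ⟨E⟩ := FlatMor68.PullbackStalk.nonempty_stalkPullbackEquiv ((f ≫ g).fiberι s) F z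
  let φ := MoreMor.fiberMap f g s
  let CB := (g.fiber s).presheaf.stalk (φ z)
  let CC := ((f ≫ g).fiber s).presheaf.stalk z
  let C := X.presheaf.stalk ((f ≫ g).fiberι s z)
  letI : Algebra (Y.presheaf.stalk (f ((f ≫ g).fiberι s z))) C := (f.stalkMap ((f ≫ g).fiberι s z)).hom.toAlgebra
  letI : Algebra (Y.presheaf.stalk (f ((f ≫ g).fiberι s z))) CB := cB.toAlgebra
  letI iC : Algebra C CC := (((f ≫ g).fiberι s).stalkMap z).hom.toAlgebra
  letI : Algebra CB CC := (φ.stalkMap z).hom.toAlgebra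
  haveI : IsScalarTower (Y.presheaf.stalk (f ((f ≫ g).fiberι s z))) C (F.presheaf.stalk ((f ≫ g).fiberι s z)) :=
    .of_algebraMap_smul fun r m => rfl
  have hkC : RingHom.ker (algebraMap C CC) = ((maximalIdeal (S.presheaf.stalk (g (f ((f ≫ g).fiberι s z))))).map
      (g.stalkMap (f ((f ≫ g).fiberι s z))).hom).map (algebraMap (Y.presheaf.stalk (f ((f ≫ g).fiberι s z))) C) := by
    rw [Ideal.map_map]
    exact kC
  have hsq : ∀ b, algebraMap CB CC (algebraMap (Y.presheaf.stalk (f ((f ≫ g).fiberι s z))) CB b) =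
      algebraMap C CC (algebraMap (Y.presheaf.stalk (f ((f ≫ g).fiberι s z))) C b) := fun b => by
    exact DFunLike.congr_fun sq b
  refine flat_quot_of_flat_tensor (CB := CB) (CC := CC) (C := C) _ hcB
    (FlatMor68.FibreStalk.fiberι_stalkMap_surjective (f ≫ g) s z) kB hkC hsq ?_
  letI : Module CB (((Scheme.Modules.pullback ((f ≫ g).fiberι s)).obj F).presheaf.stalk z) :=
    FlatMod.moduleStalkOver φ _ z
  haveI : Module.Flat CB (((Scheme.Modules.pullback ((f ≫ g).fiberι s)).obj F).presheaf.stalk z) := h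
  have hlin : ∀ (r : CB) (m : CC ⊗[C] F.presheaf.stalk ((f ≫ g).fiberι s z)),
      E.symm (r • m) = r • E.symm m := fun r m => by
    rw [← algebraMap_smul CC r m]
    exact E.symm.map_smul ((φ.stalkMap z).hom r) m
  exact Module.Flat.of_linearEquiv (M := ((Scheme.Modules.pullback ((f ≫ g).fiberι s)).obj F).presheaf.stalk z)
    { E.symm.toAddEquiv with map_smul' := hlin }

/-- A zero stalk is flat. -/
theorem isFlatOverAt_of_subsingleton (F : X.Modules) (x : X) (h : Subsingleton (F.presheaf.stalk x)) :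
    FlatMod.IsFlatOverAt f F x := by
  letI := FlatMod.moduleStalkOver f F x
  exact (inferInstance : Module.Flat (Y.presheaf.stalk (f.base x)) (F.presheaf.stalk x))

/-- The relative flat locus of a module flat over the base commutes with base change. -/
theorem relFlatLocus_baseChange [LocallyOfFinitePresentation (f ≫ g)] [LocallyOfFiniteType g]
    (F : X.Modules) (hq : Coh.IsQCoh F) (hfp : CohB1.IsFP F) (hfl : FlatMod.IsFlatOver (f ≫ g) F)
    {X' Y' S' : Scheme.{u}} (h : S' ⟶ S) (gY : Y' ⟶ Y) (g' : Y' ⟶ S') (hY : IsPullback gY g' g h)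
    (gX : X' ⟶ X) (f' : X' ⟶ Y') (hX : IsPullback gX (f' ≫ g') (f ≫ g) h) (w : gX ≫ f = f' ≫ gY) :
    {x' : ↑X' | FlatMod.IsFlatOverAt f' ((Scheme.Modules.pullback gX).obj F) x'} =
      gX ⁻¹' {x : ↑X | FlatMod.IsFlatOverAt f F x} := by
  haveI : F.IsQuasicoherent := hq
  have hc : IsPullback gX f' f gY := IsPullback.of_bot hX w hY
  ext x'
  refine ⟨fun h' => ?_, fun h' => isFlatOverAt_baseChange hc F hq x' h'⟩
  rcases subsingleton_or_nontrivial (F.presheaf.stalk (gX x')) with hs | hn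
  · exact isFlatOverAt_of_subsingleton f F _ hs
  let s' : S' := (f' ≫ g') x'
  obtain ⟨eX, heX, hsX⟩ := ConsProp93.exists_isPullback_fiber hX s'
  obtain ⟨eY, heY, hsY⟩ := ConsProp93.exists_isPullback_fiber hY s'
  let φ' := MoreMor.fiberMap f' g' s'
  let φ := MoreMor.fiberMap f g (h s')
  have e1 : φ' ≫ g'.fiberι s' = (f' ≫ g').fiberι s' ≫ f' := pullback.lift_fst _ _ _
  have e2 : φ ≫ g.fiberι (h s') = (f ≫ g).fiberι (h s') ≫ f := pullback.lift_fst _ _ _
  have e3 : φ' ≫ g'.fiberToSpecResidueField s' = (f' ≫ g').fiberToSpecResidueField s' := pullback.lift_snd _ _ _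
  have e4 : φ ≫ g.fiberToSpecResidueField (h s') = (f ≫ g).fiberToSpecResidueField (h s') := pullback.lift_snd _ _ _
  have hw : eX ≫ φ = φ' ≫ eY := by
    refine pullback.hom_ext ?_ ?_
    · show (eX ≫ φ) ≫ g.fiberι (h s') = (φ' ≫ eY) ≫ g.fiberι (h s')
      rw [Category.assoc, Category.assoc, e2, heY, reassoc_of% heX, reassoc_of% e1, w]
    · show (eX ≫ φ) ≫ g.fiberToSpecResidueField (h s') = (φ' ≫ eY) ≫ g.fiberToSpecResidueField (h s')
      rw [Category.assoc, Category.assoc, e4, hsX.w, hsY.w, reassoc_of% e3]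
  have hsq : IsPullback eX φ' φ eY := IsPullback.of_bot (by rw [e3, e4]; exact hsX) hw hsY
  haveI : Flat (Spec.map (h.residueFieldMap s')) := by
    rw [HasRingHomProperty.Spec_iff (P := @Flat)]
    letI := (h.residueFieldMap s').hom.toAlgebra
    exact (inferInstance : Module.Flat (S.residueField (h s')) (S'.residueField s'))
  haveI : Flat eY := MorphismProperty.of_isPullback hsY.flip inferInstance
  let z' : (f' ≫ g').fiber s' := (f' ≫ g').asFiber x'
  have hz' : (f' ≫ g').fiberι s' z' = x' := (f' ≫ g').fiberι_asFiber x'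
  have hz : (f ≫ g).fiberι (h s') (eX z') = gX x' := by
    rw [← Scheme.Hom.comp_apply, heX, Scheme.Hom.comp_apply, hz']
  let F' := (Scheme.Modules.pullback gX).obj F
  have hF' : Coh.IsQCoh F' := QCPull72.isQuasicoherent_pullback gX F
  have h1 : FlatMod.IsFlatOverAt φ' ((Scheme.Modules.pullback ((f' ≫ g').fiberι s')).obj F') z' :=
    isFlatOverAt_baseChange (ConsProp93.isPullback_fiberMap f' g' s') F' hF' z' (hz'.symm ▸ h')
  let Fs := (Scheme.Modules.pullback ((f ≫ g).fiberι (h s'))).obj F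
  have hFs : Coh.IsQCoh Fs := QCPull72.isQuasicoherent_pullback _ F
  let I : (Scheme.Modules.pullback ((f' ≫ g').fiberι s')).obj F' ≅ (Scheme.Modules.pullback eX).obj Fs :=
    (Scheme.Modules.pullbackComp _ _).app F ≪≫ (Scheme.Modules.pullbackCongr heX.symm).app F ≪≫
      ((Scheme.Modules.pullbackComp eX ((f ≫ g).fiberι (h s'))).app F).symm
  have h2 : FlatMod.IsFlatOverAt φ Fs (eX z') :=
    isFlatOverAt_of_baseChange hsq Fs hFs z' (Flat.stalkMap eY _) (isFlatOverAt_of_iso φ' I z' h1)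
  have h3 := flat_quot_of_flat_fibre f g F hq (h s') (eX z') h2
  haveI : Nontrivial (F.presheaf.stalk ((f ≫ g).fiberι (h s') (eX z'))) := hz.symm ▸ hn
  have h4 := ((S1483.result f g F hq hfp ((f ≫ g).fiberι (h s') (eX z')) inferInstance).mp ⟨hfl _, h3⟩).2
  show FlatMod.IsFlatOverAt f F (gX x')
  exact hz ▸ h4

/-- Openness of the relative flat locus. -/
theorem isOpen_relFlatLocus [LocallyOfFinitePresentation (f ≫ g)] [LocallyOfFiniteType g]
    (F : X.Modules) (hq : Coh.IsQCoh F) (hfp : CohB1.IsFP F) : IsOpen {x : ↑X | FlatMod.IsFlatOverAt f F x} := by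
  haveI := SchBasics.locallyOfFinitePresentation_of_comp f g
  exact Open62.isOpen_flatLocus f F hq hfp

end Groth.Agent.FlatMor66
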