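import Groth.Agent.FlatMor66.IndQA

/-! Ind-quasi-affine morphisms: reduction to basic opens. -/

set_option autoImplicit false
universe u

open AlgebraicGeometry CategoryTheory Limits TopologicalSpace

namespace Groth.Agent.FlatMor66

variable {X Y : Scheme.{u}}

theorem qa_of_le {U W : X.Opens} (h : W ≤ U) (hU : Scheme.IsQuasiAffine U.toScheme)
    (hW : IsCompact (W : Set X)) : Scheme.IsQuasiAffine W.toScheme := by
  have := compactSpace_toScheme hW
  exact Scheme.IsQuasiAffine.of_isImmersion (X.homOfLE h)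

theorem qa_opens_of_forall_exists (W : X.Opens) (hW : IsCompact (W : Set X))
    (H : ∀ x ∈ W, ∃ r : Γ(X, W), x ∈ X.basicOpen r ∧ Scheme.IsQuasiAffine (X.basicOpen r).toScheme) :
    Scheme.IsQuasiAffine W.toScheme := by
  have := compactSpace_toScheme hW
  refine qa_of_basicOpens _ fun x => ?_
  obtain ⟨r, hxr, hr⟩ := H x.1 x.2
  have e : W.ι ''ᵁ (W.toScheme.basicOpen (W.topIso.inv r)) = X.basicOpen r := by
    rw [Scheme.image_basicOpen, W.ι_appIso]
    change X.basicOpen ((X.presheaf.map (eqToHom W.ι_image_top).op) r) = X.basicOpen r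
    exact Scheme.basicOpen_res_eq _ _ _
  refine ⟨W.topIso.inv r, ?_, ?_⟩
  · rw [← e] at hxr
    obtain ⟨y, hy, hyx⟩ := hxr
    rwa [show x = y from (W.ι.isOpenEmbedding.injective hyx).symm]
  · rw [qa_image_ι_iff, e]
    exact hr

/-- A compact open over an affine `V` whose parts over basic opens covering `V` are quasi-affine is quasi-affine. -/
theorem qa_opens_of_over_affine (f : X ⟶ Y) (V : Y.Opens) (hV : IsAffineOpen V) (W : X.Opens)
    (hW : IsCompact (W : Set X)) (hWV : W ≤ f ⁻¹ᵁ V)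
    (H : ∀ y ∈ V, ∃ U : Y.Opens, y ∈ U ∧ ∀ V' : Y.Opens, V' ≤ U → IsAffineOpen V' →
      ∀ W' : X.Opens, W' ≤ f ⁻¹ᵁ V' → W' ≤ W → IsCompact (W' : Set X) → Scheme.IsQuasiAffine W'.toScheme) :
    Scheme.IsQuasiAffine W.toScheme := by
  refine qa_opens_of_forall_exists W hW fun x hx => ?_
  obtain ⟨U, hyU, hU⟩ := H (f x) (hWV hx)
  obtain ⟨r, hrU, hxr⟩ := hV.exists_basicOpen_le (V := U) ⟨f x, hyU⟩ (hWV hx)
  have e : X.basicOpen (f.appLE V W hWV r) = W ⊓ f ⁻¹ᵁ Y.basicOpen r := by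
    rw [Scheme.Hom.appLE, CommRingCat.comp_apply, Scheme.basicOpen_res, Scheme.preimage_basicOpen]
  refine ⟨f.appLE V W hWV r, ?_, ?_⟩
  · rw [e]; exact ⟨hx, hxr⟩
  · exact hU _ hrU (hV.basicOpen r) _ (by rw [e]; exact inf_le_right) (X.basicOpen_le _)
      (isCompact_basicOpen X hW _)

theorem exists_compact_opens_between {U : X.Opens} {K : Set X} (hK : IsCompact K) (h : K ⊆ U) :
    ∃ W : X.Opens, IsCompact (W : Set X) ∧ K ⊆ W ∧ W ≤ U := by
  obtain ⟨s, hs, hKs⟩ : ∃ s : Finset {V : X.Opens // IsAffineOpen V ∧ V ≤ U}, True ∧ K ⊆ ⋃ V ∈ s, (V.1 : Set X) := by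
    obtain ⟨s, hs⟩ := hK.elim_finite_subcover (fun V : {V : X.Opens // IsAffineOpen V ∧ V ≤ U} => (V.1 : Set X))
      (fun V => V.1.2) (fun x hx => by
        obtain ⟨_, ⟨V, hV, rfl⟩, hxV, hVU⟩ := X.isBasis_affineOpens.exists_subset_of_mem_open (h hx) U.2
        exact Set.mem_iUnion.mpr ⟨⟨V, hV, hVU⟩, hxV⟩)
    exact ⟨s, trivial, hs⟩
  refine ⟨⟨⋃ V ∈ (↑s : Set {V : X.Opens // IsAffineOpen V ∧ V ≤ U}), (V.1 : Set X), isOpen_biUnion fun V _ => V.1.2⟩, ?_, by simpa using hKs, ?_⟩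
  · exact s.finite_toSet.isCompact_biUnion fun V _ => V.2.1.isCompact
  · exact Set.iUnion₂_subset fun V _ => V.2.2

end Groth.Agent.FlatMor66
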