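import Groth.Agent.FlatMor66.Degree
import Groth.Prelude.Def_Mor2
import Mathlib.Topology.Spectral.ConstructibleTopology

/-! Stratification by fibre degree. -/

set_option autoImplicit false
universe u

open AlgebraicGeometry CategoryTheory Limits IsLocalRing Topology

namespace Groth.Agent.FlatMor66

variable {X Y T : Scheme.{u}}

lemma fibreIntegral_nonneg (f : X ⟶ Y) (w : X → ℤ) (hw : ∀ x, 0 ≤ w x) (y : Y) :
    0 ≤ MoreMor.fibreIntegral f w y :=
  finsum_nonneg fun u => mul_nonneg (hw _) (Int.natCast_nonneg _)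

lemma exists_compact_open_superset {s : Set X} (hs : s.Finite) : ∃ V : X.Opens, IsCompact (V : Set X) ∧ s ⊆ V := by
  have h : ∀ x : X, ∃ V : X.Opens, IsCompact (V : Set X) ∧ x ∈ V := fun x => by
    obtain ⟨_, ⟨V, hV, rfl⟩, hxV, -⟩ := X.isBasis_affineOpens.exists_subset_of_mem_open (Set.mem_univ x) isOpen_univ
    exact ⟨V, IsAffineOpen.isCompact hV, hxV⟩
  choose V hV hxV using h
  have := hs.to_subtype
  refine ⟨⨆ x : s, V x, ?_, fun x hx => TopologicalSpace.Opens.mem_iSup.mpr ⟨⟨x, hx⟩, hxV x⟩⟩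
  rw [TopologicalSpace.Opens.coe_iSup]
  exact isCompact_iUnion fun x => hV _

/-- The fibre degree restricted to an open. -/
noncomputable def degOn (f : X ⟶ Y) (V : X.Opens) : Y → ℤ :=
  MoreMor.fibreIntegral (V.ι ≫ f) (wgt (V.ι ≫ f))

variable (f : X ⟶ Y) [LocallyQuasiFinite f] [LocallyOfFiniteType f] [IsSeparated f] [Flat f]
  [LocallyOfFinitePresentation f]

theorem isOpen_degOn_ge (V : X.Opens) (hV : IsCompact (V : Set X)) (d : ℕ) :
    IsOpen {y : Y | (d : ℤ) ≤ degOn f V y} := by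
  have : CompactSpace V.toScheme := isCompact_iff_compactSpace.mp hV
  have hl := lowerSemicontinuous_fibreIntegral (V.ι ≫ f) (fun y => finite_fibre_of_compact (V.ι ≫ f) y)
    (wgt (V.ι ≫ f)) (isWeighting_wgt _) (wgt_pos _)
  have : {y : Y | (d : ℤ) ≤ degOn f V y} = degOn f V ⁻¹' Set.Ioi ((d : ℤ) - 1) := by
    ext y; simp only [Set.mem_setOf_eq, Set.mem_preimage, Set.mem_Ioi]; omega
  rw [this]
  exact isOpen_iff_mem_nhds.mpr fun y hy => hl y _ hy

omit [IsSeparated f] [Flat f] [LocallyOfFinitePresentation f] in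
lemma degOn_eq_gSum (V : X.Opens) (hV : IsCompact (V : Set X)) {K : Type u} [Field K] [IsAlgClosed K]
    (p : Spec (CommRingCat.of K) ⟶ Y) :
    Finite (GPt (V.ι ≫ f) p) ∧
      degOn f V (gpt p) = ∑ᶠ q : GPt (V.ι ≫ f) p, wgt f (gpt (q.1 ≫ V.ι)) := by
  have : CompactSpace V.toScheme := isCompact_iff_compactSpace.mp hV
  refine ⟨finite_GPt _ p (finite_fibre_of_compact _ _), ?_⟩
  rw [degOn, fibreIntegral_eq_gSum _ _ p (finite_fibre_of_compact _ _), gSum]
  exact finsum_congr fun q => by rw [wgt_etale_left, gpt_comp]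

omit [IsSeparated f] [Flat f] [LocallyOfFinitePresentation f] in
theorem degOn_le (V : X.Opens) (hV : IsCompact (V : Set X)) (y : Y) (hfin : (f ⁻¹' {y}).Finite) :
    degOn f V y ≤ MoreMor.fibreIntegral f (wgt f) y ∧
      (f ⁻¹' {y} ⊆ V → degOn f V y = MoreMor.fibreIntegral f (wgt f) y) := by
  obtain ⟨K, _, _, p, rfl⟩ := exists_gpt y
  obtain ⟨h1, h2⟩ := degOn_eq_gSum f V hV p
  have := finite_GPt f p hfin
  have := Fintype.ofFinite (GPt f p)
  have := Fintype.ofFinite (GPt (V.ι ≫ f) p)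
  let e : GPt (V.ι ≫ f) p → GPt f p := fun q => ⟨q.1 ≫ V.ι, by rw [Category.assoc]; exact q.2⟩
  have he : Function.Injective e := fun a b h => Subtype.ext ((cancel_mono V.ι).mp (congrArg Subtype.val h))
  have h3 : degOn f V (gpt p) = ∑ q ∈ Finset.univ.map ⟨e, he⟩, wgt f (gpt q.1) := by
    rw [h2, finsum_eq_sum_of_fintype, Finset.sum_map]; rfl
  rw [h3, fibreIntegral_eq_gSum f _ p hfin, gSum, finsum_eq_sum_of_fintype]
  refine ⟨Finset.sum_le_univ_sum_of_nonneg fun q => (wgt_pos f _).le, fun hV' => ?_⟩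
  congr 1
  refine Finset.eq_univ_of_forall fun q => Finset.mem_map.mpr ?_
  have hsub : Set.range q.1 ⊆ Set.range V.ι := by
    rintro _ ⟨z, rfl⟩
    rw [Scheme.Opens.range_ι, show z = closedPoint K from Subsingleton.elim _ _]
    exact hV' (show f (gpt q.1) = gpt p by rw [← gpt_comp, q.2])
  exact ⟨⟨IsOpenImmersion.lift V.ι q.1 hsub, by rw [IsOpenImmersion.lift_fac_assoc, q.2]⟩, Finset.mem_univ _,
    Subtype.ext (IsOpenImmersion.lift_fac _ _ _)⟩

omit [IsSeparated f] [Flat f] [LocallyOfFinitePresentation f] in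
theorem exists_degOn_ge (y : Y) (hinf : ¬ (f ⁻¹' {y}).Finite) (d : ℕ) :
    ∃ V : X.Opens, IsCompact (V : Set X) ∧ (d : ℤ) ≤ degOn f V y := by
  obtain ⟨s, hs, hsc⟩ := (Set.not_finite.mp hinf).exists_subset_card_eq d
  obtain ⟨V, hV, hsV⟩ := exists_compact_open_superset (X := X) s.finite_toSet
  refine ⟨V, hV, ?_⟩
  obtain ⟨K, _, _, p, rfl⟩ := exists_gpt y
  obtain ⟨h1, h2⟩ := degOn_eq_gSum f V hV p
  have := Fintype.ofFinite (GPt (V.ι ≫ f) p)
  have hlift : ∀ x : s, ∃ q : GPt (V.ι ≫ f) p, V.ι (gpt q.1) = x.1 := fun x => by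
    obtain ⟨q, hq⟩ := exists_lift (V.ι ≫ f) p ⟨x.1, hsV x.2⟩ ((Scheme.Hom.comp_apply _ _ _).trans (hs x.2))
    exact ⟨q, by rw [hq]; rfl⟩
  choose q hq using hlift
  have hinj : Function.Injective q := fun a b h => Subtype.ext (by rw [← hq a, h, hq b])
  rw [h2, finsum_eq_sum_of_fintype, ← hsc]
  refine le_trans ?_ (Finset.card_nsmul_le_sum Finset.univ _ 1 fun j _ => (wgt_pos f _ : _))
  simp only [nsmul_eq_mul, mul_one, Finset.card_univ, Nat.cast_le]
  exact (Fintype.card_coe s).symm.le.trans (Fintype.card_le_of_injective q hinj)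

theorem fieldRank_ge_iff_exists_degOn {K : Type u} [Field K] (g : Spec (CommRingCat.of K) ⟶ Y) (d : ℕ) :
    (d : Cardinal.{u}) ≤ fieldRank f g ↔ ∃ V : X.Opens, IsCompact (V : Set X) ∧ (d : ℤ) ≤ degOn f V (gpt g) := by
  by_cases hfin : (f ⁻¹' {gpt g}).Finite
  · rw [fieldRank_le_iff f g hfin]
    refine ⟨fun h => ?_, fun ⟨V, hV, h⟩ => h.trans (degOn_le f V hV _ hfin).1⟩
    obtain ⟨V, hV, hsV⟩ := exists_compact_open_superset (X := X) hfin
    exact ⟨V, hV, h.trans ((degOn_le f V hV _ hfin).2 hsV).ge⟩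
  · exact iff_of_true (natCast_le_fieldRank_of_infinite f g hfin d) (exists_degOn_ge f _ hfin d)

theorem exists_degree_opens :
    ∃ U : ℕ → Y.Opens, Antitone U ∧ U 0 = ⊤ ∧ ∀ (K : Type u) [Field K] (g : Spec (CommRingCat.of K) ⟶ Y) (d : ℕ),
      Set.range ⇑g ⊆ (U d : Set Y) ↔ (d : Cardinal.{u}) ≤ fieldRank f g := by
  refine ⟨fun d => ⟨⋃ V : {V : X.Opens // IsCompact (V : Set X)}, {y | (d : ℤ) ≤ degOn f V.1 y},
    isOpen_iUnion fun V => isOpen_degOn_ge f V.1 V.2 d⟩, ?_, ?_, ?_⟩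
  · intro a b hab y hy
    obtain ⟨V, hV⟩ := Set.mem_iUnion.mp hy
    exact Set.mem_iUnion.mpr ⟨V, (Int.ofNat_le.mpr hab).trans hV⟩
  · refine top_le_iff.mp fun y _ => Set.mem_iUnion.mpr ⟨⟨⊥, by simp⟩, ?_⟩
    exact fibreIntegral_nonneg _ _ (fun x => (wgt_pos _ x).le) y
  · intro K _ g d
    rw [fieldRank_ge_iff_exists_degOn]
    constructor
    · intro h
      obtain ⟨V, hV⟩ := Set.mem_iUnion.mp (h ⟨closedPoint K, rfl⟩)
      exact ⟨V.1, V.2, hV⟩
    · rintro ⟨V, hV, h⟩ _ ⟨z, rfl⟩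
      rw [show z = closedPoint K from Subsingleton.elim (α := PrimeSpectrum K) _ _]
      exact Set.mem_iUnion.mpr ⟨⟨V, hV⟩, h⟩

theorem isFinLocFreeOfDeg_iff (hfin : ∀ y : Y, (f ⁻¹' {y}).Finite) (g : T ⟶ Y) (r : ℕ) :
    Mor2.IsFinLocFreeOfDeg r (pullback.snd f g) ↔
      ∀ t : T, (MoreMor.fibreIntegral f (wgt f) (g t)).toNat = r := by
  let f' := pullback.snd f g
  have key : ∀ t : T, ∃ (K : Type u) (_ : Field K) (_ : IsAlgClosed K) (p : Spec (CommRingCat.of K) ⟶ T),
      gpt p = t ∧ IsFinite (pullback.snd f (p ≫ g)) ∧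
        ((pullback.snd f (p ≫ g)).finrank (closedPoint K) : ℤ) = MoreMor.fibreIntegral f (wgt f) (g t) := by
    intro t
    obtain ⟨K, _, _, p, rfl⟩ := exists_gpt t
    obtain ⟨h1, h2⟩ := isFinite_finrank_geometric f (p ≫ g) (hfin _)
    exact ⟨K, _, ‹_›, p, rfl, h1, h2.trans (by rw [gpt_comp])⟩
  constructor
  · rintro ⟨⟨hf1, hf2, hf3⟩, hr⟩ t
    obtain ⟨K, _, _, p, rfl, h1, h2⟩ := key t
    rw [← h2, Scheme.Hom.finrank_of_isPullback _ _ f' p (isPullback_pullMap f g p), hr]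
    rfl
  · intro h
    have hfin' : ∀ t : T, (f' ⁻¹' {t}).Finite := fun t => by
      obtain ⟨K, _, _, p, rfl, h1, -⟩ := key t
      have hc : CompactSpace ↑(pullback f (p ≫ g)) :=
        QuasiCompact.compactSpace_of_compactSpace (pullback.snd f (p ≫ g))
      have hf : (pullback.snd f (p ≫ g) ⁻¹' {closedPoint K}).Finite :=
        (pullback.snd f (p ≫ g)).finite_preimage_singleton _
      refine (hf.image (pullMap f g p)).subset fun x hx => ?_
      obtain ⟨z, hz1, hz2⟩ := Scheme.exists_preimage_of_isPullback (isPullback_pullMap f g p) x (closedPoint K) hx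
      exact ⟨z, hz2, hz1⟩
    have hF : ∀ t : T, MoreMor.fibreIntegral f' (wgt f') t = r := fun t => by
      obtain ⟨K, _, _, p, rfl, h1, h2⟩ := key t
      obtain ⟨h3, h4⟩ := isFinite_finrank_geometric f' p (hfin' _)
      rw [← h4, ← Scheme.Hom.finrank_comp_left_of_isIso (isPullback_pullMap f g p).isoPullback.hom,
        IsPullback.isoPullback_hom_snd, h2]
      have h5 := h (gpt p)
      have h6 := fibreIntegral_nonneg f (wgt f) (fun x => (wgt_pos f x).le) (g (gpt p))
      omega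
    obtain ⟨hopen, hfin₂⟩ := isOpen_isFinite_max_locus f' hfin' (wgt f') (isWeighting_wgt f') (wgt_pos f') r
      (fun t => (hF t).le)
    have : IsFinite f' := by
      rw [IsZariskiLocalAtTarget.iff_of_iSup_eq_top (P := @IsFinite)
        (fun _ : Unit => (⟨{t : T | MoreMor.fibreIntegral f' (wgt f') t = r}, hopen⟩ : T.Opens))]
      · exact fun _ => hfin₂
      · exact top_le_iff.mp fun t _ => TopologicalSpace.Opens.mem_iSup.mpr ⟨(), hF t⟩
    refine ⟨⟨this, inferInstance, inferInstance⟩, fun t => ?_⟩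
    have := fibreIntegral_wgt f' t
    rw [hF t] at this
    exact_mod_cast this.symm

theorem isClosed_deg_le (hfin : ∀ y : Y, (f ⁻¹' {y}).Finite) (r : ℕ) :
    IsClosed {y : Y | (MoreMor.fibreIntegral f (wgt f) y).toNat ≤ r} := by
  have hl := lowerSemicontinuous_fibreIntegral f hfin (wgt f) (isWeighting_wgt f) (wgt_pos f)
  rw [← isOpen_compl_iff]
  convert (isOpen_iff_mem_nhds.mpr fun y hy => hl y (r : ℤ) hy :
    IsOpen {y | (r : ℤ) < MoreMor.fibreIntegral f (wgt f) y}) using 1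
  ext y
  simp only [Set.mem_compl_iff, Set.mem_setOf_eq, Set.mem_preimage, Set.mem_Ioi]
  omega

lemma isCompact_of_isConstructible {α : Type*} [TopologicalSpace α] [CompactSpace α] [QuasiSeparatedSpace α]
    [PrespectralSpace α] [QuasiSober α] {s : Set α} (hs : IsConstructible s) : IsCompact s := by
  have hcont : Continuous (WithTopology.ofTopology : WithConstructibleTopology α → α) := by
    rw [continuous_def]
    intro U hU
    rw [isOpen_iff_forall_mem_open]
    intro x hx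
    obtain ⟨V, ⟨hVo, hVc⟩, hxV, hVU⟩ := (PrespectralSpace.isTopologicalBasis (X := α)).exists_subset_of_mem_open
      (show WithTopology.ofTopology x ∈ U from hx) hU
    exact ⟨_, Set.preimage_mono hVU,
      WithConstructibleTopology.isOpen_iff.mpr (hVc.isOpen_constructibleTopology_of_isOpen hVo), hxV⟩
  have hcl : IsClosed (WithTopology.ofTopology ⁻¹' s : Set (WithConstructibleTopology α)) := by
    rw [← isOpen_compl_iff, ← Set.preimage_compl]
    exact WithConstructibleTopology.isOpen_iff.mpr (isClopen_constructibleTopology_of_isConstructible hs).2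
  have h := hcl.isCompact.image hcont
  rwa [Set.image_preimage_eq s (fun a => ⟨WithTopology.toTopology _ a, rfl⟩)] at h

theorem isRetrocompact_deg_eq [QuasiCompact f] (r : ℕ) :
    IsRetrocompact {y : Y | (MoreMor.fibreIntegral f (wgt f) y).toNat = r} := by
  have heq : {y : Y | (MoreMor.fibreIntegral f (wgt f) y).toNat = r} =
      {y | MoreMor.fibreIntegral f (wgt f) y = r} := by
    ext y
    have := fibreIntegral_nonneg f (wgt f) (fun x => (wgt_pos f x).le) y
    simp only [Set.mem_setOf_eq]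
    omega
  rw [heq]
  intro U hUc hUo
  obtain ⟨t, ht, e⟩ := (isCompact_iff_finite_and_eq_biUnion_affineOpens (U := (⟨U, hUo⟩ : Y.Opens))).mp hUc
  have e' : U = ⋃ B ∈ t, (B.1 : Set Y) := by
    have := congrArg (fun O : Y.Opens => (O : Set Y)) e
    simpa using this
  rw [e', Set.inter_iUnion₂]
  refine ht.isCompact_biUnion fun B hB => ?_
  have : IsAffine (Scheme.Opens.toScheme B.1) := B.2
  have hc : IsConstructible ((Scheme.Opens.ι B.1) ⁻¹' {y | MoreMor.fibreIntegral f (wgt f) y = r}) :=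
    ((isLocallyConstructible_fibreIntegral f (wgt f) (isWeighting_wgt f) r).preimage_of_isOpenEmbedding
      (Scheme.Opens.ι B.1).isOpenEmbedding).isConstructible
  have := (isCompact_of_isConstructible hc).image (Scheme.Opens.ι B.1).continuous
  rwa [Set.image_preimage_eq_inter_range, Scheme.Opens.range_ι] at this

end Groth.Agent.FlatMor66
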