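import Groth.Agent.Var76.FibBC
import Groth.Agent.EGA73.IntegralNormal
import Groth.Agent.Stein58.Zariski
import Groth.Agent.Stein58.SteinFactor
import Groth.Prelude.Def_Pi1
import Mathlib.AlgebraicGeometry.Morphisms.Proper
import Mathlib.AlgebraicGeometry.Fiber

/-! Proper schemes over a normal base with trivial functions on the generic fibre. -/

set_option autoImplicit false
set_option linter.style.haveILetI false
set_option backward.isDefEq.respectTransparency.types false
set_option maxHeartbeats 500000

universe u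

open CategoryTheory CategoryTheory.Limits AlgebraicGeometry TopologicalSpace

noncomputable section

namespace Groth.Agent.FlatMor66.NormalStein

variable {X S : Scheme.{u}} (f : X ⟶ S)

theorem appLE_top {X Y : Scheme.{u}} (g : X ⟶ Y) (e) : g.appLE ⊤ ⊤ e = g.appTop := by
  rw [Scheme.Hom.appTop, Scheme.Hom.app_eq_appLE]
  rfl

/-- Global functions of the spectrum of the residue field at the generic point. -/
def rho [IsIntegral S] : S.functionField →+* Γ(Spec (S.residueField (genericPoint S)), ⊤) :=
  ((Scheme.ΓSpecIso _).inv ≫ (Spec.map (S.residue (genericPoint S))).appTop).hom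

theorem rho_bijective [IsIntegral S] : Function.Bijective (rho (S := S)) := by
  have hinj : Function.Injective (S.residue (genericPoint S)).hom :=
    (show S.functionField →+* S.residueField (genericPoint S) from (S.residue (genericPoint S)).hom).injective
  haveI : IsIso (S.residue (genericPoint S)) := (ConcreteCategory.isIso_iff_bijective _).2
    ⟨hinj, Scheme.residue_surjective S (genericPoint S)⟩
  haveI : IsIso ((Scheme.ΓSpecIso _).inv ≫ (Spec.map (S.residue (genericPoint S))).appTop) :=
    IsIso.comp_isIso' inferInstance (Stein58.isIso_appTop_iso (asIso (Spec.map (S.residue (genericPoint S)))))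
  exact ConcreteCategory.bijective_of_isIso ((Scheme.ΓSpecIso _).inv ≫ (Spec.map (S.residue (genericPoint S))).appTop)

theorem appLE_fromSpecResidueField [IsIntegral S] {U : S.Opens} (hU : genericPoint S ∈ U) (e)
    (a : Γ(S, U)) :
    (S.fromSpecResidueField (genericPoint S)).appLE U ⊤ e a =
      rho (S.presheaf.germ U (genericPoint S) hU a) := by
  have e₁ : (⊤ : (Spec (S.presheaf.stalk (genericPoint S))).Opens) ≤ S.fromSpecStalk (genericPoint S) ⁻¹ᵁ U := by
    intro q _
    exact (Scheme.range_fromSpecStalk.le ⟨q, rfl⟩ : _ ⤳ _).mem_open U.2 hU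
  have e₂ : (⊤ : (Spec (S.residueField (genericPoint S))).Opens) ≤
      Spec.map (S.residue (genericPoint S)) ⁻¹ᵁ ⊤ := le_top
  have h1 := Scheme.Hom.appLE_comp_appLE (Spec.map (S.residue (genericPoint S))) (S.fromSpecStalk (genericPoint S))
    U ⊤ ⊤ e₁ e₂
  refine (DFunLike.congr_fun (congrArg CommRingCat.Hom.hom h1.symm) a).trans ?_
  have h2 : (S.fromSpecStalk (genericPoint S)).appLE U ⊤ e₁ =
      S.presheaf.germ U (genericPoint S) hU ≫ (Scheme.ΓSpecIso _).inv := by
    rw [Scheme.Hom.appLE, Scheme.fromSpecStalk_app hU, Category.assoc, Category.assoc, ← Functor.map_comp]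
    erw [CategoryTheory.Functor.map_id]
    rw [Category.comp_id]
  show (Spec.map (S.residue (genericPoint S))).appLE ⊤ ⊤ e₂ ((S.fromSpecStalk (genericPoint S)).appLE U ⊤ e₁ a) = _
  rw [h2, appLE_top]
  rfl

variable [IsIntegral S] [IsReduced X] [IsProper f]

theorem bijective_app (hS : Pi1.IsNormalScheme S)
    (hgen : ∀ Z ∈ irreducibleComponents ↑X, ∀ x : X, IsGenericPoint x Z → f x = genericPoint ↑S)
    (h0 : Function.Bijective ((f.fiberToSpecResidueField (genericPoint ↑S)).appTop))
    {U : S.Opens} (hUaff : IsAffineOpen U) : Function.Bijective (f.app U) := by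
  rcases isEmpty_or_nonempty U with hne | hne
  · have hU : U = ⊥ := Opens.ext (Set.eq_empty_of_forall_notMem fun x hx => hne.false ⟨x, hx⟩)
    subst hU
    have h1 : Subsingleton Γ(S, ⊥) := CommRingCat.subsingleton_of_isTerminal (S.sheaf.isTerminalOfEqEmpty rfl)
    have h2 : Subsingleton Γ(X, f ⁻¹ᵁ ⊥) :=
      CommRingCat.subsingleton_of_isTerminal (X.sheaf.isTerminalOfEqEmpty (by ext; simp))
    exact ⟨fun a b _ => h1.elim a b, fun b => ⟨0, h2.elim _ _⟩⟩
  have hη : genericPoint S ∈ U := by
    obtain ⟨⟨x, hx⟩⟩ := hne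
    exact ((genericPoint_spec S).specializes trivial).mem_open U.2 hx
  set F := f.fiber (genericPoint S)
  set ι := f.fiberι (genericPoint S)
  set π := f.fiberToSpecResidueField (genericPoint S)
  have hι : ∀ w : F, f (ι w) = genericPoint S := fun w => by
    have := Set.mem_range_self (f := ι) w
    rwa [Scheme.Hom.range_fiberι] at this
  have eι : (⊤ : F.Opens) ≤ ι ⁻¹ᵁ f ⁻¹ᵁ U := fun w _ => by show f (ι w) ∈ U; rw [hι]; exact hη
  let β : Γ(X, f ⁻¹ᵁ U) →+* Γ(F, ⊤) := (ι.appLE (f ⁻¹ᵁ U) ⊤ eι).hom
  have hβ : Function.Injective β := by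
    rw [injective_iff_map_eq_zero]
    intro b hb
    rw [← basicOpen_eq_bot_iff]
    by_contra hne'
    obtain ⟨x, hx⟩ : (X.basicOpen b : Set X).Nonempty := (Opens.ne_bot_iff_nonempty _).1 hne'
    obtain ⟨z, hz⟩ := QuasiSober.sober isIrreducible_irreducibleComponent
      (isClosed_of_mem_irreducibleComponents _ (irreducibleComponent_mem_irreducibleComponents x))
    have hzx : z ⤳ x := hz.specializes mem_irreducibleComponent
    obtain ⟨w, hw⟩ : z ∈ Set.range ι := by
      rw [Scheme.Hom.range_fiberι]
      exact hgen _ (irreducibleComponent_mem_irreducibleComponents x) z hz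
    have h1 : w ∈ F.basicOpen (β b) := by
      rw [show β b = ι.appLE (f ⁻¹ᵁ U) ⊤ eι b from rfl, Scheme.basicOpen_appLE]
      exact ⟨trivial, show ι w ∈ X.basicOpen b from hw ▸ hzx.mem_open (X.basicOpen b).2 hx⟩
    rw [hb, Scheme.basicOpen_zero] at h1
    exact h1
  have key : ∀ a, β (f.app U a) = π.appTop (rho (S.presheaf.germ U (genericPoint S) hη a)) := by
    intro a
    have e₂ : (⊤ : (Spec (S.residueField (genericPoint S))).Opens) ≤
        S.fromSpecResidueField (genericPoint S) ⁻¹ᵁ U := fun q _ => by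
      show S.fromSpecResidueField _ q ∈ U
      rw [Scheme.fromSpecResidueField_apply]; exact hη
    rw [← appLE_fromSpecResidueField hη e₂]
    have h1 := Scheme.Hom.appLE_comp_appLE π (S.fromSpecResidueField (genericPoint S)) U ⊤ ⊤ e₂ le_top
    have h2 := Scheme.Hom.appLE_comp_appLE ι f U (f ⁻¹ᵁ U) ⊤ le_rfl eι
    have h3 : (ι ≫ f).appLE U ⊤ eι = (π ≫ S.fromSpecResidueField (genericPoint S)).appLE U ⊤ (fun w _ => by
        show S.fromSpecResidueField _ (π w) ∈ U
        rw [Scheme.fromSpecResidueField_apply]; exact hη) := by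
      simp only [ι, π, Scheme.Hom.fiber_fac]
    have h4 := DFunLike.congr_fun (congrArg CommRingCat.Hom.hom ((h2.trans h3).trans h1.symm)) a
    rw [← Scheme.Hom.app_eq_appLE] at h4
    refine h4.trans ?_
    rw [CommRingCat.hom_comp, RingHom.comp_apply, appLE_top]
  haveI : Nonempty U := hne
  haveI := EGA73.isIntegrallyClosed_sections hS hUaff
  haveI := functionField_isFractionRing_of_isAffineOpen S U hUaff
  have hg : ∀ a, algebraMap Γ(S, U) S.functionField a = S.presheaf.germ U (genericPoint S) hη a := fun _ => rfl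
  let E : S.functionField ≃+* Γ(F, ⊤) :=
    (RingEquiv.ofBijective rho rho_bijective).trans (RingEquiv.ofBijective π.appTop.hom h0)
  have keyE : ∀ a, E.symm (β (f.app U a)) = algebraMap Γ(S, U) S.functionField a := fun a => by
    rw [key, hg]
    exact E.symm_apply_apply _
  refine ⟨fun a a' h => IsFractionRing.injective Γ(S, U) S.functionField (by rw [← keyE, ← keyE, h]), fun b => ?_⟩
  have hint : (f.app U).hom.IsIntegral := by
    haveI : IsAffine (U : Scheme.{u}) := hUaff
    haveI : UniversallyClosed (f ∣_ U) := IsZariskiLocalAtTarget.restrict (P := @UniversallyClosed) inferInstance U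
    have h1 := isIntegral_appTop_of_universallyClosed (f ∣_ U)
    have h2 : ∀ V : S.Opens, V = U → (f.app V).hom.IsIntegral → (f.app U).hom.IsIntegral := by
      rintro V rfl h; exact h
    refine h2 (U.ι ''ᵁ ⊤) U.ι_image_top ?_
    rw [morphismRestrict_appTop] at h1
    have hj := ConcreteCategory.bijective_of_isIso
      (X.presheaf.map (eqToHom (image_morphismRestrict_preimage f U ⊤)).op)
    intro y
    obtain ⟨p, hp, hpy⟩ := h1 ((X.presheaf.map (eqToHom (image_morphismRestrict_preimage f U ⊤)).op).hom y)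
    refine ⟨p, hp, hj.1 ?_⟩
    rw [map_zero]
    exact (Polynomial.hom_eval₂ p _ _ y).trans hpy
  obtain ⟨p, hp, hpb⟩ := hint b
  have hz : IsIntegral Γ(S, U) (E.symm (β b)) := by
    refine ⟨p, hp, ?_⟩
    have h := congrArg (fun y => E.symm (β y)) hpb
    simp only [map_zero] at h
    refine Eq.trans ?_ h
    show _ = ((E.symm.toRingHom).comp β) (p.eval₂ (f.app U).hom b)
    rw [Polynomial.hom_eval₂]
    congr 1
    ext a
    exact (keyE a).symm
  obtain ⟨a, ha⟩ := IsIntegrallyClosed.isIntegral_iff.1 hz
  refine ⟨a, hβ (E.symm.injective ?_)⟩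
  rw [keyE, ha]

theorem isIso_app (hS : Pi1.IsNormalScheme S)
    (hgen : ∀ Z ∈ irreducibleComponents ↑X, ∀ x : X, IsGenericPoint x Z → f x = genericPoint ↑S)
    (h0 : Function.Bijective ((f.fiberToSpecResidueField (genericPoint ↑S)).appTop)) (U : S.Opens) :
    IsIso (f.app U) :=
  Var76.FibBC.isIso_app_of_isBasis f S.isBasis_affineOpens
    (fun V hV => (ConcreteCategory.isIso_iff_bijective _).2 (bijective_app f hS hgen h0 hV)) U

theorem geometricallyConnected_of_isIso_app {X Y : Scheme.{u}} (f : X ⟶ Y) [IsProper f]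
    (hf : ∀ U : Y.Opens, IsIso (f.app U)) : GeometricallyConnected f := by
  rw [GeometricallyConnected.eq_geometrically,
    IsZariskiLocalAtTarget.iff_of_iSup_eq_top (P := geometrically (ConnectedSpace ·))
      (fun U : Y.affineOpens => U.1) (iSup_affineOpens_eq_top Y)]
  intro U
  have hU : IsAffineOpen U.1 := U.2
  haveI : IsAffine (U.1 : Scheme.{u}) := hU
  haveI : IsProper (f ∣_ U.1) := MorphismProperty.of_isPullback (isPullback_morphismRestrict f U.1).flip inferInstance
  haveI : IsIso ((f ∣_ U.1) ≫ hU.isoSpec.hom).appTop := by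
    rw [Scheme.Hom.comp_appTop]
    refine IsIso.comp_isIso' (Stein58.isIso_appTop_iso hU.isoSpec) ?_
    rw [Scheme.Hom.appTop, morphismRestrict_app]
    exact IsIso.comp_isIso' (hf _) (Stein58.isIso_map_eqToHom _)
  have h := (Stein58.geometricallyConnected_of_isIso_appTop' ((f ∣_ U.1) ≫ hU.isoSpec.hom)).geometrically_connectedSpace
  exact (MorphismProperty.cancel_right_of_respectsIso (geometrically (ConnectedSpace ·)) _ hU.isoSpec.hom).1 h

end Groth.Agent.FlatMor66.NormalStein
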