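import Groth.Agent.FlatMor66.FibPointFT
import Groth.Agent.Frg27.BaseChange
import Mathlib.RingTheory.LocalRing.ResidueField.Ideal

/-!
The critère de platitude par fibres in terms of local rings.
-/

set_option autoImplicit false
set_option linter.style.haveILetI false
universe u

open TensorProduct IsLocalRing

noncomputable section

namespace Groth.Agent.FlatMor66

/-- A map of quotients by surjections is the quotient map. -/
theorem flat_iff_quotientMap {A B A' B' : Type u} [CommRing A] [CommRing B] [CommRing A'] [CommRing B']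
    (φ : A →+* B) (K : Ideal A) (cA : A →+* A') (cB : B →+* B') (ψ : A' →+* B') (hA : Function.Surjective cA)
    (hB : Function.Surjective cB) (kA : RingHom.ker cA = K) (kB : RingHom.ker cB = K.map φ)
    (sq : ψ.comp cA = cB.comp φ) :
    ψ.Flat ↔ (Ideal.quotientMap (K.map φ) φ Ideal.le_comap_map).Flat := by
  subst kA
  let eA : A ⧸ RingHom.ker cA ≃+* A' := RingHom.quotientKerEquivOfSurjective hA
  let eB : B ⧸ (RingHom.ker cA).map φ ≃+* B' :=
    (Ideal.quotEquivOfEq kB.symm).trans (RingHom.quotientKerEquivOfSurjective hB)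
  have key : ψ.comp eA.toRingHom = eB.toRingHom.comp (Ideal.quotientMap _ φ Ideal.le_comap_map) :=
    Ideal.Quotient.ringHom_ext (RingHom.ext fun a => DFunLike.congr_fun sq a)
  constructor
  · intro h
    have h1 := RingHom.Flat.comp (RingHom.Flat.comp (RingHom.Flat.of_bijective (f := eA.toRingHom) eA.bijective) h)
      (RingHom.Flat.of_bijective (f := eB.symm.toRingHom) eB.symm.bijective)
    rw [key] at h1
    convert h1 using 1
    exact RingHom.ext fun a => (eB.symm_apply_apply _).symm
  · intro h
    have h1 := RingHom.Flat.comp (RingHom.Flat.comp (RingHom.Flat.of_bijective (f := eA.symm.toRingHom) eA.symm.bijective) h)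
      (RingHom.Flat.of_bijective (f := eB.toRingHom) eB.bijective)
    convert h1 using 1
    refine RingHom.ext fun a => ?_
    have := DFunLike.congr_fun key (eA.symm a)
    show ψ a = eB.toRingHom (Ideal.quotientMap _ φ Ideal.le_comap_map (eA.symm a))
    rw [← RingHom.comp_apply, ← this]
    simp

/-- The kernel of the map to the fibre of a local ring. -/
theorem ker_includeRight_residueField {R L : Type u} [CommRing R] [CommRing L] [Algebra R L] (p : Ideal R) [p.IsPrime]
    (hu : ∀ s ∉ p, IsUnit (algebraMap R L s)) :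
    RingHom.ker (Algebra.TensorProduct.includeRight : L →ₐ[R] p.ResidueField ⊗[R] L).toRingHom =
      p.map (algebraMap R L) := by
  refine le_antisymm (fun l hl => ?_) (Ideal.map_le_iff_le_comap.mpr fun x hx => ?_)
  · let q : L →ₐ[R] L ⧸ p.map (algebraMap R L) := Ideal.Quotient.mkₐ R _
    let j : p.ResidueField →ₐ[R] L ⧸ p.map (algebraMap R L) :=
      Ideal.ResidueField.liftₐ p (Algebra.ofId R _)
        (fun x hx => by
          show algebraMap R (L ⧸ p.map (algebraMap R L)) x = 0
          exact Ideal.Quotient.eq_zero_iff_mem.mpr (Ideal.mem_map_of_mem _ hx))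
        (fun s hs => (hu s hs).map (Ideal.Quotient.mk (p.map (algebraMap R L))))
    let m : p.ResidueField ⊗[R] L →ₐ[R] L ⧸ p.map (algebraMap R L) :=
      Algebra.TensorProduct.lift j q fun a b => Commute.all _ _
    have h : m ((1 : p.ResidueField) ⊗ₜ l) = 0 := by
      have : (1 : p.ResidueField) ⊗ₜ[R] l = 0 := hl
      rw [this, map_zero]
    rw [Algebra.TensorProduct.lift_tmul, map_one, one_mul] at h
    exact Ideal.Quotient.eq_zero_iff_mem.mp h
  · show (1 : p.ResidueField) ⊗ₜ[R] algebraMap R L x = 0
    rw [Algebra.algebraMap_eq_smul_one, ← TensorProduct.smul_tmul, ← Algebra.algebraMap_eq_smul_one,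
      Ideal.algebraMap_residueField_eq_zero.mpr hx, zero_tmul]

/-- Flatness of a map to a local ring of an algebra, read on `Localization.AtPrime`. -/
theorem flat_iff_localization {R B L LB : Type u} [CommRing R] [CommRing B] [CommRing L] [CommRing LB]
    [Algebra R L] [Algebra B LB] [Algebra R B] (p : Ideal R) [p.IsPrime] [IsLocalization.AtPrime L p]
    (P : Ideal B) [P.IsPrime] [IsLocalization.AtPrime LB P] (γ : L →+* LB)
    (hγ : ∀ r, γ (algebraMap R L r) = algebraMap B LB (algebraMap R B r)) :
    γ.Flat ↔ Module.Flat R (Localization.AtPrime P) := by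
  letI : Algebra R LB := ((algebraMap B LB).comp (algebraMap R B)).toAlgebra
  haveI : IsScalarTower R B LB := .of_algebraMap_eq' rfl
  letI : Algebra L LB := γ.toAlgebra
  haveI : IsScalarTower R L LB := IsScalarTower.of_algebraMap_eq (R := R) (S := L) (A := LB) fun r => (hγ r).symm
  let e : LB ≃ₐ[R] Localization.AtPrime P :=
    (IsLocalization.algEquiv P.primeCompl LB (Localization.AtPrime P)).restrictScalars R
  have h1 : γ.Flat ↔ Module.Flat R LB :=
    Module.flat_iff_of_isLocalization L p.primeCompl LB
  exact h1.trans ⟨fun _ => Module.Flat.of_linearEquiv e.symm.toLinearEquiv,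
    fun _ => Module.Flat.of_linearEquiv e.toLinearEquiv⟩

/-- Contraction of primes along a local map of local rings of algebras. -/
theorem under_eq_of_isLocalHom {R B L LB : Type u} [CommRing R] [CommRing B] [CommRing L] [CommRing LB] [IsLocalRing L]
    [IsLocalRing LB] [Algebra R L] [Algebra B LB] [Algebra R B] (p : Ideal R) [p.IsPrime] [IsLocalization.AtPrime L p]
    (P : Ideal B) [P.IsPrime] [IsLocalization.AtPrime LB P] (γ : L →+* LB) [IsLocalHom γ]
    (hγ : ∀ r, γ (algebraMap R L r) = algebraMap B LB (algebraMap R B r)) : p = P.under R := by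
  refine Ideal.ext fun r => ?_
  rw [Ideal.under_def, Ideal.mem_comap, ← IsLocalization.AtPrime.to_map_mem_maximal_iff LB P,
    ← IsLocalization.AtPrime.to_map_mem_maximal_iff L p, ← hγ, mem_maximalIdeal, mem_maximalIdeal, mem_nonunits_iff,
    mem_nonunits_iff]
  exact ⟨fun h h' => h ((isUnit_map_iff γ _).mp h'), fun h h' => h (h'.map γ)⟩

/-- The hypothesis on fibres, read on local rings. -/
theorem fibre_map_flat {R B C L LB LC FB FC : Type u} [CommRing R] [CommRing B] [CommRing C] [CommRing L]
    [CommRing LB] [CommRing LC] [CommRing FB] [CommRing FC] [IsLocalRing L] [Algebra R L] [Algebra B LB] [Algebra C LC]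
    [Algebra R B] [Algebra R C] [Algebra B C] [IsScalarTower R B C] (Q : Ideal C) [Q.IsPrime]
    [IsLocalization.AtPrime L ((Q.under B).under R)]
    [IsLocalization.AtPrime LB (Q.under B)] [IsLocalization.AtPrime LC Q] (γ : L →+* LB) (φ : LB →+* LC)
    (hγ : ∀ r, γ (algebraMap R L r) = algebraMap B LB (algebraMap R B r))
    (hφ : ∀ b, φ (algebraMap B LB b) = algebraMap C LC (algebraMap B C b))
    (cB : LB →+* FB) (cC : LC →+* FC) (ψ : FB →+* FC) (hB : Function.Surjective cB) (hC : Function.Surjective cC)
    (kB : RingHom.ker cB = (maximalIdeal L).map γ) (kC : RingHom.ker cC = (maximalIdeal L).map (φ.comp γ))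
    (sq : ψ.comp cB = cC.comp φ) (hψ : ψ.Flat) :
    ((Algebra.TensorProduct.map (AlgHom.id R ((Q.under B).under R).ResidueField)
      (IsScalarTower.toAlgHom R B (Localization.AtPrime Q))).toRingHom).Flat := by
  let p := (Q.under B).under R
  let k := p.ResidueField
  letI : Algebra R LB := ((algebraMap B LB).comp (algebraMap R B)).toAlgebra
  letI : Algebra R LC := ((algebraMap C LC).comp (algebraMap R C)).toAlgebra
  haveI : IsScalarTower R B LB := .of_algebraMap_eq' rfl
  haveI : IsScalarTower R C LC := .of_algebraMap_eq' rfl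
  have huB : ∀ s ∉ p, IsUnit (algebraMap R LB s) := fun s hs => by
    show IsUnit (algebraMap B LB (algebraMap R B s))
    exact IsLocalization.map_units LB (⟨_, hs⟩ : (Q.under B).primeCompl)
  have hpC : ∀ s ∉ p, algebraMap R C s ∉ Q := fun s hs h => hs (by
    show algebraMap B C (algebraMap R B s) ∈ Q
    rwa [← IsScalarTower.algebraMap_apply R B C])
  have huC : ∀ s ∉ p, IsUnit (algebraMap R LC s) := fun s hs => by
    show IsUnit (algebraMap C LC (algebraMap R C s))
    exact IsLocalization.map_units LC (⟨_, hpC s hs⟩ : Q.primeCompl)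
  have hφ' : ∀ r, φ (algebraMap R LB r) = algebraMap R LC r := fun r => by
    show φ (algebraMap B LB (algebraMap R B r)) = algebraMap C LC (algebraMap R C r)
    rw [hφ, ← IsScalarTower.algebraMap_apply R B C]
  let φ' : LB →ₐ[R] LC := { φ with commutes' := hφ' }
  have hKB : (maximalIdeal L).map γ = p.map (algebraMap R LB) := by
    rw [← IsLocalization.AtPrime.map_eq_maximalIdeal p L, Ideal.map_map]
    congr 1
    exact RingHom.ext hγ
  have hKC : (p.map (algebraMap R LB)).map φ = p.map (algebraMap R LC) := by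
    rw [Ideal.map_map]
    congr 1
    exact RingHom.ext φ'.commutes
  rw [flat_iff_quotientMap φ (p.map (algebraMap R LB)) cB cC ψ hB hC (kB.trans hKB)
    (by rw [kC, ← Ideal.map_map, hKB]) sq] at hψ
  have hk : ((Algebra.TensorProduct.map (AlgHom.id R k) φ').toRingHom).Flat := by
    rw [flat_iff_quotientMap φ (p.map (algebraMap R LB))
      (Algebra.TensorProduct.includeRight : LB →ₐ[R] k ⊗[R] LB).toRingHom
      (Algebra.TensorProduct.includeRight : LC →ₐ[R] k ⊗[R] LC).toRingHom _
      (includeRight_residueField_surjective p huB) (includeRight_residueField_surjective p huC)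
      (ker_includeRight_residueField p huB) ((ker_includeRight_residueField p huC).trans hKC.symm)
      (RingHom.ext fun a => by simp [φ'])]
    exact hψ
  have hloc : ((Algebra.TensorProduct.map (AlgHom.id R k) (IsScalarTower.toAlgHom R B LB)).toRingHom).Flat :=
    RingHom.Flat.tensorProductMap (RingHom.Flat.of_bijective Function.bijective_id)
      (RingHom.flat_algebraMap_iff.mpr (IsLocalization.flat LB (Q.under B).primeCompl))
  let e : LC ≃ₐ[R] Localization.AtPrime Q :=
    (IsLocalization.algEquiv Q.primeCompl LC (Localization.AtPrime Q)).restrictScalars R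
  let e' : k ⊗[R] LC ≃ₐ[k] k ⊗[R] Localization.AtPrime Q := Algebra.TensorProduct.congr AlgEquiv.refl e
  have h := RingHom.Flat.comp (RingHom.Flat.comp hloc hk)
    (RingHom.Flat.of_bijective (f := e'.toRingEquiv.toRingHom) e'.bijective)
  convert h using 1
  refine RingHom.ext fun z => ?_
  induction z using TensorProduct.induction_on with
  | zero => simp
  | add x y hx hy => simp only [map_add, hx, hy]
  | tmul a b =>
    show a ⊗ₜ[R] algebraMap B (Localization.AtPrime Q) b = e' (a ⊗ₜ φ (algebraMap B LB b))
    simp [e', e, hφ, IsScalarTower.algebraMap_apply B C (Localization.AtPrime Q)]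

/-- **Critère de platitude par fibres** in terms of local rings: the pointwise equivalence. -/
theorem critere_local {R B C L LB LC FB FC : Type u} [CommRing R] [CommRing B] [CommRing C] [CommRing L]
    [CommRing LB] [CommRing LC] [CommRing FB] [CommRing FC] [IsLocalRing L] [IsLocalRing LB] [IsLocalRing LC]
    [Algebra R L] [Algebra B LB] [Algebra C LC]
    [Algebra R B] [Algebra R C] [Algebra B C] [IsScalarTower R B C]
    [Algebra.FiniteType R B] [Algebra.FinitePresentation R C]
    (p : Ideal R) [p.IsPrime] (P : Ideal B) [P.IsPrime] (Q : Ideal C) [Q.IsPrime]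
    [IsLocalization.AtPrime L p] [IsLocalization.AtPrime LB P] [IsLocalization.AtPrime LC Q]
    (γ : L →+* LB) (φ : LB →+* LC) [IsLocalHom γ] [IsLocalHom φ]
    (hγ : ∀ r, γ (algebraMap R L r) = algebraMap B LB (algebraMap R B r))
    (hφ : ∀ b, φ (algebraMap B LB b) = algebraMap C LC (algebraMap B C b))
    (cB : LB →+* FB) (cC : LC →+* FC) (ψ : FB →+* FC) (hB : Function.Surjective cB) (hC : Function.Surjective cC)
    (kB : RingHom.ker cB = (maximalIdeal L).map γ) (kC : RingHom.ker cC = (maximalIdeal L).map (φ.comp γ))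
    (sq : ψ.comp cB = cC.comp φ) :
    ((φ.comp γ).Flat ∧ ψ.Flat ↔ γ.Flat ∧ φ.Flat) ∧
      (γ.Flat ∧ φ.Flat → ∃ g ∉ Q, ∀ (Q' : Ideal C) [Q'.IsPrime], g ∉ Q' →
        Module.Flat B (Localization.AtPrime Q') ∧ Module.Flat R (Localization.AtPrime (Q'.under B))) := by
  obtain rfl : P = Q.under B := under_eq_of_isLocalHom P Q φ hφ
  obtain rfl : p = (Q.under B).under R := under_eq_of_isLocalHom p (Q.under B) γ hγ
  have hφγ : ∀ r, (φ.comp γ) (algebraMap R L r) = algebraMap C LC (algebraMap R C r) := fun r => by
    rw [RingHom.comp_apply, hγ, hφ, ← IsScalarTower.algebraMap_apply R B C]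
  have hback : γ.Flat ∧ φ.Flat → (φ.comp γ).Flat ∧ ψ.Flat := fun h => by
    refine ⟨RingHom.Flat.comp h.1 h.2, ?_⟩
    rw [flat_iff_quotientMap φ ((maximalIdeal L).map γ) cB cC ψ hB hC kB (kC.trans (Ideal.map_map γ φ).symm) sq]
    letI := φ.toAlgebra
    haveI : Module.Flat LB LC := h.2
    exact Frg27.flat_quotientMap _
  have hforth : (φ.comp γ).Flat ∧ ψ.Flat → ∃ g ∉ Q, ∀ (Q' : Ideal C) [Q'.IsPrime], g ∉ Q' →
      Module.Flat B (Localization.AtPrime Q') ∧ Module.Flat R (Localization.AtPrime Q') ∧
        Module.Flat R (Localization.AtPrime (Q'.under B)) := fun h =>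
    critere_ring Q ((flat_iff_localization ((Q.under B).under R) Q (φ.comp γ) hφγ).mp h.1)
      (fibre_map_flat Q γ φ hγ hφ cB cC ψ hB hC kB kC sq h.2)
  refine ⟨⟨fun h => ?_, hback⟩, fun h => ?_⟩
  · obtain ⟨g, hg, hQ⟩ := hforth h
    obtain ⟨h1, -, h3⟩ := hQ Q hg
    exact ⟨(flat_iff_localization ((Q.under B).under R) (Q.under B) γ hγ).mpr h3, (flat_iff_localization (Q.under B) Q φ hφ).mpr h1⟩
  · obtain ⟨g, hg, hQ⟩ := hforth (hback h)
    exact ⟨g, hg, fun Q' _ hQ' => ⟨(hQ Q' hQ').1, (hQ Q' hQ').2.2⟩⟩

end Groth.Agent.FlatMor66
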