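import Groth.Agent.FlatMor66.Level

/-! Level sets of weightings. -/

set_option autoImplicit false
universe u

open AlgebraicGeometry CategoryTheory Limits IsLocalRing Topology

namespace Groth.Agent.FlatMor66

variable {X Y : Scheme.{u}}

lemma isClopen_constructibleTopology_of_isConstructible {α : Type*} [TopologicalSpace α] [CompactSpace α]
    {s : Set α} (hs : IsConstructible s) :
    IsOpen[constructibleTopology α] s ∧ IsOpen[constructibleTopology α] sᶜ := by
  induction hs using IsConstructible.empty_union_induction with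
  | open_retrocompact U hU hU' =>
    exact ⟨(hU'.isCompact).isOpen_constructibleTopology_of_isOpen hU,
      IsCompact.isOpen_constructibleTopology_of_isClosed (by rw [compl_compl]; exact hU'.isCompact) hU.isClosed_compl⟩
  | union s hs t ht ihs iht =>
    refine ⟨@IsOpen.union _ _ _ (constructibleTopology α) ihs.1 iht.1, ?_⟩
    rw [Set.compl_union]
    exact @IsOpen.inter _ (constructibleTopology α) _ _ ihs.2 iht.2
  | compl s hs ih => exact ⟨ih.2, by rw [compl_compl]; exact ih.1⟩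

lemma exists_constructible_const (f : X ⟶ Y) [IsAffine X] [LocallyQuasiFinite f] [LocallyOfFiniteType f]
    (w : X → ℤ) (hw : MoreMor.IsWeighting f w) (x : X) :
    ∃ C : Set X, IsConstructible C ∧ x ∈ C ∧ ∀ z ∈ C, w z = w x := by
  obtain ⟨K, _, _, p, hp⟩ := exists_gpt (f x)
  obtain ⟨D⟩ := exists_splitting f p {x} (Set.finite_singleton x) (fun z hz => by rw [Set.mem_singleton_iff.mp hz, hp])
  obtain ⟨q₀, hq₀⟩ := exists_lift f p x hp.symm
  let q : {q : GPt f p // gpt q.1 ∈ ({x} : Set X)} := ⟨q₀, hq₀⟩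
  have := D.etale
  have := D.finite q
  have hv : pullback.snd f D.b (D.pt q) = gpt D.r := snd_liftPt ..
  have hvx : pullback.fst f D.b (D.pt q) = x := (fst_liftPt ..).trans hq₀
  obtain ⟨A, hA, htA, -⟩ :=
    D.W.isBasis_affineOpens.exists_subset_of_mem_open (Set.mem_univ (gpt D.r)) isOpen_univ
  obtain ⟨A, hA', rfl⟩ := hA
  have : IsAffine (Scheme.Opens.toScheme A) := hA'
  let a : Scheme.Opens.toScheme A ⟶ Y := Scheme.Opens.ι A ≫ D.b
  let V' : (pullback f a).Opens := pullMap f D.b (Scheme.Opens.ι A) ⁻¹ᵁ D.V q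
  have : IsFinite (V'.ι ≫ pullback.snd f a) := isFinite_pullMap f D.b _ _
  let π := V'.ι ≫ pullback.snd f a
  have : IsAffine V'.toScheme := isAffine_of_isAffineHom π
  have hrA : Set.range D.r ⊆ Set.range (Scheme.Opens.ι A) := by
    rintro _ ⟨z, rfl⟩
    rw [Scheme.Opens.range_ι, show z = closedPoint K from Subsingleton.elim _ _]
    exact htA
  let r : Spec (CommRingCat.of K) ⟶ Scheme.Opens.toScheme A := IsOpenImmersion.lift (Scheme.Opens.ι A) D.r hrA
  have hr : r ≫ Scheme.Opens.ι A = D.r := IsOpenImmersion.lift_fac ..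
  have hra : r ≫ a = p := by simp only [a, reassoc_of% hr, D.hr]
  obtain ⟨E, hE, htE, hEu⟩ := exists_constructible_single π (gpt r) r rfl (by
    intro K' _ _ q₁ q₂ he ht
    rw [← cancel_mono V'.ι]
    have hpt : ∀ q' : Spec (CommRingCat.of K') ⟶ V'.toScheme, π (gpt q') = gpt r →
        pullback.snd f D.b (pullMap f D.b (Scheme.Opens.ι A) (V'.ι (gpt q'))) = gpt D.r := fun q' h => by
      rw [← Scheme.Hom.comp_apply, pullMap_snd, Scheme.Hom.comp_apply,
        ← Scheme.Hom.comp_apply V'.ι, h, ← gpt_comp, hr]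
    have ht₂ : π (gpt q₂) = gpt r := by rw [← gpt_comp, ← he, gpt_comp]; exact ht
    have e1 : pullMap f D.b (Scheme.Opens.ι A) (V'.ι (gpt q₁)) = D.pt q := D.unique q _ (gpt q₁).2 (hpt q₁ ht)
    have e2 : pullMap f D.b (Scheme.Opens.ι A) (V'.ι (gpt q₂)) = D.pt q := D.unique q _ (gpt q₂).2 (hpt q₂ ht₂)
    have h' := D.pi (D.pt q) hv (by rw [hvx]; rfl) K' (q₁ ≫ V'.ι ≫ pullMap f D.b (Scheme.Opens.ι A))
      (q₂ ≫ V'.ι ≫ pullMap f D.b (Scheme.Opens.ι A))
      (by rw [gpt_comp, Scheme.Hom.comp_apply]; exact e1) (by rw [gpt_comp, Scheme.Hom.comp_apply]; exact e2)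
      (by simpa only [Category.assoc, pullMap_snd, π] using congrArg (· ≫ Scheme.Opens.ι A) he)
    apply pullback.hom_ext
    · simpa only [Category.assoc, pullMap_fst] using congrArg (· ≫ pullback.fst f D.b) h'
    · simpa only [Category.assoc, π] using he)
  have hlc : IsLocallyConstant (ifun f w a V') := by
    rw [show ifun f w a V' = ifun f w D.b (D.V q) ∘ (Scheme.Opens.ι A) from funext fun z => ifun_comp f w D.b _ _ z]
    exact (hw D.W D.b (D.V q) inferInstance).comp_continuous (Scheme.Opens.ι A).continuous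
  let E₂ : Set (Scheme.Opens.toScheme A) := {z | ifun f w a V' z = w x}
  have hE₂ : IsConstructible E₂ :=
    (((hlc.isClosed_fiber (w x)).isCompact).isRetrocompact (hlc.isOpen_fiber _)).isConstructible (hlc.isOpen_fiber _)
  have htE₂ : gpt r ∈ E₂ := by
    show ifun f w a V' (gpt r) = w x
    rw [ifun_comp f w D.b _ _ (gpt r), ← gpt_comp, hr, ifun_eq_pSum f w _ _ D.r (finite_fibre_of_isFinite _ _),
      D.pSum_single w q D.r rfl, hq₀]
  let g := V'.ι ≫ pullback.fst f a
  have : LocallyOfFinitePresentation g := inferInstance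
  refine ⟨g '' (π ⁻¹' (E ∩ E₂)), g.isConstructible_image (π.isConstructible_preimage (hE.inter hE₂)), ?_, ?_⟩
  · have hm : liftPt f a q₀.1 r (by rw [hra, q₀.2]) ∈ V' := by
      show pullMap f D.b _ _ ∈ D.V q
      rw [pullMap_liftPt]
      simp only [hr]
      exact D.mem q
    refine ⟨⟨_, hm⟩, ?_, ?_⟩
    · show π _ ∈ E ∩ E₂
      rw [show π ⟨_, hm⟩ = gpt r from (Scheme.Hom.comp_apply _ _ _).trans (snd_liftPt ..)]
      exact ⟨htE, htE₂⟩
    · rw [Scheme.Hom.comp_apply]
      exact (fst_liftPt ..).trans hq₀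
  · rintro _ ⟨z, ⟨hzE, hzE₂⟩, rfl⟩
    obtain ⟨K', _, _, l, rfl⟩ := exists_gpt z
    have h1 : ifun f w a V' (gpt (l ≫ π)) = w x := by rw [gpt_comp]; exact hzE₂
    rw [ifun_eq_pSum f w _ _ _ (finite_fibre_of_isFinite _ _)] at h1
    have hl : (l ≫ V'.ι ≫ pullback.fst f a) ≫ f = (l ≫ π) ≫ a := by
      simp only [π, Category.assoc, pullback.condition]
    have hlift : pullback.lift (l ≫ V'.ι ≫ pullback.fst f a) (l ≫ π) hl = l ≫ V'.ι := by
      apply pullback.hom_ext
      · rw [pullback.lift_fst, Category.assoc]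
      · rw [pullback.lift_snd, Category.assoc]
    let q' : Pts f a V' (l ≫ π) := ⟨l ≫ V'.ι ≫ pullback.fst f a, hl, by
      rw [hlift, gpt_comp]; exact SetLike.coe_mem (gpt l)⟩
    rw [pSum, finsum_eq_single _ q' fun y hy => (hy ?_).elim] at h1
    · exact (congrArg w (gpt_comp l g).symm).trans h1
    · obtain ⟨y, hy', hyV⟩ := y
      have hsub : Set.range (pullback.lift y (l ≫ π) hy') ⊆ Set.range V'.ι := by
        rintro _ ⟨c, rfl⟩
        rw [Scheme.Opens.range_ι, show c = closedPoint K' from Subsingleton.elim _ _]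
        exact hyV
      have h3 : IsOpenImmersion.lift V'.ι (pullback.lift y (l ≫ π) hy') hsub ≫ π = l ≫ π := by
        simp only [π]
        rw [IsOpenImmersion.lift_fac_assoc, pullback.lift_snd]
      have h2 := hEu K' l (IsOpenImmersion.lift V'.ι _ hsub) h3.symm hzE
      refine Subtype.ext ?_
      show y = l ≫ V'.ι ≫ pullback.fst f a
      rw [h2, IsOpenImmersion.lift_fac_assoc, pullback.lift_fst]

lemma level_affine (f : X ⟶ Y) [IsAffine X] [LocallyQuasiFinite f] [LocallyOfFiniteType f]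
    (w : X → ℤ) (hw : MoreMor.IsWeighting f w) :
    (Set.range w).Finite ∧ ∀ n : ℤ, IsConstructible {x : X | w x = n} := by
  classical
  choose C hC hxC hwC using exists_constructible_const f w hw
  have hopen : ∀ x, IsOpen[constructibleTopology X] (C x) := fun x =>
    (isClopen_constructibleTopology_of_isConstructible (hC x)).1
  obtain ⟨F, hF'⟩ := (isCompact_univ (X := WithConstructibleTopology X)).elim_finite_subcover
    (fun x : X => WithTopology.ofTopology ⁻¹' C x)
    (fun x => WithConstructibleTopology.isOpen_iff.mpr (hopen x))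
    (fun z _ => Set.mem_iUnion.mpr ⟨WithTopology.ofTopology z, hxC _⟩)
  have hF : (Set.univ : Set X) ⊆ ⋃ x ∈ F, C x := by
    intro z _
    obtain ⟨x, hx, hz⟩ := Set.mem_iUnion₂.mp (hF' (Set.mem_univ (WithTopology.toTopology _ z)))
    exact Set.mem_iUnion₂.mpr ⟨x, hx, hz⟩
  refine ⟨((F.finite_toSet).image w).subset ?_, fun n => ?_⟩
  · rintro _ ⟨z, rfl⟩
    obtain ⟨x, hx, hz⟩ := Set.mem_iUnion₂.mp (hF (Set.mem_univ z))
    exact ⟨x, hx, (hwC x z hz).symm⟩
  · have e : {x : X | w x = n} = ⋃₀ ((F.filter fun x => w x = n).image C : Finset (Set X)) := by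
      ext z
      simp only [Set.mem_sUnion, Finset.coe_image, Set.mem_image, Finset.mem_coe, Finset.mem_filter]
      constructor
      · intro hz
        obtain ⟨x, hx, hzx⟩ := Set.mem_iUnion₂.mp (hF (Set.mem_univ z))
        exact ⟨C x, ⟨x, ⟨hx, (hwC x z hzx).symm.trans hz⟩, rfl⟩, hzx⟩
      · rintro ⟨_, ⟨x, ⟨-, hx⟩, rfl⟩, hzx⟩
        exact (hwC x z hzx).trans hx
    rw [e]
    refine IsConstructible.sUnion (Finset.finite_toSet _) fun s hs => ?_
    simp only [Finset.coe_image, Set.mem_image] at hs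
    obtain ⟨x, -, rfl⟩ := hs
    exact hC x

theorem isLocallyConstructible_level (f : X ⟶ Y) [LocallyQuasiFinite f] [LocallyOfFiniteType f]
    (w : X → ℤ) (hw : MoreMor.IsWeighting f w) (n : ℤ) : IsLocallyConstructible {x : X | w x = n} := by
  intro x
  obtain ⟨_, ⟨U, hU, rfl⟩, hxU, -⟩ := X.isBasis_affineOpens.exists_subset_of_mem_open (Set.mem_univ x) isOpen_univ
  refine ⟨U, U.2.mem_nhds hxU, U.2, ?_⟩
  have : IsAffine (Scheme.Opens.toScheme U) := hU
  exact (level_affine (Scheme.Opens.ι U ≫ f) _ (isWeighting_restrict f w hw U)).2 n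

theorem finite_range_weighting [CompactSpace X] (f : X ⟶ Y) [LocallyQuasiFinite f] [LocallyOfFiniteType f]
    (w : X → ℤ) (hw : MoreMor.IsWeighting f w) : (Set.range w).Finite := by
  obtain ⟨s, hs, e⟩ := (isCompact_iff_finite_and_eq_biUnion_affineOpens (U := (⊤ : X.Opens))).mp isCompact_univ
  refine (hs.biUnion fun U _ => (?_ : (w '' (U.1 : Set X)).Finite)).subset ?_
  · have : IsAffine (Scheme.Opens.toScheme U.1) := U.2
    refine ((level_affine (Scheme.Opens.ι U.1 ≫ f) _ (isWeighting_restrict f w hw U.1)).1).subset ?_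
    rintro _ ⟨z, hz, rfl⟩
    exact ⟨⟨z, hz⟩, rfl⟩
  · rintro _ ⟨z, rfl⟩
    have hz : z ∈ (⊤ : X.Opens) := trivial
    rw [e] at hz
    simp only [TopologicalSpace.Opens.mem_iSup] at hz
    obtain ⟨U, hU, hzU⟩ := hz
    exact Set.mem_iUnion₂.mpr ⟨U, hU, z, hzU, rfl⟩

theorem exists_max_fibreIntegral [CompactSpace X] [Nonempty Y] (f : X ⟶ Y) [LocallyQuasiFinite f]
    [LocallyOfFiniteType f] (w : X → ℤ) (hw : MoreMor.IsWeighting f w) :
    ∃ y₀ : Y, ∀ y : Y, MoreMor.fibreIntegral f w y ≤ MoreMor.fibreIntegral f w y₀ := by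
  obtain ⟨d, hd⟩ := exists_card_GPt_bound f
  obtain ⟨B, hB⟩ := ((finite_range_weighting f w hw).image (fun n : ℤ => |n|)).bddAbove
  have hbd : ∀ y, MoreMor.fibreIntegral f w y ≤ (d : ℤ) * max B 0 := by
    intro y
    obtain ⟨K, _, _, p, rfl⟩ := exists_gpt y
    rw [fibreIntegral_eq_gSum f w p (finite_fibre_of_compact f _)]
    have := (hd K p).1
    have := Fintype.ofFinite (GPt f p)
    rw [gSum, finsum_eq_sum_of_fintype]
    refine (Finset.sum_le_card_nsmul _ _ (max B 0) fun q _ => ?_).trans ?_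
    · exact (le_abs_self _).trans ((hB ⟨_, ⟨_, rfl⟩, rfl⟩).trans (le_max_left _ _))
    · rw [nsmul_eq_mul]
      refine mul_le_mul_of_nonneg_right ?_ (le_max_right _ _)
      rw [Finset.card_univ, ← Nat.card_eq_fintype_card]
      exact_mod_cast (hd K p).2
  obtain ⟨y⟩ := ‹Nonempty Y›
  obtain ⟨m, ⟨y₀, rfl⟩, hm⟩ := Int.exists_greatest_of_bdd
    (P := fun n => ∃ y, MoreMor.fibreIntegral f w y = n) ⟨(d : ℤ) * max B 0, by rintro _ ⟨y, rfl⟩; exact hbd y⟩ ⟨_, y, rfl⟩
  exact ⟨y₀, fun y => hm _ ⟨y, rfl⟩⟩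

end Groth.Agent.FlatMor66
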