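import Groth.Agent.FlatMor66.Weight
import Groth.Agent.Unr55.DescProps

/-! Fibre integrals of positive weightings of separated morphisms. -/

set_option autoImplicit false
universe u

open AlgebraicGeometry CategoryTheory Limits IsLocalRing

namespace Groth.Agent.FlatMor66

variable {X Y T U : Scheme.{u}}

lemma isClosed_piece (f : X ⟶ Y) [IsSeparated f] (a : T ⟶ Y) (V : (pullback f a).Opens)
    [IsFinite (V.ι ≫ pullback.snd f a)] : IsClosed (V : Set ↑(pullback f a)) := by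
  have : IsFinite V.ι := IsFinite.of_comp V.ι (pullback.snd f a)
  simpa using V.ι.isClosedMap.isClosed_range

lemma exists_nhd_disjoint' (f : X ⟶ Y) [IsSeparated f] (a : T ⟶ Y) (V₁ V₂ : (pullback f a).Opens)
    [IsFinite (V₁.ι ≫ pullback.snd f a)] [IsFinite (V₂.ι ≫ pullback.snd f a)] (t : T)
    (h : ∀ z ∈ V₁, z ∈ V₂ → pullback.snd f a z ≠ t) :
    ∃ N : T.Opens, t ∈ N ∧ ∀ z ∈ V₁, z ∈ V₂ → pullback.snd f a z ∉ N := by
  have hc := (V₁.ι ≫ pullback.snd f a).isClosedMap _ ((isClosed_piece f a V₂).preimage V₁.ι.continuous)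
  refine ⟨⟨_, hc.isOpen_compl⟩, ?_, fun z h₁ h₂ hzN => hzN ⟨⟨z, h₁⟩, h₂, Scheme.Hom.comp_apply _ _ _⟩⟩
  rintro ⟨z, h₂, hzt⟩
  exact h (V₁.ι z) z.2 h₂ ((Scheme.Hom.comp_apply _ _ _).symm.trans hzt)

/-- A separated quasi-finite morphism covered by finitely many finite opens is finite. -/
theorem isFinite_of_finite_cover (π : U ⟶ T) [IsSeparated π] [LocallyOfFiniteType π] [LocallyQuasiFinite π]
    {ι : Type*} [Finite ι] (V : ι → U.Opens) (hfin : ∀ i, IsFinite ((V i).ι ≫ π))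
    (hcov : ∀ x, ∃ i, x ∈ V i) : IsFinite π := by
  have : UniversallyClosed π := by
    constructor
    intro X₁ Y₁ i₁ i₂ f₁ H Z hZ
    have key : ∀ i, IsFinite ((i₁ ⁻¹ᵁ V i).ι ≫ f₁) := fun i =>
      MorphismProperty.of_isPullback (P := @IsFinite) ((isPullback_morphismRestrict i₁ (V i)).paste_vert H.flip) (hfin i)
    have e : ⇑f₁ '' Z = ⋃ i, ((i₁ ⁻¹ᵁ V i).ι ≫ f₁) '' ((i₁ ⁻¹ᵁ V i).ι ⁻¹' Z) := by
      ext t
      simp only [Set.mem_iUnion, Set.mem_image]
      refine ⟨fun ⟨z, hz, hzt⟩ => ?_, fun ⟨i, z, hz, hzt⟩ => ⟨_, hz, (Scheme.Hom.comp_apply _ _ _).symm.trans hzt⟩⟩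
      obtain ⟨i, hi⟩ := hcov (i₁ z)
      exact ⟨i, ⟨z, hi⟩, hz, (Scheme.Hom.comp_apply _ _ _).trans hzt⟩
    rw [e]
    refine isClosed_iUnion_of_finite fun i => ?_
    have := key i
    exact ((i₁ ⁻¹ᵁ V i).ι ≫ f₁).isClosedMap _ (hZ.preimage (i₁ ⁻¹ᵁ V i).ι.continuous)
  have : IsProper π := { }
  exact (IsFinite.iff_isProper_and_locallyQuasiFinite π).mpr ⟨this, inferInstance⟩

/-- Near every point, after étale localization, finitely many finite pieces give a lower bound for the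
fibre integral of a positive weighting; in case of equality they cover the fibre. -/
theorem exists_pieces (f : X ⟶ Y) [LocallyQuasiFinite f] [LocallyOfFiniteType f] [IsSeparated f]
    (hfin : ∀ y : Y, (f ⁻¹' {y}).Finite) (w : X → ℤ) (hw : MoreMor.IsWeighting f w) (hpos : ∀ x, 0 < w x)
    (y : Y) : ∃ (W : Scheme.{u}) (b : W ⟶ Y) (N : W.Opens) (w₀ : W) (ι : Type u) (_ : Finite ι)
      (V : ι → (pullback f b).Opens), Etale b ∧ w₀ ∈ N ∧ b w₀ = y ∧
      (∀ i, IsFinite ((V i).ι ≫ pullback.snd f b)) ∧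
      ∀ z ∈ N, MoreMor.fibreIntegral f w y ≤ MoreMor.fibreIntegral f w (b z) ∧
        (MoreMor.fibreIntegral f w (b z) = MoreMor.fibreIntegral f w y →
          ∀ x, pullback.snd f b x = z → ∃ i, x ∈ V i) := by
  obtain ⟨K, _, _, p, hp⟩ := exists_gpt y
  obtain ⟨D⟩ := exists_splitting f p (f ⁻¹' {y}) (hfin y) (fun x hx => by rw [hp]; exact hx)
  have := D.etale
  have := D.finite
  let s : Set X := f ⁻¹' {y}
  let Q := {q : GPt f p // gpt q.1 ∈ s}
  have hall : ∀ q : GPt f p, gpt q.1 ∈ s := fun q => by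
    show f (gpt q.1) = y
    rw [← gpt_comp, q.2, hp]
  have : Finite Q := finite_gpts f p _ (hfin y)
  have := Fintype.ofFinite Q
  have hsd : ∀ q : Q, pullback.snd f D.b (D.pt q) = gpt D.r := fun q => snd_liftPt ..
  have hd : ∀ jk : {jk : Q × Q // jk.1 ≠ jk.2}, ∃ M : D.W.Opens, gpt D.r ∈ M ∧
      ∀ z ∈ D.V jk.1.1, z ∈ D.V jk.1.2 → pullback.snd f D.b z ∉ M := fun jk =>
    exists_nhd_disjoint' f D.b _ _ _ fun z h1 h2 hz =>
      jk.2 (D.pt_injective ((D.unique _ z h1 hz).symm.trans (D.unique _ z h2 hz)))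
  choose M hM hM' using hd
  have hlc : ∀ q, IsLocallyConstant (ifun f w D.b (D.V q)) := fun q => hw D.W D.b (D.V q) inferInstance
  have hval : ∀ q : Q, ifun f w D.b (D.V q) (gpt D.r) = w (gpt q.1.1) := fun q => by
    rw [ifun_eq_pSum f w _ _ D.r (finite_fibre_of_isFinite _ _), D.pSum_single w q D.r rfl]
  let N : D.W.Opens := ⟨(⋂ jk, (M jk : Set D.W)) ∩ ⋂ q : Q, {z | ifun f w D.b (D.V q) z = w (gpt q.1.1)},
    (isOpen_iInter_of_finite fun jk => (M jk).2).inter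
      (isOpen_iInter_of_finite fun q => (hlc q).isOpen_fiber _)⟩
  have hy : D.b (gpt D.r) = y := by rw [← gpt_comp, D.hr, hp]
  have hFy : MoreMor.fibreIntegral f w y = ∑ q : Q, w (gpt q.1.1) := by
    rw [← hp, fibreIntegral_eq_gSum f w p (by rw [hp]; exact hfin y), gSum,
      ← finsum_comp_equiv (Equiv.subtypeUnivEquiv hall), finsum_eq_sum_of_fintype]
    rfl
  refine ⟨D.W, D.b, N, gpt D.r, Q, inferInstance, D.V, inferInstance,
    ⟨Set.mem_iInter.mpr hM, Set.mem_iInter.mpr hval⟩, hy, inferInstance, fun z hz => ?_⟩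
  obtain ⟨K', _, _, p', rfl⟩ := exists_gpt z
  have hq : ∀ q, pSum f w D.b (D.V q) p' = w (gpt q.1.1) := fun q => by
    rw [← ifun_eq_pSum f w _ _ p' (finite_fibre_of_isFinite _ _)]
    exact Set.mem_iInter.mp hz.2 q
  have := fun q => finite_Pts f D.b (D.V q) p'
  have := fun q => Fintype.ofFinite (Pts f D.b (D.V q) p')
  have := finite_GPt f (p' ≫ D.b) (hfin _)
  have := Fintype.ofFinite (GPt f (p' ≫ D.b))
  let e : (Σ q : Q, Pts f D.b (D.V q) p') → GPt f (p' ≫ D.b) := fun x => ⟨x.2.1, x.2.2.1⟩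
  have he : Function.Injective e := by
    rintro ⟨q, r, hr, hrq⟩ ⟨q', r', hr', hrq'⟩ h
    obtain rfl : r = r' := congrArg Subtype.val h
    by_cases hqq : q = q'
    · subst hqq; rfl
    · exact absurd (by rw [← gpt_comp, pullback.lift_snd]; exact Set.mem_iInter.mp hz.1 ⟨(q, q'), hqq⟩)
        (hM' ⟨(q, q'), hqq⟩ _ hrq hrq')
  have hsum : MoreMor.fibreIntegral f w y = ∑ x ∈ Finset.univ.map ⟨e, he⟩, w (gpt x.1) := by
    rw [hFy, Finset.sum_map, Fintype.sum_sigma]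
    refine Finset.sum_congr rfl fun q _ => ?_
    rw [← hq q, pSum, finsum_eq_sum_of_fintype]
    rfl
  have htot : MoreMor.fibreIntegral f w (D.b (gpt p')) = ∑ x : GPt f (p' ≫ D.b), w (gpt x.1) := by
    rw [← gpt_comp, fibreIntegral_eq_gSum f w _ (hfin _), gSum, finsum_eq_sum_of_fintype]
  rw [hsum, htot]
  refine ⟨Finset.sum_le_univ_sum_of_nonneg fun x => (hpos _).le, fun heq x hx => ?_⟩
  obtain ⟨⟨l, hl⟩, hlx⟩ := exists_lift (pullback.snd f D.b) p' x hx
  let g : GPt f (p' ≫ D.b) := ⟨l ≫ pullback.fst f D.b, by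
    rw [Category.assoc, pullback.condition, reassoc_of% hl]⟩
  have hg : g ∈ Finset.univ.map ⟨e, he⟩ := by
    by_contra hg
    exact (Finset.sum_lt_sum_of_subset (Finset.subset_univ _) (Finset.mem_univ g) hg (hpos _)
      fun j _ _ => (hpos _).le).ne heq.symm
  obtain ⟨⟨q, r, hr, hrq⟩, -, hrg⟩ := Finset.mem_map.mp hg
  obtain rfl : r = l ≫ pullback.fst f D.b := congrArg Subtype.val hrg
  have : pullback.lift (l ≫ pullback.fst f D.b) p' hr = l := by
    apply pullback.hom_ext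
    · rw [pullback.lift_fst]
    · rw [pullback.lift_snd, hl]
  exact ⟨q, by rw [← hlx]; rwa [this] at hrq⟩

theorem lowerSemicontinuous_fibreIntegral (f : X ⟶ Y) [LocallyQuasiFinite f] [LocallyOfFiniteType f]
    [IsSeparated f] (hfin : ∀ y : Y, (f ⁻¹' {y}).Finite) (w : X → ℤ) (hw : MoreMor.IsWeighting f w)
    (hpos : ∀ x, 0 < w x) : LowerSemicontinuous (MoreMor.fibreIntegral f w) := by
  intro y c hc
  obtain ⟨W, b, N, w₀, ι, _, V, hb, hw₀, rfl, hV, hN⟩ := exists_pieces f hfin w hw hpos y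
  filter_upwards [(b.isOpenMap _ N.2).mem_nhds ⟨w₀, hw₀, rfl⟩]
  rintro _ ⟨z, hz, rfl⟩
  exact hc.trans_le (hN z hz).1

theorem isOpen_isFinite_max_locus (f : X ⟶ Y) [LocallyQuasiFinite f] [LocallyOfFiniteType f]
    [IsSeparated f] (hfin : ∀ y : Y, (f ⁻¹' {y}).Finite) (w : X → ℤ) (hw : MoreMor.IsWeighting f w)
    (hpos : ∀ x, 0 < w x) (d : ℤ) (hmax : ∀ y, MoreMor.fibreIntegral f w y ≤ d) :
    ∃ hYd : IsOpen {y : Y | MoreMor.fibreIntegral f w y = d},
      IsFinite (f ∣_ ⟨{y : Y | MoreMor.fibreIntegral f w y = d}, hYd⟩) := by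
  have key : ∀ y, MoreMor.fibreIntegral f w y = d → ∃ M : Y.Opens, y ∈ M ∧
      (∀ z ∈ M, MoreMor.fibreIntegral f w z = d) ∧ IsFinite (f ∣_ M) := by
    intro y hy
    obtain ⟨W, b, N, w₀, ι, _, V, hb, hw₀, rfl, hV, hN⟩ := exists_pieces f hfin w hw hpos y
    let M : Y.Opens := ⟨_, b.isOpenMap _ N.2⟩
    have heq : ∀ z ∈ N, MoreMor.fibreIntegral f w (b z) = d := fun z hz =>
      le_antisymm (hmax _) (hy ▸ (hN z hz).1)
    refine ⟨M, ⟨w₀, hw₀, rfl⟩, by rintro _ ⟨z, hz, rfl⟩; exact heq z hz, ?_⟩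
    let c : N.toScheme ⟶ M.toScheme := IsOpenImmersion.lift M.ι (N.ι ≫ b) (by
      rintro _ ⟨z, rfl⟩
      rw [Scheme.Opens.range_ι, Scheme.Hom.comp_apply]
      exact ⟨_, z.2, rfl⟩)
    have hcM : c ≫ M.ι = N.ι ≫ b := IsOpenImmersion.lift_fac _ _ _
    have : Etale (c ≫ M.ι) := by rw [hcM]; infer_instance
    have : Etale c := Etale.of_comp c M.ι
    have : Surjective c := ⟨fun m => by
      obtain ⟨z, hz, hzm⟩ := m.2
      refine ⟨⟨z, hz⟩, M.ι.isOpenEmbedding.injective ?_⟩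
      rw [← Scheme.Hom.comp_apply, hcM, Scheme.Hom.comp_apply]
      exact hzm⟩
    have hπ : IsFinite (pullback.snd f (N.ι ≫ b)) := by
      have := fun i => isFinite_pullMap f b N.ι (V i)
      refine isFinite_of_finite_cover _ (fun i => pullMap f b N.ι ⁻¹ᵁ V i) this fun x => ?_
      refine (hN _ (pullback.snd f (N.ι ≫ b) x).2).2 ((heq _ (pullback.snd f (N.ι ≫ b) x).2).trans hy.symm)
        (pullMap f b N.ι x) ?_
      rw [← Scheme.Hom.comp_apply, pullMap_snd]; rfl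
    have hπ' : IsFinite (pullback.snd f (c ≫ M.ι)) := by rw [hcM]; exact hπ
    have := Groth.Agent.Unr55.isFinite.{u}
    have : IsFinite (pullback.snd f M.ι) :=
      MorphismProperty.of_isPullback_of_descendsAlong (P := @IsFinite)
        (Q := @Surjective ⊓ @Flat ⊓ @LocallyOfFinitePresentation) (isPullback_pullMap f M.ι c).flip
        ⟨⟨inferInstance, inferInstance⟩, inferInstance⟩ hπ'
    rw [← (isPullback_morphismRestrict f M).flip.isoPullback_hom_snd]
    infer_instance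
  choose M hyM hM hMfin using key
  refine ⟨?_, ?_⟩
  · rw [isOpen_iff_forall_mem_open]
    exact fun y hy => ⟨M y hy, hM y hy, (M y hy).2, hyM y hy⟩
  · rw [IsZariskiLocalAtTarget.iff_of_iSup_eq_top (P := @IsFinite)
      (fun y : {y : Y // MoreMor.fibreIntegral f w y = d} =>
        (Scheme.Opens.ι ⟨{y : Y | MoreMor.fibreIntegral f w y = d}, _⟩) ⁻¹ᵁ M y.1 y.2)]
    · intro y
      refine (MorphismProperty.arrow_mk_iso_iff @IsFinite (morphismRestrictRestrict f _ _)).mpr ?_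
      have hle : M y.1 y.2 ≤ ⟨{y : Y | MoreMor.fibreIntegral f w y = d}, by
          rw [isOpen_iff_forall_mem_open]; exact fun y hy => ⟨M y hy, hM y hy, (M y hy).2, hyM y hy⟩⟩ :=
        fun z hz => hM y.1 y.2 z hz
      rw [Scheme.Hom.image_preimage_eq_opensRange_inf, Scheme.Opens.opensRange_ι, inf_eq_right.mpr hle]
      exact hMfin y.1 y.2
    · refine top_le_iff.mp fun y _ => TopologicalSpace.Opens.mem_iSup.mpr ⟨⟨y.1, y.2⟩, hyM y.1 y.2⟩

end Groth.Agent.FlatMor66
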