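import Groth.Agent.FlatMor66.Localize
import Mathlib.AlgebraicGeometry.Morphisms.UniversallyOpen
import Mathlib.Topology.Semicontinuity.Defs

/-! Consequences for weightings. -/

set_option autoImplicit false
universe u

open AlgebraicGeometry CategoryTheory Limits IsLocalRing

namespace Groth.Agent.FlatMor66

variable {X Y X' Y' T : Scheme.{u}} {K : Type u} [Field K] [IsAlgClosed K]

omit [IsAlgClosed K] in
lemma exists_gpt_le_pSum (f : X ⟶ Y) (w : X → ℤ) (hw : ∀ x, 0 < w x) (a : T ⟶ Y) (U : (pullback f a).Opens)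
    (p : Spec (CommRingCat.of K) ⟶ T) [Finite (Pts f a U p)] (q : Pts f a U p) :
    w (gpt q.1) ≤ pSum f w a U p := by
  have := Fintype.ofFinite (Pts f a U p)
  rw [pSum, finsum_eq_sum_of_fintype]
  exact Finset.single_le_sum (f := fun q : Pts f a U p => w (gpt q.1)) (fun i _ => (hw _).le) (Finset.mem_univ q)

theorem finite_fibre_of_finite_GPt (f : X ⟶ Y) [LocallyQuasiFinite f] (p : Spec (CommRingCat.of K) ⟶ Y)
    [Finite (GPt f p)] : (f ⁻¹' {gpt p}).Finite := by
  refine (Set.finite_range fun q : GPt f p => gpt q.1).subset fun x hx => ?_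
  obtain ⟨q, hq⟩ := exists_lift f p x hx
  exact ⟨q, hq⟩

theorem fibreIntegral_baseChange (π : X ⟶ Y) [LocallyQuasiFinite π]
    (π' : X' ⟶ Y') (h : X' ⟶ X) (g : Y' ⟶ Y) (hc : IsPullback h π' π g) (w : X → ℤ) (v' : Y')
    (hfin : (π ⁻¹' {g v'}).Finite) :
    MoreMor.fibreIntegral π' (w ∘ ⇑h) v' = MoreMor.fibreIntegral π w (g v') := by
  have : LocallyQuasiFinite π' := MorphismProperty.of_isPullback hc ‹_›
  obtain ⟨K', _, _, p, rfl⟩ := exists_gpt v'
  let e : GPt π' p ≃ GPt π (p ≫ g) :=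
    { toFun := fun q => ⟨q.1 ≫ h, by rw [Category.assoc, hc.w, reassoc_of% q.2]⟩
      invFun := fun q => ⟨hc.lift q.1 p q.2, hc.lift_snd ..⟩
      left_inv := fun q => Subtype.ext (hc.hom_ext (hc.lift_fst ..) (by rw [hc.lift_snd, q.2]))
      right_inv := fun q => Subtype.ext (hc.lift_fst ..) }
  rw [← gpt_comp] at hfin
  have := finite_GPt π (p ≫ g) hfin
  have : Finite (GPt π' p) := Finite.of_equiv _ e.symm
  rw [← gpt_comp, fibreIntegral_eq_gSum π' _ p (finite_fibre_of_finite_GPt π' p),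
    fibreIntegral_eq_gSum π w _ hfin]
  exact finsum_eq_of_bijective e e.bijective fun q => rfl

theorem isWeighting_baseChange (f : X ⟶ Y) [LocallyQuasiFinite f] [LocallyOfFiniteType f] (w : X → ℤ)
    (hw : MoreMor.IsWeighting f w) (f' : X' ⟶ Y') (h : X' ⟶ X) (g : Y' ⟶ Y) (hc : IsPullback h f' f g) :
    MoreMor.IsWeighting f' (w ∘ ⇑h) := by
  intro V v _ U hfin
  let sq := (IsPullback.of_hasPullback f' v).paste_horiz hc
  let e := sq.isoPullback
  have h2 : e.inv ≫ pullback.snd f' v = pullback.snd f (v ≫ g) := sq.isoPullback_inv_snd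
  let U₂ : (pullback f (v ≫ g)).Opens := e.inv ⁻¹ᵁ U
  have : IsFinite (U₂.ι ≫ pullback.snd f (v ≫ g)) := by
    rw [← h2, ← Category.assoc, ← morphismRestrict_ι, Category.assoc]; infer_instance
  have : LocallyQuasiFinite f' := MorphismProperty.of_isPullback hc ‹_›
  suffices ifun f' (w ∘ ⇑h) v U = ifun f w (v ≫ g) U₂ by
    show IsLocallyConstant (ifun f' (w ∘ ⇑h) v U)
    rw [this]; exact isLocallyConstant_ifun f w hw _ _
  funext t
  obtain ⟨K', _, _, p, rfl⟩ := exists_gpt t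
  rw [ifun_eq_pSum f' _ _ _ p (finite_fibre_of_isFinite _ _), ifun_eq_pSum f w _ _ p (finite_fibre_of_isFinite _ _)]
  have key : ∀ (q' : Spec (CommRingCat.of K') ⟶ X') (h' : q' ≫ f' = p ≫ v) (h'' : (q' ≫ h) ≫ f = p ≫ v ≫ g),
      pullback.lift (q' ≫ h) p h'' ≫ e.inv = pullback.lift q' p h' := by
    intro q' h' h''
    rw [Iso.comp_inv_eq]
    apply pullback.hom_ext
    · rw [pullback.lift_fst, Category.assoc, IsPullback.isoPullback_hom_fst, pullback.lift_fst_assoc]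
    · rw [pullback.lift_snd, Category.assoc, IsPullback.isoPullback_hom_snd, pullback.lift_snd]
  let j : Pts f' v U p → Pts f (v ≫ g) U₂ p := fun q =>
    ⟨q.1 ≫ h, by rw [Category.assoc, hc.w, reassoc_of% q.2.1], by
      show e.inv _ ∈ U
      rw [← gpt_comp, key q.1 q.2.1]
      exact q.2.2⟩
  refine finsum_eq_of_bijective j ⟨fun q q' hqq => Subtype.ext (hc.hom_ext (congrArg Subtype.val hqq) (q.2.1.trans q'.2.1.symm)), fun q => ?_⟩ fun q => rfl
  have hq : q.1 ≫ f = (p ≫ v) ≫ g := by rw [Category.assoc]; exact q.2.1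
  refine ⟨⟨hc.lift q.1 (p ≫ v) hq, hc.lift_snd .., ?_⟩, Subtype.ext (hc.lift_fst ..)⟩
  rw [← key (hc.lift q.1 (p ≫ v) hq) (hc.lift_snd ..) (by rw [hc.lift_fst]; exact q.2.1), gpt_comp]
  simp only [hc.lift_fst]
  exact q.2.2

theorem exists_piece (f : X ⟶ Y) [LocallyQuasiFinite f] [LocallyOfFiniteType f] (w : X → ℤ)
    (hw : MoreMor.IsWeighting f w) (x : X) :
    ∃ (W : Scheme.{u}) (b : W ⟶ Y) (V : (pullback f b).Opens) (v : ↑(pullback f b)) (N : W.Opens),
      Etale b ∧ IsFinite (V.ι ≫ pullback.snd f b) ∧ v ∈ V ∧ pullback.fst f b v = x ∧ pullback.snd f b v ∈ N ∧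
      (∀ z ∈ V, pullback.snd f b z = pullback.snd f b v → z = v) ∧
      (∀ z : W, z ∈ N → ifun f w b V z = w x) := by
  obtain ⟨K', _, _, p, hp⟩ := exists_gpt (f x)
  obtain ⟨D⟩ := exists_splitting f p {x} (Set.finite_singleton x) (fun z hz => by rw [Set.mem_singleton_iff.mp hz, hp])
  obtain ⟨q₀, hq₀⟩ := exists_lift f p x hp.symm
  let q : {q : GPt f p // gpt q.1 ∈ ({x} : Set X)} := ⟨q₀, hq₀⟩
  have hs : pullback.snd f D.b (D.pt q) = gpt D.r := snd_liftPt ..
  have := D.etale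
  have := D.finite q
  have hlc : IsLocallyConstant (ifun f w D.b (D.V q)) := hw D.W D.b (D.V q) inferInstance
  have hval : ifun f w D.b (D.V q) (gpt D.r) = w x := by
    rw [ifun_eq_pSum f w _ _ D.r (finite_fibre_of_isFinite _ _), D.pSum_single w q D.r rfl, hq₀]
  refine ⟨D.W, D.b, D.V q, D.pt q, ⟨_, hlc.isOpen_fiber (w x)⟩, inferInstance, inferInstance, D.mem q,
    (fst_liftPt ..).trans hq₀, ?_, fun z hz h => D.unique q z hz (h.trans hs), fun z hz => hz⟩
  show ifun f w D.b (D.V q) _ = w x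
  rw [hs, hval]

theorem isOpenMap_of_positive (f : X ⟶ Y) [LocallyQuasiFinite f] [LocallyOfFiniteType f] (w : X → ℤ)
    (hw : MoreMor.IsWeighting f w) (hpos : ∀ x, 0 < w x) : IsOpenMap f := by
  intro O hO
  rw [isOpen_iff_forall_mem_open]
  rintro _ ⟨x, hx, rfl⟩
  obtain ⟨W, b, V, v, N, hb, hfin, hv, hvx, hvN, huniq, hN⟩ := exists_piece f w hw x
  obtain ⟨M, hM, hMO⟩ := exists_nhd_subset f b V (pullback.fst f b ⁻¹ᵁ ⟨O, hO⟩) (pullback.snd f b v)
    (fun z hz hzt => by rw [huniq z hz hzt]; show pullback.fst f b v ∈ O; rwa [hvx])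
  refine ⟨b '' ((N : Set W) ∩ M), ?_, b.isOpenMap _ (N.2.inter M.2), ⟨_, ⟨hvN, hM⟩, ?_⟩⟩
  · rintro _ ⟨t, ⟨htN, htM⟩, rfl⟩
    obtain ⟨K', _, _, p', rfl⟩ := exists_gpt t
    have h1 := hN _ htN
    rw [ifun_eq_pSum f w _ _ p' (finite_fibre_of_isFinite _ _)] at h1
    have : Nonempty (Pts f b V p') := by
      by_contra hne
      rw [not_nonempty_iff] at hne
      rw [pSum, finsum_of_isEmpty] at h1
      exact (hpos x).ne h1
    obtain ⟨⟨q, hq, hqV⟩⟩ := this
    refine ⟨gpt q, ?_, ?_⟩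
    · have := hMO _ hqV (by rw [← gpt_comp, pullback.lift_snd]; exact htM)
      change pullback.fst f b _ ∈ O at this
      rwa [← gpt_comp, pullback.lift_fst] at this
    · rw [← gpt_comp, hq, gpt_comp]
  · rw [← hvx, ← Scheme.Hom.comp_apply, ← pullback.condition, Scheme.Hom.comp_apply]

theorem universallyOpen_of_positive (f : X ⟶ Y) [LocallyQuasiFinite f] [LocallyOfFiniteType f] (w : X → ℤ)
    (hw : MoreMor.IsWeighting f w) (hpos : ∀ x, 0 < w x) : UniversallyOpen f := by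
  constructor
  intro X₁ Y₁ i₁ i₂ f₁ H
  have : LocallyQuasiFinite f₁ := MorphismProperty.of_isPullback H.flip ‹_›
  have : LocallyOfFiniteType f₁ := MorphismProperty.of_isPullback H.flip ‹_›
  exact isOpenMap_of_positive f₁ (w ∘ ⇑i₁) (isWeighting_baseChange f w hw f₁ i₁ i₂ H.flip) fun x => hpos _

theorem upperSemicontinuous_of_positive (f : X ⟶ Y) [LocallyQuasiFinite f] [LocallyOfFiniteType f] (w : X → ℤ)
    (hw : MoreMor.IsWeighting f w) (hpos : ∀ x, 0 < w x) : UpperSemicontinuous w := by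
  intro x c hc
  obtain ⟨W, b, V, v, N, hb, hfin, hv, hvx, hvN, huniq, hN⟩ := exists_piece f w hw x
  have hO : IsOpen (pullback.fst f b '' ((V : Set ↑(pullback f b)) ∩ pullback.snd f b ⁻¹' N)) :=
    (pullback.fst f b).isOpenMap _ (V.2.inter (N.2.preimage (pullback.snd f b).continuous))
  filter_upwards [hO.mem_nhds ⟨v, ⟨hv, hvN⟩, hvx⟩]
  rintro _ ⟨z, ⟨hzV, hzN⟩, rfl⟩
  obtain ⟨K', _, _, p', hp'⟩ := exists_gpt (pullback.snd f b z)
  obtain ⟨⟨l, hl⟩, hlz⟩ := exists_lift (pullback.snd f b) p' z hp'.symm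
  have hlift : ∀ h, pullback.lift (l ≫ pullback.fst f b) p' h = l := fun h => by
    apply pullback.hom_ext
    · rw [pullback.lift_fst]
    · rw [pullback.lift_snd, hl]
  let q : Pts f b V p' := ⟨l ≫ pullback.fst f b, by rw [Category.assoc, pullback.condition, reassoc_of% hl],
    by rw [hlift, hlz]; exact hzV⟩
  have := finite_Pts f b V p'
  have h1 := exists_gpt_le_pSum f w hpos b V p' q
  have h2 := hN _ hzN
  rw [← hp', ifun_eq_pSum f w _ _ p' (finite_fibre_of_isFinite _ _)] at h2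
  have h3 : gpt q.1 = pullback.fst f b z := by
    show gpt (l ≫ pullback.fst f b) = _
    rw [gpt_comp, hlz]
  rw [h3, h2] at h1
  exact lt_of_le_of_lt h1 hc

end Groth.Agent.FlatMor66
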