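import Groth.Agent.FlatMor66.GeomPts
import Mathlib.AlgebraicGeometry.Morphisms.Etale
import Mathlib.RingTheory.Etale.StandardEtale
import Mathlib.RingTheory.Polynomial.ScaleRoots
import Mathlib.FieldTheory.PurelyInseparable.Basic

/-! Étale neighbourhoods containing given separable elements of a geometric point. -/

set_option autoImplicit false
universe u

open AlgebraicGeometry CategoryTheory Limits IsLocalRing Polynomial

namespace Groth.Agent.FlatMor66

variable {X Y W U V : Scheme.{u}} {K : Type u} [Field K]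

/-- The embedding of a residue field given by a field valued point. -/
noncomputable abbrev gEmb (p : Spec (CommRingCat.of K) ⟶ Y) : Y.residueField (gpt p) ⟶ CommRingCat.of K :=
  Y.descResidueField (Scheme.stalkClosedPointTo p)

lemma gEmb_spec (p : Spec (CommRingCat.of K) ⟶ Y) : Spec.map (gEmb p) ≫ Y.fromSpecResidueField (gpt p) = p :=
  Scheme.descResidueField_stalkClosedPointTo_fromSpecResidueField K Y p

/-- The image of the residue field of a field valued point. -/
noncomputable def gRange (p : Spec (CommRingCat.of K) ⟶ Y) : Subfield K := (gEmb p).hom.fieldRange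

lemma gRange_comp_le (q : Spec (CommRingCat.of K) ⟶ X) (f : X ⟶ Y) : gRange (q ≫ f) ≤ gRange q := by
  rintro _ ⟨z, rfl⟩
  refine ⟨f.residueFieldMap (gpt q) z, ?_⟩
  exact (congrArg (fun φ => φ.hom z) (Scheme.descResidueField_stalkClosedPointTo_comp f q)).symm

lemma map_mem_gRange_Spec {S : CommRingCat.{u}} (ψ : S ⟶ CommRingCat.of K) (z : S) :
    ψ z ∈ gRange (Spec.map ψ) := by
  obtain ⟨φ, hφ⟩ := Spec.map_surjective ((Spec S).fromSpecResidueField (gpt (Spec.map ψ)))
  have h := gEmb_spec (Spec.map ψ)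
  rw [← hφ, ← Spec.map_comp] at h
  exact ⟨φ z, congrArg (fun χ => χ.hom z) (Spec.map_injective h)⟩

lemma exists_frac (p : Spec (CommRingCat.of K) ⟶ Y) {A : Y.Opens} (hA : IsAffineOpen A) (h : gpt p ∈ A) :
    ∃ τ : Γ(Y, A) ⟶ CommRingCat.of K, Spec.map τ ≫ hA.fromSpec = p ∧
      ∀ c ∈ gRange p, ∃ a s, τ s ≠ 0 ∧ c * τ s = τ a := by
  let φ : Γ(Y, A) ⟶ Y.residueField (gpt p) := Y.presheaf.germ A (gpt p) h ≫ Y.residue (gpt p)
  refine ⟨φ ≫ gEmb p, ?_, ?_⟩
  · simp only [φ, Spec.map_comp, Category.assoc]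
    have e : Spec.map (Y.presheaf.germ A (gpt p) h) ≫ hA.fromSpec = Y.fromSpecStalk (gpt p) :=
      hA.fromSpecStalk_eq_fromSpecStalk h
    rw [e]
    exact gEmb_spec p
  · rintro _ ⟨z, rfl⟩
    obtain ⟨w, rfl⟩ := Y.residue_surjective (gpt p) z
    letI := (Y.presheaf.germ A (gpt p) h).hom.toAlgebra
    have := hA.isLocalization_stalk ⟨gpt p, h⟩
    obtain ⟨⟨a, s⟩, e⟩ := IsLocalization.surj (hA.primeIdealOf ⟨gpt p, h⟩).asIdeal.primeCompl w
    refine ⟨a, s.1, ?_, ?_⟩
    · have hu : IsUnit (φ s.1) :=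
        (IsLocalization.map_units (Y.presheaf.stalk (gpt p)) s).map (Y.residue (gpt p)).hom
      exact (hu.map (gEmb p).hom).ne_zero
    · change (gEmb p).hom ((Y.residue (gpt p)).hom w) *
          (gEmb p).hom ((Y.residue (gpt p)).hom ((Y.presheaf.germ A (gpt p) h).hom s.1)) =
        (gEmb p).hom ((Y.residue (gpt p)).hom ((Y.presheaf.germ A (gpt p) h).hom a))
      refine Eq.trans (map_mul (gEmb p).hom _ _).symm (congrArg (gEmb p).hom ?_)
      exact (map_mul (Y.residue (gpt p)).hom _ _).symm.trans (congrArg (Y.residue (gpt p)).hom e)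

lemma exists_scale {R : Type u} [CommRing R] (τ : R →+* K) (m : K[X]) (hm : m.Monic)
    (h : ∀ i, ∃ a s, τ s ≠ 0 ∧ m.coeff i * τ s = τ a) :
    ∃ (s : R) (M : R[X]), τ s ≠ 0 ∧ M.Monic ∧ M.map τ = m.scaleRoots (τ s) := by
  classical
  choose a s hs e using h
  let S := ∏ i ∈ Finset.range m.natDegree, s i
  have hS : τ S ≠ 0 := by
    rw [map_prod]; exact Finset.prod_ne_zero_iff.mpr fun i _ => hs i
  have hl : m.scaleRoots (τ S) ∈ lifts τ := by
    rw [lifts_iff_coeff_lifts]
    intro i
    rw [coeff_scaleRoots]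
    rcases lt_trichotomy i m.natDegree with hi | rfl | hi
    · obtain ⟨k, hk⟩ := Nat.exists_eq_succ_of_ne_zero (Nat.sub_ne_zero_of_lt hi)
      refine ⟨a i * (∏ j ∈ (Finset.range m.natDegree).erase i, s j) * S ^ k, ?_⟩
      rw [hk, pow_succ, map_mul, map_mul, ← e i, map_pow]
      conv_rhs => arg 2; arg 2; rw [show S = s i * ∏ j ∈ (Finset.range m.natDegree).erase i, s j from
        (Finset.mul_prod_erase _ _ (Finset.mem_range.mpr hi)).symm, map_mul]
      ring
    · exact ⟨1, by simp [hm.coeff_natDegree]⟩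
    · exact ⟨0, by simp [coeff_eq_zero_of_natDegree_lt hi]⟩
  obtain ⟨M, hM, -, hM1⟩ := lifts_and_degree_eq_and_monic hl ((monic_scaleRoots_iff _).mpr hm)
  exact ⟨S, M, hS, hM1, hM⟩

/-- `α` is a simple root of a monic polynomial with coefficients in `F`. -/
def IsSepRoot (F : Subfield K) (α : K) : Prop :=
  ∃ m : K[X], m.Monic ∧ (∀ i, m.coeff i ∈ F) ∧ m.eval α = 0 ∧ m.derivative.eval α ≠ 0

lemma IsSepRoot.mono {F F' : Subfield K} (h : F ≤ F') {α : K} (hα : IsSepRoot F α) : IsSepRoot F' α := by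
  obtain ⟨m, h1, h2, h3⟩ := hα
  exact ⟨m, h1, fun i => h (h2 i), h3⟩

theorem exists_etale_root (p : Spec (CommRingCat.of K) ⟶ Y) {α : K} (hα : IsSepRoot (gRange p) α) :
    ∃ (W : Scheme.{u}) (b : W ⟶ Y) (r : Spec (CommRingCat.of K) ⟶ W), Etale b ∧ r ≫ b = p ∧ α ∈ gRange r := by
  obtain ⟨m, hm, hc, hz, hd⟩ := hα
  obtain ⟨_, ⟨A, hA, rfl⟩, hxA, -⟩ :=
    Y.isBasis_affineOpens.exists_subset_of_mem_open (Set.mem_univ (gpt p)) isOpen_univ
  obtain ⟨τ, hτ, hfrac⟩ := exists_frac p hA hxA
  obtain ⟨s, M, hs, hM, hMmap⟩ := exists_scale τ.hom m hm fun i => hfrac _ (hc i)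
  letI : Algebra Γ(Y, A) K := τ.hom.toAlgebra
  let P : StandardEtalePair Γ(Y, A) := ⟨M, hM, derivative M, ⟨1, 0, 1, by simp⟩⟩
  let β : K := τ s * α
  have key : (M.map τ.hom).comp (C (τ s) * Polynomial.X) = C (τ s ^ m.natDegree) * m := by
    rw [hMmap, Polynomial.comp, scaleRoots_eval₂_mul, map_pow, eval₂_C_X]
  have hf : aeval β M = 0 := by
    have := congrArg (Polynomial.eval α) key
    rw [eval_comp, eval_mul, eval_mul, eval_C, eval_C, eval_X, hz, mul_zero, eval_map] at this
    exact this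
  have hg : aeval β (derivative M) ≠ 0 := by
    have := congrArg (fun q => Polynomial.eval α (derivative q)) key
    simp only [derivative_comp, derivative_C_mul, derivative_X, mul_one, eval_mul, eval_comp, eval_C,
      eval_X, derivative_map, eval_map] at this
    intro h0
    have h0' : eval₂ τ.hom (τ s * α) (derivative M) = 0 := h0
    rw [h0', mul_zero] at this
    exact mul_ne_zero (pow_ne_zero _ hs) hd this.symm
  let ψ := P.lift β ⟨hf, (Ne.isUnit hg)⟩
  let r : Spec (CommRingCat.of K) ⟶ Spec (CommRingCat.of P.Ring) := Spec.map (CommRingCat.ofHom ψ.toRingHom)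
  let b : Spec (CommRingCat.of P.Ring) ⟶ Y :=
    Spec.map (CommRingCat.ofHom (algebraMap Γ(Y, A) P.Ring)) ≫ hA.fromSpec
  have : Etale (Spec.map (CommRingCat.ofHom (algebraMap Γ(Y, A) P.Ring))) :=
    HasRingHomProperty.Spec_iff.mpr (RingHom.etale_algebraMap.mpr inferInstance)
  refine ⟨_, b, r, inferInstance, ?_, ?_⟩
  · conv_rhs => rw [← hτ]
    rw [← Category.assoc, ← Spec.map_comp]
    congr 2
    ext z
    exact ψ.commutes z
  · have hβ : ψ P.X ∈ gRange r := map_mem_gRange_Spec (CommRingCat.ofHom ψ.toRingHom) P.X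
    have hs' : ψ (algebraMap Γ(Y, A) P.Ring s) ∈ gRange r :=
      map_mem_gRange_Spec (CommRingCat.ofHom ψ.toRingHom) _
    rw [P.lift_X] at hβ
    rw [ψ.commutes] at hs'
    have := (gRange r).div_mem hβ hs'
    rwa [show β / algebraMap Γ(Y, A) K s = α from mul_div_cancel_left₀ α hs] at this

theorem exists_etale_roots (p : Spec (CommRingCat.of K) ⟶ Y) (G : Set K) (hG : G.Finite)
    (h : ∀ α ∈ G, IsSepRoot (gRange p) α) :
    ∃ (W : Scheme.{u}) (b : W ⟶ Y) (r : Spec (CommRingCat.of K) ⟶ W),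
      Etale b ∧ r ≫ b = p ∧ G ⊆ gRange r := by
  induction G, hG using Set.Finite.induction_on with
  | empty => exact ⟨Y, 𝟙 Y, p, inferInstance, Category.comp_id _, by simp⟩
  | @insert α G _ _ ih =>
    obtain ⟨W₁, b₁, r₁, hb₁, hr₁, hG₁⟩ := ih fun β hβ => h β (Set.mem_insert_of_mem _ hβ)
    have hle : gRange p ≤ gRange r₁ := hr₁ ▸ gRange_comp_le r₁ b₁
    obtain ⟨W₂, b₂, r₂, hb₂, hr₂, hα⟩ := exists_etale_root r₁ ((h α (Set.mem_insert _ _)).mono hle)
    refine ⟨W₂, b₂ ≫ b₁, r₂, inferInstance, by rw [← Category.assoc, hr₂, hr₁], ?_⟩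
    refine Set.insert_subset hα (hG₁.trans ?_)
    exact hr₂ ▸ gRange_comp_le r₂ b₂

/-- Purely inseparable at a point: geometric points at `v` are determined by their image. -/
def PIAt (π : U ⟶ V) (v : U) : Prop :=
  ∀ (K' : Type u) [Field K'] [IsAlgClosed K'] (q₁ q₂ : Spec (CommRingCat.of K') ⟶ U),
    gpt q₁ = v → gpt q₂ = v → q₁ ≫ π = q₂ ≫ π → q₁ = q₂

lemma exists_map_fromSpec (q : Spec (CommRingCat.of K) ⟶ X) {x : X} (h : gpt q = x) :
    ∃ θ : X.residueField x ⟶ CommRingCat.of K, q = Spec.map θ ≫ X.fromSpecResidueField x := by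
  subst h
  exact ⟨gEmb q, (gEmb_spec q).symm⟩

lemma map_fromSpec_comp {x : X} (θ : X.residueField x ⟶ CommRingCat.of K) (f : X ⟶ Y) :
    (Spec.map θ ≫ X.fromSpecResidueField x) ≫ f =
      Spec.map (f.residueFieldMap x ≫ θ) ≫ Y.fromSpecResidueField (f x) := by
  rw [Spec.map_comp, Category.assoc, Category.assoc, Scheme.Hom.SpecMap_residueFieldMap_fromSpecResidueField]

lemma map_fromSpec_inj {x : X} {θ θ' : X.residueField x ⟶ CommRingCat.of K}
    (h : Spec.map θ ≫ X.fromSpecResidueField x = Spec.map θ' ≫ X.fromSpecResidueField x) : θ = θ' :=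
  Spec.map_injective ((cancel_mono _).mp h)

lemma eq_of_agree_separableClosure {F E L : Type u} [Field F] [Field E] [Field L] [Algebra F E]
    [FiniteDimensional F E] (σ₁ σ₂ : E →+* L) (hF : ∀ z, σ₁ (algebraMap F E z) = σ₂ (algebraMap F E z))
    (hS : ∀ i, σ₁ (Module.finBasis F (separableClosure F E) i : E) =
      σ₂ (Module.finBasis F (separableClosure F E) i : E)) : σ₁ = σ₂ := by
  apply IsPurelyInseparable.injective_comp_algebraMap (separableClosure F E) E L
  ext z
  show σ₁ (z : E) = σ₂ (z : E)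
  conv_lhs => rw [← (Module.finBasis F (separableClosure F E)).sum_repr z]
  conv_rhs => rw [← (Module.finBasis F (separableClosure F E)).sum_repr z]
  simp only [IntermediateField.coe_sum, map_sum, IntermediateField.coe_smul]
  simp only [Algebra.smul_def, map_mul, hF, hS]

lemma gRange_map_fromSpec_le {x : X} (σ : X.residueField x ⟶ CommRingCat.of K) :
    gRange (Spec.map σ ≫ X.fromSpecResidueField x) ≤ σ.hom.fieldRange := by
  have e : gpt (Spec.map σ ≫ X.fromSpecResidueField x) = x := by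
    rw [gpt_comp, Scheme.fromSpecResidueField_apply]
  have h : gEmb (Spec.map σ ≫ X.fromSpecResidueField x) = (X.residueFieldCongr e).hom ≫ σ := by
    apply map_fromSpec_inj
    rw [gEmb_spec, Spec.map_comp, Category.assoc, Scheme.residueFieldCongr_fromSpecResidueField]
  rintro _ ⟨z, rfl⟩
  exact ⟨(X.residueFieldCongr e).hom z, (congrArg (fun χ => χ.hom z) h).symm⟩

lemma eval_map_minpoly {F E : Type u} [Field F] [Field E] [Algebra F E] (a : E) (χ : E →+* K) (τ : F →+* K)
    (h : χ.comp (algebraMap F E) = τ) : ((minpoly F a).map τ).eval (χ a) = 0 := by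
  subst h
  rw [eval_map, ← hom_eval₂, ← aeval_def, minpoly.aeval, map_zero]

lemma agree_of_roots (f : X ⟶ Y) [LocallyQuasiFinite f] [IsAlgClosed K] (p : Spec (CommRingCat.of K) ⟶ Y)
    (x : X) (hx : f x = gpt p) : ∃ G : Set K, G.Finite ∧ (∀ α ∈ G, IsSepRoot (gRange p) α) ∧
      ∀ (W : Scheme.{u}) (b : W ⟶ Y) (r : Spec (CommRingCat.of K) ⟶ W), r ≫ b = p → G ⊆ gRange r →
        ∀ v : ↑(pullback f b), pullback.snd f b v = gpt r → pullback.fst f b v = x →
          PIAt (pullback.snd f b) v := by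
  letI := (f.residueFieldMap x).hom.toAlgebra
  have : Module.Finite (Y.residueField (f x)) (X.residueField x) := residueField_finite f x
  let τ : Y.residueField (f x) ⟶ CommRingCat.of K := (Y.residueFieldCongr hx).hom ≫ gEmb p
  let B := Module.finBasis (Y.residueField (f x)) (separableClosure (Y.residueField (f x)) (X.residueField x))
  let mp := fun i => (minpoly (Y.residueField (f x)) (B i : X.residueField x)).map τ.hom
  have hsep : ∀ i, (minpoly (Y.residueField (f x)) (B i : X.residueField x)).Separable := fun i =>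
    mem_separableClosure_iff.mp (B i).2
  refine ⟨⋃ i, {α | (mp i).eval α = 0}, Set.finite_iUnion fun i => ?_, ?_, ?_⟩
  · exact Polynomial.finite_setOf_isRoot ((Polynomial.map_ne_zero (minpoly.ne_zero
      (IsIntegral.of_finite _ (B i : X.residueField x)))))
  · intro α hα
    obtain ⟨i, hi⟩ := Set.mem_iUnion.mp hα
    refine ⟨mp i, (minpoly.monic (IsIntegral.of_finite _ _)).map _, fun j => ?_, hi, ?_⟩
    · rw [coeff_map]
      exact ⟨(Y.residueFieldCongr hx).hom _, rfl⟩
    · rw [derivative_map, eval_map]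
      refine (hsep i).eval₂_derivative_ne_zero _ ?_
      rwa [← eval_map]
  · intro W b r hr hG v hv hvx
    subst hvx
    intro K' _ _ q₁ q₂ h₁ h₂ he
    have : LocallyQuasiFinite (pullback.snd f b) := inferInstance
    obtain ⟨⟨q, hq⟩, hqv⟩ := exists_lift (pullback.snd f b) r v hv
    obtain ⟨θ, rfl⟩ := exists_map_fromSpec q hqv
    obtain ⟨θ₁, rfl⟩ := exists_map_fromSpec q₁ h₁
    obtain ⟨θ₂, rfl⟩ := exists_map_fromSpec q₂ h₂
    rw [map_fromSpec_comp, map_fromSpec_comp] at he
    have hsnd := map_fromSpec_inj he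
    have hσ : f.residueFieldMap (pullback.fst f b v) ≫ (pullback.fst f b).residueFieldMap v ≫ θ = τ := by
      apply map_fromSpec_inj (X := Y)
      rw [← map_fromSpec_comp, ← map_fromSpec_comp, Category.assoc _ (pullback.fst f b) f,
        pullback.condition, ← Category.assoc, hq, hr, Spec.map_comp, Category.assoc,
        Scheme.residueFieldCongr_fromSpecResidueField, gEmb_spec]
    have hmem : ∀ i, (pullback.fst f b).residueFieldMap v (B i : X.residueField _) ∈
        (((pullback.snd f b).residueFieldMap v).hom.fieldRange) := by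
      intro i
      have hroot : θ ((pullback.fst f b).residueFieldMap v (B i : X.residueField _)) ∈ gRange r := by
        refine hG (Set.mem_iUnion.mpr ⟨i, ?_⟩)
        exact eval_map_minpoly (B i : X.residueField (pullback.fst f b v))
          ((pullback.fst f b).residueFieldMap v ≫ θ).hom τ.hom (congrArg CommRingCat.Hom.hom hσ)
      have hrange : gRange r ≤ (((pullback.snd f b).residueFieldMap v ≫ θ)).hom.fieldRange := by
        rw [← hq, map_fromSpec_comp]
        exact gRange_map_fromSpec_le _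
      obtain ⟨z, hz⟩ := hrange hroot
      exact ⟨z, θ.hom.injective hz⟩
    have hfst : (pullback.fst f b).residueFieldMap v ≫ θ₁ = (pullback.fst f b).residueFieldMap v ≫ θ₂ := by
      refine CommRingCat.hom_ext (eq_of_agree_separableClosure (F := Y.residueField (f (pullback.fst f b v)))
        _ _ (fun z => ?_) fun i => ?_)
      · have e : f.residueFieldMap (pullback.fst f b v) ≫ (pullback.fst f b).residueFieldMap v ≫ θ₁ =
            f.residueFieldMap (pullback.fst f b v) ≫ (pullback.fst f b).residueFieldMap v ≫ θ₂ := by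
          apply map_fromSpec_inj
          rw [← map_fromSpec_comp, ← map_fromSpec_comp, ← map_fromSpec_comp, ← map_fromSpec_comp,
            Category.assoc _ (pullback.fst f b) f, Category.assoc _ (pullback.fst f b) f, pullback.condition,
            ← Category.assoc, ← Category.assoc _ (pullback.snd f b) b, map_fromSpec_comp _ (pullback.snd f b),
            map_fromSpec_comp _ (pullback.snd f b), hsnd]
        exact congrArg (fun χ => χ.hom z) e
      · obtain ⟨z, hz⟩ := hmem i
        exact (congrArg θ₁.hom hz).symm.trans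
          ((congrArg (fun χ => χ.hom z) hsnd).trans (congrArg θ₂.hom hz))
    apply pullback.hom_ext
    · rw [map_fromSpec_comp, map_fromSpec_comp, hfst]
    · rw [map_fromSpec_comp, map_fromSpec_comp, hsnd]

/-- After an étale extension, all geometric points above the finitely many given points are purely inseparable. -/
theorem exists_etale_PI (f : X ⟶ Y) [LocallyQuasiFinite f] [IsAlgClosed K] (p : Spec (CommRingCat.of K) ⟶ Y)
    (s : Set X) (hs : s.Finite) (hsf : ∀ x ∈ s, f x = gpt p) :
    ∃ (W : Scheme.{u}) (b : W ⟶ Y) (r : Spec (CommRingCat.of K) ⟶ W), Etale b ∧ r ≫ b = p ∧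
      ∀ v : ↑(pullback f b), pullback.snd f b v = gpt r → pullback.fst f b v ∈ s → PIAt (pullback.snd f b) v := by
  choose G hGf hGr hG using fun x : s => agree_of_roots f p x.1 (hsf x.1 x.2)
  have : Finite s := hs.to_subtype
  obtain ⟨W, b, r, hb, hr, hsub⟩ := exists_etale_roots p (⋃ x, G x) (Set.finite_iUnion hGf) (fun α hα => by
    obtain ⟨x, hx⟩ := Set.mem_iUnion.mp hα; exact hGr x α hx)
  exact ⟨W, b, r, hb, hr, fun v hv hvs => hG ⟨_, hvs⟩ W b r hr ((Set.subset_iUnion G _).trans hsub) v hv rfl⟩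

end Groth.Agent.FlatMor66
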