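import Mathlib.RingTheory.LocalRing.Length
import Mathlib.RingTheory.RamificationInertia.Basic
import Mathlib.FieldTheory.PurelyInseparable.Tower
import Mathlib.RingTheory.QuasiFinite.Basic
import Mathlib.RingTheory.Unramified.LocalRing
import Mathlib.RingTheory.RingHom.Flat
import Mathlib.RingTheory.RingHom.QuasiFinite

/-! Length and degree invariants of local homomorphisms. -/

set_option autoImplicit false
universe u

open IsLocalRing

namespace Groth.Agent.FlatMor66

section
variable {A B C : Type u} [CommRing A] [CommRing B] [CommRing C]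
  [IsLocalRing A] [IsLocalRing B] [IsLocalRing C]

/-- The length of the closed fibre of a local homomorphism. -/
noncomputable def lq (φ : A →+* B) : ℕ :=
  (Module.length B (B ⧸ (maximalIdeal A).map φ)).toNat

/-- The inseparable residue degree of a local homomorphism. -/
noncomputable def ideg (φ : A →+* B) [IsLocalHom φ] : ℕ :=
  letI := (ResidueField.map φ).toAlgebra
  Field.finInsepDegree (ResidueField A) (ResidueField B)

/-- The residue degree of a local homomorphism. -/
noncomputable def rdeg (φ : A →+* B) [IsLocalHom φ] : ℕ :=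
  letI := (ResidueField.map φ).toAlgebra
  Module.finrank (ResidueField A) (ResidueField B)

lemma lq_comp_right (φ : A →+* B) (ψ : B →+* C) [IsLocalHom ψ] (hflat : ψ.Flat)
    (hmax : (maximalIdeal B).map ψ = maximalIdeal C) : lq (ψ.comp φ) = lq φ := by
  algebraize [ψ]
  have : IsLocalHom (algebraMap B C) := ‹IsLocalHom ψ›
  have h1 : Module.length C (C ⧸ (maximalIdeal B).map (algebraMap B C)) = 1 := by
    rw [RingHom.algebraMap_toAlgebra, hmax, Module.length_eq_one_iff, isSimpleModule_iff_isCoatom,
      ← Ideal.isMaximal_def]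
    infer_instance
  have h := IsLocalRing.length_baseChange B C (B ⧸ (maximalIdeal A).map φ)
  rw [h1, mul_one, ← (Algebra.TensorProduct.quotIdealMapEquivTensorQuot C
    ((maximalIdeal A).map φ)).toLinearEquiv.length_eq, RingHom.algebraMap_toAlgebra, Ideal.map_map] at h
  rw [lq, lq, h]

lemma lq_comp_left (φ : A →+* B) (ψ : B →+* C) (hmax : (maximalIdeal A).map φ = maximalIdeal B) :
    lq (ψ.comp φ) = lq ψ := by
  rw [lq, lq, ← Ideal.map_map, hmax]

lemma map_maximalIdeal_of_ringEquiv (e : A ≃+* B) : (maximalIdeal A).map (e : A →+* B) = maximalIdeal B :=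
  eq_maximalIdeal (Ideal.map_isMaximal_of_equiv e)

lemma lq_eq_of_equiv {A' B' : Type u} [CommRing A'] [CommRing B'] [IsLocalRing A'] [IsLocalRing B']
    (φ : A →+* B) (φ' : A' →+* B') (eA : A ≃+* A') (eB : B ≃+* B')
    (h : (eB : B →+* B').comp φ = φ'.comp (eA : A →+* A')) : lq φ = lq φ' := by
  have : IsLocalHom (eB : B →+* B') := ⟨fun a ha => by simpa using ha.map eB.symm⟩
  rw [← lq_comp_right φ (eB : B →+* B') (RingHom.Flat.of_bijective eB.bijective)
    (map_maximalIdeal_of_ringEquiv eB), h, lq_comp_left _ _ (map_maximalIdeal_of_ringEquiv eA)]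

lemma ideg_comp_right (φ : A →+* B) (ψ : B →+* C) [IsLocalHom φ] [IsLocalHom ψ]
    (hfin : (ResidueField.map φ).Finite)
    (hsep : letI := (ResidueField.map ψ).toAlgebra; Algebra.IsSeparable (ResidueField B) (ResidueField C)) :
    ideg (ψ.comp φ) = ideg φ := by
  letI := (ResidueField.map φ).toAlgebra
  letI := (ResidueField.map ψ).toAlgebra
  letI := (ResidueField.map (ψ.comp φ)).toAlgebra
  have : IsScalarTower (ResidueField A) (ResidueField B) (ResidueField C) :=
    IsScalarTower.of_algebraMap_eq fun x => by
      obtain ⟨x, rfl⟩ := residue_surjective x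
      rfl
  have : Module.Finite (ResidueField A) (ResidueField B) := hfin
  show Field.finInsepDegree (ResidueField A) (ResidueField C) = Field.finInsepDegree (ResidueField A) (ResidueField B)
  rw [← Field.finInsepDegree_mul_finInsepDegree_of_isAlgebraic (ResidueField A) (ResidueField B) (ResidueField C),
    Algebra.IsSeparable.finInsepDegree_eq (ResidueField B) (ResidueField C), mul_one]

lemma ideg_comp_left (φ : A →+* B) (ψ : B →+* C) [IsLocalHom φ] [IsLocalHom ψ]
    (hfin : (ResidueField.map φ).Finite)
    (hsep : letI := (ResidueField.map φ).toAlgebra; Algebra.IsSeparable (ResidueField A) (ResidueField B)) :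
    ideg (ψ.comp φ) = ideg ψ := by
  letI := (ResidueField.map φ).toAlgebra
  letI := (ResidueField.map ψ).toAlgebra
  letI := (ResidueField.map (ψ.comp φ)).toAlgebra
  have : IsScalarTower (ResidueField A) (ResidueField B) (ResidueField C) :=
    IsScalarTower.of_algebraMap_eq fun x => by
      obtain ⟨x, rfl⟩ := residue_surjective x
      rfl
  have : Module.Finite (ResidueField A) (ResidueField B) := hfin
  show Field.finInsepDegree (ResidueField A) (ResidueField C) = Field.finInsepDegree (ResidueField B) (ResidueField C)
  rw [← Field.finInsepDegree_mul_finInsepDegree_of_isAlgebraic (ResidueField A) (ResidueField B) (ResidueField C),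
    Algebra.IsSeparable.finInsepDegree_eq (ResidueField A) (ResidueField B), one_mul]

lemma rdeg_eq_of_equiv {A' B' : Type u} [CommRing A'] [CommRing B'] [IsLocalRing A'] [IsLocalRing B']
    (φ : A →+* B) (φ' : A' →+* B') [IsLocalHom φ] [IsLocalHom φ'] (eA : A ≃+* A') (eB : B ≃+* B')
    (h : (eB : B →+* B').comp φ = φ'.comp (eA : A →+* A')) : rdeg φ = rdeg φ' := by
  letI := (ResidueField.map φ).toAlgebra
  letI := (ResidueField.map φ').toAlgebra
  refine Algebra.finrank_eq_of_equiv_equiv (ResidueField.mapEquiv eA) (ResidueField.mapEquiv eB) ?_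
  ext x
  obtain ⟨x, rfl⟩ := residue_surjective x
  exact congrArg (residue B') (RingHom.congr_fun h x).symm

lemma lq_pos (φ : A →+* B) [IsLocalHom φ] (hq : φ.QuasiFinite) : 0 < lq φ := by
  algebraize [φ]
  have : IsLocalHom (algebraMap A B) := ‹IsLocalHom φ›
  apply ENat.toNat_pos
  · rw [← pos_iff_ne_zero, Module.length_pos_iff, Submodule.Quotient.nontrivial_iff]
    exact (map_maximalIdeal_lt_top φ).ne
  · let I := (maximalIdeal A).map φ
    letI : Algebra (ResidueField A) (B ⧸ I) :=
      (Ideal.quotientMap I φ Ideal.le_comap_map).toAlgebra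
    have : IsScalarTower A (ResidueField A) (B ⧸ I) := IsScalarTower.of_algebraMap_eq fun a => rfl
    have : Algebra.QuasiFinite A (B ⧸ I) :=
      Algebra.QuasiFinite.of_surjective_algHom (Ideal.Quotient.mkₐ A I) Ideal.Quotient.mk_surjective
    have : Algebra.QuasiFinite (ResidueField A) (B ⧸ I) := .of_restrictScalars A _ _
    have : Module.Finite (ResidueField A) (B ⧸ I) := Module.Finite.of_quasiFinite
    have : IsArtinianRing (B ⧸ I) := IsArtinianRing.of_finite (ResidueField A) (B ⧸ I)
    rw [Module.length_eq_of_surjective (R := B ⧸ I) Ideal.Quotient.mk_surjective,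
      Module.length_ne_top_iff, ← isArtinianRing_iff_isFiniteLength]
    infer_instance

end

/-- The rank of the fibre of a quasi-finite algebra as a sum of local invariants. -/
theorem sum_lq_mul_rdeg {R S : Type u} [CommRing R] [CommRing S] [Algebra R S] [Algebra.QuasiFinite R S]
    (p : Ideal R) [p.IsPrime] [Fintype (p.primesOver S)] :
    ∑ q : p.primesOver S,
      (haveI := q.2.1
       lq (Localization.localRingHom p q.1 (algebraMap R S) q.2.2.over) *
        rdeg (Localization.localRingHom p q.1 (algebraMap R S) q.2.2.over)) =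
      Module.finrank p.ResidueField (p.Fiber S) := by
  rw [← Ideal.sum_ramification_inertia_eq_finrank_fiber p S]
  refine Finset.sum_congr rfl fun q _ => ?_
  have := q.2.1
  have := q.2.2
  let := Localization.AtPrime.algebraOfLiesOver p q.1
  rw [Ideal.ramificationIdx_eq p q.1, Ideal.inertiaDeg_eq p q.1]
  congr 1
  · rw [lq, ← Localization.AtPrime.map_eq_maximalIdeal (I := p), Ideal.map_map]
    congr 4 <;>
    · ext x
      rw [RingHom.comp_apply, IsScalarTower.algebraMap_apply R S (Localization.AtPrime q.1),
        Localization.localRingHom_to_map]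
  · rw [rdeg]
    congr 1
    refine Module.ext' _ _ fun r x => ?_
    obtain ⟨r, rfl⟩ := residue_surjective r
    obtain ⟨x, rfl⟩ := residue_surjective x
    rfl

end Groth.Agent.FlatMor66
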