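import Groth.Agent.FlatMor66.Weight
import Groth.Agent.FlatMor66.LocDeg
import Mathlib.AlgebraicGeometry.Morphisms.FlatRank
import Mathlib.AlgebraicGeometry.Morphisms.FormallyUnramified

/-! The weighting of a flat quasi-finite morphism of finite presentation. -/

set_option autoImplicit false
universe u

open AlgebraicGeometry CategoryTheory Limits IsLocalRing

namespace Groth.Agent.FlatMor66

variable {X Y X' Y' U V : Scheme.{u}}

/-- Length of the fibre times the inseparable residue degree. -/
noncomputable def wgt (f : X ⟶ Y) (x : X) : ℤ :=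
  (lq (f.stalkMap x).hom : ℤ) * ideg (f.stalkMap x).hom

lemma ideg_congr {A B : Type u} [CommRing A] [CommRing B] [IsLocalRing A] [IsLocalRing B]
    {φ φ' : A →+* B} [IsLocalHom φ] [IsLocalHom φ'] (e : φ = φ') : ideg φ = ideg φ' := by
  subst e; rfl

lemma ideg_eq_right {A B C : Type u} [CommRing A] [CommRing B] [CommRing C] [IsLocalRing A] [IsLocalRing B]
    [IsLocalRing C] {φ : A →+* B} {ψ : B →+* C} {χ : A →+* C} {hφ : IsLocalHom φ} {hψ : IsLocalHom ψ} {hχ : IsLocalHom χ}
    (e : χ = ψ.comp φ) (hfin : (ResidueField.map φ).Finite)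
    (hsep : letI := (ResidueField.map ψ).toAlgebra; Algebra.IsSeparable (ResidueField B) (ResidueField C)) :
    ideg χ = ideg φ := by
  subst e; exact ideg_comp_right φ ψ hfin hsep

lemma ideg_eq_left {A B C : Type u} [CommRing A] [CommRing B] [CommRing C] [IsLocalRing A] [IsLocalRing B]
    [IsLocalRing C] {φ : A →+* B} {ψ : B →+* C} {χ : A →+* C} {hφ : IsLocalHom φ} {hψ : IsLocalHom ψ} {hχ : IsLocalHom χ}
    (e : χ = ψ.comp φ) (hfin : (ResidueField.map φ).Finite)
    (hsep : letI := (ResidueField.map φ).toAlgebra; Algebra.IsSeparable (ResidueField A) (ResidueField B)) :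
    ideg χ = ideg ψ := by
  subst e; exact ideg_comp_left φ ψ hfin hsep

lemma wgt_congr {f g : X ⟶ Y} (e : f = g) (x : X) : wgt f x = wgt g x := by subst e; rfl

lemma map_maximalIdeal_stalkMap (h : X ⟶ Y) [Etale h] (x : X) :
    (maximalIdeal (Y.presheaf.stalk (h x))).map (h.stalkMap x).hom = maximalIdeal (X.presheaf.stalk x) := by
  algebraize [(h.stalkMap x).hom]
  have : IsLocalHom (algebraMap (Y.presheaf.stalk (h x)) (X.presheaf.stalk x)) :=
    inferInstanceAs <| IsLocalHom (h.stalkMap x).hom
  have : Algebra.EssFiniteType (Y.presheaf.stalk (h x)) (X.presheaf.stalk x) := by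
    rw [← RingHom.essFiniteType_algebraMap, RingHom.algebraMap_toAlgebra]
    exact LocallyOfFiniteType.stalkMap h x
  have : Algebra.FormallyUnramified (Y.presheaf.stalk (h x)) (X.presheaf.stalk x) := by
    rw [← RingHom.formallyUnramified_algebraMap, RingHom.algebraMap_toAlgebra]
    exact FormallyUnramified.stalkMap h x
  exact Algebra.FormallyUnramified.map_maximalIdeal

theorem wgt_etale_left (h : X' ⟶ X) [Etale h] (f : X ⟶ Y) [LocallyQuasiFinite f] (x : X') :
    wgt (h ≫ f) x = wgt f (h x) := by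
  have e : ((h ≫ f).stalkMap x).hom = (h.stalkMap x).hom.comp (f.stalkMap (h x)).hom := by
    rw [Scheme.Hom.stalkMap_comp]; rfl
  unfold wgt
  rw [show lq ((h ≫ f).stalkMap x).hom = lq ((h.stalkMap x).hom.comp (f.stalkMap (h x)).hom) from congrArg lq e]
  erw [lq_comp_right _ _ (Flat.stalkMap h x) (map_maximalIdeal_stalkMap h x),
    ideg_eq_right (φ := (f.stalkMap (h x)).hom) (ψ := (h.stalkMap x).hom) e (residueField_finite f (h x))
      (inferInstance : letI := (h.residueFieldMap x).hom.toAlgebra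
        Algebra.IsSeparable (X.residueField (h x)) (X'.residueField x))]
  all_goals first | rfl | infer_instance

theorem wgt_etale_right (f : X ⟶ Y) [LocallyQuasiFinite f] (b : Y ⟶ Y') [Etale b] (x : X) :
    wgt (f ≫ b) x = wgt f x := by
  have : LocallyQuasiFinite b := lqf_of_etale b
  have e : ((f ≫ b).stalkMap x).hom = (f.stalkMap x).hom.comp (b.stalkMap (f x)).hom := by
    rw [Scheme.Hom.stalkMap_comp]; rfl
  unfold wgt
  rw [show lq ((f ≫ b).stalkMap x).hom = lq ((f.stalkMap x).hom.comp (b.stalkMap (f x)).hom) from congrArg lq e]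
  erw [lq_comp_left _ _ (map_maximalIdeal_stalkMap b (f x)),
    ideg_eq_left (φ := (b.stalkMap (f x)).hom) (ψ := (f.stalkMap x).hom) e (residueField_finite b (f x))
      (inferInstance : letI := (b.residueFieldMap (f x)).hom.toAlgebra
        Algebra.IsSeparable (Y'.residueField (b (f x))) (Y.residueField (f x)))]
  all_goals first | rfl | infer_instance

theorem wgt_square (f : X ⟶ Y) [LocallyQuasiFinite f] (f' : X' ⟶ Y') [LocallyQuasiFinite f']
    (h : X' ⟶ X) [Etale h] (b : Y' ⟶ Y) [Etale b] (e : h ≫ f = f' ≫ b) (x : X') :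
    wgt f' x = wgt f (h x) := by
  rw [← wgt_etale_right f' b x, wgt_congr e.symm, wgt_etale_left]

lemma lq_localRingHom {R S : Type u} [CommRing R] [CommRing S] (φ : R →+* S) (p : Ideal R) [p.IsPrime]
    (q : Ideal S) [q.IsPrime] (h : p = q.comap φ) :
    lq (Localization.localRingHom p q φ h) * rdeg (Localization.localRingHom p q φ h) =
      lq (Localization.localRingHom (q.comap φ) q φ rfl) * rdeg (Localization.localRingHom (q.comap φ) q φ rfl) := by
  subst h; rfl

theorem fibreIntegral_Spec {R S : CommRingCat.{u}} (φ : R ⟶ S) [IsFinite (Spec.map φ)] [Flat (Spec.map φ)]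
    (v : ↑(Spec R)) :
    MoreMor.fibreIntegral (Spec.map φ) (wgt (Spec.map φ)) v = (Spec.map φ).finrank v := by
  have hf : φ.hom.Finite := IsFinite.SpecMap_iff φ |>.mp ‹_›
  have hfl : φ.hom.Flat := (Flat.SpecMap_iff).mp ‹_›
  algebraize [φ.hom]
  have : Module.Finite R S := hf
  have : Module.Flat R S := hfl
  let p : Ideal R := PrimeSpectrum.asIdeal v
  have : Finite (p.primesOver S) := (Algebra.QuasiFinite.finite_primesOver p).to_subtype
  have : Fintype (p.primesOver S) := Fintype.ofFinite _
  have hr : (Spec.map φ).finrank v = Module.rankAtStalk (R := R) S v :=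
    Scheme.Hom.finrank_SpecMap_algebraMap (R := R) (S := S) v
  rw [hr, Module.rankAtStalk_eq, ← sum_lq_mul_rdeg (R := R) (S := S) v.asIdeal]
  push_cast
  rw [MoreMor.fibreIntegral, ← finsum_eq_sum_of_fintype]
  let e : {u : ↑(Spec S) // Spec.map φ u = v} → p.primesOver S := fun u =>
    ⟨PrimeSpectrum.asIdeal u.1, inferInstance, ⟨(congrArg PrimeSpectrum.asIdeal u.2).symm⟩⟩
  refine finsum_eq_of_bijective e ⟨fun a b h => Subtype.ext (PrimeSpectrum.ext (congrArg Subtype.val h :)),
    fun q => ⟨⟨⟨q.1, q.2.1⟩, PrimeSpectrum.ext q.2.2.over.symm⟩, rfl⟩⟩ fun u => ?_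
  obtain ⟨u, rfl⟩ := u
  rw [← Nat.cast_mul, lq_localRingHom]
  let eA : (Spec R).presheaf.stalk (Spec.map φ u) ≃+*
      Localization.AtPrime ((PrimeSpectrum.asIdeal u).comap φ.hom) :=
    (Spec.stalkIso R ((PrimeSpectrum.comap φ.hom) u)).commRingCatIsoToRingEquiv
  let eB : (Spec S).presheaf.stalk u ≃+* Localization.AtPrime (PrimeSpectrum.asIdeal u) :=
    (Spec.stalkIso S u).commRingCatIsoToRingEquiv
  have hsq : (eB : _ →+* _).comp ((Spec.map φ).stalkMap u).hom =
      (Localization.localRingHom (PrimeSpectrum.asIdeal u |>.comap φ.hom) (PrimeSpectrum.asIdeal u) φ.hom rfl).comp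
        (eA : _ →+* _) := by
    have := (Scheme.arrowStalkMapSpecIso φ u).hom.w
    exact congrArg CommRingCat.Hom.hom this.symm
  rw [show lq (Localization.localRingHom ((e ⟨u, rfl⟩).1.comap (algebraMap R S)) (e ⟨u, rfl⟩).1 (algebraMap R S) rfl) =
      lq ((Spec.map φ).stalkMap u).hom from (lq_eq_of_equiv _ _ eA eB hsq).symm,
    show rdeg (Localization.localRingHom ((e ⟨u, rfl⟩).1.comap (algebraMap R S)) (e ⟨u, rfl⟩).1 (algebraMap R S) rfl) =
      rdeg ((Spec.map φ).stalkMap u).hom from (rdeg_eq_of_equiv _ _ eA eB hsq).symm]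
  show (lq ((Spec.map φ).stalkMap u).hom : ℤ) * ideg ((Spec.map φ).stalkMap u).hom * _ = _
  have hres := residueField_finite (Spec.map φ) u
  letI := ((Spec.map φ).residueFieldMap u).hom.toAlgebra
  have : Module.Finite ((Spec R).residueField (Spec.map φ u)) ((Spec S).residueField u) := hres
  have hmul := Field.finSepDegree_mul_finInsepDegree ((Spec R).residueField (Spec.map φ u)) ((Spec S).residueField u)
  push_cast
  rw [mul_assoc]
  congr 1
  rw [mul_comm]
  exact_mod_cast hmul

theorem fibreIntegral_wgt (π : U ⟶ V) [IsFinite π] [Flat π] (v : V) :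
    MoreMor.fibreIntegral π (wgt π) v = π.finrank v := by
  obtain ⟨R, g, _, t, rfl⟩ := V.exists_Spec_apply_eq v
  have : IsAffine (pullback π g) := isAffine_of_isAffineHom (pullback.snd π g)
  let j := (pullback π g).isoSpec
  obtain ⟨φ, hφ⟩ := Spec.map_surjective (j.inv ≫ pullback.snd π g)
  have hsq : IsPullback (j.inv ≫ pullback.fst π g) (Spec.map φ) π g := by
    rw [hφ]
    exact IsPullback.of_iso (IsPullback.of_hasPullback π g) j (Iso.refl _) (Iso.refl _) (Iso.refl _)
      (by simp) (by simp) (by simp) (by simp)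
  have : IsFinite (Spec.map φ) := MorphismProperty.of_isPullback hsq ‹_›
  have : Flat (Spec.map φ) := MorphismProperty.of_isPullback hsq ‹_›
  have : IsOpenImmersion (j.inv ≫ pullback.fst π g) :=
    MorphismProperty.of_isPullback (P := @IsOpenImmersion) hsq.flip ‹_›
  have hw : wgt π ∘ ⇑(j.inv ≫ pullback.fst π g) = wgt (Spec.map φ) := funext fun x =>
    (wgt_square π (Spec.map φ) (j.inv ≫ pullback.fst π g) g hsq.w x).symm
  rw [← fibreIntegral_baseChange π (Spec.map φ) _ g hsq (wgt π) t (π.finite_preimage_singleton _), hw,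
    fibreIntegral_Spec, Scheme.Hom.finrank_of_isPullback _ _ π g hsq t]

theorem isWeighting_wgt (f : X ⟶ Y) [LocallyQuasiFinite f] [Flat f] [LocallyOfFinitePresentation f] :
    MoreMor.IsWeighting f (wgt f) := by
  intro V g _ U hfin
  let π := U.ι ≫ pullback.snd f g
  have : IsFinite π := hfin
  have hw : (fun u => wgt f (pullback.fst f g (U.ι u))) = wgt π := funext fun u => by
    rw [← Scheme.Hom.comp_apply]
    exact (wgt_square f π (U.ι ≫ pullback.fst f g) g
      (by rw [Category.assoc, pullback.condition, Category.assoc]) u).symm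
  show IsLocallyConstant (MoreMor.fibreIntegral π fun u => wgt f (pullback.fst f g (U.ι u)))
  rw [hw, funext (fibreIntegral_wgt π)]
  exact π.isLocallyConstant_finrank.comp (fun n : ℕ => (n : ℤ))

theorem wgt_pos (f : X ⟶ Y) [LocallyQuasiFinite f] (x : X) : 0 < wgt f x := by
  refine mul_pos (Int.natCast_pos.mpr (lq_pos _ (f.quasiFiniteAt x))) (Int.natCast_pos.mpr ?_)
  letI := (f.residueFieldMap x).hom.toAlgebra
  have : Module.Finite (Y.residueField (f x)) (X.residueField x) := residueField_finite f x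
  exact (NeZero.pos (Field.finInsepDegree (Y.residueField (f x)) (X.residueField x)))

end Groth.Agent.FlatMor66
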