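import Groth.Agent.FlatMor66.RegFlat
import Groth.Agent.FlatMor66.FibCritAlg
import Groth.Agent.Frg27.BaseChange

/-!
Slicing a flat finitely presented algebra by a sequence which is regular in the fibre.
-/

set_option autoImplicit false
set_option linter.style.haveILetI false
universe u

open TensorProduct RingTheory.Sequence IsLocalRing
open scoped Pointwise

noncomputable section

namespace Groth.Agent.FlatMor66

attribute [local instance] Algebra.TensorProduct.rightAlgebra

/-- The variables form a weakly regular sequence. -/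
theorem isWeaklyRegular_X {R : Type u} [CommRing R] : ∀ n : ℕ,
    IsWeaklyRegular (MvPolynomial (Fin n) R) (List.ofFn fun i : Fin n => (MvPolynomial.X i : MvPolynomial (Fin n) R)) := by
  intro n
  induction n with
  | zero => simp
  | succ n ih =>
    rw [List.ofFn_succ, isWeaklyRegular_cons_iff]
    refine ⟨MvPolynomial.isRegular_X.left.isSMulRegular, ?_⟩
    let P := MvPolynomial (Fin (n + 1)) R
    let φ : P →ₐ[R] MvPolynomial (Fin n) R := MvPolynomial.aeval (Fin.cases 0 MvPolynomial.X)
    let σ : MvPolynomial (Fin n) R →ₐ[R] P := MvPolynomial.rename Fin.succ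
    have hφ0 : φ (MvPolynomial.X 0) = 0 := (MvPolynomial.aeval_X _ 0).trans rfl
    have hφs : ∀ i : Fin n, φ (MvPolynomial.X i.succ) = MvPolynomial.X i := fun i =>
      (MvPolynomial.aeval_X _ i.succ).trans rfl
    have hφC : ∀ a : R, φ (MvPolynomial.C a) = MvPolynomial.C a := fun a => φ.commutes a
    have hσs : ∀ i : Fin n, σ (MvPolynomial.X i) = MvPolynomial.X i.succ := fun i => MvPolynomial.rename_X _ i
    have hσC : ∀ a : R, σ (MvPolynomial.C a) = MvPolynomial.C a := fun a => σ.commutes a
    have hσ : ∀ q, φ (σ q) = q := by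
      intro q
      have h : φ.comp σ = AlgHom.id R _ := MvPolynomial.algHom_ext fun i => by
        rw [AlgHom.comp_apply, hσs, hφs, AlgHom.id_apply]
      exact DFunLike.congr_fun h q
    have hker : ∀ p : P, ∃ r : P, p = σ (φ p) + MvPolynomial.X 0 * r := by
      intro p
      induction p using MvPolynomial.induction_on with
      | C a => exact ⟨0, by rw [hφC, hσC, mul_zero, add_zero]⟩
      | add p q hp hq =>
        obtain ⟨r, hr⟩ := hp
        obtain ⟨r', hr'⟩ := hq
        exact ⟨r + r', by rw [map_add, map_add]; linear_combination hr + hr'⟩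
      | mul_X p i hp =>
        obtain ⟨r, hr⟩ := hp
        cases i using Fin.cases with
        | zero => exact ⟨p, by rw [map_mul, hφ0, mul_zero, map_zero, zero_add, mul_comm]⟩
        | succ i =>
          refine ⟨r * MvPolynomial.X i.succ, ?_⟩
          rw [map_mul, map_mul]
          have : σ (φ (MvPolynomial.X i.succ)) = (MvPolynomial.X i.succ : P) := by rw [hφs, hσs]
          rw [this]
          linear_combination (MvPolynomial.X i.succ : P) * hr
    let q : P →+ MvPolynomial (Fin n) R := φ.toRingHom.toAddMonoidHom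
    have hle : ∀ x ∈ ((MvPolynomial.X 0 : P) • ⊤ : Submodule P P), q x = 0 := fun x hx => by
      obtain ⟨y, -, rfl⟩ := (Submodule.mem_smul_pointwise_iff_exists _ _ _).mp hx
      show φ (MvPolynomial.X 0 * y) = 0
      rw [map_mul, hφ0, zero_mul]
    let e₀ : (P ⧸ ((MvPolynomial.X 0 : P) • ⊤ : Submodule P P)) →+ MvPolynomial (Fin n) R :=
      QuotientAddGroup.lift ((MvPolynomial.X 0 : P) • ⊤ : Submodule P P).toAddSubgroup q fun x hx => hle x hx
    have he : Function.Bijective e₀ := by
      refine ⟨(injective_iff_map_eq_zero e₀).mpr fun x hx => ?_, fun y => ⟨Submodule.Quotient.mk (σ y), hσ y⟩⟩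
      obtain ⟨p, rfl⟩ := Submodule.Quotient.mk_surjective _ x
      obtain ⟨r, hr⟩ := hker p
      have hx' : φ p = 0 := hx
      rw [Submodule.Quotient.mk_eq_zero, hr, hx', map_zero, zero_add]
      exact Submodule.smul_mem_pointwise_smul r _ _ trivial
    refine ((AddEquiv.ofBijective e₀ he).isWeaklyRegular_congr ?_).mpr ih
    rw [List.forall₂_iff_get]
    refine ⟨by simp, fun j h₁ h₂ x => ?_⟩
    obtain ⟨p, rfl⟩ := Submodule.Quotient.mk_surjective _ x
    simp only [List.get_eq_getElem, List.getElem_ofFn]
    show φ (MvPolynomial.X (Fin.succ _) * p) = MvPolynomial.X _ * φ p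
    rw [map_mul, hφs]

/-- A quotient by the images of the variables of a flat algebra over polynomials is flat. -/
theorem flat_quotient_of_flat_polynomial {R C : Type u} [CommRing R] [CommRing C] [Algebra R C] {n : ℕ}
    (a : Fin n → C) (h : ((MvPolynomial.aeval a : MvPolynomial (Fin n) R →ₐ[R] C).toRingHom).Flat) :
    Module.Flat R (C ⧸ Ideal.ofList (List.ofFn a)) := by
  let B := MvPolynomial (Fin n) R
  letI : Algebra B C := (MvPolynomial.aeval a : B →ₐ[R] C).toRingHom.toAlgebra
  haveI : IsScalarTower R B C := .of_algebraMap_eq fun x => ((MvPolynomial.aeval a : B →ₐ[R] C).commutes x).symm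
  haveI : Module.Flat B C := h
  let J : Ideal B := Ideal.span (Set.range (MvPolynomial.X : Fin n → B))
  have h1 := Frg27.flat_quotientMap (T := B) (S := C) J
  have hJ : J ≤ RingHom.ker (MvPolynomial.constantCoeff : B →+* R) := Ideal.span_le.mpr (by
    rintro _ ⟨i, rfl⟩
    exact RingHom.mem_ker.mpr ((MvPolynomial.constantCoeff_X ..)))
  have hsurj : ∀ p : B, p - MvPolynomial.C (MvPolynomial.constantCoeff p) ∈ J := by
    intro p
    induction p using MvPolynomial.induction_on with
    | C a => simp
    | add p q hp hq =>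
      rw [map_add, map_add]
      convert J.add_mem hp hq using 1
      ring
    | mul_X p i hp =>
      simp only [map_mul, MvPolynomial.constantCoeff_X, mul_zero, map_zero, sub_zero]
      exact J.mul_mem_left _ (Ideal.subset_span ⟨i, rfl⟩)
  let ι : R →+* B ⧸ J := (Ideal.Quotient.mk J).comp MvPolynomial.C
  have hι : Function.Bijective ι := by
    refine ⟨(injective_iff_map_eq_zero ι).mpr fun r hr => ?_, fun x => ?_⟩
    · exact (MvPolynomial.constantCoeff_C (Fin n) r).symm.trans (RingHom.mem_ker.mp (hJ (Ideal.Quotient.eq_zero_iff_mem.mp hr)))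
    · obtain ⟨p, rfl⟩ := Ideal.Quotient.mk_surjective x
      exact ⟨MvPolynomial.constantCoeff p, (Ideal.Quotient.eq.mpr (hsurj p)).symm⟩
  have hmap : J.map (algebraMap B C) = Ideal.ofList (List.ofFn a) := by
    show (Ideal.span (Set.range (MvPolynomial.X : Fin n → B))).map (algebraMap B C) = Ideal.span {x | x ∈ List.ofFn a}
    rw [Ideal.map_span, ← Set.range_comp]
    congr 1
    ext x
    simp [RingHom.algebraMap_toAlgebra, List.mem_ofFn, eq_comm]
  have h2 := RingHom.Flat.comp (RingHom.Flat.comp (RingHom.Flat.of_bijective hι) h1)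
    (RingHom.Flat.of_bijective (f := (Ideal.quotEquivOfEq hmap).toRingHom) (Ideal.quotEquivOfEq hmap).bijective)
  rw [← RingHom.flat_algebraMap_iff]
  convert h2 using 1
  exact RingHom.ext fun r => by
    show Ideal.Quotient.mk _ (algebraMap R C r) = Ideal.Quotient.mk _ (algebraMap B C (MvPolynomial.C r))
    rw [← MvPolynomial.algebraMap_eq, ← IsScalarTower.algebraMap_apply]

/-- The images of the variables stay weakly regular after any base change. -/
theorem isWeaklyRegular_baseChange {R C : Type u} [CommRing R] [CommRing C] [Algebra R C] {n : ℕ}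
    (a : Fin n → C) (h : ((MvPolynomial.aeval a : MvPolynomial (Fin n) R →ₐ[R] C).toRingHom).Flat)
    (R' : Type u) [CommRing R'] [Algebra R R'] :
    IsWeaklyRegular (R' ⊗[R] C) (List.ofFn fun i => (1 : R') ⊗ₜ[R] a i) := by
  let B' := MvPolynomial (Fin n) R'
  let e : R' ⊗[R] MvPolynomial (Fin n) R ≃ₐ[R'] B' := MvPolynomial.algebraTensorAlgEquiv R R'
  let φ : B' →+* R' ⊗[R] C := (Algebra.TensorProduct.map (AlgHom.id R R') (MvPolynomial.aeval a)).toRingHom.comp
    e.symm.toRingEquiv.toRingHom
  have hφ : φ.Flat := RingHom.Flat.comp (RingHom.Flat.of_bijective e.symm.bijective)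
    (RingHom.Flat.tensorProductMap (RingHom.Flat.of_bijective Function.bijective_id) h)
  have hX : ∀ i, φ (MvPolynomial.X i) = (1 : R') ⊗ₜ[R] a i := fun i => by
    have : e.symm (MvPolynomial.X i) = (1 : R') ⊗ₜ[R] (MvPolynomial.X i : MvPolynomial (Fin n) R) :=
      MvPolynomial.algebraTensorAlgEquiv_symm_X R R' i
    show Algebra.TensorProduct.map (AlgHom.id R R') (MvPolynomial.aeval a) (e.symm (MvPolynomial.X i)) = _
    rw [this]
    simp
  letI : Algebra B' (R' ⊗[R] C) := φ.toAlgebra
  haveI : Module.Flat B' (R' ⊗[R] C) := hφ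
  have h1 := IsWeaklyRegular.of_flat (S := R' ⊗[R] C) (isWeaklyRegular_X (R := R') n)
  rw [List.map_ofFn] at h1
  rw [show (fun i => (1 : R') ⊗ₜ[R] a i) = fun i => φ (MvPolynomial.X i) from funext fun i => (hX i).symm]
  exact h1

/-- **Slicing**: a sequence regular in the fibre at `Q` makes the algebra flat over polynomials near `Q`. -/
theorem exists_flat_over_polynomial {R C LC : Type u} [CommRing R] [CommRing C] [CommRing LC] [IsLocalRing LC]
    [Algebra R C] [Algebra C LC] [Algebra R LC] [IsScalarTower R C LC] [Algebra.FinitePresentation R C]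
    (Q : Ideal C) [Q.IsPrime] [IsLocalization.AtPrime LC Q] (hC : Module.Flat R LC) {n : ℕ} (a : Fin n → C)
    (ha : ∀ i, a i ∈ Q)
    (hreg : IsWeaklyRegular (LC ⧸ (Q.under R).map (algebraMap R LC))
      (List.ofFn fun i => Ideal.Quotient.mk ((Q.under R).map (algebraMap R LC)) (algebraMap C LC (a i)))) :
    ∃ g ∉ Q, ∀ (C' : Type u) [CommRing C'] [Algebra R C'] [Algebra C C'] [IsScalarTower R C C']
      [IsLocalization.Away g C'],
      ((MvPolynomial.aeval fun i => algebraMap C C' (a i) : MvPolynomial (Fin n) R →ₐ[R] C').toRingHom).Flat := by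
  let B := MvPolynomial (Fin n) R
  letI : Algebra B C := (MvPolynomial.aeval a : B →ₐ[R] C).toRingHom.toAlgebra
  haveI : IsScalarTower R B C := .of_algebraMap_eq fun x => ((MvPolynomial.aeval a : B →ₐ[R] C).commutes x).symm
  let CQ := Localization.AtPrime Q
  letI : Algebra B LC := ((algebraMap C LC).comp (algebraMap B C)).toAlgebra
  haveI : IsScalarTower B C LC := .of_algebraMap_eq' rfl
  haveI : IsScalarTower R B LC := IsScalarTower.of_algebraMap_eq (R := R) (S := B) (A := LC) fun x => by
    show algebraMap R LC x = algebraMap C LC (algebraMap B C (algebraMap R B x))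
    rw [← IsScalarTower.algebraMap_apply R B C, ← IsScalarTower.algebraMap_apply R C LC]
  let p := (Q.under B).under R
  have hp : p = Q.under R := by
    simp only [p, Ideal.under_def, Ideal.comap_comap, ← IsScalarTower.algebraMap_eq]
  let k := p.ResidueField
  let ι : LC ≃ₐ[C] CQ := IsLocalization.algEquiv Q.primeCompl LC CQ
  haveI hCQ : Module.Flat R CQ := Module.Flat.of_linearEquiv (ι.restrictScalars R).symm.toLinearEquiv
  have hu : ∀ s ∉ p, IsUnit (algebraMap R LC s) := fun s hs => by
    rw [IsScalarTower.algebraMap_apply R C LC]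
    exact IsLocalization.map_units LC (⟨_, fun h => hs (hp.ge h)⟩ : Q.primeCompl)
  let L := k ⊗[R] LC
  let π : LC →ₐ[R] L := Algebra.TensorProduct.includeRight
  have hπ : Function.Surjective π := includeRight_residueField_surjective p hu
  haveI : Nontrivial L := by
    refine ⟨π 1, 0, fun h => ?_⟩
    have h1 : (1 : LC) ∈ RingHom.ker π.toRingHom := h
    rw [ker_includeRight_residueField p hu] at h1
    have h2 : p.map (algebraMap R LC) ≤ maximalIdeal LC := Ideal.map_le_iff_le_comap.mpr fun x hx => by
      rw [Ideal.mem_comap, IsScalarTower.algebraMap_apply R C LC, IsLocalization.AtPrime.to_map_mem_maximal_iff LC Q]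
      exact hp.le hx
    exact (maximalIdeal.isMaximal LC).ne_top ((Ideal.eq_top_iff_one _).mpr (h2 h1))
  haveI : IsLocalRing L := IsLocalRing.of_surjective' π.toRingHom hπ
  let fs : Fin n → L := fun i => π (algebraMap C LC (a i))
  have hfs : ∀ i, fs i ∈ maximalIdeal L := fun i => by
    haveI : IsLocalHom π.toRingHom := IsLocalHom.of_surjective _ hπ
    exact (map_mem_nonunits_iff π.toRingHom _).mpr ((IsLocalization.AtPrime.to_map_mem_maximal_iff LC Q (a i)).mpr (ha i))
  haveI : IsNoetherianRing L := by
    haveI : IsNoetherianRing (k ⊗[R] C) := Algebra.FiniteType.isNoetherianRing k _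
    let ρ : k ⊗[R] C →ₐ[R] L := Algebra.TensorProduct.map (AlgHom.id R k) (IsScalarTower.toAlgHom R C LC)
    refine (isNoetherianRing_iff_ideal_fg L).mpr fun I => ?_
    suffices h : (I.comap ρ).map ρ = I by
      rw [← h]
      exact Ideal.FG.map (IsNoetherian.noetherian _) _
    refine le_antisymm Ideal.map_comap_le fun z hz => ?_
    obtain ⟨l, rfl⟩ := hπ z
    obtain ⟨⟨c, s⟩, hcs⟩ := IsLocalization.surj Q.primeCompl l
    have h1 : π l * π (algebraMap C LC s) = ρ ((1 : k) ⊗ₜ c) := by
      rw [← map_mul, hcs]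
      exact (Algebra.TensorProduct.map_tmul (AlgHom.id R k) (IsScalarTower.toAlgHom R C LC) 1 c).symm
    have hus : IsUnit (π (algebraMap C LC s)) := (IsLocalization.map_units LC s).map π
    refine (Ideal.mul_unit_mem_iff_mem _ hus).mp ?_
    rw [h1]
    refine Ideal.mem_map_of_mem _ ?_
    rw [Ideal.mem_comap, ← h1]
    exact I.mul_mem_right _ hz
  have hregL : IsWeaklyRegular L (List.ofFn fs) := by
    let J := (Q.under R).map (algebraMap R LC)
    have hk : RingHom.ker π.toRingHom = J := by
      rw [ker_includeRight_residueField p hu, hp]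
    let e : LC ⧸ J ≃+* L := (Ideal.quotEquivOfEq hk.symm).trans (RingHom.quotientKerEquivOfSurjective hπ)
    refine (e.toAddEquiv.isWeaklyRegular_congr ?_).mp hreg
    rw [List.forall₂_iff_get]
    refine ⟨by simp, fun j h₁ h₂ x => ?_⟩
    simp only [List.get_eq_getElem, List.getElem_ofFn, smul_eq_mul, RingEquiv.toAddEquiv_eq_coe,
      RingEquiv.coe_toAddEquiv, map_mul]
    rfl
  have h1 := flat_mvPolynomial_of_regular (k := k) n L fs hfs hregL
  have h2 : ((Algebra.TensorProduct.map (AlgHom.id R k) (IsScalarTower.toAlgHom R B LC)).toRingHom).Flat := by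
    let e := MvPolynomial.algebraTensorAlgEquiv R k (σ := Fin n)
    have key : (MvPolynomial.aeval fs : MvPolynomial (Fin n) k →ₐ[k] L).comp e.toAlgHom =
        Algebra.TensorProduct.map (AlgHom.id k k) (IsScalarTower.toAlgHom R B LC) := by
      refine Algebra.TensorProduct.ext (AlgHom.ext fun x => ?_) (MvPolynomial.algHom_ext fun i => ?_)
      · show MvPolynomial.aeval fs (e (x ⊗ₜ[R] (1 : B))) = x ⊗ₜ[R] (IsScalarTower.toAlgHom R B LC) 1
        rw [show e (x ⊗ₜ[R] (1 : B)) = MvPolynomial.C x by simp [e, MvPolynomial.smul_eq_C_mul], MvPolynomial.aeval_C,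
          map_one, Algebra.TensorProduct.algebraMap_apply]
        rfl
      · show MvPolynomial.aeval fs (e ((1 : k) ⊗ₜ[R] (MvPolynomial.X i : B))) =
          (1 : k) ⊗ₜ[R] algebraMap B LC (MvPolynomial.X i)
        rw [show e ((1 : k) ⊗ₜ[R] (MvPolynomial.X i : B)) = MvPolynomial.X i by simp [e], MvPolynomial.aeval_X]
        show (1 : k) ⊗ₜ[R] algebraMap C LC (a i) = (1 : k) ⊗ₜ[R] algebraMap C LC (MvPolynomial.aeval a (MvPolynomial.X i))
        rw [MvPolynomial.aeval_X]
    have h3 := RingHom.Flat.comp (RingHom.Flat.of_bijective (f := e.toRingEquiv.toRingHom) e.bijective) h1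
    have h4 : ((MvPolynomial.aeval fs : MvPolynomial (Fin n) k →ₐ[k] L).comp e.toAlgHom).toRingHom.Flat := h3
    rw [key] at h4
    exact h4
  have hfib : ((Algebra.TensorProduct.map (AlgHom.id R k) (IsScalarTower.toAlgHom R B CQ)).toRingHom).Flat := by
    let e' : k ⊗[R] LC ≃ₐ[k] k ⊗[R] CQ := Algebra.TensorProduct.congr AlgEquiv.refl (ι.restrictScalars R)
    have h3 := RingHom.Flat.comp h2 (RingHom.Flat.of_bijective (f := e'.toRingEquiv.toRingHom) e'.bijective)
    convert h3 using 1
    refine RingHom.ext fun z => ?_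
    induction z using TensorProduct.induction_on with
    | zero => simp
    | add x y hx hy => simp only [map_add, hx, hy]
    | tmul x b =>
      show x ⊗ₜ[R] algebraMap B CQ b = e' (x ⊗ₜ algebraMap B LC b)
      simp [e', IsScalarTower.algebraMap_apply B C LC, IsScalarTower.algebraMap_apply B C CQ]
  obtain ⟨g, hg, hQ'⟩ := critere_ring (R := R) (B := B) (C := C) Q hCQ hfib
  refine ⟨g, hg, fun C' _ _ _ _ _ => ?_⟩
  letI : Algebra B C' := (MvPolynomial.aeval fun i => algebraMap C C' (a i) : B →ₐ[R] C').toRingHom.toAlgebra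
  haveI : IsScalarTower B C C' := IsScalarTower.of_algebraMap_eq' (R := B) (S := C) (A := C') (by
    refine MvPolynomial.ringHom_ext (fun r => ?_) fun i => ?_
    · simp [RingHom.algebraMap_toAlgebra, ← IsScalarTower.algebraMap_apply R C C']
    · simp [RingHom.algebraMap_toAlgebra])
  show Module.Flat B C'
  refine Module.flat_of_isLocalized_maximal (R := B) (S := C') C' (fun P _ => Localization.AtPrime P)
    (fun P _ => Algebra.linearMap C' (Localization.AtPrime P)) fun P hP => ?_
  have hgP : g ∉ P.under C := fun hmem =>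
    hP.ne_top (Ideal.eq_top_of_isUnit_mem _ hmem (IsLocalization.Away.algebraMap_isUnit g))
  haveI : Module.Flat B (Localization.AtPrime (P.under C)) := (hQ' (P.under C) hgP).1
  haveI : IsLocalization.AtPrime (Localization.AtPrime P) (P.under C) :=
    IsLocalization.isLocalization_isLocalization_atPrime_isLocalization (M := Submonoid.powers g) (Localization.AtPrime P) P
  exact Module.Flat.of_linearEquiv
    ((IsLocalization.algEquiv (P.under C).primeCompl (Localization.AtPrime (P.under C)) (Localization.AtPrime P)).toLinearEquiv.restrictScalars B).symm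

end Groth.Agent.FlatMor66
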