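import Groth.Agent.FlatMor68.FibreFree
import Groth.Agent.Props58.LocFree.Affine

/-!
A finitely presented module, flat over the base and flat on the fibre at a point, is free nearby.
-/

set_option autoImplicit false
set_option linter.style.haveILetI false
set_option backward.isDefEq.respectTransparency.types false
universe u

open CategoryTheory AlgebraicGeometry TensorProduct IsLocalRing
open Groth.Agent.Props58.LocFree Groth.Agent.QC70

namespace Groth.Agent.FlatMor66

theorem exists_free_nhd {X : Scheme.{u}} (M : X.Modules) [CohB1.IsFP M] (x : X)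
    (hfree : Module.Free (X.presheaf.stalk x) (M.presheaf.stalk x)) :
    ∃ (U : X.Opens) (n : ℕ), x ∈ U ∧ Nonempty (M.restrict U.ι ≅ FlatMod.freeMod (↑U) n) := by
  obtain ⟨U, hU, hx, -⟩ := exists_isAffineOpen_mem_and_subset (show x ∈ (⊤ : X.Opens) from trivial)
  have := finitePresentation_sections M hU
  letI := stalkModule M hx
  letI : Algebra Γ(X, U) (X.presheaf.stalk x) := (X.presheaf.germ U x hx).hom.toAlgebra
  haveI : IsScalarTower Γ(X, U) (X.presheaf.stalk x) (M.presheaf.stalk x) :=
    IsScalarTower.of_algebraMap_smul fun _ _ => rfl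
  haveI : IsLocalization.AtPrime (X.presheaf.stalk x) (hU.primeIdealOf ⟨x, hx⟩).asIdeal :=
    hU.isLocalization_stalk ⟨x, hx⟩
  haveI := isLocalizedModule_germ (isLocAt_of_isQuasicoherent M hU) hU hx
  haveI := hfree
  obtain ⟨r, hr, hfr, -⟩ := Module.FinitePresentation.exists_free_localizedModule_powers
    (hU.primeIdealOf ⟨x, hx⟩).asIdeal.primeCompl (germLinear M hx) (X.presheaf.stalk x)
  have hxr : x ∈ X.basicOpen r := (mem_basicOpen_iff_primeCompl hU hx r).mpr hr
  letI := resAlg (X.basicOpen_le r)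
  letI := resModule M (X.basicOpen_le r)
  haveI := isScalarTower_res M (X.basicOpen_le r)
  haveI := isLocalization_resAlg hU r
  haveI := isLocalizedModule_resLin M (isLocAt_of_isQuasicoherent M hU) r
  haveI : Module.Free Γ(X, X.basicOpen r) Γ(M, X.basicOpen r) :=
    free_of_localization_free (Submonoid.powers r) (resLin M (X.basicOpen_le r)) hfr
  have := finite_sections_of_isFiniteType M (hU.basicOpen r)
  haveI : Nontrivial Γ(X, X.basicOpen r) := (X.presheaf.germ _ x hxr).hom.domain_nontrivial
  exact ⟨X.basicOpen r, _, hxr, nonempty_iso_of_stalkBasis (stalkBasis_of_basis (hU.basicOpen r) (Module.finBasis _ _))⟩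

theorem free_of_flat_fibre {R B M : Type u} [CommRing R] [CommRing B] [IsLocalRing R] [IsLocalRing B] [Algebra R B]
    [IsLocalHom (algebraMap R B)] [AddCommGroup M] [Module R M] [Module B M] [IsScalarTower R B M]
    [Module.FinitePresentation B M] [Module.Flat R M]
    (h : Module.Flat (B ⧸ (maximalIdeal R).map (algebraMap R B))
      (M ⧸ ((maximalIdeal R).map (algebraMap R B) • (⊤ : Submodule B M)))) : Module.Free B M := by
  let J := (maximalIdeal R).map (algebraMap R B)
  have hle : J ≤ Ideal.jacobson ⊥ := by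
    rw [jacobson_eq_maximalIdeal ⊥ bot_ne_top]
    exact ((local_hom_TFAE (algebraMap R B)).out 0 2).1 ‹_›
  haveI : Nontrivial (B ⧸ J) := Ideal.Quotient.nontrivial_iff.mpr fun hJ => by
    rw [hJ, jacobson_eq_maximalIdeal ⊥ bot_ne_top] at hle
    exact (maximalIdeal.isMaximal B).ne_top (top_le_iff.mp hle)
  haveI : IsLocalRing (B ⧸ J) := IsLocalRing.of_surjective' _ Ideal.Quotient.mk_surjective
  haveI := h
  let e : (B ⧸ J) ⊗[B] M ≃ₗ[B ⧸ J] M ⧸ (J • (⊤ : Submodule B M)) :=
    (quotTensorEquivQuotSMul M J).extendScalarsOfSurjective Ideal.Quotient.mk_surjective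
  haveI : Module.Flat (B ⧸ J) ((B ⧸ J) ⊗[B] M) := Module.Flat.of_linearEquiv e
  exact FlatMor68.FibreFree.free_of_free_fibre (R := R) (S := B) (C := B ⧸ J) (maximalIdeal R) hle
    Ideal.Quotient.mk_surjective Ideal.mk_ker Module.free_of_flat_of_isLocalRing

theorem free_nhd_of_flat_fibre {X S : Scheme.{u}} (f : X ⟶ S) (F : X.Modules) [CohB1.IsFP F] (x : X)
    (h1 : FlatMod.IsFlatOverAt f F x)
    (h2 : Module.Flat (↑(X.presheaf.stalk x) ⧸ Ideal.map (f.stalkMap x).hom (maximalIdeal ↑(S.presheaf.stalk (f x))))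
      (↑(F.presheaf.stalk x) ⧸ (Ideal.map (f.stalkMap x).hom (maximalIdeal ↑(S.presheaf.stalk (f x))) • (⊤ : Submodule ↑(X.presheaf.stalk x) ↑(F.presheaf.stalk x))))) :
    ∃ (U : X.Opens) (n : ℕ), x ∈ U ∧ Nonempty (F.restrict U.ι ≅ FlatMod.freeMod (↑U) n) := by
  let R := S.presheaf.stalk (f x)
  let B := X.presheaf.stalk x
  letI : Algebra R B := (f.stalkMap x).hom.toAlgebra
  letI : Module R (F.presheaf.stalk x) := FlatMod.moduleStalkOver f F x
  haveI : IsScalarTower R B (F.presheaf.stalk x) := .of_algebraMap_smul fun r m => rfl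
  haveI : Module.Flat R (F.presheaf.stalk x) := h1
  haveI := FlatMor68.FibreFree.finitePresentation_stalk F x
  haveI : IsLocalHom (algebraMap R B) := f.toLRSHom.prop x
  exact exists_free_nhd F x (free_of_flat_fibre (R := R) (B := B) h2)

end Groth.Agent.FlatMor66
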