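import Groth.Agent.FlatMor66.GeomPts
import Mathlib.AlgebraicGeometry.ZariskisMainTheorem

/-! Sums over geometric points of an open of a base change. -/

set_option autoImplicit false
universe u

open AlgebraicGeometry CategoryTheory Limits IsLocalRing

namespace Groth.Agent.FlatMor66

variable {X Y T T' : Scheme.{u}} {K : Type u} [Field K]

/-- Points of the source of `f` over `p ≫ a` whose lift to the base change lies in `U`. -/
abbrev Pts (f : X ⟶ Y) (a : T ⟶ Y) (U : (pullback f a).Opens) (p : Spec (CommRingCat.of K) ⟶ T) : Type u :=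
  {q : Spec (CommRingCat.of K) ⟶ X // ∃ h : q ≫ f = p ≫ a, gpt (pullback.lift q p h) ∈ U}

/-- The sum of `w` over `Pts`. -/
noncomputable def pSum (f : X ⟶ Y) (w : X → ℤ) (a : T ⟶ Y) (U : (pullback f a).Opens)
    (p : Spec (CommRingCat.of K) ⟶ T) : ℤ :=
  ∑ᶠ q : Pts f a U p, w (gpt q.1)

/-- The fibre integral of `w` over an open of a base change. -/
noncomputable def ifun (f : X ⟶ Y) (w : X → ℤ) (a : T ⟶ Y) (U : (pullback f a).Opens) : T → ℤ :=
  MoreMor.fibreIntegral (U.ι ≫ pullback.snd f a) (fun u => w (pullback.fst f a (U.ι u)))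

/-- The base change of opens along a morphism of bases. -/
noncomputable def pullMap (f : X ⟶ Y) (a : T ⟶ Y) (b : T' ⟶ T) : pullback f (b ≫ a) ⟶ pullback f a :=
  pullback.lift (pullback.fst f (b ≫ a)) (pullback.snd f (b ≫ a) ≫ b) (by
    rw [Category.assoc]; exact pullback.condition)

@[reassoc (attr := simp)]
lemma pullMap_fst (f : X ⟶ Y) (a : T ⟶ Y) (b : T' ⟶ T) :
    pullMap f a b ≫ pullback.fst f a = pullback.fst f (b ≫ a) := pullback.lift_fst _ _ _

@[reassoc (attr := simp)]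
lemma pullMap_snd (f : X ⟶ Y) (a : T ⟶ Y) (b : T' ⟶ T) :
    pullMap f a b ≫ pullback.snd f a = pullback.snd f (b ≫ a) ≫ b := pullback.lift_snd _ _ _

lemma isPullback_pullMap (f : X ⟶ Y) (a : T ⟶ Y) (b : T' ⟶ T) :
    IsPullback (pullMap f a b) (pullback.snd f (b ≫ a)) (pullback.snd f a) b := by
  refine IsPullback.of_right (h₁₂ := pullback.fst f a) (h₁₁ := pullMap f a b) ?_ (pullMap_snd f a b)
    (IsPullback.of_hasPullback f a)
  rw [pullMap_fst]
  exact IsPullback.of_hasPullback f (b ≫ a)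

theorem ifun_eq_pSum [IsAlgClosed K] (f : X ⟶ Y) [LocallyQuasiFinite f] (w : X → ℤ) (a : T ⟶ Y)
    (U : (pullback f a).Opens) (p : Spec (CommRingCat.of K) ⟶ T)
    (h : ((U.ι ≫ pullback.snd f a) ⁻¹' {gpt p}).Finite) : ifun f w a U (gpt p) = pSum f w a U p := by
  rw [ifun, fibreIntegral_eq_gSum _ _ p h, gSum]
  refine finsum_eq_of_bijective (fun q : GPt (U.ι ≫ pullback.snd f a) p =>
    (⟨q.1 ≫ U.ι ≫ pullback.fst f a, ?_, ?_⟩ : Pts f a U p)) ?_ fun q => ?_
  · simpa [Category.assoc, pullback.condition] using congrArg (· ≫ a) q.2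
  · have : pullback.lift (q.1 ≫ U.ι ≫ pullback.fst f a) p (by
        simpa [Category.assoc, pullback.condition] using congrArg (· ≫ a) q.2) = q.1 ≫ U.ι := by
      apply pullback.hom_ext
      · rw [pullback.lift_fst, Category.assoc]
      · rw [pullback.lift_snd, Category.assoc, q.2]
    rw [this, gpt_comp]
    exact SetLike.coe_mem (gpt q.1)
  · refine ⟨fun q q' e => Subtype.ext ?_, fun r => ?_⟩
    · rw [← cancel_mono U.ι]
      apply pullback.hom_ext
      · simpa using congrArg Subtype.val e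
      · simp only [Category.assoc]; rw [q.2, q'.2]
    · obtain ⟨r, hr, hrU⟩ := r
      have hsub : Set.range (pullback.lift r p hr) ⊆ Set.range U.ι := by
        rintro _ ⟨z, rfl⟩
        rw [Scheme.Opens.range_ι, show z = closedPoint K from Subsingleton.elim _ _]
        exact hrU
      refine ⟨⟨IsOpenImmersion.lift U.ι (pullback.lift r p hr) hsub, ?_⟩, Subtype.ext ?_⟩
      · rw [← Category.assoc, IsOpenImmersion.lift_fac, pullback.lift_snd]
      · show IsOpenImmersion.lift U.ι (pullback.lift r p hr) hsub ≫ U.ι ≫ pullback.fst f a = r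
        rw [IsOpenImmersion.lift_fac_assoc, pullback.lift_fst]
  · show w _ = w _
    congr 1

theorem pSum_comp (f : X ⟶ Y) (w : X → ℤ) (a : T ⟶ Y) (b : T' ⟶ T) (U : (pullback f a).Opens)
    (p : Spec (CommRingCat.of K) ⟶ T') :
    pSum f w (b ≫ a) (pullMap f a b ⁻¹ᵁ U) p = pSum f w a U (p ≫ b) := by
  have e : ∀ q : Spec (CommRingCat.of K) ⟶ X,
      (∃ h : q ≫ f = p ≫ b ≫ a, gpt (pullback.lift q p h) ∈ pullMap f a b ⁻¹ᵁ U) ↔
      (∃ h : q ≫ f = (p ≫ b) ≫ a, gpt (pullback.lift q (p ≫ b) h) ∈ U) := by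
    intro q
    have key : ∀ (h : q ≫ f = p ≫ b ≫ a) (h' : q ≫ f = (p ≫ b) ≫ a),
        pullback.lift q (p ≫ b) h' = pullback.lift q p h ≫ pullMap f a b := fun h h' => by
      apply pullback.hom_ext
      · rw [Category.assoc, pullMap_fst, pullback.lift_fst, pullback.lift_fst]
      · rw [Category.assoc, pullMap_snd, pullback.lift_snd, pullback.lift_snd_assoc]
    constructor
    · rintro ⟨h, hU⟩
      refine ⟨by rw [Category.assoc]; exact h, ?_⟩
      rw [key h, gpt_comp]; exact hU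
    · rintro ⟨h, hU⟩
      refine ⟨by rw [Category.assoc] at h; exact h, ?_⟩
      rw [key (by rw [Category.assoc] at h; exact h), gpt_comp] at hU; exact hU
  exact finsum_eq_of_bijective (Equiv.subtypeEquivRight e) (Equiv.bijective _) fun _ => rfl

theorem isFinite_pullMap (f : X ⟶ Y) (a : T ⟶ Y) (b : T' ⟶ T) (U : (pullback f a).Opens)
    [IsFinite (U.ι ≫ pullback.snd f a)] :
    IsFinite ((pullMap f a b ⁻¹ᵁ U).ι ≫ pullback.snd f (b ≫ a)) :=
  MorphismProperty.of_isPullback (P := @IsFinite)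
    ((isPullback_morphismRestrict (pullMap f a b) U).paste_vert (isPullback_pullMap f a b)) ‹_›

theorem finite_fibre_of_isFinite {U : Scheme.{u}} (π : U ⟶ T) [IsFinite π] (t : T) : (π ⁻¹' {t}).Finite :=
  π.finite_preimage_singleton t

theorem ifun_comp (f : X ⟶ Y) [LocallyQuasiFinite f] (w : X → ℤ) (a : T ⟶ Y) (b : T' ⟶ T)
    (U : (pullback f a).Opens) [IsFinite (U.ι ≫ pullback.snd f a)] (t : T') :
    ifun f w (b ≫ a) (pullMap f a b ⁻¹ᵁ U) t = ifun f w a U (b t) := by
  obtain ⟨K, _, _, p, rfl⟩ := exists_gpt t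
  have := isFinite_pullMap f a b U
  rw [ifun_eq_pSum f w _ _ p (finite_fibre_of_isFinite _ _), pSum_comp, ← gpt_comp,
    ifun_eq_pSum f w a U (p ≫ b) (finite_fibre_of_isFinite _ _)]

/-- A function is locally constant if it is so after composing with an open map near each point. -/
theorem isLocallyConstant_of_open_lift {α β : Type*} [TopologicalSpace α] (F : α → β)
    (h : ∀ t : α, ∃ (γ : Type u) (_ : TopologicalSpace γ) (b : γ → α) (N : Set γ) (t' : γ),
      IsOpenMap b ∧ IsOpen N ∧ t' ∈ N ∧ b t' = t ∧ ∀ z ∈ N, F (b z) = F t) : IsLocallyConstant F := by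
  rw [IsLocallyConstant.iff_exists_open]
  intro t
  obtain ⟨γ, _, b, N, t', hb, hN, ht', rfl, hF⟩ := h t
  exact ⟨b '' N, hb _ hN, ⟨t', ht', rfl⟩, by rintro _ ⟨z, hz, rfl⟩; exact hF z hz⟩

end Groth.Agent.FlatMor66
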