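import Groth.Agent.FlatMor66.Sep
import Groth.Agent.FlatMor66.PullPts
import Groth.Agent.FlatMor66.OnePoint

/-! Étale localization of a locally quasi-finite morphism at a geometric point. -/

set_option autoImplicit false
universe u

open AlgebraicGeometry CategoryTheory Limits IsLocalRing

namespace Groth.Agent.FlatMor66

variable {X Y W W' T : Scheme.{u}} {K : Type u} [Field K]

/-- A point of a base change with given components. -/
noncomputable abbrev liftPt (f : X ⟶ Y) (b : W ⟶ Y) (q : Spec (CommRingCat.of K) ⟶ X)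
    (r : Spec (CommRingCat.of K) ⟶ W) (h : q ≫ f = r ≫ b) : ↑(pullback f b) :=
  gpt (pullback.lift q r h)

lemma fst_liftPt (f : X ⟶ Y) (b : W ⟶ Y) (q : Spec (CommRingCat.of K) ⟶ X)
    (r : Spec (CommRingCat.of K) ⟶ W) (h : q ≫ f = r ≫ b) :
    pullback.fst f b (liftPt f b q r h) = gpt q := by
  rw [liftPt, ← gpt_comp, pullback.lift_fst]

lemma snd_liftPt (f : X ⟶ Y) (b : W ⟶ Y) (q : Spec (CommRingCat.of K) ⟶ X)
    (r : Spec (CommRingCat.of K) ⟶ W) (h : q ≫ f = r ≫ b) :
    pullback.snd f b (liftPt f b q r h) = gpt r := by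
  rw [liftPt, ← gpt_comp, pullback.lift_snd]

lemma pullMap_liftPt (f : X ⟶ Y) (b : W ⟶ Y) (c : W' ⟶ W) (q : Spec (CommRingCat.of K) ⟶ X)
    (r : Spec (CommRingCat.of K) ⟶ W') (h : q ≫ f = r ≫ c ≫ b) :
    pullMap f b c (liftPt f (c ≫ b) q r h) = liftPt f b q (r ≫ c) (by rw [Category.assoc]; exact h) := by
  rw [liftPt, liftPt, ← gpt_comp]
  congr 1
  apply pullback.hom_ext
  · rw [Category.assoc, pullMap_fst, pullback.lift_fst, pullback.lift_fst]
  · rw [Category.assoc, pullMap_snd, pullback.lift_snd, pullback.lift_snd_assoc]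

lemma PIAt.pullMap {f : X ⟶ Y} {b : W ⟶ Y} {c : W' ⟶ W} {z : ↑(pullback f (c ≫ b))}
    (h : PIAt (pullback.snd f b) (Groth.Agent.FlatMor66.pullMap f b c z)) : PIAt (pullback.snd f (c ≫ b)) z := by
  intro K' _ _ q₁ q₂ h₁ h₂ he
  have h' := h K' (q₁ ≫ _) (q₂ ≫ _) (by rw [gpt_comp, h₁]) (by rw [gpt_comp, h₂]) (by
    rw [Category.assoc, Category.assoc, pullMap_snd, ← Category.assoc, he, Category.assoc])
  apply pullback.hom_ext
  · simpa only [Category.assoc, pullMap_fst] using congrArg (· ≫ pullback.fst f b) h'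
  · exact he

lemma eq_of_pullMap_eq [IsAlgClosed K] (f : X ⟶ Y) [LocallyQuasiFinite f] (b : W ⟶ Y) (c : W' ⟶ W)
    (r : Spec (CommRingCat.of K) ⟶ W') (z z' : ↑(pullback f (c ≫ b)))
    (hz : pullback.snd f (c ≫ b) z = gpt r) (hz' : pullback.snd f (c ≫ b) z' = gpt r)
    (e : pullMap f b c z = pullMap f b c z') (h : PIAt (pullback.snd f b) (pullMap f b c z)) : z = z' := by
  obtain ⟨⟨q, hq⟩, hqz⟩ := exists_lift _ r z hz
  obtain ⟨⟨q', hq'⟩, hqz'⟩ := exists_lift _ r z' hz'
  have h' := h K (q ≫ _) (q' ≫ _) (by rw [gpt_comp, hqz]) (by rw [gpt_comp, hqz', e]) (by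
    rw [Category.assoc, Category.assoc, pullMap_snd, ← Category.assoc, hq, ← Category.assoc, hq'])
  have : q = q' := by
    apply pullback.hom_ext
    · simpa only [Category.assoc, pullMap_fst] using congrArg (· ≫ pullback.fst f b) h'
    · rw [hq, hq']
  exact hqz.symm.trans ((congrArg gpt this).trans hqz')

/-- An étale localization splitting the chosen geometric points of a fibre. -/
structure Splitting (f : X ⟶ Y) (p : Spec (CommRingCat.of K) ⟶ Y) (s : Set X) where
  W : Scheme.{u}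
  b : W ⟶ Y
  r : Spec (CommRingCat.of K) ⟶ W
  [etale : Etale b]
  hr : r ≫ b = p
  pi : ∀ v : ↑(pullback f b), pullback.snd f b v = gpt r → pullback.fst f b v ∈ s → PIAt (pullback.snd f b) v
  V : {q : GPt f p // gpt q.1 ∈ s} → (pullback f b).Opens
  [finite : ∀ q, IsFinite ((V q).ι ≫ pullback.snd f b)]
  mem : ∀ q, liftPt f b q.1.1 r (by rw [q.1.2, hr]) ∈ V q
  unique : ∀ q, ∀ z ∈ V q, pullback.snd f b z = gpt r → z = liftPt f b q.1.1 r (by rw [q.1.2, hr])

lemma exists_partial_splitting [IsAlgClosed K] (f : X ⟶ Y) [LocallyQuasiFinite f] [LocallyOfFiniteType f]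
    (p : Spec (CommRingCat.of K) ⟶ Y) (s : Set X) (hs : s.Finite) (hsf : ∀ x ∈ s, f x = gpt p)
    (F : Set {q : GPt f p // gpt q.1 ∈ s}) (hF : F.Finite) :
    ∃ (W : Scheme.{u}) (b : W ⟶ Y) (r : Spec (CommRingCat.of K) ⟶ W) (hr : r ≫ b = p), Etale b ∧
      (∀ v : ↑(pullback f b), pullback.snd f b v = gpt r → pullback.fst f b v ∈ s → PIAt (pullback.snd f b) v) ∧
      ∀ q ∈ F, ∃ V : (pullback f b).Opens, IsFinite (V.ι ≫ pullback.snd f b) ∧
        liftPt f b q.1.1 r (by rw [q.1.2, hr]) ∈ V ∧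
        ∀ z ∈ V, pullback.snd f b z = gpt r → z = liftPt f b q.1.1 r (by rw [q.1.2, hr]) := by
  induction F, hF using Set.Finite.induction_on with
  | empty =>
    obtain ⟨W, b, r, hb, hr, hpi⟩ := exists_etale_PI f p s hs hsf
    exact ⟨W, b, r, hr, hb, hpi, fun q hq => hq.elim⟩
  | @insert q₀ F _ _ ih =>
    obtain ⟨W, b, r, hr, hb, hpi, hV⟩ := ih
    let v₀ := liftPt f b q₀.1.1 r (by rw [q₀.1.2, hr])
    have hv₀ : pullback.snd f b v₀ = gpt r := snd_liftPt ..
    have hfst₀ : pullback.fst f b v₀ ∈ s := (fst_liftPt f b q₀.1.1 r _).symm ▸ q₀.2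
    obtain ⟨W', c, w', hc, hw', V₁, v₁, hv₁, hfin, hfst, hsnd, huniq⟩ :=
      exists_etale_finite_unique (pullback.snd f b) v₀ ((pullback.snd f b).quasiFiniteAt v₀)
    have := lqf_of_etale c
    obtain ⟨⟨r', hr'⟩, hrw⟩ := exists_lift c r w' (by rw [hw', hv₀])
    have hrr : r' ≫ c ≫ b = p := by rw [reassoc_of% hr', hr]
    let e := (isPullback_pullMap f b c).isoPullback
    have hfste : e.hom ≫ pullback.fst (pullback.snd f b) c = pullMap f b c := IsPullback.isoPullback_hom_fst _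
    have hsnde : e.hom ≫ pullback.snd (pullback.snd f b) c = pullback.snd f (c ≫ b) :=
      IsPullback.isoPullback_hom_snd _
    have hpi' : ∀ v : ↑(pullback f (c ≫ b)), pullback.snd f (c ≫ b) v = gpt r' →
        pullback.fst f (c ≫ b) v ∈ s → PIAt (pullback.snd f (c ≫ b)) v := by
      intro v hv hvs
      refine PIAt.pullMap (hpi _ ?_ ?_)
      · rw [← Scheme.Hom.comp_apply, pullMap_snd, Scheme.Hom.comp_apply, hv, ← gpt_comp, hr']
      · rwa [← Scheme.Hom.comp_apply, pullMap_fst]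
    refine ⟨W', c ≫ b, r', hrr, inferInstance, hpi', fun q hq => ?_⟩
    have hlift : pullMap f b c (liftPt f (c ≫ b) q.1.1 r' (by rw [q.1.2, hrr])) =
        liftPt f b q.1.1 r (by rw [q.1.2, hr]) := by
      rw [pullMap_liftPt]
      subst hr'
      rfl
    have hpiv : PIAt (pullback.snd f b) (pullMap f b c (liftPt f (c ≫ b) q.1.1 r' (by rw [q.1.2, hrr]))) := by
      rw [hlift]
      exact hpi _ (snd_liftPt ..) ((fst_liftPt f b q.1.1 r _).symm ▸ q.2)
    rcases Set.mem_insert_iff.mp hq with rfl | hqF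
    · have key : ∀ z : ↑(pullback f (c ≫ b)), z ∈ e.hom ⁻¹ᵁ V₁ → pullback.snd f (c ≫ b) z = gpt r' →
          z = liftPt f (c ≫ b) q.1.1 r' (by rw [q.1.2, hrr]) := by
        intro z hz hzr
        have : e.hom z = v₁ := huniq _ hz (by rw [← Scheme.Hom.comp_apply, hsnde, hzr, hrw])
        refine (eq_of_pullMap_eq f b c r' _ z (snd_liftPt ..) hzr ?_ hpiv).symm
        rw [hlift, ← hfste, Scheme.Hom.comp_apply, this, hfst]
      refine ⟨e.hom ⁻¹ᵁ V₁, ?_, ?_, key⟩
      · rw [← hsnde, ← Category.assoc, ← morphismRestrict_ι, Category.assoc]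
        infer_instance
      · have hz : e.inv v₁ ∈ e.hom ⁻¹ᵁ V₁ := by
          show e.hom (e.inv v₁) ∈ V₁
          rw [← Scheme.Hom.comp_apply, Iso.inv_hom_id]; exact hv₁
        have := key _ hz (by rw [← hsnde, Scheme.Hom.comp_apply, ← Scheme.Hom.comp_apply e.inv, Iso.inv_hom_id]; exact hsnd.trans hrw.symm)
        rw [← this]; exact hz
    · obtain ⟨V, hVfin, hVmem, hVuniq⟩ := hV q hqF
      refine ⟨pullMap f b c ⁻¹ᵁ V, isFinite_pullMap f b c V, ?_, fun z hz hzr => ?_⟩
      · show pullMap f b c _ ∈ V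
        rw [hlift]; exact hVmem
      · have h1 := hVuniq _ hz (by
          rw [← Scheme.Hom.comp_apply, pullMap_snd, Scheme.Hom.comp_apply, hzr, ← gpt_comp, hr'])
        exact (eq_of_pullMap_eq f b c r' _ z (snd_liftPt ..) hzr (hlift.trans h1.symm) hpiv).symm

lemma finite_gpts [IsAlgClosed K] (f : X ⟶ Y) [LocallyQuasiFinite f]
    (p : Spec (CommRingCat.of K) ⟶ Y) (s : Set X) (hs : s.Finite) :
    Finite {q : GPt f p // gpt q.1 ∈ s} := by
  have : Finite s := hs.to_subtype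
  have hfin : ∀ x : s, Finite {q : GPt f p // gpt q.1 = x.1} := by
    intro x
    by_cases hx : f x.1 = gpt p
    · have hf := (nonempty_residueAlgHom_equiv f x.1
        ((Y.residueFieldCongr hx).hom ≫ gEmb p)).1
      refine Finite.of_surjective (fun σ : {σ : X.residueField x.1 ⟶ CommRingCat.of K //
          f.residueFieldMap x.1 ≫ σ = (Y.residueFieldCongr hx).hom ≫ gEmb p} =>
        (⟨liftOfData f p ⟨⟨x.1, hx⟩, σ⟩, by
          show gpt (Spec.map σ.1 ≫ X.fromSpecResidueField x.1) = x.1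
          rw [gpt_comp, Scheme.fromSpecResidueField_apply]⟩ : {q : GPt f p // gpt q.1 = x.1})) ?_
      rintro ⟨q, hq⟩
      obtain ⟨⟨⟨x', hx'⟩, σ⟩, rfl⟩ := (liftOfData_bijective f p).2 q
      have : x' = x.1 := by
        rw [← hq]
        show x' = gpt (Spec.map σ.1 ≫ X.fromSpecResidueField x')
        rw [gpt_comp, Scheme.fromSpecResidueField_apply]
      subst this
      exact ⟨σ, rfl⟩
    · have : IsEmpty {q : GPt f p // gpt q.1 = x.1} := ⟨fun q => hx (by rw [← q.2, ← gpt_comp, q.1.2])⟩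
      infer_instance
  exact Finite.of_surjective (fun a : Σ x : s, {q : GPt f p // gpt q.1 = x.1} =>
    (⟨a.2.1, a.2.2.symm ▸ a.1.2⟩ : {q : GPt f p // gpt q.1 ∈ s}))
    fun q => ⟨⟨⟨gpt q.1.1, q.2⟩, ⟨q.1, rfl⟩⟩, rfl⟩

theorem exists_splitting [IsAlgClosed K] (f : X ⟶ Y) [LocallyQuasiFinite f] [LocallyOfFiniteType f]
    (p : Spec (CommRingCat.of K) ⟶ Y) (s : Set X) (hs : s.Finite) (hsf : ∀ x ∈ s, f x = gpt p) :
    Nonempty (Splitting f p s) := by
  have := finite_gpts f p s hs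
  obtain ⟨W, b, r, hr, hb, hpi, hV⟩ := exists_partial_splitting f p s hs hsf Set.univ Set.finite_univ
  choose V h1 h2 h3 using fun q => hV q (Set.mem_univ q)
  exact ⟨{ W := W, b := b, r := r, hr := hr, pi := hpi, V := V, mem := h2, unique := h3, finite := h1 }⟩

namespace Splitting

variable {f : X ⟶ Y} {p : Spec (CommRingCat.of K) ⟶ Y} {s : Set X} (D : Splitting f p s)

/-- The point of the localization above a geometric point of the fibre. -/
noncomputable def pt (q : {q : GPt f p // gpt q.1 ∈ s}) : ↑(pullback f D.b) :=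
  liftPt f D.b q.1.1 D.r (by rw [q.1.2, D.hr])

lemma pt_injective [IsAlgClosed K] : Function.Injective D.pt := by
  intro q q' e
  have h := D.pi (D.pt q) (snd_liftPt ..) ((fst_liftPt f D.b q.1.1 D.r _).symm ▸ q.2) K _ _ rfl e.symm (by
    rw [pullback.lift_snd, pullback.lift_snd])
  have := congrArg (· ≫ pullback.fst f D.b) h
  simp only [pullback.lift_fst] at this
  exact Subtype.ext (Subtype.ext this)

lemma eq_pt [IsAlgClosed K] [LocallyQuasiFinite f] (z : ↑(pullback f D.b))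
    (hz : pullback.snd f D.b z = gpt D.r) (hzs : pullback.fst f D.b z ∈ s) : ∃ q, D.pt q = z := by
  obtain ⟨⟨q, hq⟩, hqz⟩ := exists_lift (pullback.snd f D.b) D.r z hz
  have h1 : (q ≫ pullback.fst f D.b) ≫ f = p := by
    rw [Category.assoc, pullback.condition, reassoc_of% hq, D.hr]
  refine ⟨⟨⟨q ≫ pullback.fst f D.b, h1⟩, by rw [gpt_comp, hqz]; exact hzs⟩, ?_⟩
  refine Eq.trans ?_ hqz
  show gpt (pullback.lift (q ≫ pullback.fst f D.b) D.r _) = gpt q
  congr 1
  apply pullback.hom_ext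
  · rw [pullback.lift_fst]
  · rw [pullback.lift_snd, hq]

/-- Over the marked point each finite piece has exactly one geometric point. -/
lemma pSum_single [IsAlgClosed K] [LocallyQuasiFinite f] (w : X → ℤ) (q : {q : GPt f p // gpt q.1 ∈ s})
    {K' : Type u} [Field K'] [IsAlgClosed K'] (p' : Spec (CommRingCat.of K') ⟶ D.W)
    (hp' : gpt p' = gpt D.r) : pSum f w D.b (D.V q) p' = w (gpt q.1.1) := by
  obtain ⟨⟨l, hl⟩, hlpt⟩ := exists_lift (pullback.snd f D.b) p' (D.pt q) ((snd_liftPt ..).trans hp'.symm)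
  have hl' : (l ≫ pullback.fst f D.b) ≫ f = p' ≫ D.b := by
    rw [Category.assoc, pullback.condition, reassoc_of% hl]
  have hlift : pullback.lift (l ≫ pullback.fst f D.b) p' hl' = l := by
    apply pullback.hom_ext
    · rw [pullback.lift_fst]
    · rw [pullback.lift_snd, hl]
  let a : Pts f D.b (D.V q) p' := ⟨l ≫ pullback.fst f D.b, hl', by rw [hlift, hlpt]; exact D.mem q⟩
  have huniq : ∀ x : Pts f D.b (D.V q) p', x = a := by
    rintro ⟨x, hx, hxV⟩
    have h1 := D.unique q _ hxV (by rw [← gpt_comp, pullback.lift_snd, hp'])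
    have h2 := D.pi (D.pt q) (snd_liftPt ..) ((fst_liftPt f D.b q.1.1 D.r _).symm ▸ q.2) K'
      (pullback.lift x p' hx) l h1 hlpt (by rw [pullback.lift_snd, hl])
    refine Subtype.ext ?_
    show x = l ≫ pullback.fst f D.b
    rw [← h2, pullback.lift_fst]
  rw [pSum, finsum_eq_single _ a fun x hx => absurd (huniq x) hx]
  congr 1
  show gpt (l ≫ pullback.fst f D.b) = _
  rw [gpt_comp, hlpt]
  exact fst_liftPt ..

end Splitting

end Groth.Agent.FlatMor66
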