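import Groth.Prelude.Def_MoreMor
import Mathlib.AlgebraicGeometry.Morphisms.QuasiFinite
import Mathlib.AlgebraicGeometry.PullbackCarrier
import Mathlib.FieldTheory.IsAlgClosed.Basic
import Mathlib.FieldTheory.SeparableDegree
import Mathlib.Algebra.BigOperators.Finprod

/-! Geometric points and fibre integrals as sums over geometric points. -/

set_option autoImplicit false
universe u

open AlgebraicGeometry CategoryTheory Limits IsLocalRing

namespace Groth.Agent.FlatMor66

variable {X Y U V : Scheme.{u}} {K : Type u} [Field K]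

/-- The image point of a field valued point. -/
noncomputable abbrev gpt (q : Spec (CommRingCat.of K) ⟶ X) : X := q (closedPoint K)

lemma gpt_comp (q : Spec (CommRingCat.of K) ⟶ X) (f : X ⟶ Y) : gpt (q ≫ f) = f (gpt q) :=
  Scheme.Hom.comp_apply _ _ _

/-- Lifts of a field valued point along a morphism. -/
abbrev GPt (π : U ⟶ V) (p : Spec (CommRingCat.of K) ⟶ V) : Type u :=
  {q : Spec (CommRingCat.of K) ⟶ U // q ≫ π = p}

/-- The sum of `w` over the lifts of `p`. -/
noncomputable def gSum (π : U ⟶ V) (w : U → ℤ) (p : Spec (CommRingCat.of K) ⟶ V) : ℤ :=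
  ∑ᶠ q : GPt π p, w (gpt q.1)

theorem residueField_finite (π : U ⟶ V) [LocallyQuasiFinite π] (u : U) :
    (π.residueFieldMap u).hom.Finite := by
  have hq : (π.stalkMap u).hom.QuasiFinite := π.quasiFiniteAt u
  let A := V.presheaf.stalk (π u)
  let B := U.presheaf.stalk u
  algebraize [(π.stalkMap u).hom]
  letI : Algebra (ResidueField A) (ResidueField B) := (π.residueFieldMap u).hom.toAlgebra
  have : IsScalarTower A (ResidueField A) (ResidueField B) := IsScalarTower.of_algebraMap_eq fun a => rfl
  have : Algebra.QuasiFinite A (ResidueField B) :=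
    Algebra.QuasiFinite.of_surjective_algHom (IsScalarTower.toAlgHom A B (ResidueField B))
      IsLocalRing.residue_surjective
  have : Algebra.QuasiFinite (ResidueField A) (ResidueField B) := .of_restrictScalars A _ _
  exact (Module.Finite.of_quasiFinite : Module.Finite (ResidueField A) (ResidueField B))

/-- Data of a lift: a point over the image and an embedding of residue fields. -/
abbrev LiftData (π : U ⟶ V) (p : Spec (CommRingCat.of K) ⟶ V) : Type u :=
  Σ u : {u : U // π u = gpt p}, {σ : U.residueField u.1 ⟶ CommRingCat.of K //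
      π.residueFieldMap u.1 ≫ σ =
        (V.residueFieldCongr u.2).hom ≫ V.descResidueField (Scheme.stalkClosedPointTo p)}

/-- The lift given by lifting data. -/
noncomputable def liftOfData (π : U ⟶ V) (p : Spec (CommRingCat.of K) ⟶ V) (x : LiftData π p) : GPt π p :=
  ⟨Spec.map x.2.1 ≫ U.fromSpecResidueField x.1.1, by
    rw [Category.assoc, ← Scheme.Hom.SpecMap_residueFieldMap_fromSpecResidueField, ← Spec.map_comp_assoc,
      x.2.2, Spec.map_comp_assoc, Scheme.residueFieldCongr_fromSpecResidueField]
    exact Scheme.descResidueField_stalkClosedPointTo_fromSpecResidueField K V p⟩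

lemma liftOfData_bijective (π : U ⟶ V) (p : Spec (CommRingCat.of K) ⟶ V) :
    Function.Bijective (liftOfData π p) := by
  refine ⟨fun x y e => ?_, fun q => ?_⟩
  · obtain ⟨⟨u, hu⟩, σ, hσ⟩ := x
    obtain ⟨⟨u', hu'⟩, σ', hσ'⟩ := y
    have h2 := (U.SpecToEquivOfField K).symm.injective (a₁ := ⟨u, σ⟩) (a₂ := ⟨u', σ'⟩) (congrArg Subtype.val e)
    cases h2
    rfl
  · obtain ⟨q, rfl⟩ := q
    refine ⟨⟨⟨gpt q, (gpt_comp q π).symm⟩, U.descResidueField (Scheme.stalkClosedPointTo q), ?_⟩, ?_⟩
    · refine (Scheme.descResidueField_stalkClosedPointTo_comp _ q).symm.trans ?_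
      symm
      convert! Category.id_comp _
    · exact Subtype.ext (Scheme.descResidueField_stalkClosedPointTo_fromSpecResidueField K U q)

/-- Lifts correspond to lifting data. -/
noncomputable def gptEquiv (π : U ⟶ V) (p : Spec (CommRingCat.of K) ⟶ V) : GPt π p ≃ LiftData π p :=
  (Equiv.ofBijective _ (liftOfData_bijective π p)).symm

theorem nonempty_residueAlgHom_equiv (π : U ⟶ V) [LocallyQuasiFinite π] [IsAlgClosed K] (u : U)
    (τ : V.residueField (π u) ⟶ CommRingCat.of K) :
    Finite {σ : U.residueField u ⟶ CommRingCat.of K // π.residueFieldMap u ≫ σ = τ} ∧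
    Nat.card {σ : U.residueField u ⟶ CommRingCat.of K // π.residueFieldMap u ≫ σ = τ} =
      (letI := (π.residueFieldMap u).hom.toAlgebra
       Field.finSepDegree (V.residueField (π u)) (U.residueField u)) := by
  letI := (π.residueFieldMap u).hom.toAlgebra
  letI : Algebra (V.residueField (π u)) K := τ.hom.toAlgebra
  have : Module.Finite (V.residueField (π u)) (U.residueField u) := residueField_finite π u
  let e : {σ : U.residueField u ⟶ CommRingCat.of K // π.residueFieldMap u ≫ σ = τ} ≃
      (U.residueField u →ₐ[V.residueField (π u)] K) :=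
    { toFun := fun σ => { σ.1.hom with commutes' := fun r => RingHom.congr_fun (congrArg CommRingCat.Hom.hom σ.2) r }
      invFun := fun φ => ⟨CommRingCat.ofHom φ.toRingHom, by ext r; exact φ.commutes r⟩
      left_inv := fun _ => rfl
      right_inv := fun _ => rfl }
  refine ⟨Finite.of_equiv _ e.symm, ?_⟩
  rw [Nat.card_congr e, Field.finSepDegree_eq_of_isAlgClosed (V.residueField (π u)) (U.residueField u) K]

theorem finite_GPt (π : U ⟶ V) [LocallyQuasiFinite π] [IsAlgClosed K] (p : Spec (CommRingCat.of K) ⟶ V)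
    (h : (π ⁻¹' {gpt p}).Finite) : Finite (GPt π p) := by
  have : Finite {u : U // π u = gpt p} := h.to_subtype
  have : ∀ u : {u : U // π u = gpt p}, Finite {σ : U.residueField u.1 ⟶ CommRingCat.of K //
      π.residueFieldMap u.1 ≫ σ = (V.residueFieldCongr u.2).hom ≫ V.descResidueField (Scheme.stalkClosedPointTo p)} :=
    fun u => (nonempty_residueAlgHom_equiv π u.1 _).1
  exact Finite.of_equiv _ (gptEquiv π p).symm

theorem fibreIntegral_eq_gSum (π : U ⟶ V) [LocallyQuasiFinite π] [IsAlgClosed K] (w : U → ℤ)
    (p : Spec (CommRingCat.of K) ⟶ V) (h : (π ⁻¹' {gpt p}).Finite) :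
    MoreMor.fibreIntegral π w (gpt p) = gSum π w p := by
  have : Finite {u : U // π u = gpt p} := h.to_subtype
  have hf : ∀ u : {u : U // π u = gpt p}, Finite {σ : U.residueField u.1 ⟶ CommRingCat.of K //
      π.residueFieldMap u.1 ≫ σ = (V.residueFieldCongr u.2).hom ≫ V.descResidueField (Scheme.stalkClosedPointTo p)} :=
    fun u => (nonempty_residueAlgHom_equiv π u.1 _).1
  have := Fintype.ofFinite {u : U // π u = gpt p}
  have := fun u => @Fintype.ofFinite _ (hf u)
  rw [gSum, ← finsum_comp_equiv (gptEquiv π p).symm, finsum_eq_sum_of_fintype, Fintype.sum_sigma,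
    MoreMor.fibreIntegral, finsum_eq_sum_of_fintype]
  refine Finset.sum_congr rfl fun u _ => ?_
  have hw : ∀ σ, w (gpt ((gptEquiv π p).symm ⟨u, σ⟩).1) = w u.1 := fun σ => congrArg w (by
    show gpt (Spec.map σ.1 ≫ U.fromSpecResidueField u.1) = u.1
    rw [gpt_comp, Scheme.fromSpecResidueField_apply])
  rw [Finset.sum_congr rfl fun σ _ => hw σ, Finset.sum_const, Finset.card_univ, nsmul_eq_mul,
    ← Nat.card_eq_fintype_card, (nonempty_residueAlgHom_equiv π u.1 _).2, mul_comm]

/-- A geometric point over a point. -/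
theorem exists_gpt (v : V) : ∃ (K : Type u) (_ : Field K) (_ : IsAlgClosed K)
    (p : Spec (CommRingCat.of K) ⟶ V), gpt p = v :=
  ⟨AlgebraicClosure (V.residueField v), inferInstance, inferInstance,
    Spec.map (CommRingCat.ofHom (algebraMap (V.residueField v) (AlgebraicClosure (V.residueField v)))) ≫
      V.fromSpecResidueField v, by rw [gpt_comp, Scheme.fromSpecResidueField_apply]⟩

/-- A field valued point lifts to any point above its image. -/
theorem exists_lift (π : U ⟶ V) [LocallyQuasiFinite π] [IsAlgClosed K] (p : Spec (CommRingCat.of K) ⟶ V)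
    (u : U) (h : π u = gpt p) : ∃ q : GPt π p, gpt q.1 = u := by
  let τ := (V.residueFieldCongr h).hom ≫ V.descResidueField (Scheme.stalkClosedPointTo p)
  letI := (π.residueFieldMap u).hom.toAlgebra
  letI : Algebra (V.residueField (π u)) K := τ.hom.toAlgebra
  have : Module.Finite (V.residueField (π u)) (U.residueField u) := residueField_finite π u
  let φ : U.residueField u →ₐ[V.residueField (π u)] K := IsAlgClosed.lift
  refine ⟨(gptEquiv π p).symm ⟨⟨u, h⟩, CommRingCat.ofHom φ.toRingHom, by ext r; exact φ.commutes r⟩, ?_⟩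
  show gpt (Spec.map (CommRingCat.ofHom φ.toRingHom) ≫ U.fromSpecResidueField u) = u
  rw [gpt_comp, Scheme.fromSpecResidueField_apply]

end Groth.Agent.FlatMor66
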