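import Groth.Agent.Brnch26.Nbhd
import Mathlib

/-!
Affine opens adapted to a closed immersion and an integral morphism.
-/

set_option autoImplicit false
set_option linter.style.haveILetI false
universe u

open AlgebraicGeometry CategoryTheory TopologicalSpace

namespace Groth.Agent.FlatMor66

/-- A single element avoiding the primes over a prime of the base in an integral algebra. -/
theorem exists_avoid {A B' B : Type u} [CommRing A] [CommRing B'] [CommRing B] [Algebra A B']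
    [Algebra.IsIntegral A B'] (p : Ideal A) [p.IsPrime] (ρ : B →+* B') {n : ℕ} (b : Fin n → B)
    (T : Set (Ideal B')) (hT : ∀ t ∈ T, t.IsPrime ∧ t.comap (algebraMap A B') = p)
    (hb : ∀ t ∈ T, ∃ i, ρ (b i) ∉ t) :
    ∃ h ∈ Ideal.span (Set.range b), ∀ t ∈ T, ρ h ∉ t := by
  classical
  let A₁ : Subalgebra A B' := Algebra.adjoin A (Set.range (ρ ∘ b))
  haveI : Module.Finite A A₁ := Algebra.finite_adjoin_of_finite_of_isIntegral (Set.finite_range _)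
    (fun x _ => Algebra.IsIntegral.isIntegral x)
  let ψ : MvPolynomial (Fin n) ℤ →+* A₁ :=
    MvPolynomial.eval₂Hom (Int.castRingHom A₁) fun i => ⟨ρ (b i), Algebra.subset_adjoin ⟨i, rfl⟩⟩
  let φ : MvPolynomial (Fin n) ℤ →+* B := MvPolynomial.eval₂Hom (Int.castRingHom B) b
  have hψ : ρ.comp φ = A₁.val.toRingHom.comp ψ := by
    refine MvPolynomial.ringHom_ext (fun r => ?_) (fun i => ?_) <;> simp [ψ, φ]
  let Qs : Set (Ideal A₁) := {Q | ∃ t ∈ T, Q = t.comap A₁.val.toRingHom}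
  have hfin : Qs.Finite := (Algebra.QuasiFinite.finite_primesOver (S := A₁) p).subset (by
    rintro _ ⟨t, ht, rfl⟩
    haveI := (hT t ht).1
    exact ⟨inferInstance, ⟨(hT t ht).2.symm.trans (by rw [Ideal.under_def, Ideal.comap_comap]; rfl)⟩⟩)
  have hnot : ¬ ((Ideal.span (Set.range MvPolynomial.X) : Ideal (MvPolynomial (Fin n) ℤ)) : Set _) ⊆
      ⋃ Q ∈ (hfin.toFinset : Set (Ideal A₁)), ((Q.comap ψ : Ideal (MvPolynomial (Fin n) ℤ)) : Set (MvPolynomial (Fin n) ℤ)) := by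
    rw [Ideal.subset_union_prime ⊥ ⊥ (fun Q hQ _ _ => by
      obtain ⟨t, ht, rfl⟩ := hfin.mem_toFinset.mp hQ
      haveI := (hT t ht).1
      infer_instance)]
    rintro ⟨Q, hQ, hle⟩
    obtain ⟨t, ht, rfl⟩ := hfin.mem_toFinset.mp hQ
    obtain ⟨i, hi⟩ := hb t ht
    apply hi
    have := hle (Ideal.subset_span ⟨i, rfl⟩)
    simpa [ψ] using this
  obtain ⟨F, hF, hF'⟩ := Set.not_subset.mp hnot
  refine ⟨φ F, ?_, fun t ht hmem => hF' ?_⟩
  · have : φ F ∈ Ideal.map φ (Ideal.span (Set.range MvPolynomial.X)) := Ideal.mem_map_of_mem _ hF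
    rw [Ideal.map_span, ← Set.range_comp] at this
    convert this using 3
    exact funext fun i => by simp [φ]
  · refine Set.mem_biUnion (hfin.mem_toFinset.mpr ⟨t, ht, rfl⟩) ?_
    have e := DFunLike.congr_fun hψ F
    simp only [RingHom.comp_apply] at e
    rw [e] at hmem
    exact hmem

theorem mem_basicOpen_iff_notMem {Z : Scheme.{u}} {W : Z.Opens} (hW : IsAffineOpen W) (x : Z)
    (hx : x ∈ W) (c : Γ(Z, W)) : x ∈ Z.basicOpen c ↔ c ∉ (hW.primeIdealOf ⟨x, hx⟩).asIdeal := by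
  have : x ∈ Z.basicOpen c ↔ hW.primeIdealOf ⟨x, hx⟩ ∈ hW.fromSpec ⁻¹ᵁ Z.basicOpen c := by
    show _ ↔ hW.fromSpec (hW.primeIdealOf ⟨x, hx⟩) ∈ Z.basicOpen c
    rw [hW.fromSpec_primeIdealOf]
  rw [this, hW.fromSpec_preimage_basicOpen]
  exact Iff.rfl

theorem exists_affine_adapted {X Y Z : Scheme.{u}} (i : Z ⟶ X) [IsClosedImmersion i] (j : Z ⟶ Y) [IsIntegralHom j]
    (h : ∀ y : Y, ∃ U : X.Opens, IsAffineOpen U ∧ j ⁻¹' {y} ⊆ (i ⁻¹ᵁ U : Set ↑Z)) (y : Y) :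
    ∃ (U : X.Opens) (V : Y.Opens), IsAffineOpen U ∧ IsAffineOpen V ∧ y ∈ V ∧ i ⁻¹ᵁ U = j ⁻¹ᵁ V := by
  obtain ⟨U₀, hU₀, hfib⟩ := h y
  have hclosed : IsClosedMap j := j.isClosedMap
  let W₀ := i ⁻¹ᵁ U₀
  have hW₀ : IsAffineOpen W₀ := hU₀.preimage i
  -- an affine neighbourhood of `y` with preimage in `W₀`
  let O : Y.Opens := ⟨(j '' (W₀ : Set ↑Z)ᶜ)ᶜ, (hclosed _ W₀.2.isClosed_compl).isOpen_compl⟩
  have hyO : y ∈ O := fun ⟨z, hz, hzy⟩ => hz (hfib hzy)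
  obtain ⟨V₀, hV₀, hyV₀, hV₀O⟩ := exists_isAffineOpen_mem_and_subset hyO
  have hle : j ⁻¹ᵁ V₀ ≤ W₀ := fun z hz => by
    by_contra hz'
    exact hV₀O hz ⟨z, hz', rfl⟩
  let W := j ⁻¹ᵁ V₀
  have hW : IsAffineOpen W := hV₀.preimage j
  letI : Algebra Γ(Y, V₀) Γ(Z, W) := (j.app V₀).hom.toAlgebra
  haveI : Algebra.IsIntegral Γ(Y, V₀) Γ(Z, W) := ⟨IsIntegralHom.isIntegral_app j V₀ hV₀⟩
  -- finitely many basic opens of `W₀` inside `W` covering the fibre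
  have hcov : ∀ z : W, ∃ c : Γ(Z, W₀), Z.basicOpen c ≤ W ∧ z.1 ∈ Z.basicOpen c := fun z =>
    hW₀.exists_basicOpen_le ⟨z.1, z.2⟩ (hle z.2)
  choose c hcW hc using hcov
  obtain ⟨s, hs⟩ := hW.isCompact.elim_finite_subcover (fun z : W => (Z.basicOpen (c z) : Set ↑Z))
    (fun z => (Z.basicOpen (c z)).2) (fun z hz => Set.mem_iUnion.mpr ⟨⟨z, hz⟩, hc ⟨z, hz⟩⟩)
  let b : Fin s.card → Γ(Z, W₀) := fun k => c (s.equivFin.symm k)
  let ρ : Γ(Z, W₀) →+* Γ(Z, W) := (Z.presheaf.map (homOfLE hle).op).hom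
  have hρ : ∀ (z : Z) (hz : z ∈ W) (d : Γ(Z, W₀)),
      z ∈ Z.basicOpen d ↔ ρ d ∉ (hW.primeIdealOf ⟨z, hz⟩).asIdeal := fun z hz d => by
    rw [← mem_basicOpen_iff_notMem hW z hz]
    show _ ↔ z ∈ Z.basicOpen (Z.presheaf.map (homOfLE hle).op d)
    rw [Scheme.basicOpen_res]
    exact ⟨fun h => ⟨hz, h⟩, fun h => h.2⟩
  obtain ⟨e, he, he'⟩ := exists_avoid (hV₀.primeIdealOf ⟨y, hyV₀⟩).asIdeal ρ b
    {t | ∃ (z : Z) (hz : z ∈ W), j z = y ∧ t = (hW.primeIdealOf ⟨z, hz⟩).asIdeal}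
    (by
      rintro _ ⟨z, hz, hzy, rfl⟩
      refine ⟨inferInstance, ?_⟩
      have := Brnch26.appLE_comap_primeIdealOf j hV₀ hW le_rfl z hz
      subst hzy
      rw [← this, Scheme.Hom.appLE_eq_app]
      rfl)
    (by
      rintro _ ⟨z, hz, hzy, rfl⟩
      obtain ⟨k, hk, hzk⟩ := Set.mem_iUnion₂.mp (hs hz)
      exact ⟨s.equivFin ⟨k, hk⟩, (hρ z hz _).mp (by simpa [b] using hzk)⟩)
  have heW : Z.basicOpen e ≤ W := by
    intro z hz
    have hzW₀ : z ∈ W₀ := Z.basicOpen_le e hz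
    by_contra hzW
    refine (mem_basicOpen_iff_notMem hW₀ z hzW₀ e).mp hz (Ideal.span_le.mpr ?_ he)
    rintro _ ⟨k, rfl⟩
    by_contra hk
    exact hzW (hcW _ ((mem_basicOpen_iff_notMem hW₀ z hzW₀ _).mpr hk))
  -- lift to `X` and shrink
  obtain ⟨g, hg⟩ := i.app_surjective U₀ hU₀ e
  let U₁ := X.basicOpen g
  have hU₁ : IsAffineOpen U₁ := hU₀.basicOpen g
  have hiU₁ : i ⁻¹ᵁ U₁ = Z.basicOpen e := by rw [Scheme.preimage_basicOpen]; exact congrArg _ hg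
  let O₁ : Y.Opens := ⟨(j '' (Z.basicOpen e : Set ↑Z)ᶜ)ᶜ, (hclosed _ (Z.basicOpen e).2.isClosed_compl).isOpen_compl⟩
  have hyO₁ : y ∈ O₁ := fun ⟨z, hz, hzy⟩ => hz (by
    have hzW : z ∈ W := show j z ∈ V₀ from hzy ▸ hyV₀
    exact (hρ z hzW e).mpr (he' _ ⟨z, hzW, hzy, rfl⟩))
  obtain ⟨v, hvO, hyv⟩ := hV₀.exists_basicOpen_le ⟨y, hyO₁⟩ hyV₀
  have hVle : j ⁻¹ᵁ Y.basicOpen v ≤ Z.basicOpen e := fun z hz => by
    by_contra hz'
    exact hvO hz ⟨z, hz', rfl⟩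
  obtain ⟨w, hw⟩ := i.app_surjective U₁ hU₁
    (Z.presheaf.map (homOfLE (hiU₁.le.trans heW)).op (j.app V₀ v))
  refine ⟨X.basicOpen w, Y.basicOpen v, hU₁.basicOpen w, hV₀.basicOpen v, hyv, ?_⟩
  rw [Scheme.preimage_basicOpen]
  refine (congrArg _ hw).trans ?_
  rw [Scheme.basicOpen_res, ← Scheme.preimage_basicOpen, hiU₁]
  exact inf_eq_right.mpr hVle

end Groth.Agent.FlatMor66
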