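import Groth.Prelude.Def_MoreMor
import Mathlib

/-!
Affine stratifications: qcqs schemes and Noetherian schemes of finite dimension.
-/

set_option autoImplicit false
set_option linter.style.haveILetI false
universe u

open AlgebraicGeometry CategoryTheory Limits TopologicalSpace
open scoped Function

noncomputable section

namespace Groth.Agent.FlatMor66

variable {X : Scheme.{u}}

/-- A stratum cut out by earlier opens from an affine open adapted to an affine cover. -/
theorem exists_stratum {W : X.Opens} (hW : IsAffineOpen W) (C : Set X) (hC : IsClosed C)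
    (hcov : ∀ x : X, ∃ U : X.Opens, x ∈ U ∧ IsAffineOpen U ∧ (W ≤ U ∨ Disjoint ((W : Set X) ∩ C) (U : Set X))) :
    ∃ (Z : Scheme.{u}) (ι : Z ⟶ X), IsImmersion ι ∧ IsAffine Z ∧ IsAffineHom ι ∧
      Set.range ι = (W : Set X) ∩ C := by
  let iC := (Scheme.IdealSheafData.vanishingIdeal (⟨C, hC⟩ : Closeds X)).subschemeι
  have : IsAffine W.toScheme := hW
  have : IsAffine (pullback iC W.ι) := isAffine_of_isAffineHom (pullback.snd iC W.ι)
  have hr : Set.range (pullback.fst iC W.ι ≫ iC) = (W : Set X) ∩ C := by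
    rw [Scheme.Pullback.range_fst_comp, Scheme.Opens.range_ι,
      show Set.range iC = C by
        rw [Scheme.IdealSheafData.range_subschemeι, Scheme.IdealSheafData.coe_support_vanishingIdeal]; rfl,
      Set.inter_comm]
  refine ⟨pullback iC W.ι, pullback.fst iC W.ι ≫ iC, inferInstance, inferInstance, ?_, hr⟩
  apply isAffineHom_of_forall_exists_isAffineOpen
  intro x
  obtain ⟨U, hxU, hU, h | h⟩ := hcov x
  · refine ⟨U, hxU, hU, ?_⟩
    rw [show (pullback.fst iC W.ι ≫ iC) ⁻¹ᵁ U = ⊤ from top_le_iff.mp fun z _ => h (hr.subset ⟨z, rfl⟩).1]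
    exact isAffineOpen_top _
  · refine ⟨U, hxU, hU, ?_⟩
    rw [show (pullback.fst iC W.ι ≫ iC) ⁻¹ᵁ U = ⊥ from eq_bot_iff.mpr fun z hz =>
      absurd hz (Set.disjoint_left.mp h (hr.subset ⟨z, rfl⟩))]
    exact isAffineOpen_bot _

/-- A list of affine opens covering `X`, adapted to an affine cover. -/
theorem hasAffineStratification_of_adapted {N : ℕ} (W : Fin (N + 1) → X.Opens) (hW : ∀ k, IsAffineOpen (W k))
    (hcovW : ∀ x, ∃ k, x ∈ W k)
    (hcov : ∀ k, ∀ x : X, ∃ U : X.Opens, x ∈ U ∧ IsAffineOpen U ∧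
      (W k ≤ U ∨ ∀ z ∈ W k ⊓ U, ∃ k' < k, z ∈ W k')) :
    MoreMor.HasAffineStratification X N := by
  classical
  let m : X → Fin (N + 1) := fun x => Fin.find _ (hcovW x)
  refine ⟨fun x => Fin.rev (m x), fun i => ?_, fun i => ?_⟩
  · have e : {x : X | Fin.rev (m x) ≤ i} = (⋃ k < Fin.rev i, (W k : Set X))ᶜ := by
      ext x
      rw [Set.mem_setOf_eq, Fin.rev_le_iff, Fin.le_find_iff]
      simp
    rw [e]
    exact (isOpen_biUnion fun k _ => (W k).2).isClosed_compl
  have hC : IsClosed (⋃ k < Fin.rev i, (W k : Set X))ᶜ := (isOpen_biUnion fun k _ => (W k).2).isClosed_compl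
  obtain ⟨Z, ι, h₁, h₂, h₃, h₄⟩ := exists_stratum (hW (Fin.rev i)) _ hC (fun x => by
      obtain ⟨U, hxU, hU, h | h⟩ := hcov (Fin.rev i) x
      · exact ⟨U, hxU, hU, Or.inl h⟩
      · refine ⟨U, hxU, hU, Or.inr (Set.disjoint_left.mpr ?_)⟩
        rintro z ⟨hz, hzC⟩ hzU
        obtain ⟨k', hk', hzk'⟩ := h z ⟨hz, hzU⟩
        exact hzC (Set.mem_iUnion₂.mpr ⟨k', hk', hzk'⟩))
  refine ⟨Z, ι, h₁, h₂, h₃, ?_⟩
  rw [h₄]
  ext x
  rw [Set.mem_setOf_eq, Fin.rev_eq_iff, Fin.find_eq_iff]
  simp [and_comm]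

theorem isCompact_inf' [QuasiSeparatedSpace X] {ι : Type} (U : ι → X.Opens) (hU : ∀ i, IsAffineOpen (U i))
    (J : Finset ι) (h : J.Nonempty) : IsCompact ((J.inf' h U : X.Opens) : Set X) := by
  induction h using Finset.Nonempty.cons_induction with
  | singleton a => simpa using (hU a).isCompact
  | cons a J ha hJ ih =>
    rw [Finset.inf'_cons hJ, TopologicalSpace.Opens.coe_inf]
    exact QuasiSeparatedSpace.inter_isCompact _ _ (U a).2 (hU a).isCompact (J.inf' hJ U).2 ih

theorem mem_inf'_opens {ι : Type} (U : ι → X.Opens) (J : Finset ι) (h : J.Nonempty) (x : X) :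
    x ∈ J.inf' h U ↔ ∀ j ∈ J, x ∈ U j := by
  induction h using Finset.Nonempty.cons_induction with
  | singleton a => simp
  | cons a J ha hJ ih =>
    rw [Finset.inf'_cons hJ]
    simp only [TopologicalSpace.Opens.mem_inf, ih, Finset.mem_cons, forall_eq_or_imp]

/-- The adapted list for a finite affine cover. -/
theorem exists_adapted_list [CompactSpace X] [QuasiSeparatedSpace X] (n : ℕ) (U : Fin n → X.Opens)
    (hU : ∀ i, IsAffineOpen (U i)) (m : ℕ) : ∀ d, d + m = n → ∃ (L : List X.Opens),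
      (∀ W ∈ L, IsAffineOpen W) ∧
      (∀ J : Finset (Fin n), m ≤ J.card → 0 < J.card → ∀ x, (∀ j ∈ J, x ∈ U j) → ∃ W ∈ L, x ∈ W) ∧
      (∀ (k : ℕ) (hk : k < L.length) (j : Fin n), L[k] ≤ U j ∨
        ∀ z ∈ L[k] ⊓ U j, ∃ (k' : ℕ) (hk' : k' < k), z ∈ L[k']'(hk'.trans hk)) := by
  classical
  intro d
  induction d generalizing m with
  | zero =>
    intro hm
    by_cases hn : n = 0
    · refine ⟨[], by simp, fun J _ hJ => ?_, fun k hk => by simp at hk⟩
      subst hn
      obtain ⟨j, -⟩ := Finset.card_pos.mp hJ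
      exact j.elim0
    -- the points in all members
    have hne : (Finset.univ : Finset (Fin n)).Nonempty := ⟨⟨0, Nat.pos_of_ne_zero hn⟩, Finset.mem_univ _⟩
    obtain ⟨ws, hsub, hws, hwseq⟩ := (X.isBasis_affineOpens).exists_finite_of_isCompact (isCompact_inf' U hU _ hne)
    refine ⟨hws.toFinset.toList, fun W hW => ?_, fun J hJ _ x hx => ?_, fun k hk j => Or.inl ?_⟩
    · exact hsub (by simpa using hW)
    · have hJu : J = Finset.univ := Finset.eq_univ_of_card J (le_antisymm (Finset.card_le_univ J) (by simp; omega))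
      have : x ∈ Finset.univ.inf' hne U := (mem_inf'_opens U _ hne x).mpr fun j _ => hx j (hJu ▸ Finset.mem_univ j)
      rw [hwseq, TopologicalSpace.Opens.mem_sSup] at this
      obtain ⟨W, hW, hxW⟩ := this
      exact ⟨W, by simpa using hW, hxW⟩
    · have : hws.toFinset.toList[k] ∈ ws := hws.mem_toFinset.mp (Finset.mem_toList.mp (List.getElem_mem hk))
      exact (le_sSup this).trans (hwseq.symm.le.trans (Finset.inf'_le U (Finset.mem_univ j)))
  | succ d ih =>
    intro hm
    obtain ⟨L, hL, hLcov, hLad⟩ := ih (m + 1) (by omega)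
    by_cases hm0 : m = 0
    · refine ⟨L, hL, fun J _ hJ => hLcov J (by omega) hJ, hLad⟩
    have hJs : ∀ J : Finset (Fin n), ∃ ws : Set X.Opens, ws.Finite ∧ (∀ W ∈ ws, IsAffineOpen W) ∧
        (∀ W ∈ ws, ∀ j ∈ J, W ≤ U j) ∧ (J.card = m → ∀ x, (∀ j ∈ J, x ∈ U j) → ∃ W ∈ ws, x ∈ W) := by
      intro J
      by_cases hJ : J.card = m
      · have hne : J.Nonempty := Finset.card_pos.mp (by omega)
        obtain ⟨ws, hsub, hws, hwseq⟩ := (X.isBasis_affineOpens).exists_finite_of_isCompact (isCompact_inf' U hU J hne)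
        refine ⟨ws, hws, fun W hW => hsub hW, fun W hW j hj => (le_sSup hW).trans
          (hwseq.symm.le.trans (Finset.inf'_le U hj)), fun _ x hx => ?_⟩
        have : x ∈ J.inf' hne U := (mem_inf'_opens U J hne x).mpr hx
        rw [hwseq, TopologicalSpace.Opens.mem_sSup] at this
        exact this
      · exact ⟨∅, Set.finite_empty, by simp, by simp, fun h => absurd h hJ⟩
    choose ws hws hwsaff hwsle hwscov using hJs
    let T : List X.Opens := (((Finset.univ : Finset (Finset (Fin n))).filter fun J => J.card = m).biUnion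
      fun J => (hws J).toFinset).toList
    have hT : ∀ W ∈ T, ∃ J : Finset (Fin n), J.card = m ∧ W ∈ ws J := fun W hW => by simpa [T] using hW
    refine ⟨L ++ T, fun W hW => ?_, fun J hJ hJ0 x hx => ?_, fun k hk j => ?_⟩
    · rcases List.mem_append.mp hW with h | h
      · exact hL W h
      · obtain ⟨J, -, hWJ⟩ := hT W h
        exact hwsaff J W hWJ
    · rcases Nat.lt_or_ge m J.card with h | h
      · obtain ⟨W, hW, hxW⟩ := hLcov J h hJ0 x hx
        exact ⟨W, List.mem_append_left _ hW, hxW⟩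
      · obtain ⟨W, hW, hxW⟩ := hwscov J (le_antisymm h hJ) x hx
        refine ⟨W, List.mem_append_right _ ?_, hxW⟩
        simp only [T, Finset.mem_toList, Finset.mem_biUnion, Finset.mem_filter, Finset.mem_univ, true_and]
        exact ⟨J, le_antisymm h hJ, (hws J).mem_toFinset.mpr hW⟩
    · rcases Nat.lt_or_ge k L.length with hkL | hkL
      · rw [List.getElem_append_left hkL]
        refine (hLad k hkL j).imp_right fun h z hz => ?_
        obtain ⟨k', hk', hzk'⟩ := h z hz
        refine ⟨k', hk', ?_⟩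
        rwa [List.getElem_append_left (hk'.trans hkL)]
      · rw [List.getElem_append_right hkL]
        obtain ⟨J, hJ, hWJ⟩ := hT _ (List.getElem_mem (l := T) (n := k - L.length) (by rw [List.length_append] at hk; omega))
        by_cases hj : j ∈ J
        · exact Or.inl (hwsle J _ hWJ j hj)
        · refine Or.inr fun z hz => ?_
          obtain ⟨W, hW, hzW⟩ := hLcov (insert j J) (by rw [Finset.card_insert_of_notMem hj]; omega)
            (Finset.card_pos.mpr ⟨j, Finset.mem_insert_self j J⟩) z (fun j' hj' => by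
              rcases Finset.mem_insert.mp hj' with rfl | hj'
              · exact hz.2
              · exact hwsle J _ hWJ j' hj' hz.1)
          obtain ⟨k', hk', rfl⟩ := List.getElem_of_mem hW
          refine ⟨k', by omega, ?_⟩
          rwa [List.getElem_append_left hk']

/-- Quasi-compact quasi-separated schemes have affine stratifications. -/
theorem exists_hasAffineStratification [CompactSpace X] [QuasiSeparatedSpace X] :
    ∃ n, MoreMor.HasAffineStratification X n := by
  classical
  obtain ⟨ws, hsub, hws, hwseq⟩ := (X.isBasis_affineOpens).exists_finite_of_isCompact (U := (⊤ : X.Opens)) isCompact_univ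
  let l := hws.toFinset.toList
  obtain ⟨L, hL, hcov, had⟩ := exists_adapted_list l.length (fun i => l.get i)
    (fun i => hsub (hws.mem_toFinset.mp (Finset.mem_toList.mp (List.get_mem l i)))) 0 l.length (by omega)
  have hcl : ∀ x : X, ∃ i, x ∈ l.get i := fun x => by
    have : x ∈ (⊤ : X.Opens) := trivial
    rw [hwseq, TopologicalSpace.Opens.mem_sSup] at this
    obtain ⟨W, hW, hxW⟩ := this
    obtain ⟨i, rfl⟩ := List.get_of_mem (Finset.mem_toList.mpr (hws.mem_toFinset.mpr hW))
    exact ⟨i, hxW⟩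
  have hcovx : ∀ x, ∃ W ∈ L, x ∈ W := fun x => by
    obtain ⟨i, hi⟩ := hcl x
    exact hcov {i} (Nat.zero_le _) (by simp) x (by simpa using hi)
  rcases Nat.eq_zero_or_pos L.length with h0 | h0
  · refine ⟨0, hasAffineStratification_of_adapted (fun _ => ⊥) (fun _ => isAffineOpen_bot X) (fun x => ?_) (fun _ x => ?_)⟩ <;>
    · obtain ⟨W, hW, -⟩ := hcovx x
      exact absurd hW (by simp [List.length_eq_zero_iff.mp h0])
  · obtain ⟨N, hN⟩ : ∃ N, L.length = N + 1 := ⟨L.length - 1, by omega⟩
    refine ⟨N, hasAffineStratification_of_adapted (fun k => L[k.val]'(by omega)) (fun k => hL _ (List.getElem_mem _))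
      (fun x => ?_) (fun k x => ?_)⟩
    · obtain ⟨W, hW, hxW⟩ := hcovx x
      obtain ⟨k, hk, rfl⟩ := List.getElem_of_mem hW
      exact ⟨⟨k, by omega⟩, hxW⟩
    · obtain ⟨i, hi⟩ := hcl x
      refine ⟨l.get i, hi, hsub (hws.mem_toFinset.mp (Finset.mem_toList.mp (List.get_mem l i))),
        (had k (by omega) i).imp_right fun h z hz => ?_⟩
      obtain ⟨k', hk', hzk'⟩ := h z hz
      exact ⟨⟨k', by omega⟩, hk', hzk'⟩

/-- A scheme with an affine stratification is quasi-compact and quasi-separated. -/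
theorem qcqs_of_hasAffineStratification {n : ℕ} (h : MoreMor.HasAffineStratification X n) :
    CompactSpace ↑X ∧ QuasiSeparatedSpace ↑X := by
  obtain ⟨s, -, hst⟩ := h
  choose Z ι him haff hah hr using hst
  have key : ∀ (A : Set X), (∀ i, IsCompact (ι i ⁻¹' A)) → IsCompact A := by
    intro A hA
    have : A = ⋃ i, ι i '' (ι i ⁻¹' A) := by
      ext x
      refine ⟨fun hx => ?_, fun hx => ?_⟩
      · obtain ⟨z, hz⟩ : x ∈ Set.range (ι (s x)) := by rw [hr]; exact rfl
        exact Set.mem_iUnion.mpr ⟨s x, z, show ι (s x) z ∈ A from hz.symm ▸ hx, hz⟩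
      · obtain ⟨i, z, hz, rfl⟩ := Set.mem_iUnion.mp hx
        exact hz
    rw [this]
    exact isCompact_iUnion fun i => (hA i).image (ι i).continuous
  refine ⟨⟨key _ fun i => ?_⟩, (AlgebraicGeometry.quasiSeparatedSpace_iff_forall_affineOpens (X := X)).mpr fun U V => key _ fun i => ?_⟩
  · have := haff i
    rw [Set.preimage_univ]
    exact isCompact_univ
  · have := haff i
    have := hah i
    exact ((U.2.preimage (ι i)).inf (V.2.preimage (ι i))).isCompact

/-- Affine dense opens with affine inclusion in Noetherian schemes. -/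
theorem exists_dense_affine_affineHom (X : Scheme.{u}) [IsNoetherian X] :
    ∃ U : X.Opens, IsAffineOpen U ∧ IsAffineHom U.ι ∧
      ∀ Z ∈ irreducibleComponents X, ((U : Set X) ∩ Z).Nonempty := by
  classical
  have hfin := NoetherianSpace.finite_irreducibleComponents (α := X)
  obtain ⟨ws, hsub, hws, hwseq⟩ := (X.isBasis_affineOpens).exists_finite_of_isCompact (U := (⊤ : X.Opens)) isCompact_univ
  let O : Set X → X.Opens := fun Z =>
    ⟨(⋃₀ (irreducibleComponents X \ {Z}))ᶜ, by
      rw [Set.sUnion_eq_biUnion, isOpen_compl_iff]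
      exact hfin.sdiff.isClosed_biUnion fun W hW => isClosed_of_mem_irreducibleComponents W hW.1⟩
  have hOZ : ∀ Z ∈ irreducibleComponents X, (O Z : Set X) ⊆ Z := fun Z _ x hx => by
    by_contra hxZ
    exact hx ⟨irreducibleComponent x, ⟨irreducibleComponent_mem_irreducibleComponents x,
      fun e => hxZ (e ▸ mem_irreducibleComponent)⟩, mem_irreducibleComponent⟩
  have hne : ∀ Z ∈ irreducibleComponents X, ∃ U : X.Opens, IsAffineOpen U ∧ U ≤ O Z ∧
      ((U : Set X) ∩ Z).Nonempty ∧ ∀ W ∈ ws, ((W : Set X) ∩ Z).Nonempty → U ≤ W := by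
    intro Z hZ
    obtain ⟨ξ, hξ⟩ := QuasiSober.sober hZ.1 (isClosed_of_mem_irreducibleComponents Z hZ)
    have hgen : ∀ W : X.Opens, ((W : Set X) ∩ Z).Nonempty → ξ ∈ W := fun W h =>
      (hξ.mem_open_set_iff W.2).2 (Set.inter_comm _ _ ▸ h)
    have hξO : ξ ∈ O Z := fun ⟨Z', ⟨hZ', hne⟩, hξZ'⟩ => by
      have hle : Z ⊆ Z' := hξ ▸ closure_minimal (Set.singleton_subset_iff.2 hξZ')
        (isClosed_of_mem_irreducibleComponents Z' hZ')
      exact hne (Set.Subset.antisymm (hZ.2 hZ'.1 hle) hle)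
    let T : Set X.Opens := {W | W ∈ ws ∧ ((W : Set X) ∩ Z).Nonempty}
    have hT : T.Finite := hws.subset fun W h => h.1
    let O' : X.Opens := ⟨(O Z : Set X) ∩ ⋂ W ∈ T, (W : Set X), (O Z).2.inter (hT.isOpen_biInter fun W _ => W.2)⟩
    obtain ⟨U, hU, hξU, hUO⟩ := exists_isAffineOpen_mem_and_subset (U := O') (x := ξ)
      ⟨hξO, Set.mem_iInter₂.mpr fun W hW => hgen W hW.2⟩
    exact ⟨U, hU, fun z hz => (hUO hz).1, ⟨ξ, hξU, hξ.mem⟩,
      fun W hW hWZ z hz => Set.mem_iInter₂.mp (hUO hz).2 W ⟨hW, hWZ⟩⟩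
  choose! U hU hUO hUne hUW using hne
  have hdisj : ∀ S ⊆ irreducibleComponents (X : Type u), S.Pairwise (Disjoint on U) := by
    intro S hS Z hZ Z' hZ' hne
    simp only [Function.onFun, disjoint_iff, eq_bot_iff]
    exact fun x hx => (hUO Z' (hS hZ') hx.2 ⟨Z, ⟨hS hZ, hne⟩, hOZ Z (hS hZ) (hUO Z (hS hZ) hx.1)⟩).elim
  refine ⟨⨆ Z ∈ irreducibleComponents X, U Z, IsAffineOpen.biSup_of_disjoint hfin hU (hdisj _ subset_rfl), ?_,
    fun Z hZ => (hUne Z hZ).mono (Set.inter_subset_inter_left _
      (SetLike.coe_subset_coe.mpr (le_iSup₂_of_le Z hZ le_rfl)))⟩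
  apply isAffineHom_of_forall_exists_isAffineOpen
  intro x
  have : x ∈ (⊤ : X.Opens) := trivial
  rw [hwseq, TopologicalSpace.Opens.mem_sSup] at this
  obtain ⟨W, hW, hxW⟩ := this
  refine ⟨W, hxW, hsub hW, ?_⟩
  let S : Set (Set X) := {Z | Z ∈ irreducibleComponents X ∧ ((W : Set X) ∩ Z).Nonempty}
  have hS : S.Finite := hfin.subset fun Z h => h.1
  have e : (⨆ Z ∈ irreducibleComponents X, U Z) ⊓ W = ⨆ Z ∈ S, U Z := by
    apply le_antisymm
    · rintro z ⟨hz, hzW⟩
      simp only [TopologicalSpace.Opens.coe_iSup, Set.mem_iUnion] at hz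
      obtain ⟨Z, hZ, hzZ⟩ := hz
      exact (show U Z ≤ ⨆ Z ∈ S, U Z from le_iSup₂_of_le Z ⟨hZ, ⟨z, hzW, hOZ Z hZ (hUO Z hZ hzZ)⟩⟩ le_rfl) hzZ
    · exact iSup₂_le fun Z hZ => le_inf (le_iSup₂_of_le Z hZ.1 le_rfl) (hUW Z hZ.1 W hW hZ.2)
  rw [← Scheme.Hom.isAffineOpen_iff_of_isOpenImmersion (Scheme.Opens.ι _), Scheme.Hom.image_preimage_eq_opensRange_inf,
    Scheme.Opens.opensRange_ι, e]
  exact IsAffineOpen.biSup_of_disjoint hS (fun Z hZ => hU Z hZ.1) (hdisj _ fun Z (h : Z ∈ S) => h.1)

/-- Closed subsets avoiding the generic points have smaller dimension. -/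
theorem dim_le_of_no_component {T : Type u} [TopologicalSpace T] (C : Set T) (hC : IsClosed C) (d : ℕ)
    (hd : topologicalKrullDim T ≤ (d + 1 : ℕ)) (hne : ∀ Z ∈ irreducibleComponents T, ¬ Z ⊆ C) :
    topologicalKrullDim C ≤ d := by
  refine iSup_le fun l => ?_
  let img : IrreducibleCloseds C → IrreducibleCloseds T := fun A =>
    ⟨Subtype.val '' (A : Set C), A.isIrreducible.image _ continuous_subtype_val.continuousOn,
      hC.isClosedEmbedding_subtypeVal.isClosedMap _ A.isClosed⟩
  have hmono : StrictMono img := fun A B h =>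
    SetLike.coe_ssubset_coe.mp ⟨Set.image_mono (SetLike.coe_ssubset_coe.mpr h).1, fun hh =>
      (SetLike.coe_ssubset_coe.mpr h).2 ((Set.image_subset_image_iff Subtype.val_injective).mp hh)⟩
  obtain ⟨Z, hZ, hle⟩ := exists_mem_irreducibleComponents_subset_of_isIrreducible
    ((img l.last : IrreducibleCloseds T) : Set T) (img l.last).isIrreducible
  let Z' : IrreducibleCloseds T := ⟨Z, hZ.1, isClosed_of_mem_irreducibleComponents Z hZ⟩
  have hlt : img l.last < Z' := SetLike.coe_ssubset_coe.mp ⟨hle, fun h => hne Z hZ (h.trans (Subtype.coe_image_subset _ _))⟩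
  have h1 := Order.LTSeries.length_le_krullDim ((l.map img hmono).snoc Z' (by simpa [LTSeries.last_map] using hlt))
  have h2 : ((l.length + 1 : ℕ) : WithBot ℕ∞) ≤ (d + 1 : ℕ) := by simpa using h1.trans hd
  exact_mod_cast Nat.le_of_succ_le_succ (by exact_mod_cast h2)

/-- Noetherian schemes of dimension at most `d` have affine stratifications of length `d`. -/
theorem hasAffineStratification_of_dim (d : ℕ) : ∀ (X : Scheme.{u}) [IsNoetherian X],
    topologicalKrullDim ↑X ≤ d → MoreMor.HasAffineStratification X d := by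
  induction d with
  | zero =>
    intro X _ hd
    obtain ⟨U, hU, hUι, hne⟩ := exists_dense_affine_affineHom X
    refine ⟨fun _ => 0, fun i => ?_, fun i => ⟨U, U.ι, inferInstance, hU, hUι, ?_⟩⟩
    · simp
    · rw [Scheme.Opens.range_ι, show {x : X | (0 : Fin 1) = i} = Set.univ from Set.eq_univ_of_forall fun _ => (Subsingleton.elim _ _), Set.eq_univ_iff_forall]
      intro x
      by_contra hx
      have hdim := hd
      let A : IrreducibleCloseds X := ⟨closure {x}, isIrreducible_singleton.closure, isClosed_closure⟩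
      obtain ⟨Z, hZ, hle⟩ := exists_mem_irreducibleComponents_subset_of_isIrreducible (A : Set X) A.isIrreducible
      let Z' : IrreducibleCloseds X := ⟨Z, hZ.1, isClosed_of_mem_irreducibleComponents Z hZ⟩
      have hlt : A < Z' := SetLike.coe_ssubset_coe.mp ⟨hle, fun h => by
        obtain ⟨z, hzU, hzZ⟩ := hne Z hZ
        have hxz : x ⤳ z := specializes_iff_mem_closure.2 (h hzZ)
        exact hx (hxz.mem_open U.2 hzU)⟩
      have h1 := Order.LTSeries.length_le_krullDim ((RelSeries.singleton _ A).snoc Z' hlt)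
      have h2 : ((1 : ℕ) : WithBot ℕ∞) ≤ (0 : ℕ) := by simpa using h1.trans hdim
      exact absurd h2 (by decide)
  | succ d ih =>
    intro X _ hd
    obtain ⟨U, hU, hUι, hne⟩ := exists_dense_affine_affineHom X
    let C : Closeds X := ⟨(U : Set X)ᶜ, U.2.isClosed_compl⟩
    let iC := (Scheme.IdealSheafData.vanishingIdeal C).subschemeι
    have hrC : Set.range iC = (U : Set X)ᶜ := by
      rw [Scheme.IdealSheafData.range_subschemeι, Scheme.IdealSheafData.coe_support_vanishingIdeal]; rfl
    have : IsNoetherian (Scheme.IdealSheafData.vanishingIdeal C).subscheme :=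
      { LocallyOfFiniteType.isLocallyNoetherian iC with
        toCompactSpace := QuasiCompact.compactSpace_of_compactSpace iC }
    have hCd : topologicalKrullDim ↑(Scheme.IdealSheafData.vanishingIdeal C).subscheme ≤ d := by
      refine le_trans (le_of_eq ?_) (dim_le_of_no_component ((U : Set X)ᶜ) U.2.isClosed_compl d hd
        fun Z hZ h => by
          obtain ⟨z, hzU, hzZ⟩ := hne Z hZ
          exact h hzZ hzU)
      rw [← hrC]
      exact IsHomeomorph.topologicalKrullDim_eq _ iC.isClosedEmbedding.isEmbedding.toHomeomorph.isHomeomorph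
    obtain ⟨s', hs'cl, hs'⟩ := ih _ hCd
    classical
    let s : X → Fin (d + 2) := fun x => if hx : x ∈ Set.range iC then (s' hx.choose).castSucc else Fin.last _
    have hsC : ∀ z, s (iC z) = (s' z).castSucc := fun z => by
      have h : iC z ∈ Set.range iC := ⟨z, rfl⟩
      simp only [s, dif_pos h, iC.isClosedEmbedding.injective h.choose_spec]
    have hsU : ∀ x, x ∉ Set.range iC → s x = Fin.last _ := fun x hx => dif_neg hx
    refine ⟨s, fun i => ?_, fun i => ?_⟩
    · cases i using Fin.lastCases with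
      | last => simp [Fin.le_last]
      | cast i =>
        have : {x | s x ≤ i.castSucc} = iC '' {z | s' z ≤ i} := by
          ext x
          by_cases hx : x ∈ Set.range iC
          · obtain ⟨z, rfl⟩ := hx
            simp [hsC, iC.isClosedEmbedding.injective.mem_set_image]
          · simp only [Set.mem_setOf_eq, hsU x hx]
            exact ⟨fun h => absurd h (not_le.mpr (Fin.castSucc_lt_last i)), fun ⟨z, _, hz⟩ => absurd ⟨z, hz⟩ hx⟩
        rw [this]
        exact iC.isClosedEmbedding.isClosedMap _ (hs'cl i)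
    · cases i using Fin.lastCases with
      | last =>
        refine ⟨U, U.ι, inferInstance, hU, hUι, ?_⟩
        ext x
        rw [Scheme.Opens.range_ι]
        by_cases hx : x ∈ Set.range iC
        · obtain ⟨z, rfl⟩ := hx
          simp only [Set.mem_setOf_eq, hsC, (Fin.castSucc_lt_last _).ne, iff_false]
          exact (hrC.subset ⟨z, rfl⟩ : iC z ∈ (U : Set X)ᶜ)
        · simp only [Set.mem_setOf_eq, hsU x hx, iff_true]
          rw [hrC] at hx
          exact not_not.mp hx
      | cast i =>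
        obtain ⟨Z, ι, h₁, h₂, h₃, h₄⟩ := hs' i
        refine ⟨Z, ι ≫ iC, inferInstance, h₂, inferInstance, ?_⟩
        rw [Scheme.Hom.comp_base, TopCat.coe_comp, Set.range_comp, h₄]
        ext x
        by_cases hx : x ∈ Set.range iC
        · obtain ⟨z, rfl⟩ := hx
          simp [hsC, iC.isClosedEmbedding.injective.mem_set_image]
        · simp only [Set.mem_setOf_eq, hsU x hx]
          exact ⟨fun ⟨z, _, hz⟩ => absurd ⟨z, hz⟩ hx, fun h => absurd h.symm (Fin.castSucc_lt_last i).ne⟩

end Groth.Agent.FlatMor66
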