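import Groth.Agent.FlatMor68.CMComp
import Groth.Agent.S2614
import Groth.Agent.E4O.BaseChangeDim
import Groth.Agent.FlatMor66.BCStalk
import Groth.Agent.Unr55.PointDesc

/-!
Cohen–Macaulay points and base change along morphisms locally of finite type.
-/

set_option autoImplicit false
set_option linter.style.haveILetI false
set_option backward.isDefEq.respectTransparency.types false
universe u

open CategoryTheory CategoryTheory.Limits AlgebraicGeometry TensorProduct IsLocalRing
open Groth.Agent.FlatMor68

noncomputable section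

namespace Groth.Agent.FlatMor66

theorem cm_stalk_spec {R : CommRingCat.{u}} (h : LocCoh.IsCohenMacaulayRing R) (w : Spec R) :
    LocCoh.IsCohenMacaulayLocalRing ((Spec R).presheaf.stalk w) :=
  CAlg1.cm_of_ringEquiv (StructureSheaf.stalkIso R w).toRingEquiv
    (h.isCohenMacaulayLocalRing_localization w.asIdeal)

theorem cm_stalk_of_iso {X Y : Scheme.{u}} (h : X ⟶ Y) [IsOpenImmersion h] (x : X)
    (hc : LocCoh.IsCohenMacaulayLocalRing (Y.presheaf.stalk (h x))) :
    LocCoh.IsCohenMacaulayLocalRing (X.presheaf.stalk x) :=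
  CAlg1.cm_of_ringEquiv (asIso (h.stalkMap x)).commRingCatIsoToRingEquiv hc

theorem isNoetherianRing_tensor {k K A : Type u} [Field k] [Field K] [CommRing A] [Algebra k K]
    [Algebra k A] [Algebra.EssFiniteType k K] [IsNoetherianRing A] : IsNoetherianRing (A ⊗[k] K) :=
  Algebra.EssFiniteType.isNoetherianRing A (A ⊗[k] K)

/-- The product of an affine scheme over a field with a finitely generated extension is the spectrum of the
tensor product. -/
theorem exists_spec_tensor {k K : Type u} [Field k] [Field K] (φ : CommRingCat.of k ⟶ CommRingCat.of K)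
    {A : CommRingCat.{u}} {P : Scheme.{u}} {p : P ⟶ Spec A} {q : P ⟶ Spec (CommRingCat.of K)}
    {e : Spec A ⟶ Spec (CommRingCat.of k)} (h : IsPullback p q e (Spec.map φ)) :
    letI := φ.hom.toAlgebra
    letI := (Spec.preimage e).hom.toAlgebra
    Nonempty (P ≅ Spec (CommRingCat.of (A ⊗[k] K))) := by
  letI := φ.hom.toAlgebra
  letI := (Spec.preimage e).hom.toAlgebra
  have he : e = Spec.map (CommRingCat.ofHom (algebraMap k A)) := (Spec.map_preimage e).symm
  have h' : IsPullback p q (Spec.map (CommRingCat.ofHom (algebraMap k A)))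
      (Spec.map (CommRingCat.ofHom (algebraMap k K))) := by
    rw [← he]
    exact h
  exact ⟨h'.isoPullback ≪≫ pullbackSpecIso k A K⟩

theorem isLocallyNoetherian_spec_pullback {k K : Type u} [Field k] [Field K]
    (φ : CommRingCat.of k ⟶ CommRingCat.of K) (hφ : φ.hom.EssFiniteType)
    {A : CommRingCat.{u}} [IsNoetherianRing A] {P : Scheme.{u}} {p : P ⟶ Spec A} {q : P ⟶ Spec (CommRingCat.of K)}
    {e : Spec A ⟶ Spec (CommRingCat.of k)} (h : IsPullback p q e (Spec.map φ)) : IsLocallyNoetherian P := by
  letI := φ.hom.toAlgebra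
  letI := (Spec.preimage e).hom.toAlgebra
  haveI : Algebra.EssFiniteType k K := hφ
  obtain ⟨i⟩ := exists_spec_tensor φ h
  haveI : IsNoetherianRing (CommRingCat.of (A ⊗[k] K)) := isNoetherianRing_tensor
  exact isLocallyNoetherian_of_isOpenImmersion i.hom

theorem cm_stalk_pullback_field {k K L : Type u} [Field k] [Field K] [Field L]
    (φ : CommRingCat.of k ⟶ CommRingCat.of K) (hφ : φ.hom.EssFiniteType)
    {P : Scheme.{u}} {p : P ⟶ Spec (CommRingCat.of L)} {q : P ⟶ Spec (CommRingCat.of K)}
    {e : Spec (CommRingCat.of L) ⟶ Spec (CommRingCat.of k)} (h : IsPullback p q e (Spec.map φ)) (a : P) :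
    LocCoh.IsCohenMacaulayLocalRing (P.presheaf.stalk a) := by
  letI := φ.hom.toAlgebra
  letI : Algebra k L := (Spec.preimage e).hom.toAlgebra
  haveI : Algebra.EssFiniteType k K := hφ
  obtain ⟨i⟩ := exists_spec_tensor φ h
  haveI : IsNoetherianRing (L ⊗[k] K) := isNoetherianRing_tensor
  exact cm_stalk_of_iso i.hom a (cm_stalk_spec (R := CommRingCat.of (L ⊗[k] K))
    (Groth.Agent.S2614.result k L K (Or.inr hφ)) (i.hom a))

section Field

variable {k K : Type u} [Field k] [Field K] (φ : CommRingCat.of k ⟶ CommRingCat.of K) (hφ : φ.hom.EssFiniteType)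
  {P F : Scheme.{u}} {m : P ⟶ F} {r : P ⟶ Spec (CommRingCat.of K)} {s : F ⟶ Spec (CommRingCat.of k)}

include hφ in
theorem isNoetherianRing_stalk_of_field_extension (h : IsPullback m r s (Spec.map φ))
    [IsLocallyNoetherian F] (a : P) : IsNoetherianRing (P.presheaf.stalk a) := by
  obtain ⟨W, hW, haW, -⟩ := exists_isAffineOpen_mem_and_subset (U := (⊤ : F.Opens)) (x := m a) trivial
  haveI : IsNoetherianRing Γ(F, W) := IsLocallyNoetherian.component_noetherian ⟨W, hW⟩
  haveI := isLocallyNoetherian_spec_pullback φ hφ (A := Γ(F, W))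
    ((IsPullback.of_hasPullback m hW.fromSpec).flip.paste_vert h)
  have hr : a ∈ Set.range (pullback.fst m hW.fromSpec) := by
    rw [Scheme.Pullback.range_fst]
    show m a ∈ Set.range hW.fromSpec
    rw [hW.range_fromSpec]
    exact haW
  obtain ⟨b, rfl⟩ := hr
  exact isNoetherianRing_of_ringEquiv _ (asIso ((pullback.fst m hW.fromSpec).stalkMap b)).commRingCatIsoToRingEquiv.symm

include hφ in
/-- The Cohen–Macaulay property is insensitive to a finitely generated extension of the ground field. -/
theorem cm_stalk_iff_of_field_extension (h : IsPullback m r s (Spec.map φ)) [IsLocallyNoetherian F] (a : P) :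
    LocCoh.IsCohenMacaulayLocalRing (P.presheaf.stalk a) ↔
      LocCoh.IsCohenMacaulayLocalRing (F.presheaf.stalk (m a)) := by
  haveI := isNoetherianRing_stalk_of_field_extension φ hφ h a
  letI : Algebra (F.presheaf.stalk (m a)) (P.presheaf.stalk a) := (m.stalkMap a).hom.toAlgebra
  haveI : IsLocalHom (algebraMap (F.presheaf.stalk (m a)) (P.presheaf.stalk a)) :=
    inferInstanceAs (IsLocalHom (m.stalkMap a).hom)
  haveI : Flat m := MorphismProperty.of_isPullback (P := @Flat) h.flip inferInstance
  haveI : Module.Flat (F.presheaf.stalk (m a)) (P.presheaf.stalk a) := Flat.stalkMap m a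
  rw [CMComp.cm_iff (F.presheaf.stalk (m a)) (P.presheaf.stalk a)]
  refine and_iff_left ((CMComp.cm_fibre_iff m a).1 ?_)
  exact cm_stalk_pullback_field φ hφ
    (L := F.residueField (m a))
    ((IsPullback.of_hasPullback m (F.fromSpecResidueField (m a))).flip.paste_vert h) (m.asFiber a)

end Field

section Geom

variable {X Y X' Y' : Scheme.{u}} {f : X ⟶ Y} {f' : X' ⟶ Y'} {g' : X' ⟶ X} {g : Y' ⟶ Y}

theorem essFiniteType_residueFieldMap (g : Y' ⟶ Y) [LocallyOfFiniteType g] (y' : Y') :
    (g.residueFieldMap y').hom.EssFiniteType := by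
  have h1 : ((g.stalkMap y') ≫ Y'.residue y').hom.EssFiniteType :=
    (LocallyOfFiniteType.stalkMap g y').comp
      (RingHom.FiniteType.essFiniteType (RingHom.FiniteType.of_surjective _ (Y'.residue_surjective y')))
  rw [← Scheme.residue_residueFieldMap] at h1
  exact RingHom.EssFiniteType.of_comp _ (g := (g.residueFieldMap y').hom) h1

/-- Transport to the fibre through the point. -/
theorem cm_fibre_congr (f : X ⟶ Y) {y : Y} (z : f.fiber y) {x : X} (hz : f.fiberι y z = x) :
    LocCoh.IsCohenMacaulayLocalRing ((f.fiber y).presheaf.stalk z) ↔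
      LocCoh.IsCohenMacaulayLocalRing ((f.fiber (f x)).presheaf.stalk (f.asFiber x)) := by
  obtain rfl : f x = y := by
    rw [← hz, ← Scheme.Hom.comp_apply, Scheme.Hom.fiber_fac, Scheme.Hom.comp_apply,
      Scheme.fromSpecResidueField_apply]
  obtain rfl : z = f.asFiber x := (f.fiberι _).isEmbedding.injective (hz.trans (f.fiberι_asFiber x).symm)
  exact Iff.rfl

theorem cm_fibre_baseChange_iff (hN : ∀ y : Y, IsLocallyNoetherian (f.fiber y)) [LocallyOfFiniteType g]
    (hc : IsPullback g' f' f g) (x' : X') :
    LocCoh.IsCohenMacaulayLocalRing ((f'.fiber (f' x')).presheaf.stalk (f'.asFiber x')) ↔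
      LocCoh.IsCohenMacaulayLocalRing ((f.fiber (f (g' x'))).presheaf.stalk (f.asFiber (g' x'))) := by
  let y' := f' x'
  let m : f'.fiber y' ⟶ f.fiber (g y') := pullback.lift (f'.fiberι y' ≫ g')
    (f'.fiberToSpecResidueField y' ≫ Spec.map (g.residueFieldMap y')) (by
      show (pullback.fst _ _ ≫ g') ≫ f = (pullback.snd _ _ ≫ _) ≫ _
      rw [Category.assoc, Category.assoc, hc.w, pullback.condition_assoc,
        Scheme.Hom.SpecMap_residueFieldMap_fromSpecResidueField])
  have hm : IsPullback m (f'.fiberToSpecResidueField y') (f.fiberToSpecResidueField (g y'))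
      (Spec.map (g.residueFieldMap y')) := by
    refine IsPullback.of_right ?_ (pullback.lift_snd _ _ _) (IsPullback.of_hasPullback f _)
    erw [pullback.lift_fst, Scheme.Hom.SpecMap_residueFieldMap_fromSpecResidueField]
    exact (IsPullback.of_hasPullback f' (Y'.fromSpecResidueField y')).paste_horiz hc
  haveI := hN (g y')
  rw [cm_stalk_iff_of_field_extension _ (essFiniteType_residueFieldMap g y') hm (f'.asFiber x')]
  refine cm_fibre_congr f _ ?_
  rw [← Scheme.Hom.comp_apply, show m ≫ f.fiberι (g y') = f'.fiberι y' ≫ g' from pullback.lift_fst _ _ _,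
    Scheme.Hom.comp_apply, Scheme.Hom.fiberι_asFiber]

end Geom

theorem surjective_fromSpecResidueField_field (k : Type u) [Field k] (w : Spec (CommRingCat.of k)) :
    ∃ c : CommRingCat.of k ⟶ (Spec (CommRingCat.of k)).residueField w, Function.Surjective c ∧
      Spec.map c = (Spec (CommRingCat.of k)).fromSpecResidueField w := by
  refine ⟨CommRingCat.ofHom (algebraMap k w.asIdeal.ResidueField) ≫ (Scheme.Spec.residueFieldIso _ w).inv,
    (ConcreteCategory.bijective_of_isIso (Scheme.Spec.residueFieldIso _ w).inv).2.comp fun x => ?_, ?_⟩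
  · obtain ⟨a, b, -, rfl⟩ := IsFractionRing.div_surjective (A := k ⧸ w.asIdeal) x
    obtain ⟨a, rfl⟩ := Ideal.Quotient.mk_surjective a
    obtain ⟨b, rfl⟩ := Ideal.Quotient.mk_surjective b
    exact ⟨a / b, map_div₀ (algebraMap k w.asIdeal.ResidueField) a b⟩
  · rw [Spec.map_comp, Scheme.Spec.map_residueFieldIso_inv_eq_fromSpecResidueField]

section LFT

variable {k K : Type u} [Field k] [Field K] (φ : CommRingCat.of k ⟶ CommRingCat.of K)
  {P F : Scheme.{u}} {m : P ⟶ F} {r : P ⟶ Spec (CommRingCat.of K)} {s : F ⟶ Spec (CommRingCat.of k)}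

theorem essFiniteType_of_point (z : F) [LocallyOfFiniteType s] :
    (Spec.preimage (F.fromSpecResidueField z ≫ s)).hom.EssFiniteType := by
  obtain ⟨b, hb⟩ : ∃ b, b = Spec.preimage (F.fromSpecResidueField z ≫ s) := ⟨_, rfl⟩
  have h1 : b.hom.EssFiniteType := by
    have e1 : Spec.map (s.residueFieldMap z) ≫ (Spec (CommRingCat.of k)).fromSpecResidueField (s z) =
        F.fromSpecResidueField z ≫ s := Scheme.Hom.SpecMap_residueFieldMap_fromSpecResidueField _ _
    obtain ⟨c, hcs, hc⟩ := surjective_fromSpecResidueField_field k (s z)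
    have : b = c ≫ s.residueFieldMap z :=
      Spec.map_injective (by rw [Spec.map_comp, hb, Spec.map_preimage, hc, e1])
    rw [this]
    refine RingHom.EssFiniteType.comp ?_ (essFiniteType_residueFieldMap s z)
    exact RingHom.FiniteType.essFiniteType (RingHom.FiniteType.of_surjective _ hcs)
  rw [← hb]
  exact h1

/-- The Cohen–Macaulay property is insensitive to any extension of the ground field, for schemes
locally of finite type. -/
theorem cm_stalk_iff_of_field_extension' [LocallyOfFiniteType s] (h : IsPullback m r s (Spec.map φ)) (a : P) :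
    LocCoh.IsCohenMacaulayLocalRing (P.presheaf.stalk a) ↔
      LocCoh.IsCohenMacaulayLocalRing (F.presheaf.stalk (m a)) := by
  haveI : LocallyOfFiniteType r := MorphismProperty.of_isPullback h inferInstance
  haveI : IsLocallyNoetherian P := LocallyOfFiniteType.isLocallyNoetherian r
  haveI : IsLocallyNoetherian F := LocallyOfFiniteType.isLocallyNoetherian s
  letI : Algebra (F.presheaf.stalk (m a)) (P.presheaf.stalk a) := (m.stalkMap a).hom.toAlgebra
  haveI : IsLocalHom (algebraMap (F.presheaf.stalk (m a)) (P.presheaf.stalk a)) :=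
    inferInstanceAs (IsLocalHom (m.stalkMap a).hom)
  haveI : Flat m := MorphismProperty.of_isPullback (P := @Flat) h.flip inferInstance
  haveI : Module.Flat (F.presheaf.stalk (m a)) (P.presheaf.stalk a) := Flat.stalkMap m a
  rw [CMComp.cm_iff (F.presheaf.stalk (m a)) (P.presheaf.stalk a)]
  refine and_iff_left ((CMComp.cm_fibre_iff m a).1 ?_)
  let e : Spec (CommRingCat.of (F.residueField (m a))) ⟶ Spec (CommRingCat.of k) := F.fromSpecResidueField (m a) ≫ s
  letI := φ.hom.toAlgebra
  letI : Algebra k (F.residueField (m a)) := (Spec.preimage e).hom.toAlgebra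
  have hess : Algebra.EssFiniteType k (F.residueField (m a)) :=
    essFiniteType_of_point (m a)
  have hp : IsPullback (pullback.snd m (F.fromSpecResidueField (m a)))
      (pullback.fst m (F.fromSpecResidueField (m a)) ≫ r) e (Spec.map φ) :=
    (IsPullback.of_hasPullback m (F.fromSpecResidueField (m a))).flip.paste_vert h
  obtain ⟨i⟩ := exists_spec_tensor φ hp
  haveI : Algebra.EssFiniteType k (F.residueField (m a)) := hess
  haveI : IsNoetherianRing (K ⊗[k] F.residueField (m a)) := Algebra.EssFiniteType.isNoetherianRing K _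
  haveI : IsNoetherianRing ((F.residueField (m a) : Type u) ⊗[k] K) :=
    isNoetherianRing_of_ringEquiv _ (Algebra.TensorProduct.comm k K (F.residueField (m a))).toRingEquiv
  exact cm_stalk_of_iso i.hom (m.asFiber a) (cm_stalk_spec
    (R := CommRingCat.of ((F.residueField (m a) : Type u) ⊗[k] K))
    (Groth.Agent.S2614.result k (F.residueField (m a)) K (Or.inl hess)) (i.hom (m.asFiber a)))

theorem cm_fibre_baseChange_iff' {X Y X' Y' : Scheme.{u}} {f : X ⟶ Y} {f' : X' ⟶ Y'} {g' : X' ⟶ X} {g : Y' ⟶ Y}
    [LocallyOfFiniteType f] (hc : IsPullback g' f' f g) (x' : X') :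
    LocCoh.IsCohenMacaulayLocalRing ((f'.fiber (f' x')).presheaf.stalk (f'.asFiber x')) ↔
      LocCoh.IsCohenMacaulayLocalRing ((f.fiber (f (g' x'))).presheaf.stalk (f.asFiber (g' x'))) := by
  let y' := f' x'
  let m : f'.fiber y' ⟶ f.fiber (g y') := pullback.lift (f'.fiberι y' ≫ g')
    (f'.fiberToSpecResidueField y' ≫ Spec.map (g.residueFieldMap y')) (by
      show (pullback.fst _ _ ≫ g') ≫ f = (pullback.snd _ _ ≫ _) ≫ _
      rw [Category.assoc, Category.assoc, hc.w, pullback.condition_assoc,
        Scheme.Hom.SpecMap_residueFieldMap_fromSpecResidueField])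
  have hm : IsPullback m (f'.fiberToSpecResidueField y') (f.fiberToSpecResidueField (g y'))
      (Spec.map (g.residueFieldMap y')) := by
    refine IsPullback.of_right ?_ (pullback.lift_snd _ _ _) (IsPullback.of_hasPullback f _)
    erw [pullback.lift_fst, Scheme.Hom.SpecMap_residueFieldMap_fromSpecResidueField]
    exact (IsPullback.of_hasPullback f' (Y'.fromSpecResidueField y')).paste_horiz hc
  have hlft : LocallyOfFiniteType (f.fiberToSpecResidueField (g y')) :=
    MorphismProperty.pullback_snd _ _ inferInstance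
  rw [@cm_stalk_iff_of_field_extension' (Y.residueField (g y')) (Y'.residueField y') _ _ _ _ _ _ _ _ hlft hm (f'.asFiber x')]
  refine cm_fibre_congr f _ ?_
  rw [← Scheme.Hom.comp_apply, show m ≫ f.fiberι (g y') = f'.fiberι y' ≫ g' from pullback.lift_fst _ _ _,
    Scheme.Hom.comp_apply, Scheme.Hom.fiberι_asFiber]

end LFT

end Groth.Agent.FlatMor66
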