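import Groth.Agent.FlatMor66.CMBaseChange
import Groth.Agent.CAlg5.FlatDescent

/-!
Cohen–Macaulay morphisms are fppf local on the base.
-/

set_option autoImplicit false
set_option linter.style.haveILetI false
set_option backward.isDefEq.respectTransparency.types false
universe u

open CategoryTheory CategoryTheory.Limits AlgebraicGeometry TensorProduct

noncomputable section

namespace Groth.Agent.FlatMor66

section Field

variable {k K : Type u} [Field k] [Field K] (φ : CommRingCat.of k ⟶ CommRingCat.of K)
  {P F : Scheme.{u}} {m : P ⟶ F} {r : P ⟶ Spec (CommRingCat.of K)} {s : F ⟶ Spec (CommRingCat.of k)}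

theorem isNoetherianRing_of_spec_pullback {A : CommRingCat.{u}} {p : P ⟶ Spec A} {q : P ⟶ Spec (CommRingCat.of K)}
    {e : Spec A ⟶ Spec (CommRingCat.of k)} (h : IsPullback p q e (Spec.map φ)) [IsLocallyNoetherian P] :
    IsNoetherianRing A := by
  letI := φ.hom.toAlgebra
  letI := (Spec.preimage e).hom.toAlgebra
  obtain ⟨i⟩ := exists_spec_tensor φ h
  haveI : IsLocallyNoetherian (Spec (CommRingCat.of (A ⊗[k] K))) := isLocallyNoetherian_of_isOpenImmersion i.inv
  haveI : IsNoetherianRing (A ⊗[k] K) := isLocallyNoetherian_Spec.mp this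
  exact CAlg5.isNoetherianRing_of_faithfullyFlat A (A ⊗[k] K)

theorem isLocallyNoetherian_of_field_extension (hφ : φ.hom.EssFiniteType) (h : IsPullback m r s (Spec.map φ))
    [IsLocallyNoetherian F] : IsLocallyNoetherian P := by
  refine (isLocallyNoetherian_iff_openCover (F.affineCover.pullback₁ m)).mpr fun i => ?_
  have key : ∀ {A : CommRingCat.{u}} (j : Spec A ⟶ F) [IsOpenImmersion j], IsLocallyNoetherian (pullback m j) := by
    intro A j _
    haveI : IsNoetherianRing A := isLocallyNoetherian_Spec.mp (isLocallyNoetherian_of_isOpenImmersion j)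
    exact isLocallyNoetherian_spec_pullback φ hφ ((IsPullback.of_hasPullback m j).flip.paste_vert h)
  exact @key _ (F.affineCover.f i) (F.affineCover.map_prop i)

theorem isLocallyNoetherian_of_field_extension_descent (h : IsPullback m r s (Spec.map φ))
    [IsLocallyNoetherian P] : IsLocallyNoetherian F := by
  refine (isLocallyNoetherian_iff_openCover F.affineCover).mpr fun i => ?_
  have key : ∀ {A : CommRingCat.{u}} (j : Spec A ⟶ F) [IsOpenImmersion j], IsLocallyNoetherian (Spec A) := by
    intro A j _
    haveI := isLocallyNoetherian_of_isOpenImmersion (pullback.fst m j)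
    exact isLocallyNoetherian_Spec.mpr
      (isNoetherianRing_of_spec_pullback φ ((IsPullback.of_hasPullback m j).flip.paste_vert h))
  exact @key _ (F.affineCover.f i) (F.affineCover.map_prop i)

end Field

/-- Cohen–Macaulay morphisms with Noetherian fibres are fppf local on the base. -/
theorem cm_iff_fppf {X Y X' Y' : Scheme.{u}} (f : X ⟶ Y) (f' : X' ⟶ Y') (g' : X' ⟶ X) (g : Y' ⟶ Y)
    [Flat g] [LocallyOfFinitePresentation g] [Surjective g] (hc : IsPullback g' f' f g) :
    ((∀ y : Y, IsLocallyNoetherian (f.fiber y)) ∧ ∀ x : X, MoreMor.IsCMAt f x) ↔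
      (∀ y' : Y', IsLocallyNoetherian (f'.fiber y')) ∧ ∀ x' : X', MoreMor.IsCMAt f' x' := by
  have hsq : ∀ y' : Y', ∃ m : f'.fiber y' ⟶ f.fiber (g y'), IsPullback m (f'.fiberToSpecResidueField y')
      (f.fiberToSpecResidueField (g y')) (Spec.map (g.residueFieldMap y')) := fun y' => by
    let m : f'.fiber y' ⟶ f.fiber (g y') := pullback.lift (f'.fiberι y' ≫ g')
      (f'.fiberToSpecResidueField y' ≫ Spec.map (g.residueFieldMap y')) (by
        show (pullback.fst _ _ ≫ g') ≫ f = (pullback.snd _ _ ≫ _) ≫ _
        rw [Category.assoc, Category.assoc, hc.w, pullback.condition_assoc,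
          Scheme.Hom.SpecMap_residueFieldMap_fromSpecResidueField])
    refine ⟨m, IsPullback.of_right ?_ (pullback.lift_snd _ _ _) (IsPullback.of_hasPullback f _)⟩
    erw [pullback.lift_fst, Scheme.Hom.SpecMap_residueFieldMap_fromSpecResidueField]
    exact (IsPullback.of_hasPullback f' (Y'.fromSpecResidueField y')).paste_horiz hc
  constructor
  · rintro ⟨hN, hcm⟩
    refine ⟨fun y' => ?_, fun x' => ⟨flat_stalkMap_fst hc.flip x' (hcm _).1,
      (cm_fibre_baseChange_iff hN hc x').mpr (hcm _).2⟩⟩
    obtain ⟨m, hm⟩ := hsq y'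
    haveI := hN (g y')
    exact isLocallyNoetherian_of_field_extension (g.residueFieldMap y') (essFiniteType_residueFieldMap g y') hm
  · rintro ⟨hN', hcm'⟩
    have hN : ∀ y : Y, IsLocallyNoetherian (f.fiber y) := fun y => by
      obtain ⟨y', rfl⟩ := g.surjective y
      obtain ⟨m, hm⟩ := hsq y'
      haveI := hN' y'
      exact isLocallyNoetherian_of_field_extension_descent (g.residueFieldMap y') hm
    refine ⟨hN, fun x => ?_⟩
    haveI : Surjective g' := MorphismProperty.of_isPullback hc.flip inferInstance
    obtain ⟨x', rfl⟩ := g'.surjective x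
    refine ⟨Unr55.flat_stalkMap_of_flat f g' x' (flat_stalkMap_fst hc x' (Flat.stalkMap g _)) ?_,
      (cm_fibre_baseChange_iff hN hc x').mp (hcm' x').2⟩
    rw [hc.w, Scheme.Hom.stalkMap_comp]
    exact RingHom.Flat.comp (Flat.stalkMap g _) (hcm' x').1

end Groth.Agent.FlatMor66
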