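import Groth.Agent.CM62.DimConst
import Groth.Agent.E4O.FibreComp
import Groth.Agent.FlatMor68.FibreStalk
import Groth.Agent.Ega11.SchemeDimFormula
import Mathlib

/-!
Local dimensions along a Cohen–Macaulay morphism.
-/

set_option autoImplicit false
set_option backward.isDefEq.respectTransparency.types false
universe u

noncomputable section

namespace Groth.Agent.FlatMor66.CMLocalDim

open AlgebraicGeometry CategoryTheory IsLocalRing TopologicalSpace Order

variable {X Y : Scheme.{u}}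

theorem dim_opens (U : X.Opens) :
    topologicalKrullDim (U : Set X) = ⨆ z : U, ringKrullDim (X.presheaf.stalk z.1) := by
  refine le_antisymm ?_ (iSup_le fun z => ?_)
  · rw [show topologicalKrullDim (U : Set X) = topologicalKrullDim (U : Scheme.{u}) from rfl,
      topologicalKrullDim, Order.krullDim_eq_of_orderIso irreducibleSetEquivPoints]
    refine iSup_le fun l => ?_
    refine le_trans ?_ (le_iSup (fun z : U => ringKrullDim (X.presheaf.stalk z.1)) l.head)
    refine le_trans (WithBot.coe_le_coe.mpr (Order.length_le_coheight_head (p := l))) ?_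
    rw [← coheight_eq_of_isOpenImmersion U.ι (x := l.head), ← ringKrullDim_stalk_eq_coheight]
    exact le_rfl
  · rw [show topologicalKrullDim (U : Set X) = topologicalKrullDim (U : Scheme.{u}) from rfl,
      topologicalKrullDim, Order.krullDim_eq_of_orderIso irreducibleSetEquivPoints,
      ringKrullDim_stalk_eq_coheight, show z.1 = U.ι z from rfl, coheight_eq_of_isOpenImmersion]
    exact Order.coheight_le_krullDim _

theorem dim_stalk_eq_add [IsLocallyNoetherian X] [IsLocallyNoetherian Y] (f : X ⟶ Y) [Flat f]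
    (y : Y) (z : f.fiber y) :
    ringKrullDim (X.presheaf.stalk (f.fiberι y z)) =
      ringKrullDim (Y.presheaf.stalk (f (f.fiberι y z))) +
        ringKrullDim ((f.fiber y).presheaf.stalk z) := by
  rw [← ringKrullDim_eq_of_ringEquiv (Groth.Agent.FlatMor68.FibreStalk.fibreStalkEquiv f y z)]
  algebraize [(f.stalkMap (f.fiberι y z)).hom]
  let R := Y.presheaf.stalk (f (f.fiberι y z))
  let S := X.presheaf.stalk (f.fiberι y z)
  have : Module.Flat R S := Flat.stalkMap f _
  let p := maximalIdeal R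
  let P := maximalIdeal S
  let φ := (f.stalkMap (f.fiberι y z)).hom
  have hcomap : P.comap φ = p := maximalIdeal_comap φ
  have : P.LiesOver p := ⟨hcomap.symm⟩
  rw [← maximalIdeal_height_eq_ringKrullDim (R := S), ← maximalIdeal_height_eq_ringKrullDim (R := R),
    Ideal.height_eq_height_add_of_liesOver_of_hasGoingDown p P]
  have hle : p.map φ ≤ P := Ideal.map_le_iff_le_comap.mpr hcomap.ge
  have : Nontrivial (S ⧸ p.map φ) :=
    Ideal.Quotient.nontrivial_iff.mpr fun h => (maximalIdeal.isMaximal S).ne_top (top_le_iff.mp (h ▸ hle))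
  have : IsLocalRing (S ⧸ p.map φ) :=
    IsLocalRing.of_surjective' (Ideal.Quotient.mk _) Ideal.Quotient.mk_surjective
  have hP : P.map (Ideal.Quotient.mk (p.map φ)) = maximalIdeal (S ⧸ p.map φ) :=
    IsLocalRing.map_maximalIdeal_of_surjective (Ideal.Quotient.mk _) Ideal.Quotient.mk_surjective
  rw [WithBot.coe_add]
  congr 1
  rw [← maximalIdeal_height_eq_ringKrullDim (R := S ⧸ p.map φ), ← hP]
  rfl

theorem fdeg_eq_zero_of_isClosed (f : X ⟶ Y) [LocallyOfFiniteType f] {y : Y} (z : f.fiber y)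
    (hz : IsClosed ({z} : Set (f.fiber y))) : E4O.fdeg f (f.fiberι y z) = 0 := by
  have h := E4O.dim_closure_fiber f y z
  rw [hz.closure_eq] at h
  have h0 : topologicalKrullDim ↥({z} : Set (f.fiber y)) = 0 := by
    refine le_antisymm ?_ (TopDim50.dim_nonneg)
    exact Order.krullDim_nonpos_iff_forall_isMax.2 fun a b _ => by
      intro t _
      obtain ⟨w, hw⟩ := a.isIrreducible.nonempty
      rw [Subsingleton.elim (α := ↥({z} : Set (f.fiber y))) w t] at hw
      exact hw
  rw [h0] at h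
  exact_mod_cast h.symm

theorem fibre_stalk_dim (f : X ⟶ Y) [LocallyOfFiniteType f] {d : ℕ} {y : Y} (z : f.fiber y)
    (hd : FlatMor.fibreDimAt f (f.fiberι y z) = d) :
    ringKrullDim ((f.fiber y).presheaf.stalk z) ≤ d ∧
      (IsClosed ({z} : Set (f.fiber y)) → (d : WithBot ℕ∞) ≤ ringKrullDim ((f.fiber y).presheaf.stalk z)) := by
  obtain ⟨k, hk, hk'⟩ := CM62.exists_fibre_dim f (f.fiberι y z)
  rw [hd] at hk'
  have hkd : d = k + E4O.fdeg f (f.fiberι y z) := by exact_mod_cast hk'
  have hy : y = f (f.fiberι y z) := (E4O.apply_fiberι f y z).symm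
  have he : ringKrullDim ((f.fiber y).presheaf.stalk z) = k := by
    rw [← hk]
    clear hk hk' hd hkd
    generalize hx : f.fiberι y z = x at hy
    subst hy
    rw [show z = f.asFiber x from (f.fiberι (f x)).isEmbedding.injective (hx.trans (f.fiberι_asFiber x).symm)]
  rw [he]
  refine ⟨by exact_mod_cast (show k ≤ d by omega), fun hz => ?_⟩
  rw [fdeg_eq_zero_of_isClosed f z hz, add_zero] at hkd
  rw [hkd]

theorem dim_opens_eq_add [IsLocallyNoetherian X] [IsLocallyNoetherian Y] (f : X ⟶ Y) [Flat f]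
    [LocallyOfFiniteType f] {d : ℕ} (U : X.Opens) (V : Y.Opens) (hUV : f '' (U : Set X) = (V : Set Y))
    (hd : ∀ x ∈ U, FlatMor.fibreDimAt f x = d) :
    topologicalKrullDim (U : Set X) = topologicalKrullDim (V : Set Y) + (d : WithBot ℕ∞) := by
  rw [dim_opens, dim_opens]
  refine le_antisymm (iSup_le fun ⟨x, hx⟩ => ?_) ?_
  · obtain ⟨z, hz⟩ : ∃ z, f.fiberι (f x) z = x := ⟨f.asFiber x, f.fiberι_asFiber x⟩
    have h := dim_stalk_eq_add f (f x) z
    rw [hz] at h
    rw [h]
    exact add_le_add (le_iSup (fun w : V => ringKrullDim (Y.presheaf.stalk w.1))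
      ⟨f x, hUV.le ⟨x, hx, rfl⟩⟩) (fibre_stalk_dim f z (hd _ (hz.symm ▸ hx))).1
  · have key : ∀ y : V, ringKrullDim (Y.presheaf.stalk y.1) + (d : WithBot ℕ∞) ≤
        ⨆ z : U, ringKrullDim (X.presheaf.stalk z.1) := by
      rintro ⟨y, hy⟩
      obtain ⟨x, hx, rfl⟩ := hUV.ge hy
      let g := f.fiberToSpecResidueField (f x)
      have : LocallyOfFiniteType g :=
        inferInstanceAs (LocallyOfFiniteType (Limits.pullback.snd _ _))
      have : JacobsonSpace (f.fiber (f x)) := LocallyOfFiniteType.jacobsonSpace g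
      obtain ⟨z, hzU, hz⟩ := nonempty_inter_closedPoints (X := f.fiber (f x))
        (Z := (f.fiberι (f x)) ⁻¹' (U : Set X))
        ⟨f.asFiber x, show f.fiberι (f x) (f.asFiber x) ∈ U from (f.fiberι_asFiber x).symm ▸ hx⟩
        (U.isOpen.preimage (f.fiberι (f x)).continuous).isLocallyClosed
      refine le_trans ?_ (le_iSup (fun w : U => ringKrullDim (X.presheaf.stalk w.1))
        ⟨f.fiberι (f x) z, hzU⟩)
      rw [dim_stalk_eq_add f (f x) z]
      refine add_le_add ?_ ((fibre_stalk_dim f z (hd _ hzU)).2 hz)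
      rw [E4O.apply_fiberι]
    exact Ega11.SchemeDimFormula.iSup_add_le _ d _ key

theorem localDim_eq_add [IsLocallyNoetherian X] [IsLocallyNoetherian Y] (f : X ⟶ Y) [Flat f]
    [LocallyOfFiniteType f] {d : ℕ} (W : X.Opens) (hd : ∀ x ∈ W, FlatMor.fibreDimAt f x = d) (x : X) (hx : x ∈ W) :
    FlatMor.localDim ↑X x = FlatMor.localDim ↑Y (f x) + (d : WithBot ℕ∞) := by
  have : UniversallyOpen f := inferInstance
  refine le_antisymm ?_ (le_iInf fun ⟨U, hU⟩ => ?_)
  · obtain ⟨V, hV, hVeq⟩ := TopDim50.exists_localDim_eq (X := Y) (f x)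
    rw [hVeq]
    refine le_trans (iInf_le_of_le ⟨f ⁻¹ᵁ V ⊓ W, hV, hx⟩ le_rfl) ?_
    have hopen : IsOpen (f '' ((f ⁻¹ᵁ V ⊓ W : X.Opens) : Set X)) := f.isOpenMap _ (f ⁻¹ᵁ V ⊓ W).isOpen
    refine (dim_opens_eq_add f (f ⁻¹ᵁ V ⊓ W) ⟨_, hopen⟩ rfl fun a ha => hd a ha.2).le.trans ?_
    exact add_le_add (TopDim50.dim_mono (Set.image_subset_iff.2 fun a ha => ha.1)) le_rfl
  · have hopen : IsOpen (f '' ((U ⊓ W : X.Opens) : Set X)) := f.isOpenMap _ (U ⊓ W).isOpen
    refine le_trans ?_ (TopDim50.dim_mono (show ((U ⊓ W : X.Opens) : Set X) ⊆ U from fun a ha => ha.1))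
    refine le_trans ?_ (dim_opens_eq_add f (U ⊓ W) ⟨_, hopen⟩ rfl fun a ha => hd a ha.2).ge
    exact add_le_add (iInf_le_of_le ⟨⟨_, hopen⟩, x, ⟨hU, hx⟩, rfl⟩ le_rfl) le_rfl

end Groth.Agent.FlatMor66.CMLocalDim
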