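import Groth.Agent.FlatMor66.Weight

/-! Composition of weightings. -/

set_option autoImplicit false
universe u

open AlgebraicGeometry CategoryTheory Limits IsLocalRing

namespace Groth.Agent.FlatMor66

variable {X Y Z T : Scheme.{u}}

/-- The map induced on base changes by the first factor of a composite. -/
noncomputable def mid (f : X ⟶ Y) (g : Y ⟶ Z) (a : T ⟶ Z) : pullback (f ≫ g) a ⟶ pullback g a :=
  pullback.lift (pullback.fst (f ≫ g) a ≫ f) (pullback.snd (f ≫ g) a) (by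
    rw [Category.assoc]; exact pullback.condition)

@[reassoc (attr := simp)]
lemma mid_fst (f : X ⟶ Y) (g : Y ⟶ Z) (a : T ⟶ Z) :
    mid f g a ≫ pullback.fst g a = pullback.fst (f ≫ g) a ≫ f := pullback.lift_fst _ _ _

@[reassoc (attr := simp)]
lemma mid_snd (f : X ⟶ Y) (g : Y ⟶ Z) (a : T ⟶ Z) :
    mid f g a ≫ pullback.snd g a = pullback.snd (f ≫ g) a := pullback.lift_snd _ _ _

lemma mid_liftPt {K : Type u} [Field K] (f : X ⟶ Y) (g : Y ⟶ Z) (a : T ⟶ Z)
    (q : Spec (CommRingCat.of K) ⟶ X) (r : Spec (CommRingCat.of K) ⟶ T) (hq : q ≫ f ≫ g = r ≫ a) :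
    mid f g a (liftPt (f ≫ g) a q r hq) = liftPt g a (q ≫ f) r (by rw [Category.assoc]; exact hq) := by
  show mid f g a (gpt _) = gpt _
  rw [← gpt_comp]
  congr 1
  apply pullback.hom_ext
  · rw [Category.assoc, mid_fst, pullback.lift_fst_assoc, pullback.lift_fst]
  · rw [Category.assoc, mid_snd, pullback.lift_snd, pullback.lift_snd]

theorem eventually_const_piece (f : X ⟶ Y) (g : Y ⟶ Z) [LocallyQuasiFinite f] [LocallyOfFiniteType f]
    [LocallyQuasiFinite g] [LocallyOfFiniteType g] (wf : X → ℤ) (wg : Y → ℤ)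
    (hf : MoreMor.IsWeighting f wf) (hg : MoreMor.IsWeighting g wg)
    (a : T ⟶ Z) (V : (pullback g a).Opens) [IsFinite (V.ι ≫ pullback.snd g a)]
    (O : (pullback (f ≫ g) a).Opens) [IsFinite (O.ι ≫ pullback.snd (f ≫ g) a)]
    (hOV : ∀ z ∈ O, mid f g a z ∈ V) (t : T)
    (huniq : ∀ y ∈ V, ∀ y' ∈ V, pullback.snd g a y = t → pullback.snd g a y' = t → y = y') :
    ∃ N : T.Opens, t ∈ N ∧ ∀ z ∈ N,
      ifun (f ≫ g) (fun x => wf x * wg (f x)) a O z = ifun (f ≫ g) (fun x => wf x * wg (f x)) a O t := by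
  let aV : V.toScheme ⟶ Y := V.ι ≫ pullback.fst g a
  let sq := (IsPullback.of_hasPullback f (pullback.fst g a)).paste_vert (IsPullback.of_hasPullback g a)
  let M : pullback f aV ⟶ pullback (f ≫ g) a := pullMap f (pullback.fst g a) V.ι ≫ sq.isoPullback.hom
  have hM1 : M ≫ pullback.fst (f ≫ g) a = pullback.fst f aV := by
    rw [Category.assoc, IsPullback.isoPullback_hom_fst, pullMap_fst]
  have hM2 : M ≫ pullback.snd (f ≫ g) a = pullback.snd f aV ≫ V.ι ≫ pullback.snd g a := by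
    rw [Category.assoc, IsPullback.isoPullback_hom_snd, pullMap_snd_assoc]
  have : IsOpenImmersion (pullMap f (pullback.fst g a) V.ι) :=
    MorphismProperty.of_isPullback (P := @IsOpenImmersion) (isPullback_pullMap f (pullback.fst g a) V.ι).flip
      (inferInstance : IsOpenImmersion V.ι)
  let n : O.toScheme ⟶ V.toScheme := IsOpenImmersion.lift V.ι (O.ι ≫ mid f g a) (by
    rintro _ ⟨z, rfl⟩
    rw [Scheme.Opens.range_ι, Scheme.Hom.comp_apply]
    exact hOV _ z.2)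
  have hn : n ≫ V.ι = O.ι ≫ mid f g a := IsOpenImmersion.lift_fac _ _ _
  let ψ : O.toScheme ⟶ pullback f aV := pullback.lift (O.ι ≫ pullback.fst (f ≫ g) a) n (by
    rw [Category.assoc, ← mid_fst]; exact ((reassoc_of% hn) _).symm)
  have hψ : ψ ≫ M = O.ι := by
    apply pullback.hom_ext
    · rw [Category.assoc, hM1, pullback.lift_fst]
    · rw [Category.assoc, hM2, pullback.lift_snd_assoc, reassoc_of% hn, mid_snd]
  let O' : (pullback f aV).Opens := M ⁻¹ᵁ O
  have hφn : (M ∣_ O) ≫ n = O'.ι ≫ pullback.snd f aV := by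
    rw [← cancel_mono V.ι, Category.assoc, Category.assoc, hn, morphismRestrict_ι_assoc]
    congr 1
    apply pullback.hom_ext
    · rw [Category.assoc, mid_fst, reassoc_of% hM1, Category.assoc]
      exact pullback.condition
    · rw [Category.assoc, mid_snd, hM2, Category.assoc]
  have : Surjective (M ∣_ O) := ⟨fun z => ⟨⟨ψ z, by
      show M (ψ z) ∈ O
      rw [← Scheme.Hom.comp_apply, hψ]; exact z.2⟩, O.ι.isOpenEmbedding.injective (by
      rw [← Scheme.Hom.comp_apply, morphismRestrict_ι, Scheme.Hom.comp_apply]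
      exact (Scheme.Hom.comp_apply _ _ _).symm.trans (congrArg (fun h : _ ⟶ pullback (f ≫ g) a => h z) hψ))⟩⟩
  have : Epi (M ∣_ O).base := (TopCat.epi_iff_surjective _).mpr (M ∣_ O).surjective
  have : IsIso (M ∣_ O) :=
    IsOpenImmersion.isIso (M ∣_ O)
  have : IsFinite n := by
    have : IsFinite (n ≫ V.ι ≫ pullback.snd g a) := by
      rw [reassoc_of% hn, mid_snd]; infer_instance
    exact IsFinite.of_comp n (V.ι ≫ pullback.snd g a)
  have : IsFinite (O'.ι ≫ pullback.snd f aV) := by rw [← hφn]; infer_instance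
  let φ := ifun f wf aV O'
  have hφ : IsLocallyConstant φ := isLocallyConstant_ifun f wf hf aV O'
  obtain ⟨c, hc⟩ : ∃ c, ∀ y, pullback.snd g a (V.ι y) = t → φ y = c := by
    by_cases h : ∃ y, pullback.snd g a (V.ι y) = t
    · obtain ⟨y₀, hy₀⟩ := h
      exact ⟨φ y₀, fun y hy => by rw [V.ι.isOpenEmbedding.injective (huniq _ y.2 _ y₀.2 hy hy₀)]⟩
    · exact ⟨0, fun y hy => absurd ⟨y, hy⟩ h⟩
  obtain ⟨N, htN, hN⟩ := exists_nhd_subset g a V (V.ι ''ᵁ ⟨{y | φ y = c}, hφ.isOpen_fiber c⟩) t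
    fun z hz hzt => ⟨⟨z, hz⟩, hc ⟨z, hz⟩ hzt, rfl⟩
  have key : ∀ z ∈ N, ifun (f ≫ g) (fun x => wf x * wg (f x)) a O z = c * ifun g wg a V z := by
    intro z hz
    obtain ⟨K, _, _, p, rfl⟩ := exists_gpt z
    rw [ifun_eq_pSum (f ≫ g) _ _ _ p (finite_fibre_of_isFinite _ _),
      ifun_eq_pSum g _ _ _ p (finite_fibre_of_isFinite _ _)]
    have hsub : ∀ r : Pts g a V p, Set.range (pullback.lift r.1 p r.2.1) ⊆ Set.range V.ι := by
      rintro r _ ⟨z, rfl⟩
      rw [Scheme.Opens.range_ι, show z = closedPoint K from Subsingleton.elim _ _]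
      exact r.2.2
    let rr : Pts g a V p → (Spec (CommRingCat.of K) ⟶ V.toScheme) := fun r => IsOpenImmersion.lift V.ι _ (hsub r)
    have hrr : ∀ r, rr r ≫ V.ι = pullback.lift r.1 p r.2.1 := fun r => IsOpenImmersion.lift_fac _ _ _
    have hrr1 : ∀ r, rr r ≫ aV = r.1 := fun r => by
      simp only [aV, reassoc_of% hrr r, pullback.lift_fst]
    have hφr : ∀ r, pSum f wf aV O' (rr r) = c := fun r => by
      rw [← ifun_eq_pSum f wf aV O' (rr r) (finite_fibre_of_isFinite _ _)]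
      obtain ⟨y, hy, hyz⟩ := hN (V.ι (gpt (rr r))) (gpt (rr r)).2 (by
        rw [← gpt_comp, hrr, ← gpt_comp, pullback.lift_snd]; exact hz)
      rw [← V.ι.isOpenEmbedding.injective hyz]
      exact hy
    have hlift : ∀ (r : Pts g a V p) (q : Pts f aV O' (rr r)) (h : q.1 ≫ f ≫ g = p ≫ a),
        pullback.lift q.1 (rr r) q.2.1 ≫ M = pullback.lift q.1 p h := fun r q h => by
      apply pullback.hom_ext
      · rw [Category.assoc, hM1, pullback.lift_fst, pullback.lift_fst]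
      · rw [Category.assoc, hM2, pullback.lift_snd_assoc, reassoc_of% hrr r, pullback.lift_snd, pullback.lift_snd]
    have hq : ∀ (r : Pts g a V p) (q : Pts f aV O' (rr r)), q.1 ≫ f ≫ g = p ≫ a := fun r q => by
      rw [reassoc_of% q.2.1, ← Category.assoc, hrr1, r.2.1]
    let e : (Σ r : Pts g a V p, Pts f aV O' (rr r)) → Pts (f ≫ g) a O p := fun x =>
      ⟨x.2.1, hq x.1 x.2, by rw [← hlift x.1 x.2 (hq x.1 x.2), gpt_comp]; exact x.2.2.2⟩
    have he : Function.Bijective e := by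
      refine ⟨?_, fun x => ?_⟩
      · rintro ⟨r, q, hq, hqO⟩ ⟨r', q', hq', hqO'⟩ h
        obtain rfl : q = q' := congrArg Subtype.val h
        obtain rfl : r = r' := Subtype.ext (by
          rw [← hrr1 r, ← hq, hq', hrr1 r'])
        rfl
      · obtain ⟨q, hq, hqO⟩ := x
        have hr : (q ≫ f) ≫ g = p ≫ a := by rw [Category.assoc]; exact hq
        have hm : pullback.lift q p hq ≫ mid f g a = pullback.lift (q ≫ f) p hr := by
          apply pullback.hom_ext
          · rw [Category.assoc, mid_fst, pullback.lift_fst_assoc, pullback.lift_fst]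
          · rw [Category.assoc, mid_snd, pullback.lift_snd, pullback.lift_snd]
        let r : Pts g a V p := ⟨q ≫ f, hr, by rw [← hm, gpt_comp]; exact hOV _ hqO⟩
        have hqf : q ≫ f = rr r ≫ aV := (hrr1 r).symm
        have h3 : pullback.lift q (rr r) hqf ≫ M = pullback.lift q p hq := by
          apply pullback.hom_ext
          · rw [Category.assoc, hM1, pullback.lift_fst, pullback.lift_fst]
          · rw [Category.assoc, hM2, pullback.lift_snd_assoc, reassoc_of% hrr r, pullback.lift_snd, pullback.lift_snd]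
        refine ⟨⟨r, q, hqf, ?_⟩, rfl⟩
        show M (gpt _) ∈ O
        rw [← gpt_comp, h3]; exact hqO
    have := finite_Pts g a V p
    have := Fintype.ofFinite (Pts g a V p)
    have := fun r => finite_Pts f aV O' (rr r)
    have := fun r => Fintype.ofFinite (Pts f aV O' (rr r))
    rw [pSum, ← finsum_comp_equiv (Equiv.ofBijective e he), finsum_eq_sum_of_fintype, Fintype.sum_sigma,
      pSum, finsum_eq_sum_of_fintype, Finset.mul_sum]
    refine Finset.sum_congr rfl fun r _ => ?_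
    rw [← hφr r, pSum, finsum_eq_sum_of_fintype, Finset.sum_mul]
    refine Finset.sum_congr rfl fun q _ => ?_
    show wf (gpt q.1) * wg (f (gpt q.1)) = wf (gpt q.1) * wg (gpt r.1)
    rw [← gpt_comp]
    exact congrArg (fun h => wf (gpt q.1) * wg (gpt h)) (q.2.1.trans (hrr1 r))
  have hgl : IsLocallyConstant (ifun g wg a V) := isLocallyConstant_ifun g wg hg a V
  refine ⟨⟨(N : Set T) ∩ {z | ifun g wg a V z = ifun g wg a V t}, N.2.inter (hgl.isOpen_fiber _)⟩,
    ⟨htN, rfl⟩, fun z hz => ?_⟩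
  rw [key z hz.1, key t htN, hz.2]

theorem eventually_const_single (f : X ⟶ Y) (g : Y ⟶ Z) [LocallyQuasiFinite f] [LocallyOfFiniteType f]
    [LocallyQuasiFinite g] [LocallyOfFiniteType g] (wf : X → ℤ) (wg : Y → ℤ)
    (hf : MoreMor.IsWeighting f wf) (hg : MoreMor.IsWeighting g wg) {K : Type u} [Field K] [IsAlgClosed K]
    (a : T ⟶ Z) (O : (pullback (f ≫ g) a).Opens) [IsFinite (O.ι ≫ pullback.snd (f ≫ g) a)]
    (r : Spec (CommRingCat.of K) ⟶ T) [Subsingleton (Pts (f ≫ g) a O r)] (q : Pts (f ≫ g) a O r) :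
    ∃ M : Set T, IsOpen M ∧ gpt r ∈ M ∧ ∀ z ∈ M,
      ifun (f ≫ g) (fun x => wf x * wg (f x)) a O z = ifun (f ≫ g) (fun x => wf x * wg (f x)) a O (gpt r) := by
  obtain ⟨D⟩ := exists_splitting g (r ≫ a) {f (gpt q.1)} (Set.finite_singleton _) (by
    rintro _ rfl
    rw [← Scheme.Hom.comp_apply, ← gpt_comp, q.2.1])
  have := D.etale
  let j : {j : GPt g (r ≫ a) // gpt j.1 ∈ ({f (gpt q.1)} : Set Y)} :=
    ⟨⟨q.1 ≫ f, by rw [Category.assoc]; exact q.2.1⟩, gpt_comp _ _⟩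
  have := D.finite j
  let e := pullback.fst a D.b
  let e' := pullback.snd a D.b
  let a₂ := e ≫ a
  have he' : e' ≫ D.b = a₂ := pullback.condition.symm
  let t₂ : Spec (CommRingCat.of K) ⟶ pullback a D.b := pullback.lift r D.r D.hr.symm
  have ht₂ : t₂ ≫ a₂ = r ≫ a := pullback.lift_fst_assoc ..
  let O₂ := pm (f ≫ g) e (a' := a₂) rfl ⁻¹ᵁ O
  have : IsFinite (O₂.ι ≫ pullback.snd (f ≫ g) a₂) := isFinite_pm (f ≫ g) _ _ O
  let V₂ := pm g e' he' ⁻¹ᵁ D.V j
  have : IsFinite (V₂.ι ≫ pullback.snd g a₂) := isFinite_pm g _ _ _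
  have hy : pm g e' he' (liftPt g a₂ (q.1 ≫ f) t₂ (by rw [ht₂]; exact j.1.2)) = D.pt j := by
    rw [pm_liftPt]
    simp only [t₂, e', pullback.lift_snd, Splitting.pt, j]
  obtain ⟨N, htN, hN⟩ := exists_nhd_subset (f ≫ g) a₂ O₂ (mid f g a₂ ⁻¹ᵁ V₂) (gpt t₂) (by
    intro z hz hzt
    obtain ⟨⟨l, hl⟩, rfl⟩ := exists_lift (pullback.snd (f ≫ g) a₂) t₂ z hzt
    have hx : (l ≫ pullback.fst (f ≫ g) a₂) ≫ f ≫ g = t₂ ≫ a₂ := by
      rw [Category.assoc, pullback.condition, reassoc_of% hl]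
    have hll : pullback.lift (l ≫ pullback.fst (f ≫ g) a₂) t₂ hx = l := by
      apply pullback.hom_ext
      · rw [pullback.lift_fst]
      · rw [pullback.lift_snd, hl]
    have hxr : (l ≫ pullback.fst (f ≫ g) a₂) ≫ f ≫ g = r ≫ a := by rw [hx, ht₂]
    have hU : gpt (pullback.lift (l ≫ pullback.fst (f ≫ g) a₂) r hxr) ∈ O := by
      have h1 : pm (f ≫ g) e (a' := a₂) rfl (gpt l) ∈ O := hz
      rw [← gpt_comp] at h1
      convert h1 using 2
      apply pullback.hom_ext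
      · rw [pullback.lift_fst, Category.assoc, pm_fst]
      · rw [pullback.lift_snd, Category.assoc, pm_snd, reassoc_of% hl, pullback.lift_fst]
    have hlq : l ≫ pullback.fst (f ≫ g) a₂ = q.1 :=
      congrArg Subtype.val (Subsingleton.elim (⟨_, hxr, hU⟩ : Pts (f ≫ g) a O r) q)
    show pm g e' he' (mid f g a₂ (gpt l)) ∈ D.V j
    rw [← hll]
    simp only [hlq]
    show pm g e' he' (mid f g a₂ (liftPt (f ≫ g) a₂ q.1 t₂ ((congrArg (· ≫ f ≫ g) hlq.symm).trans hx))) ∈ D.V j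
    rw [mid_liftPt, hy]
    exact D.mem j)
  let a₃ := N.ι ≫ a₂
  let O₃ := pullMap (f ≫ g) a₂ N.ι ⁻¹ᵁ O₂
  let V₃ := pullMap g a₂ N.ι ⁻¹ᵁ V₂
  have : IsFinite (O₃.ι ≫ pullback.snd (f ≫ g) a₃) := isFinite_pullMap _ a₂ N.ι O₂
  have : IsFinite (V₃.ι ≫ pullback.snd g a₃) := isFinite_pullMap _ a₂ N.ι V₂
  have : IsOpenImmersion (pullMap g a₂ N.ι) :=
    MorphismProperty.of_isPullback (P := @IsOpenImmersion) (isPullback_pullMap g a₂ N.ι).flip
      (inferInstance : IsOpenImmersion N.ι)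
  have hOV : ∀ z ∈ O₃, mid f g a₃ z ∈ V₃ := by
    intro z hz
    show pullMap g a₂ N.ι (mid f g a₃ z) ∈ V₂
    have h1 : mid f g a₃ ≫ pullMap g a₂ N.ι = pullMap (f ≫ g) a₂ N.ι ≫ mid f g a₂ := by
      apply pullback.hom_ext
      · rw [Category.assoc, pullMap_fst, mid_fst, Category.assoc, mid_fst, pullMap_fst_assoc]
      · rw [Category.assoc, pullMap_snd, mid_snd_assoc, Category.assoc, mid_snd, pullMap_snd]
    rw [← Scheme.Hom.comp_apply (mid f g a₃) (pullMap g a₂ N.ι), h1, Scheme.Hom.comp_apply]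
    refine hN _ hz ?_
    rw [← Scheme.Hom.comp_apply (pullMap (f ≫ g) a₂ N.ι) (pullback.snd (f ≫ g) a₂), pullMap_snd,
      Scheme.Hom.comp_apply]
    exact (pullback.snd (f ≫ g) a₃ z).2
  have huniq : ∀ y ∈ V₃, ∀ y' ∈ V₃, pullback.snd g a₃ y = (⟨gpt t₂, htN⟩ : N.toScheme) →
      pullback.snd g a₃ y' = (⟨gpt t₂, htN⟩ : N.toScheme) → y = y' := by
    intro y hy₁ y' hy₁' hyt hyt'
    have hs : ∀ y, pullback.snd g a₃ y = (⟨gpt t₂, htN⟩ : N.toScheme) →
        pullback.snd g a₂ (pullMap g a₂ N.ι y) = gpt t₂ := fun y h => by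
      rw [← Scheme.Hom.comp_apply (pullMap g a₂ N.ι) (pullback.snd g a₂), pullMap_snd, Scheme.Hom.comp_apply, h]; rfl
    have hsw : ∀ y, pullback.snd g a₂ y = gpt t₂ → pullback.snd g D.b (pm g e' he' y) = gpt D.r := fun y h => by
      rw [← Scheme.Hom.comp_apply (pm g e' he') (pullback.snd g D.b), pm_snd, Scheme.Hom.comp_apply, h]
      exact (gpt_comp t₂ e').symm.trans (congrArg gpt (pullback.lift_snd _ _ _))
    apply (pullMap g a₂ N.ι).isOpenEmbedding.injective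
    refine eq_of_pm_eq g e' he' t₂ _ _ (hs y hyt) (hs y' hyt')
      ((D.unique j _ hy₁ (hsw _ (hs y hyt))).trans (D.unique j _ hy₁' (hsw _ (hs y' hyt'))).symm) ?_
    rw [D.unique j _ hy₁ (hsw _ (hs y hyt))]
    exact D.pi _ (snd_liftPt ..) ((fst_liftPt g D.b j.1.1 D.r _).symm ▸ j.2)
  obtain ⟨N₂, htN₂, hN₂⟩ := eventually_const_piece f g wf wg hf hg a₃ V₃ O₃ hOV _ huniq
  have hval : ∀ z : N.toScheme, ifun (f ≫ g) (fun x => wf x * wg (f x)) a₃ O₃ z =
      ifun (f ≫ g) (fun x => wf x * wg (f x)) a O (e (N.ι z)) := fun z => by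
    rw [ifun_comp (f ≫ g) _ a₂ N.ι O₂ z, ifun_pm (f ≫ g) _ e (a' := a₂) rfl O]
  have het : e (N.ι ⟨gpt t₂, htN⟩) = gpt r := by
    show e (gpt t₂) = _
    rw [← gpt_comp, pullback.lift_fst]
  refine ⟨(N.ι ≫ e) '' N₂, (N.ι ≫ e).isOpenMap _ N₂.2, ⟨_, htN₂, (Scheme.Hom.comp_apply _ _ _).trans het⟩, ?_⟩
  rintro _ ⟨z, hz, rfl⟩
  rw [Scheme.Hom.comp_apply, ← hval, hN₂ z hz, hval, het]

theorem isWeighting_comp (f : X ⟶ Y) (g : Y ⟶ Z) [LocallyQuasiFinite f] [LocallyOfFiniteType f]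
    [LocallyQuasiFinite g] [LocallyOfFiniteType g] (wf : X → ℤ) (wg : Y → ℤ)
    (hf : MoreMor.IsWeighting f wf) (hg : MoreMor.IsWeighting g wg) :
    MoreMor.IsWeighting (f ≫ g) (fun x => wf x * wg (f x)) := by
  intro V a _ U hfin
  show IsLocallyConstant (ifun (f ≫ g) (fun x => wf x * wg (f x)) a U)
  refine isLocallyConstant_of_open_lift _ fun t => ?_
  obtain ⟨K, _, _, p, rfl⟩ := exists_gpt t
  obtain ⟨L⟩ := exists_localization (f ≫ g) a U p
  have := finite_Pts (f ≫ g) a U p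
  have := Fintype.ofFinite (Pts (f ≫ g) a U p)
  have := L.finite
  have hsingle : ∀ q, ∃ M : Set L.T', IsOpen M ∧ gpt L.r ∈ M ∧ ∀ z ∈ M,
      ifun (f ≫ g) (fun x => wf x * wg (f x)) (L.d ≫ a) (L.V q) z =
        ifun (f ≫ g) (fun x => wf x * wg (f x)) (L.d ≫ a) (L.V q) (gpt L.r) := by
    intro q
    have h1 := L.single q K L.r rfl (fun _ => 1)
    have := finite_Pts (f ≫ g) (L.d ≫ a) (L.V q) L.r
    have := Fintype.ofFinite (Pts (f ≫ g) (L.d ≫ a) (L.V q) L.r)
    rw [pSum, finsum_eq_sum_of_fintype, Finset.sum_const, Finset.card_univ, nsmul_eq_mul, mul_one] at h1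
    have : Subsingleton (Pts (f ≫ g) (L.d ≫ a) (L.V q) L.r) :=
      Fintype.card_le_one_iff_subsingleton.mp (by omega)
    exact eventually_const_single f g wf wg hf hg (L.d ≫ a) (L.V q) L.r ⟨q.1, _, L.mem q⟩
  choose M hMo hMt hM using hsingle
  refine ⟨L.T', inferInstance, L.d, ⋂ q, M q, gpt L.r, L.isOpenMap_d, isOpen_iInter_of_finite hMo,
    Set.mem_iInter.mpr hMt, L.apply_r, fun z hz => ?_⟩
  rw [L.ifun_comp_eq_sum, ← L.apply_r, L.ifun_comp_eq_sum]
  exact Finset.sum_congr rfl fun q _ => hM q z (Set.mem_iInter.mp hz q)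

end Groth.Agent.FlatMor66
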