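import Groth.Agent.FlatMor66.GeomPts
import Mathlib.AlgebraicGeometry.ZariskisMainTheorem
import Mathlib.RingTheory.ZariskisMainTheorem
import Mathlib.LinearAlgebra.Dual.Lemmas

/-! Bounded number of geometric points in the fibres of a quasi-finite morphism. -/

set_option autoImplicit false
universe u

open AlgebraicGeometry CategoryTheory Limits IsLocalRing

namespace Groth.Agent.FlatMor66

lemma card_algHom_le_fg {A B : Type u} [CommRing A] [CommRing B] [Algebra A B] {n : ℕ} (g : Fin n → B)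
    (hg : Submodule.span A (Set.range g) = ⊤) (K : Type u) [Field K] [Algebra A K] :
    Finite (B →ₐ[A] K) ∧ Nat.card (B →ₐ[A] K) ≤ n := by
  let ev : (B →ₗ[A] K) →ₗ[K] (Fin n → K) :=
    { toFun := fun l i => l (g i), map_add' := fun _ _ => rfl, map_smul' := fun _ _ => rfl }
  have hev : Function.Injective ev := fun l l' e => LinearMap.ext_on hg (by
    rintro _ ⟨i, rfl⟩; exact congrFun e i)
  have hli : LinearIndependent K fun χ : B →ₐ[A] K => ev χ.toLinearMap :=
    (linearIndependent_algHom_toLinearMap A B K).map' ev (LinearMap.ker_eq_bot.mpr hev)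
  have hfin : Finite (B →ₐ[A] K) := hli.finite
  refine ⟨hfin, ?_⟩
  have := Fintype.ofFinite (B →ₐ[A] K)
  rw [Nat.card_eq_fintype_card]
  exact hli.fintype_card_le_finrank.trans (by simp)

lemma exists_card_algHom_bound (A B : Type u) [CommRing A] [CommRing B] [Algebra A B]
    [Algebra.FiniteType A B] [Algebra.QuasiFinite A B] :
    ∃ d : ℕ, ∀ (K : Type u) [Field K] [Algebra A K], Finite (B →ₐ[A] K) ∧ Nat.card (B →ₐ[A] K) ≤ d := by
  classical
  choose S' hS' r hr hbij using fun q : PrimeSpectrum B =>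
    Algebra.QuasiFiniteAt.exists_fg_and_exists_notMem_and_awayMap_bijective (R := A) q.asIdeal
  have hfg : ∀ q, Module.Finite A (S' q) := fun q =>
    ⟨(Submodule.fg_top (S' q).toSubmodule).mpr (hS' q)⟩
  choose n g hg using fun q => Submodule.fg_iff_exists_fin_generating_family.mp (Module.Finite.fg_top (R := A) (M := S' q))
  obtain ⟨F, hF⟩ := isCompact_univ.elim_finite_subcover (fun q => (PrimeSpectrum.basicOpen (r q : B) : Set (PrimeSpectrum B)))
    (fun q => (PrimeSpectrum.basicOpen _).2) (fun q _ => Set.mem_iUnion.mpr ⟨q, hr q⟩)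
  refine ⟨∑ q ∈ F, n q, fun K _ _ => ?_⟩
  have hsel : ∀ χ : B →ₐ[A] K, ∃ q : F, χ (r q.1) ≠ 0 := fun χ => by
    have : (RingHom.ker χ.toRingHom).IsPrime := RingHom.ker_isPrime _
    obtain ⟨q, hq, hm⟩ := Set.mem_iUnion₂.mp (hF (Set.mem_univ ⟨_, this⟩))
    exact ⟨⟨q, hq⟩, hm⟩
  choose sel hseln using hsel
  let φ : (B →ₐ[A] K) → Σ q : F, (S' q.1 →ₐ[A] K) := fun χ => ⟨sel χ, χ.comp (S' (sel χ).1).val⟩
  have hφ : Function.Injective φ := by
    intro χ χ' e
    obtain ⟨e1, e2⟩ := Sigma.mk.inj_iff.mp e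
    have h' : χ' (r (sel χ).1) ≠ 0 := e1 ▸ hseln χ'
    have hcomp : χ.comp (S' (sel χ).1).val = χ'.comp (S' (sel χ).1).val := by
      have h3 : HEq (χ'.comp (S' (sel χ).1).val) (χ'.comp (S' (sel χ').1).val) := by rw [e1]
      exact eq_of_heq (e2.trans h3.symm)
    ext b
    obtain ⟨z, hz⟩ := (hbij (sel χ).1).2 (algebraMap B _ b)
    obtain ⟨⟨s, ⟨_, k, rfl⟩⟩, hzs⟩ := IsLocalization.surj (Submonoid.powers (r (sel χ).1)) z
    have h1 := congrArg (Localization.awayMap (S' (sel χ).1).val.toRingHom (r (sel χ).1)) hzs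
    rw [map_mul, hz] at h1
    simp only [Localization.awayMap, IsLocalization.Away.map, IsLocalization.map_eq] at h1
    rw [← map_mul] at h1
    obtain ⟨⟨_, l, rfl⟩, hl⟩ := (IsLocalization.eq_iff_exists (Submonoid.powers ((S' (sel χ).1).val.toRingHom (r (sel χ).1))) _).mp h1
    have hs : χ (s : B) = χ' (s : B) := AlgHom.congr_fun hcomp s
    have hr' : χ (r (sel χ).1 : B) = χ' (r (sel χ).1 : B) := AlgHom.congr_fun hcomp _
    have k1 := congrArg χ hl
    have k2 := congrArg χ' hl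
    simp only [map_mul, map_pow, AlgHom.toRingHom_eq_coe, RingHom.coe_coe, Subalgebra.coe_val,
      SubmonoidClass.coe_pow, hs, hr'] at k1 k2
    rw [← k2] at k1
    exact mul_right_cancel₀ (pow_ne_zero k h') (mul_left_cancel₀ (pow_ne_zero l h') k1)
  have hb := fun q : F => card_algHom_le_fg (g q.1) (hg q.1) K
  have : ∀ q : F, Finite (S' q.1 →ₐ[A] K) := fun q => (hb q).1
  refine ⟨Finite.of_injective φ hφ, (Nat.card_le_card_of_injective φ hφ).trans ?_⟩
  rw [Nat.card_sigma, ← Finset.sum_coe_sort F]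
  exact Finset.sum_le_sum fun q _ => (hb q).2

variable {X Y : Scheme.{u}}

lemma exists_card_GPt_bound_affine [IsAffine X] [IsAffine Y] (f : X ⟶ Y) [LocallyQuasiFinite f]
    [LocallyOfFiniteType f] : ∃ d : ℕ, ∀ (K : Type u) [Field K] [IsAlgClosed K]
      (p : Spec (CommRingCat.of K) ⟶ Y), Finite (GPt f p) ∧ Nat.card (GPt f p) ≤ d := by
  have h1 : f.appTop.hom.FiniteType := HasRingHomProperty.appTop @LocallyOfFiniteType f ‹_›
  have h2 : f.appTop.hom.QuasiFinite := HasRingHomProperty.appTop @LocallyQuasiFinite f ‹_›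
  algebraize [f.appTop.hom]
  obtain ⟨d, hd⟩ := exists_card_algHom_bound Γ(Y, ⊤) Γ(X, ⊤)
  refine ⟨d, fun K _ _ p => ?_⟩
  obtain ⟨φ, hφ⟩ := Spec.map_surjective (p ≫ Y.isoSpec.hom)
  letI : Algebra Γ(Y, ⊤) K := φ.hom.toAlgebra
  have hq : ∀ q : GPt f p, ∃ χ : Γ(X, ⊤) →ₐ[Γ(Y, ⊤)] K, Spec.map (CommRingCat.ofHom χ.toRingHom) = q.1 ≫ X.isoSpec.hom := by
    intro q
    obtain ⟨ψ, hψ⟩ := Spec.map_surjective (q.1 ≫ X.isoSpec.hom)
    have e : Spec.map (f.appTop ≫ ψ) = Spec.map φ := by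
      rw [Spec.map_comp, hψ, hφ, Category.assoc, Scheme.isoSpec_hom_naturality, reassoc_of% q.2]
    exact ⟨{ ψ.hom with commutes' := fun r => congrArg (fun χ => χ.hom r) (Spec.map_injective e) }, hψ⟩
  choose χ hχ using hq
  have hinj : Function.Injective χ := fun q q' e => Subtype.ext ((cancel_mono X.isoSpec.hom).mp (by rw [← hχ q, ← hχ q', e]))
  have := (hd K).1
  exact ⟨Finite.of_injective χ hinj, (Nat.card_le_card_of_injective χ hinj).trans (hd K).2⟩

lemma restrict_instances (f : X ⟶ Y) [LocallyQuasiFinite f] [LocallyOfFiniteType f] (U : X.Opens) :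
    LocallyQuasiFinite (U.ι ≫ f) ∧ LocallyOfFiniteType (U.ι ≫ f) := ⟨inferInstance, inferInstance⟩

theorem exists_card_GPt_bound [CompactSpace X] (f : X ⟶ Y) [LocallyQuasiFinite f] [LocallyOfFiniteType f] :
    ∃ d : ℕ, ∀ (K : Type u) [Field K] [IsAlgClosed K] (p : Spec (CommRingCat.of K) ⟶ Y),
      Finite (GPt f p) ∧ Nat.card (GPt f p) ≤ d := by
  classical
  have h : ∀ x : X, ∃ (A : Y.Opens) (B : X.Opens), IsAffineOpen A ∧ IsAffineOpen B ∧ B ≤ f ⁻¹ᵁ A ∧ x ∈ B := by
    intro x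
    obtain ⟨_, ⟨A, hA, rfl⟩, hxA, -⟩ := Y.isBasis_affineOpens.exists_subset_of_mem_open (Set.mem_univ (f x)) isOpen_univ
    obtain ⟨_, ⟨B, hB, rfl⟩, hxB, hBA⟩ := X.isBasis_affineOpens.exists_subset_of_mem_open hxA (f ⁻¹ᵁ A).2
    exact ⟨A, B, hA, hB, hBA, hxB⟩
  choose A B hA hB hBA hxB using h
  obtain ⟨F, hF⟩ := isCompact_univ.elim_finite_subcover (fun x => (B x : Set X)) (fun x => (B x).2)
    (fun x _ => Set.mem_iUnion.mpr ⟨x, hxB x⟩)
  have hd : ∀ x, ∃ d : ℕ, ∀ (K : Type u) [Field K] [IsAlgClosed K] (p : Spec (CommRingCat.of K) ⟶ (A x).toScheme),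
      Finite (GPt (f.resLE (A x) (B x) (hBA x)) p) ∧ Nat.card (GPt (f.resLE (A x) (B x) (hBA x)) p) ≤ d := fun x =>
    have : IsAffine (A x).toScheme := hA x
    have : IsAffine (B x).toScheme := hB x
    exists_card_GPt_bound_affine _
  choose d hd using hd
  refine ⟨∑ x ∈ F, d x, fun K _ _ p => ?_⟩
  have hmem : ∀ q : GPt f p, ∃ x : F, gpt q.1 ∈ B x.1 := fun q => by
    obtain ⟨x, hx, hm⟩ := Set.mem_iUnion₂.mp (hF (Set.mem_univ (gpt q.1))); exact ⟨⟨x, hx⟩, hm⟩
  let C : F → Type u := fun x => {q : GPt f p // gpt q.1 ∈ B x.1}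
  have hC : ∀ x : F, Finite (C x) ∧ Nat.card (C x) ≤ d x.1 := by
    intro x
    rcases isEmpty_or_nonempty (C x) with hne | ⟨⟨q₀⟩⟩
    · exact ⟨inferInstance, by rw [Nat.card_of_isEmpty]; exact Nat.zero_le _⟩
    have hrg : Set.range p ⊆ Set.range (A x.1).ι := by
      rintro _ ⟨z, rfl⟩
      rw [Scheme.Opens.range_ι, show z = closedPoint K from Subsingleton.elim _ _]
      show gpt p ∈ A x.1
      rw [← q₀.1.2, gpt_comp]
      exact hBA _ q₀.2
    have hrq : ∀ q : C x, Set.range q.1.1 ⊆ Set.range (B x.1).ι := fun q => by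
      rintro _ ⟨z, rfl⟩
      rw [Scheme.Opens.range_ι, show z = closedPoint K from Subsingleton.elim _ _]
      exact q.2
    let p' := IsOpenImmersion.lift (A x.1).ι p hrg
    let ψ : C x → GPt (f.resLE (A x.1) (B x.1) (hBA x.1)) p' := fun q =>
      ⟨IsOpenImmersion.lift (B x.1).ι q.1.1 (hrq q), by
        rw [← cancel_mono (A x.1).ι, Category.assoc, Scheme.Hom.resLE_comp_ι, IsOpenImmersion.lift_fac_assoc,
          IsOpenImmersion.lift_fac, q.1.2]⟩
    have hψ : Function.Injective ψ := fun q q' e => by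
      have := congrArg (fun z => z.1 ≫ (B x.1).ι) e
      simp only [ψ, IsOpenImmersion.lift_fac] at this
      exact Subtype.ext (Subtype.ext this)
    obtain ⟨h1, h2⟩ := hd x.1 K p'
    exact ⟨Finite.of_injective ψ hψ, (Nat.card_le_card_of_injective ψ hψ).trans h2⟩
  choose sel hsel using hmem
  let Φ : GPt f p → Σ x : F, C x := fun q => ⟨sel q, q, hsel q⟩
  have hΦ : Function.Injective Φ := fun q q' e => congrArg (fun z : Σ x : F, C x => z.2.1) e
  have : ∀ x : F, Finite (C x) := fun x => (hC x).1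
  refine ⟨Finite.of_injective Φ hΦ, (Nat.card_le_card_of_injective Φ hΦ).trans ?_⟩
  rw [Nat.card_sigma, ← Finset.sum_coe_sort F]
  exact Finset.sum_le_sum fun x _ => (hC x).2

theorem finite_fibre_of_compact [CompactSpace X] (f : X ⟶ Y) [LocallyQuasiFinite f] [LocallyOfFiniteType f]
    (y : Y) : (f ⁻¹' {y}).Finite := by
  obtain ⟨K, _, _, p, rfl⟩ := exists_gpt y
  obtain ⟨d, hd⟩ := exists_card_GPt_bound f
  have := (hd K p).1
  refine (Set.finite_range fun q : GPt f p => gpt q.1).subset fun x hx => ?_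
  obtain ⟨q, hq⟩ := exists_lift f p x hx
  exact ⟨q, hq⟩

end Groth.Agent.FlatMor66
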