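import Groth.Agent.FlatMor66.Split

/-! Decomposing a finite open piece near a point of the base. -/

set_option autoImplicit false
universe u

open AlgebraicGeometry CategoryTheory Limits IsLocalRing

namespace Groth.Agent.FlatMor66

variable {X Y T T' : Scheme.{u}}

/-- Base change to an equal composite. -/
noncomputable def pm (f : X ⟶ Y) {a : T ⟶ Y} (b : T' ⟶ T) {a' : T' ⟶ Y} (h : b ≫ a = a') :
    pullback f a' ⟶ pullback f a :=
  pullback.lift (pullback.fst f a') (pullback.snd f a' ≫ b) (by rw [Category.assoc, h]; exact pullback.condition)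

@[reassoc (attr := simp)]
lemma pm_fst (f : X ⟶ Y) {a : T ⟶ Y} (b : T' ⟶ T) {a' : T' ⟶ Y} (h : b ≫ a = a') :
    pm f b h ≫ pullback.fst f a = pullback.fst f a' := pullback.lift_fst _ _ _

@[reassoc (attr := simp)]
lemma pm_snd (f : X ⟶ Y) {a : T ⟶ Y} (b : T' ⟶ T) {a' : T' ⟶ Y} (h : b ≫ a = a') :
    pm f b h ≫ pullback.snd f a = pullback.snd f a' ≫ b := pullback.lift_snd _ _ _

lemma isFinite_pm (f : X ⟶ Y) {a : T ⟶ Y} (b : T' ⟶ T) {a' : T' ⟶ Y} (h : b ≫ a = a')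
    (U : (pullback f a).Opens) [IsFinite (U.ι ≫ pullback.snd f a)] :
    IsFinite ((pm f b h ⁻¹ᵁ U).ι ≫ pullback.snd f a') := by
  subst h; exact isFinite_pullMap f a b U

lemma ifun_pm (f : X ⟶ Y) [LocallyQuasiFinite f] (w : X → ℤ) {a : T ⟶ Y} (b : T' ⟶ T) {a' : T' ⟶ Y}
    (h : b ≫ a = a') (U : (pullback f a).Opens) [IsFinite (U.ι ≫ pullback.snd f a)] (t : T') :
    ifun f w a' (pm f b h ⁻¹ᵁ U) t = ifun f w a U (b t) := by
  subst h; exact ifun_comp f w a b U t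

lemma pm_liftPt {K : Type u} [Field K] (f : X ⟶ Y) {a : T ⟶ Y} (b : T' ⟶ T) {a' : T' ⟶ Y} (h : b ≫ a = a')
    (q : Spec (CommRingCat.of K) ⟶ X) (r : Spec (CommRingCat.of K) ⟶ T') (hq : q ≫ f = r ≫ a') :
    pm f b h (liftPt f a' q r hq) = liftPt f a q (r ≫ b) (by rw [Category.assoc, h]; exact hq) := by
  subst h; exact pullMap_liftPt f a b q r hq

lemma eq_of_pm_eq {K : Type u} [Field K] [IsAlgClosed K] (f : X ⟶ Y) [LocallyQuasiFinite f] {a : T ⟶ Y}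
    (b : T' ⟶ T) {a' : T' ⟶ Y} (h : b ≫ a = a') (r : Spec (CommRingCat.of K) ⟶ T')
    (z z' : ↑(pullback f a')) (hz : pullback.snd f a' z = gpt r) (hz' : pullback.snd f a' z' = gpt r)
    (e : pm f b h z = pm f b h z') (hpi : PIAt (pullback.snd f a) (pm f b h z)) : z = z' := by
  subst h; exact eq_of_pullMap_eq f a b r z z' hz hz' e hpi

lemma exists_nhd_subset (f : X ⟶ Y) (a : T ⟶ Y) (U : (pullback f a).Opens)
    [IsFinite (U.ι ≫ pullback.snd f a)] (O : (pullback f a).Opens) (t : T)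
    (h : ∀ z ∈ U, pullback.snd f a z = t → z ∈ O) :
    ∃ N : T.Opens, t ∈ N ∧ ∀ z ∈ U, pullback.snd f a z ∈ N → z ∈ O := by
  have hc : IsClosed ((U.ι ≫ pullback.snd f a) '' (U.ι ⁻¹ᵁ O : Set U.toScheme)ᶜ) :=
    (U.ι ≫ pullback.snd f a).isClosedMap _ (U.ι ⁻¹ᵁ O).isOpen.isClosed_compl
  refine ⟨⟨_, hc.isOpen_compl⟩, ?_, fun z hz hzN => ?_⟩
  · rintro ⟨z, hzO, hzt⟩
    exact hzO (h (U.ι z) z.2 ((Scheme.Hom.comp_apply _ _ _).symm.trans hzt))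
  · by_contra hzO
    exact hzN ⟨⟨z, hz⟩, hzO, Scheme.Hom.comp_apply _ _ _⟩

lemma exists_nhd_disjoint (f : X ⟶ Y) (a : T ⟶ Y) (U V₁ V₂ : (pullback f a).Opens)
    [IsFinite (U.ι ≫ pullback.snd f a)] [IsFinite (V₁.ι ≫ pullback.snd f a)]
    [IsFinite (V₂.ι ≫ pullback.snd f a)] (h₁ : V₁ ≤ U) (h₂ : V₂ ≤ U) (t : T)
    (h : ∀ z ∈ V₁, z ∈ V₂ → pullback.snd f a z ≠ t) :
    ∃ N : T.Opens, t ∈ N ∧ ∀ z ∈ V₁, z ∈ V₂ → pullback.snd f a z ∉ N := by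
  have hcl : ∀ (V : (pullback f a).Opens) (_ : IsFinite (V.ι ≫ pullback.snd f a)) (_ : V ≤ U),
      IsClosed (U.ι ⁻¹ᵁ V : Set U.toScheme) := by
    intro V _ hV
    have : IsFinite ((pullback f a).homOfLE hV ≫ U.ι ≫ pullback.snd f a) := by
      rw [Scheme.homOfLE_ι_assoc]; infer_instance
    have : IsFinite ((pullback f a).homOfLE hV) := IsFinite.of_comp _ (U.ι ≫ pullback.snd f a)
    have hr : (U.ι ⁻¹ᵁ V : Set U.toScheme) = Set.range ((pullback f a).homOfLE hV) := by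
      ext z
      refine ⟨fun hz => ⟨⟨z.1, hz⟩, U.ι.isOpenEmbedding.injective ?_⟩, ?_⟩
      · rw [← Scheme.Hom.comp_apply, Scheme.homOfLE_ι]; rfl
      · rintro ⟨y, rfl⟩
        show U.ι ((pullback f a).homOfLE hV y) ∈ V
        rw [← Scheme.Hom.comp_apply, Scheme.homOfLE_ι]; exact y.2
    rw [hr]
    exact ((pullback f a).homOfLE hV).isClosedMap.isClosed_range
  have hc := (U.ι ≫ pullback.snd f a).isClosedMap _ ((hcl V₁ ‹_› h₁).inter (hcl V₂ ‹_› h₂))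
  refine ⟨⟨_, hc.isOpen_compl⟩, ?_, fun z hz₁ hz₂ hzN => hzN ⟨⟨z, h₁ hz₁⟩, ⟨hz₁, hz₂⟩, Scheme.Hom.comp_apply _ _ _⟩⟩
  rintro ⟨z, ⟨hz₁, hz₂⟩, hzt⟩
  exact h (U.ι z) hz₁ hz₂ ((Scheme.Hom.comp_apply _ _ _).symm.trans hzt)

theorem exists_decomposition {ι : Type*} [Finite ι] (f : X ⟶ Y) (a : T ⟶ Y) (U : (pullback f a).Opens)
    [IsFinite (U.ι ≫ pullback.snd f a)] (V : ι → (pullback f a).Opens)
    (hV : ∀ j, IsFinite ((V j).ι ≫ pullback.snd f a)) (t : T)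
    (hsub : ∀ j, ∀ z ∈ V j, pullback.snd f a z = t → z ∈ U)
    (hcov : ∀ z ∈ U, pullback.snd f a z = t → ∃ j, z ∈ V j)
    (hdisj : ∀ j k, j ≠ k → ∀ z ∈ V j, z ∈ V k → pullback.snd f a z ≠ t) :
    ∃ N : T.Opens, t ∈ N ∧ ∀ z, pullback.snd f a z ∈ N →
      ((z ∈ U ↔ ∃ j, z ∈ V j) ∧ ∀ j k, z ∈ V j → z ∈ V k → j = k) := by
  obtain ⟨N₀, ht₀, hN₀⟩ := exists_nhd_subset f a U (⨆ j, V j) t fun z hz hzt => by
    obtain ⟨j, hj⟩ := hcov z hz hzt; exact TopologicalSpace.Opens.mem_iSup.mpr ⟨j, hj⟩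
  choose N₁ ht₁ hN₁ using fun j => exists_nhd_subset f a (V j) (h := hsub j) U t
  obtain ⟨N, htN, hN₀', hN₁'⟩ : ∃ N : T.Opens, t ∈ N ∧ N ≤ N₀ ∧ ∀ j, N ≤ N₁ j := by
    refine ⟨⟨(N₀ : Set T) ∩ ⋂ j, (N₁ j : Set T), N₀.2.inter (isOpen_iInter_of_finite fun j => (N₁ j).2)⟩,
      ⟨ht₀, Set.mem_iInter.mpr ht₁⟩, fun x hx => hx.1, fun j x hx => Set.mem_iInter.mp hx.2 j⟩
  have := isFinite_pullMap f a N.ι U
  have := fun j => isFinite_pullMap f a N.ι (V j)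
  have hle : ∀ j, pullMap f a N.ι ⁻¹ᵁ V j ≤ pullMap f a N.ι ⁻¹ᵁ U := by
    intro j z hz
    refine hN₁ j _ hz (hN₁' j ?_)
    rw [← Scheme.Hom.comp_apply, pullMap_snd, Scheme.Hom.comp_apply]
    exact (pullback.snd f (N.ι ≫ a) z).2
  have hd : ∀ jk : {jk : ι × ι // jk.1 ≠ jk.2}, ∃ M : N.toScheme.Opens, (⟨t, htN⟩ : N.toScheme) ∈ M ∧
      ∀ z ∈ pullMap f a N.ι ⁻¹ᵁ V jk.1.1, z ∈ pullMap f a N.ι ⁻¹ᵁ V jk.1.2 → pullback.snd f (N.ι ≫ a) z ∉ M := by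
    intro jk
    refine exists_nhd_disjoint f (N.ι ≫ a) _ _ _ (hle _) (hle _) _ fun z hz₁ hz₂ hzt => hdisj _ _ jk.2 _ hz₁ hz₂ ?_
    rw [← Scheme.Hom.comp_apply, pullMap_snd, Scheme.Hom.comp_apply, hzt]
    rfl
  choose M htM hM using hd
  let M' : T.Opens := N.ι ''ᵁ ⟨⋂ jk, (M jk : Set N.toScheme), isOpen_iInter_of_finite fun jk => (M jk).2⟩
  refine ⟨M', ⟨⟨t, htN⟩, Set.mem_iInter.mpr htM, rfl⟩, fun z hz => ?_⟩
  obtain ⟨⟨z₀, hz₀⟩, hzM, e⟩ := hz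
  have hzN : pullback.snd f a z ∈ N := e ▸ hz₀
  refine ⟨⟨fun hzU => TopologicalSpace.Opens.mem_iSup.mp (hN₀ z hzU (hN₀' hzN)),
    fun ⟨j, hj⟩ => hN₁ j z hj (hN₁' j hzN)⟩, fun j k hj hk => ?_⟩
  by_contra hjk
  obtain ⟨z', hz1, hz2⟩ := Scheme.exists_preimage_of_isPullback (isPullback_pullMap f a N.ι) z ⟨z₀, hz₀⟩ e.symm
  refine hM ⟨(j, k), hjk⟩ z' (show pullMap f a N.ι z' ∈ V j by rwa [hz1]) (show pullMap f a N.ι z' ∈ V k by rwa [hz1]) ?_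
  rw [hz2]
  exact Set.mem_iInter.mp hzM ⟨(j, k), hjk⟩

theorem pSum_decomp {ι : Type u} [Fintype ι] {K : Type u} [Field K] [IsAlgClosed K] (f : X ⟶ Y)
    [LocallyQuasiFinite f] (w : X → ℤ) (a : T ⟶ Y) (U : (pullback f a).Opens) (V : ι → (pullback f a).Opens)
    (p : Spec (CommRingCat.of K) ⟶ T) (hfin : ∀ j, Finite (Pts f a (V j) p))
    (h : ∀ z, pullback.snd f a z = gpt p → ((z ∈ U ↔ ∃ j, z ∈ V j) ∧ ∀ j k, z ∈ V j → z ∈ V k → j = k)) :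
    pSum f w a U p = ∑ j, pSum f w a (V j) p := by
  have hs : ∀ q (hq : q ≫ f = p ≫ a), pullback.snd f a (gpt (pullback.lift q p hq)) = gpt p := fun q hq => by
    rw [← gpt_comp, pullback.lift_snd]
  let e : (Σ j, Pts f a (V j) p) → Pts f a U p := fun x =>
    ⟨x.2.1, x.2.2.1, (h _ (hs _ x.2.2.1)).1.mpr ⟨x.1, x.2.2.2⟩⟩
  have he : Function.Bijective e := by
    refine ⟨?_, fun x => ?_⟩
    · rintro ⟨j, q, hq, hqj⟩ ⟨k, q', hq', hqk⟩ hee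
      have h1 : q = q' := congrArg Subtype.val hee
      subst h1
      obtain rfl := (h _ (hs _ hq)).2 j k hqj hqk
      rfl
    · obtain ⟨q, hq, hqU⟩ := x
      obtain ⟨j, hj⟩ := (h _ (hs _ hq)).1.mp hqU
      exact ⟨⟨j, q, hq, hj⟩, rfl⟩
  have := fun j => Fintype.ofFinite (Pts f a (V j) p)
  rw [pSum, ← finsum_comp_equiv (Equiv.ofBijective e he), finsum_eq_sum_of_fintype, Fintype.sum_sigma]
  refine Finset.sum_congr rfl fun j _ => ?_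
  rw [pSum, finsum_eq_sum_of_fintype]
  rfl

lemma finite_Pts {K : Type u} [Field K] [IsAlgClosed K] (f : X ⟶ Y) [LocallyQuasiFinite f] (a : T ⟶ Y)
    (U : (pullback f a).Opens) [IsFinite (U.ι ≫ pullback.snd f a)] (p : Spec (CommRingCat.of K) ⟶ T) :
    Finite (Pts f a U p) := by
  have := finite_GPt (U.ι ≫ pullback.snd f a) p (finite_fibre_of_isFinite _ _)
  refine Finite.of_surjective (fun q : GPt (U.ι ≫ pullback.snd f a) p =>
    (⟨q.1 ≫ U.ι ≫ pullback.fst f a, by simpa [Category.assoc, pullback.condition] using congrArg (· ≫ a) q.2, ?_⟩ :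
      Pts f a U p)) ?_
  · have : pullback.lift (q.1 ≫ U.ι ≫ pullback.fst f a) p (by
        simpa [Category.assoc, pullback.condition] using congrArg (· ≫ a) q.2) = q.1 ≫ U.ι := by
      apply pullback.hom_ext
      · rw [pullback.lift_fst, Category.assoc]
      · rw [pullback.lift_snd, Category.assoc, q.2]
    rw [this, gpt_comp]
    exact SetLike.coe_mem (gpt q.1)
  · rintro ⟨r, hr, hrU⟩
    have hsub : Set.range (pullback.lift r p hr) ⊆ Set.range U.ι := by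
      rintro _ ⟨z, rfl⟩
      rw [Scheme.Opens.range_ι, show z = closedPoint K from Subsingleton.elim _ _]
      exact hrU
    refine ⟨⟨IsOpenImmersion.lift U.ι (pullback.lift r p hr) hsub, ?_⟩, Subtype.ext ?_⟩
    · rw [← Category.assoc, IsOpenImmersion.lift_fac, pullback.lift_snd]
    · show IsOpenImmersion.lift U.ι (pullback.lift r p hr) hsub ≫ U.ι ≫ pullback.fst f a = r
      rw [IsOpenImmersion.lift_fac_assoc, pullback.lift_fst]

end Groth.Agent.FlatMor66
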