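import Groth.Agent.FlatMor66.Level2
import Mathlib.AlgebraicGeometry.Morphisms.QuasiSeparated

/-! Level sets of fibre integrals are locally constructible. -/

set_option autoImplicit false
universe u

open AlgebraicGeometry CategoryTheory Limits IsLocalRing Topology

namespace Groth.Agent.FlatMor66

variable {X Y T : Scheme.{u}}

lemma pSum_top {K : Type u} [Field K] (f : X ⟶ Y) (w : X → ℤ) (a : T ⟶ Y) (p : Spec (CommRingCat.of K) ⟶ T) :
    pSum f w a ⊤ p = gSum f w (p ≫ a) :=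
  finsum_eq_of_bijective (fun q : Pts f a ⊤ p => (⟨q.1, q.2.1⟩ : GPt f (p ≫ a)))
    ⟨fun q q' h => Subtype.ext (congrArg (fun x : GPt f (p ≫ a) => x.1) h), fun q => ⟨⟨q.1, q.2, trivial⟩, rfl⟩⟩
    fun _ => rfl

theorem exists_constructible_fibreIntegral (f : X ⟶ Y) [LocallyQuasiFinite f] [LocallyOfFinitePresentation f]
    [QuasiCompact f] [QuasiSeparated f] (w : X → ℤ) (hw : MoreMor.IsWeighting f w) (B : Y.Opens)
    (hB : IsAffineOpen B) (y : B.toScheme) :
    ∃ C : Set B.toScheme, IsConstructible C ∧ y ∈ C ∧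
      ∀ z ∈ C, MoreMor.fibreIntegral f w (B.ι z) = MoreMor.fibreIntegral f w (B.ι y) := by
  have : IsAffine B.toScheme := hB
  have hfin : ∀ y : Y, (f ⁻¹' {y}).Finite := fun y => f.finite_preimage_singleton y
  obtain ⟨K, _, _, p, hp⟩ := exists_gpt (B.ι y)
  obtain ⟨D⟩ := exists_splitting f p (f ⁻¹' {B.ι y}) (hfin _) (fun x hx => by rw [hp]; exact hx)
  have := D.etale
  have := D.finite
  have hrB : gpt D.r ∈ D.b ⁻¹ᵁ B := by
    show D.b (gpt D.r) ∈ B
    rw [← gpt_comp, D.hr, hp]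
    exact y.2
  obtain ⟨A, hA, htA, hAB⟩ :=
    D.W.isBasis_affineOpens.exists_subset_of_mem_open hrB (D.b ⁻¹ᵁ B).2
  obtain ⟨A, hA', rfl⟩ := hA
  have : IsAffine (Scheme.Opens.toScheme A) := hA'
  let a : Scheme.Opens.toScheme A ⟶ Y := Scheme.Opens.ι A ≫ D.b
  let c : Scheme.Opens.toScheme A ⟶ B.toScheme := IsOpenImmersion.lift B.ι a (by
    rintro _ ⟨z, rfl⟩
    rw [Scheme.Opens.range_ι, Scheme.Hom.comp_apply]
    exact hAB z.2)
  have hc : c ≫ B.ι = a := IsOpenImmersion.lift_fac _ _ _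
  have : Etale (c ≫ B.ι) := by rw [hc]; infer_instance
  have : Etale c := Etale.of_comp c B.ι
  let t₀ : Scheme.Opens.toScheme A := ⟨gpt D.r, htA⟩
  let Q := {q : GPt f p // gpt q.1 ∈ f ⁻¹' {B.ι y}}
  have : Finite Q := finite_gpts f p _ (hfin _)
  have := Fintype.ofFinite Q
  let V' : Q → (pullback f a).Opens := fun q => pullMap f D.b (Scheme.Opens.ι A) ⁻¹ᵁ D.V q
  have hVfin : ∀ q, IsFinite ((V' q).ι ≫ pullback.snd f a) := fun q => isFinite_pullMap f D.b _ _
  have : QuasiSeparatedSpace ↑(pullback f a) := quasiSeparatedSpace_of_quasiSeparated (pullback.snd f a)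
  have hV : ∀ q, IsConstructible (V' q : Set ↑(pullback f a)) := fun q => by
    have := hVfin q
    have : IsAffine (V' q).toScheme := isAffine_of_isAffineHom ((V' q).ι ≫ pullback.snd f a)
    have hk : IsCompact (V' q : Set ↑(pullback f a)) := by
      rw [← Scheme.Opens.range_ι]; exact isCompact_range (V' q).ι.continuous
    exact (hk.isRetrocompact (V' q).2).isConstructible (V' q).2
  have hmap : ∀ x, pullback.snd f a x = t₀ →
      pullback.snd f D.b (pullMap f D.b (Scheme.Opens.ι A) x) = gpt D.r := fun x hx => by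
    rw [← Scheme.Hom.comp_apply, pullMap_snd, Scheme.Hom.comp_apply, hx]; rfl
  let bad₁ : Set (Scheme.Opens.toScheme A) := pullback.snd f a '' (⋃ q, (V' q : Set ↑(pullback f a)))ᶜ
  let bad : {qq : Q × Q // qq.1 ≠ qq.2} → Set (Scheme.Opens.toScheme A) := fun qq =>
    pullback.snd f a '' ((V' qq.1.1 : Set ↑(pullback f a)) ∩ V' qq.1.2)
  have hlc : ∀ q, IsLocallyConstant (ifun f w a (V' q)) := fun q => isLocallyConstant_ifun f w hw a (V' q)
  have hlev : ∀ q n, IsConstructible {z | ifun f w a (V' q) z = n} := fun q n =>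
    ((((hlc q).isClosed_fiber n).isCompact).isRetrocompact ((hlc q).isOpen_fiber _)).isConstructible
      ((hlc q).isOpen_fiber _)
  let E : Set (Scheme.Opens.toScheme A) :=
    bad₁ᶜ ∩ ((⋃ qq, bad qq)ᶜ ∩ ⋂ q, {z | ifun f w a (V' q) z = ifun f w a (V' q) t₀})
  have hE : IsConstructible E := by
    refine ((pullback.snd f a).isConstructible_image ?_).compl.inter (.inter (IsConstructible.compl ?_) ?_)
    · exact (IsConstructible.iUnion hV).compl
    · exact IsConstructible.iUnion fun qq => (pullback.snd f a).isConstructible_image ((hV _).inter (hV _))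
    · exact IsConstructible.iInter fun q => hlev q _
  have htE : t₀ ∈ E := by
    refine ⟨?_, ?_, Set.mem_iInter.mpr fun q => rfl⟩
    · rintro ⟨x, hx, hxt⟩
      obtain ⟨q, hq⟩ := D.eq_pt _ (hmap x hxt) (by
        show f _ = B.ι y
        rw [← Scheme.Hom.comp_apply (pullback.fst f D.b) f, pullback.condition, Scheme.Hom.comp_apply, hmap x hxt]
        exact (gpt_comp D.r D.b).symm.trans ((congrArg gpt D.hr).trans hp))
      refine hx (Set.mem_iUnion.mpr ⟨q, ?_⟩)
      show pullMap f D.b _ x ∈ D.V q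
      rw [← hq]; exact D.mem q
    · intro h
      obtain ⟨qq, x, ⟨h1, h2⟩, hxt⟩ := Set.mem_iUnion.mp h
      exact qq.2 (D.pt_injective ((D.unique _ _ h1 (hmap x hxt)).symm.trans (D.unique _ _ h2 (hmap x hxt))))
  have hF : ∀ z ∈ E, MoreMor.fibreIntegral f w (a z) = ∑ q, ifun f w a (V' q) t₀ := by
    intro z hz
    obtain ⟨K', _, _, p', rfl⟩ := exists_gpt z
    rw [← gpt_comp, fibreIntegral_eq_gSum f w _ (hfin _), ← pSum_top,
      pSum_decomp f w a ⊤ V' p' (fun q => finite_Pts f a _ p') ?_]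
    · refine Finset.sum_congr rfl fun q _ => ?_
      rw [← ifun_eq_pSum f w a _ p' (finite_fibre_of_isFinite _ _)]
      exact Set.mem_iInter.mp hz.2.2 q
    · intro x hx
      refine ⟨⟨fun _ => ?_, fun _ => trivial⟩, fun j k hj hk => ?_⟩
      · by_contra hne
        exact hz.1 ⟨x, fun h => hne (Set.mem_iUnion.mp h), hx⟩
      · by_contra hjk
        exact hz.2.1 (Set.mem_iUnion.mpr ⟨⟨(j, k), hjk⟩, x, ⟨hj, hk⟩, hx⟩)
  have hay : a t₀ = B.ι y := by
    show (Scheme.Opens.ι A ≫ D.b) t₀ = _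
    rw [Scheme.Hom.comp_apply]
    exact (gpt_comp D.r D.b).symm.trans ((congrArg gpt D.hr).trans hp)
  refine ⟨c '' E, c.isConstructible_image hE, ⟨t₀, htE, B.ι.isOpenEmbedding.injective ?_⟩, ?_⟩
  · rw [← Scheme.Hom.comp_apply, hc, hay]
  · rintro _ ⟨z, hz, rfl⟩
    rw [← Scheme.Hom.comp_apply, hc, hF z hz]
    exact ((congrArg (MoreMor.fibreIntegral f w) hay.symm).trans (hF t₀ htE)).symm

theorem isLocallyConstructible_fibreIntegral (f : X ⟶ Y) [LocallyQuasiFinite f] [LocallyOfFinitePresentation f]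
    [QuasiCompact f] [QuasiSeparated f] (w : X → ℤ) (hw : MoreMor.IsWeighting f w) (n : ℤ) :
    IsLocallyConstructible {y : Y | MoreMor.fibreIntegral f w y = n} := by
  classical
  intro y
  obtain ⟨_, ⟨B, hB, rfl⟩, hyB, -⟩ :=
    Y.isBasis_affineOpens.exists_subset_of_mem_open (Set.mem_univ y) isOpen_univ
  refine ⟨B, B.2.mem_nhds hyB, B.2, ?_⟩
  have : IsAffine (Scheme.Opens.toScheme B) := hB
  choose C hC hyC hFC using exists_constructible_fibreIntegral f w hw B hB
  obtain ⟨F, hF'⟩ := (isCompact_univ (X := WithConstructibleTopology (Scheme.Opens.toScheme B))).elim_finite_subcover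
    (fun x : Scheme.Opens.toScheme B => WithTopology.ofTopology ⁻¹' C x)
    (fun x => WithConstructibleTopology.isOpen_iff.mpr (isClopen_constructibleTopology_of_isConstructible (hC x)).1)
    (fun z _ => Set.mem_iUnion.mpr ⟨WithTopology.ofTopology z, hyC _⟩)
  have hFcov : ∀ z, ∃ x ∈ F, z ∈ C x := fun z => by
    obtain ⟨x, hx, hz⟩ := Set.mem_iUnion₂.mp (hF' (Set.mem_univ (WithTopology.toTopology _ z)))
    exact ⟨x, hx, hz⟩
  show IsConstructible {z : Scheme.Opens.toScheme B | MoreMor.fibreIntegral f w (Scheme.Opens.ι B z) = n}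
  have e : {z : Scheme.Opens.toScheme B | MoreMor.fibreIntegral f w (Scheme.Opens.ι B z) = n} =
      ⋃ x : {x // x ∈ F ∧ MoreMor.fibreIntegral f w (Scheme.Opens.ι B x) = n}, C x.1 := by
    ext z
    simp only [Set.mem_iUnion, Set.mem_setOf_eq]
    refine ⟨fun hz => ?_, fun ⟨⟨x, _, hx⟩, hzx⟩ => (hFC x z hzx).trans hx⟩
    obtain ⟨x, hx, hzx⟩ := hFcov z
    exact ⟨⟨x, hx, (hFC x z hzx).symm.trans hz⟩, hzx⟩
  rw [e]
  have : Finite {x // x ∈ F ∧ MoreMor.fibreIntegral f w (Scheme.Opens.ι B x) = n} :=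
    Finite.of_injective (fun x => (⟨x.1, x.2.1⟩ : F)) fun a b h => Subtype.ext (congrArg Subtype.val h :)
  exact IsConstructible.iUnion fun x => hC x.1

end Groth.Agent.FlatMor66
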