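import Groth.Agent.FlatMor66.FlatWeight
import Groth.Agent.FlatMor66.Semi
import Groth.Agent.FlatMor66.LevelF

/-! The fibre degree of flat quasi-finite morphisms. -/

set_option autoImplicit false
universe u

open AlgebraicGeometry CategoryTheory Limits IsLocalRing

namespace Groth.Agent.FlatMor66

variable {X Y T : Scheme.{u}} {K : Type u} [Field K]

theorem isFinite_finrank_geometric [IsAlgClosed K] (f : X ⟶ Y) [LocallyQuasiFinite f] [LocallyOfFiniteType f]
    [IsSeparated f] [Flat f] [LocallyOfFinitePresentation f] (p : Spec (CommRingCat.of K) ⟶ Y)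
    (hfin : (f ⁻¹' {gpt p}).Finite) :
    IsFinite (pullback.snd f p) ∧
      ((pullback.snd f p).finrank (closedPoint K) : ℤ) = MoreMor.fibreIntegral f (wgt f) (gpt p) := by
  obtain ⟨D⟩ := exists_splitting f p (f ⁻¹' {gpt p}) hfin (fun x hx => hx)
  have := D.etale
  have := D.finite
  let s : Set X := f ⁻¹' {gpt p}
  let Q := {q : GPt f p // gpt q.1 ∈ s}
  have : Finite Q := finite_gpts f p _ hfin
  let W' : Q → (pullback f p).Opens := fun q => pm f D.r D.hr ⁻¹ᵁ D.V q
  have hW : ∀ q, IsFinite ((W' q).ι ≫ pullback.snd f p) := fun q => isFinite_pm f D.r D.hr _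
  have hsnd : ∀ z : ↑(pullback f p), pullback.snd f p z = gpt (𝟙 (Spec (CommRingCat.of K))) := fun z =>
    Subsingleton.elim (α := PrimeSpectrum K) _ _
  have hsnd' : ∀ z : ↑(pullback f p), pullback.snd f D.b (pm f D.r D.hr z) = gpt D.r := fun z => by
    rw [← Scheme.Hom.comp_apply (pm f D.r D.hr) (pullback.snd f D.b), pm_snd, Scheme.Hom.comp_apply]
    exact congrArg D.r (Subsingleton.elim (α := PrimeSpectrum K) _ _)
  have hcov : ∀ z, ∃ q, z ∈ W' q := fun z => by
    obtain ⟨q, hq⟩ := D.eq_pt _ (hsnd' z) (by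
      show f _ = gpt p
      rw [← Scheme.Hom.comp_apply (pm f D.r D.hr) (pullback.fst f D.b), pm_fst,
        ← Scheme.Hom.comp_apply (pullback.fst f p) f, pullback.condition, Scheme.Hom.comp_apply]
      exact congrArg p (Subsingleton.elim (α := PrimeSpectrum K) _ _))
    refine ⟨q, ?_⟩
    show pm f D.r D.hr z ∈ D.V q
    rw [← hq]; exact D.mem q
  have hπ : IsFinite (pullback.snd f p) := isFinite_of_finite_cover _ W' hW hcov
  refine ⟨hπ, ?_⟩
  have hw : wgt (pullback.snd f p) = wgt f ∘ ⇑(pullback.fst f p) := funext fun z => by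
    obtain ⟨q, hzq⟩ := hcov z
    have := hW q
    let π := (W' q).ι ≫ pullback.snd f p
    have hsub : ∀ u : (W' q).toScheme, (W' q).ι u = z := fun u => by
      have h1 := D.unique q _ u.2 (hsnd' _)
      have h2 := D.unique q _ hzq (hsnd' _)
      exact eq_of_pm_eq f D.r D.hr (𝟙 _) _ _ (hsnd _) (hsnd _) (h1.trans h2.symm) (by
        rw [show pm f D.r D.hr ((W' q).ι u) = _ from h1]
        exact D.pi _ (snd_liftPt ..) ((fst_liftPt f D.b q.1.1 D.r _).symm ▸ q.2))
    have hfx : pullback.fst f p z = gpt q.1.1 := by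
      rw [← pm_fst f D.r D.hr, Scheme.Hom.comp_apply, D.unique q _ hzq (hsnd' _)]
      exact fst_liftPt ..
    let π₁ := (D.V q).ι ≫ pullback.snd f D.b
    have hw₁ : (fun u => wgt f (pullback.fst f D.b ((D.V q).ι u))) = wgt π₁ := funext fun u => by
      rw [← Scheme.Hom.comp_apply]
      exact (wgt_square f π₁ ((D.V q).ι ≫ pullback.fst f D.b) D.b
        (by rw [Category.assoc, pullback.condition, Category.assoc]) u).symm
    have hsq : IsPullback (pm f D.r D.hr ∣_ D.V q) π π₁ D.r := by
      refine (isPullback_morphismRestrict (pm f D.r D.hr) (D.V q)).paste_vert ?_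
      refine IsPullback.of_right (h₁₂ := pullback.fst f D.b) ?_ (pm_snd f D.r D.hr) (IsPullback.of_hasPullback f D.b)
      rw [pm_fst, D.hr]
      exact IsPullback.of_hasPullback f p
    have hd : ((π.finrank (closedPoint K) : ℕ) : ℤ) = wgt f (gpt q.1.1) := by
      rw [Scheme.Hom.finrank_of_isPullback _ _ π₁ D.r hsq, ← fibreIntegral_wgt, ← hw₁]
      show ifun f (wgt f) D.b (D.V q) (gpt D.r) = _
      rw [ifun_eq_pSum f _ _ _ D.r (finite_fibre_of_isFinite _ _), D.pSum_single _ q D.r rfl]
    have h1 : MoreMor.fibreIntegral π (fun _ => (1 : ℤ)) (closedPoint K) = 1 := by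
      have hp' : ifun f (fun _ => (1 : ℤ)) p (W' q) (closedPoint K) = 1 := by
        rw [show W' q = pm f D.r D.hr ⁻¹ᵁ D.V q from rfl, ifun_pm f _ D.r D.hr (D.V q)]
        show ifun f (fun _ => (1 : ℤ)) D.b (D.V q) (gpt D.r) = 1
        rw [ifun_eq_pSum f _ _ _ D.r (finite_fibre_of_isFinite _ _), D.pSum_single _ q D.r rfl]
      exact hp'
    have h2 : MoreMor.fibreIntegral π (wgt π) (closedPoint K) =
        wgt π ⟨z, hzq⟩ * MoreMor.fibreIntegral π (fun _ => (1 : ℤ)) (closedPoint K) := by
      rw [MoreMor.fibreIntegral, MoreMor.fibreIntegral, mul_finsum]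
      refine finsum_congr fun u => ?_
      rw [show u.1 = (⟨z, hzq⟩ : (W' q).toScheme) from (W' q).ι.isOpenEmbedding.injective (hsub u.1), one_mul]
    rw [h1, mul_one, fibreIntegral_wgt, hd] at h2
    show wgt (pullback.snd f p) z = wgt f (pullback.fst f p z)
    rw [hfx, h2, wgt_etale_left]
    rfl
  rw [← fibreIntegral_wgt, hw]
  exact fibreIntegral_baseChange f (pullback.snd f p) (pullback.fst f p) p (IsPullback.of_hasPullback f p) (wgt f)
    (closedPoint K) hfin

/-- Scalars acting on the global functions of a base change to a field. -/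
noncomputable def fieldScalars (f : X ⟶ Y) (g : Spec (CommRingCat.of K) ⟶ Y) : K →+* Γ(pullback f g, ⊤) :=
  ((Scheme.ΓSpecIso (CommRingCat.of K)).inv ≫ (pullback.snd f g).appTop).hom

/-- The rank of the global functions of a base change to a field. -/
noncomputable def fieldRank (f : X ⟶ Y) (g : Spec (CommRingCat.of K) ⟶ Y) : Cardinal.{u} :=
  letI := (fieldScalars f g).toAlgebra
  Module.rank K (Γ(pullback f g, ⊤) : Type u)

theorem finite_fibre_of_finite_pullback (f : X ⟶ Y) (g : Spec (CommRingCat.of K) ⟶ Y)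
    (h : Finite ↑(pullback f g)) : (f ⁻¹' {gpt g}).Finite := by
  refine (Set.finite_range (pullback.fst f g)).subset fun x hx => ?_
  obtain ⟨z, hz, -⟩ := Scheme.Pullback.exists_preimage_pullback (f := f) (g := g) x (closedPoint K) hx
  exact ⟨z, hz⟩

theorem isFinite_finrank_field (f : X ⟶ Y) [LocallyQuasiFinite f] [LocallyOfFiniteType f]
    [IsSeparated f] [Flat f] [LocallyOfFinitePresentation f] (g : Spec (CommRingCat.of K) ⟶ Y)
    (hfin : (f ⁻¹' {gpt g}).Finite) :
    IsFinite (pullback.snd f g) ∧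
      ((pullback.snd f g).finrank (closedPoint K) : ℤ) = MoreMor.fibreIntegral f (wgt f) (gpt g) := by
  let c : Spec (CommRingCat.of (AlgebraicClosure K)) ⟶ Spec (CommRingCat.of K) :=
    Spec.map (CommRingCat.ofHom (algebraMap K (AlgebraicClosure K)))
  have hpt : gpt (c ≫ g) = gpt g := congrArg g (Subsingleton.elim (α := PrimeSpectrum K) _ _)
  obtain ⟨h1, h2⟩ := isFinite_finrank_geometric f (c ≫ g) (by rw [hpt]; exact hfin)
  have : Surjective c := ⟨fun y => ⟨closedPoint _, Subsingleton.elim (α := PrimeSpectrum K) _ _⟩⟩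
  have : Flat c := (Flat.SpecMap_iff).mpr
    (by rw [CommRingCat.hom_ofHom, RingHom.flat_algebraMap_iff]; infer_instance)
  have := Groth.Agent.Unr55.isFinite.{u}
  have h3 : IsFinite (pullback.snd f g) :=
    MorphismProperty.of_isPullback_of_descendsAlong (P := @IsFinite) (Q := @Surjective ⊓ @Flat ⊓ @QuasiCompact)
      (isPullback_pullMap f g c).flip ⟨⟨inferInstance, inferInstance⟩, inferInstance⟩ h1
  refine ⟨h3, ?_⟩
  rw [← hpt, ← h2, Scheme.Hom.finrank_of_isPullback _ _ (pullback.snd f g) c (isPullback_pullMap f g c) (closedPoint _)]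
  exact congrArg (fun y => ((pullback.snd f g).finrank y : ℤ)) (Subsingleton.elim (α := PrimeSpectrum K) _ _)

theorem fieldRank_eq_finrank (f : X ⟶ Y) (g : Spec (CommRingCat.of K) ⟶ Y) [IsFinite (pullback.snd f g)]
    [Flat (pullback.snd f g)] :
    fieldRank f g = ((pullback.snd f g).finrank (closedPoint K) : Cardinal.{u}) := by
  let π := pullback.snd f g
  let φ : CommRingCat.of K ⟶ Γ(pullback f g, ⊤) := (Scheme.ΓSpecIso (CommRingCat.of K)).inv ≫ π.appTop
  have : IsAffine (pullback f g) := isAffine_of_isAffineHom π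
  have hπ : π = (pullback f g).isoSpec.hom ≫ Spec.map φ := by
    rw [Scheme.isoSpec_hom, Spec.map_comp, ← Scheme.toSpecΓ_naturality_assoc]
    simp
  have : IsFinite (Spec.map φ) := by
    rw [← MorphismProperty.cancel_left_of_respectsIso @IsFinite (pullback f g).isoSpec.hom, ← hπ]; infer_instance
  have : Flat (Spec.map φ) := by
    rw [← MorphismProperty.cancel_left_of_respectsIso @Flat (pullback f g).isoSpec.hom, ← hπ]; infer_instance
  letI : Algebra K Γ(pullback f g, ⊤) := (fieldScalars f g).toAlgebra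
  have : Module.Finite K Γ(pullback f g, ⊤) := IsFinite.SpecMap_iff φ |>.mp ‹_›
  have h := Scheme.Hom.finrank_SpecMap_algebraMap K Γ(pullback f g, ⊤) (closedPoint K)
  rw [Module.rankAtStalk_eq_finrank_of_free, Pi.natCast_apply, Nat.cast_id] at h
  show fieldRank f g = (π.finrank (closedPoint K) : Cardinal.{u})
  rw [hπ, Scheme.Hom.finrank_comp_left_of_isIso]
  show Module.rank K Γ(pullback f g, ⊤) = _
  rw [← Module.finrank_eq_rank, Nat.cast_inj]
  exact h.symm

theorem natCast_le_fieldRank_of_points (f : X ⟶ Y) [LocallyQuasiFinite f] (g : Spec (CommRingCat.of K) ⟶ Y)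
    {n : ℕ} (z : Fin n → ↑(pullback f g)) (hz : Function.Injective z) :
    (n : Cardinal.{u}) ≤ fieldRank f g := by
  classical
  have hd : DiscreteTopology ↑(pullback f g) := by
    rw [discreteTopology_iff_isOpen_singleton]
    intro x
    have h3 := (pullback.snd f g).isDiscrete_preimage_singleton (pullback.snd f g x)
    have h4 : pullback.snd f g ⁻¹' {pullback.snd f g x} = Set.univ :=
      Set.eq_univ_of_forall fun y => Subsingleton.elim (α := PrimeSpectrum K) _ _
    rw [h4] at h3
    have := isDiscrete_univ_iff.mp h3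
    exact isOpen_discrete _
  letI : Algebra K Γ(pullback f g, ⊤) := (fieldScalars f g).toAlgebra
  let P := pullback f g
  have key : ∀ i, ∃ e : Γ(P, ⊤), ∀ j, P.Γevaluation (z j) e = if i = j then 1 else 0 := by
    intro i
    let U : Bool → P.Opens := fun b => ⟨{y | (y = z i) ↔ (b = true)}, isOpen_discrete _⟩
    let sf : ∀ b, Γ(P, U b) := fun b => if b then 1 else 0
    have hcompat : TopCat.Presheaf.IsCompatible P.sheaf.1 U sf := by
      intro a b
      apply TopCat.Presheaf.section_ext P.sheaf
      intro y hy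
      have hab : a = b := by
        have h1 : (y = z i ↔ a = true) := hy.1
        have h2 : (y = z i ↔ b = true) := hy.2
        rcases a with _ | _ <;> rcases b with _ | _ <;> simp_all
      subst hab
      rfl
    obtain ⟨e, he, -⟩ := TopCat.Sheaf.existsUnique_gluing' P.sheaf U ⊤ (fun b => homOfLE le_top)
      (fun y _ => TopologicalSpace.Opens.mem_iSup.2 (by
        by_cases hy : y = z i
        · exact ⟨true, by simp [U, hy]⟩
        · exact ⟨false, by simp [U, hy]⟩)) sf hcompat
    refine ⟨e, fun j => ?_⟩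
    have hb : z j ∈ U (decide (i = j)) := by
      show (z j = z i ↔ decide (i = j) = true)
      simp [hz.eq_iff, eq_comm]
    have h1 : P.presheaf.germ ⊤ (z j) trivial e =
        P.presheaf.germ (U (decide (i = j))) (z j) hb (sf (decide (i = j))) := by
      rw [← he (decide (i = j))]
      exact (P.presheaf.germ_res_apply (homOfLE le_top) (z j) hb e).symm
    show P.residue (z j) (P.presheaf.germ ⊤ (z j) trivial e) = _
    have hsf : ∀ (b : Bool) (h : z j ∈ U b),
        P.residue (z j) (P.presheaf.germ (U b) (z j) h (sf b)) = if b then 1 else 0 := by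
      intro b h; cases b <;> simp [sf]
    rw [h1, hsf]
    by_cases hij : i = j <;> simp [hij]
  choose e he using key
  have hli : LinearIndependent K e := by
    rw [Fintype.linearIndependent_iff]
    intro c hc j
    have h1 := congrArg (P.Γevaluation (z j)) hc
    rw [map_sum, map_zero, Finset.sum_eq_single j (fun i _ hij => by
      rw [Algebra.smul_def, map_mul, he, if_neg hij, mul_zero]) (fun h => (h (Finset.mem_univ j)).elim),
      Algebra.smul_def, map_mul, he, if_pos rfl, mul_one] at h1
    exact ((P.Γevaluation (z j)).hom.comp (algebraMap K Γ(P, ⊤))).injective (h1.trans (map_zero _).symm)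
  show (n : Cardinal.{u}) ≤ Module.rank K Γ(P, ⊤)
  have := hli.cardinal_lift_le_rank
  simpa using this

theorem natCast_le_fieldRank_of_infinite (f : X ⟶ Y) [LocallyQuasiFinite f] (g : Spec (CommRingCat.of K) ⟶ Y)
    (hinf : ¬ (f ⁻¹' {gpt g}).Finite) (n : ℕ) : (n : Cardinal.{u}) ≤ fieldRank f g := by
  have : Infinite ↑(pullback f g) := not_finite_iff_infinite.mp fun h => hinf (finite_fibre_of_finite_pullback f g h)
  let e : Fin n ↪ ↑(pullback f g) := Fin.valEmbedding.trans (Infinite.natEmbedding _)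
  exact natCast_le_fieldRank_of_points f g e e.injective

theorem fieldRank_le_iff (f : X ⟶ Y) [LocallyQuasiFinite f] [LocallyOfFiniteType f]
    [IsSeparated f] [Flat f] [LocallyOfFinitePresentation f] (g : Spec (CommRingCat.of K) ⟶ Y)
    (hfin : (f ⁻¹' {gpt g}).Finite) (n : ℕ) :
    (n : Cardinal.{u}) ≤ fieldRank f g ↔ (n : ℤ) ≤ MoreMor.fibreIntegral f (wgt f) (gpt g) := by
  obtain ⟨h1, h2⟩ := isFinite_finrank_field f g hfin
  rw [fieldRank_eq_finrank, Nat.cast_le, ← h2, Nat.cast_le]

end Groth.Agent.FlatMor66
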