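import Groth.Agent.Cyc20.EtaleNbhd
import Groth.Agent.E4O.InfNbhd
import Groth.Prelude.Def_Hens2

/-!
Elementary étale neighbourhoods with a finite part through quasi-finite points.
-/

set_option autoImplicit false
set_option linter.style.haveILetI false

open CategoryTheory CategoryTheory.Limits AlgebraicGeometry TensorProduct

namespace Groth.Agent.FlatMor66

open Groth.Agent.Cyc20

universe u

theorem exists_sub_mem_base {A R : Type u} [CommRing A] [CommRing R]
    [Algebra A R] (p : Ideal A) [p.IsPrime] (P : Ideal R) [P.IsPrime] [P.LiesOver p]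
    (hP : Function.Bijective (Ideal.ResidueField.mapₐ p P (Algebra.ofId _ _) (P.over_def p)))
    (r : R) : ∃ a b : A, algebraMap A R b ∉ P ∧ algebraMap A R b * r - algebraMap A R a ∈ P := by
  obtain ⟨x, hx⟩ := hP.2 (algebraMap R P.ResidueField r)
  obtain ⟨a, b, hb, rfl⟩ := IsFractionRing.div_surjective (A := A ⧸ p) x
  obtain ⟨a, rfl⟩ := Ideal.Quotient.mk_surjective a
  obtain ⟨b, rfl⟩ := Ideal.Quotient.mk_surjective b
  have hb0 : b ∉ p := fun h =>
    nonZeroDivisors.ne_zero hb (Ideal.Quotient.eq_zero_iff_mem.2 h)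
  rw [map_div₀] at hx
  simp only [← Ideal.Quotient.algebraMap_eq, ← IsScalarTower.algebraMap_apply,
    AlgHom.commutes] at hx
  have hb1 : algebraMap A P.ResidueField b ≠ 0 := fun h => hb0 (by
    rw [IsScalarTower.algebraMap_apply A R P.ResidueField, Ideal.algebraMap_residueField_eq_zero,
      ← Ideal.mem_comap, ← Ideal.under_def, ← P.over_def p] at h
    exact h)
  rw [div_eq_iff hb1] at hx
  have hmem : algebraMap A R b * r - algebraMap A R a ∈ P := by
    rw [← Ideal.algebraMap_residueField_eq_zero, map_sub, map_mul,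
      ← IsScalarTower.algebraMap_apply, ← IsScalarTower.algebraMap_apply, hx]
    ring
  refine ⟨a, b, ?_, hmem⟩
  rw [← Ideal.mem_comap, ← Ideal.under_def, ← P.over_def p]
  exact hb0

set_option backward.defeqAttrib.useBackward true in
set_option backward.isDefEq.respectTransparency false in
theorem exists_elementary_nbhd {X S : Scheme.{u}} (f : X ⟶ S) [LocallyOfFiniteType f]
    (x : X) (hx : f.QuasiFiniteAt x) :
    ∃ (U : Scheme.{u}) (g : U ⟶ S) (u : U), Etale g ∧ g u = f x ∧ Function.Bijective (g.residueFieldMap u) ∧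
    ∃ (V : (pullback f g).Opens) (v : ↑(pullback f g)), v ∈ V ∧ IsFinite (V.ι ≫ pullback.snd f g) ∧
      pullback.fst f g v = x ∧ pullback.snd f g v = u ∧
      IsIso ((pullback.fst f g).residueFieldMap v) ∧
      ∀ z : ↑(pullback f g), z ∈ V → pullback.snd f g z = u → z = v := by
  obtain ⟨_, ⟨U, hU, rfl⟩, hxU, -⟩ := S.isBasis_affineOpens.exists_subset_of_mem_open
    (Set.mem_univ (f x)) isOpen_univ
  obtain ⟨_, ⟨V, hV, rfl⟩, hxV, hUV : V ≤ f ⁻¹ᵁ U⟩ :=
    X.isBasis_affineOpens.exists_subset_of_mem_open hxU (f ⁻¹ᵁ U).2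
  have : (f.appLE U V hUV).hom.FiniteType := f.finiteType_appLE hU hV hUV
  algebraize [(f.appLE U V hUV).hom]
  have : (hV.primeIdealOf ⟨x, hxV⟩).asIdeal.LiesOver (hU.primeIdealOf ⟨f x, hxU⟩).asIdeal := by
    suffices hU.primeIdealOf ⟨f x, hxU⟩ = Spec.map (f.appLE U V hUV) (hV.primeIdealOf ⟨x, hxV⟩) from
      ⟨congr(($this).1)⟩
    apply hU.isoSpec.inv.homeomorph.injective
    apply Subtype.ext
    simp only [IsAffineOpen.primeIdealOf, Scheme.Hom.homeomorph_apply,
      ← Scheme.Hom.comp_apply, ← Scheme.Opens.ι_apply, IsAffineOpen.isoSpec_hom]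
    simp
  have : Algebra.QuasiFiniteAt Γ(S, U) (hV.primeIdealOf ⟨x, hxV⟩).asIdeal :=
    hx.quasiFiniteAt hV hU hUV hxV
  obtain ⟨R, _, _, _, P, _, _, e, _, P', _, _, hP', heP', hbij, _, huniq⟩ :=
    Algebra.exists_etale_isIdempotentElem_forall_liesOver_eq
    (hU.primeIdealOf ⟨f x, hxU⟩).asIdeal (hV.primeIdealOf ⟨x, hxV⟩).asIdeal
  have : (algebraMap R (Localization.Away e)).Finite := RingHom.finite_algebraMap.mpr ‹_›
  let φ : Γ(S, U) ⟶ .of R := CommRingCat.ofHom <| algebraMap Γ(S, U) R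
  have hφ : φ.hom.Etale := RingHom.etale_algebraMap.mpr ‹_›
  have : Etale (Spec.map φ) := HasRingHomProperty.Spec_iff.mpr hφ
  let e₁ : Spec (.of (R ⊗ Γ(X, V))) ≅ pullback (Spec.map (f.appLE U V hUV)) (Spec.map φ) :=
    (pullbackSpecIso _ _ _).symm ≪≫ pullbackSymmetry _ _
  have he₁ : e₁.hom ≫ pullback.fst _ _ =
      Spec.map (CommRingCat.ofHom Algebra.TensorProduct.includeRight.toRingHom) := by
    dsimp [e₁, RingHom.algebraMap_toAlgebra]
    rw [Category.assoc, pullbackSymmetry_hom_comp_fst]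
    exact pullbackSpecIso_inv_snd ..
  have he₂ : e₁.hom ≫ pullback.snd _ _ =
      Spec.map (CommRingCat.ofHom Algebra.TensorProduct.includeLeftRingHom) := by
    dsimp [e₁, RingHom.algebraMap_toAlgebra]
    rw [Category.assoc, pullbackSymmetry_hom_comp_snd]
    exact pullbackSpecIso_inv_fst ..
  let g : Spec (.of (R ⊗[Γ(S, U)] Γ(X, V))) ⟶ pullback f (Spec.map φ ≫ hU.fromSpec) :=
    e₁.hom ≫ pullback.map _ _ _ _ hV.fromSpec (𝟙 _) hU.fromSpec
      (IsAffineOpen.SpecMap_appLE_fromSpec ..) (by simp)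
  let W₁ := g ''ᵁ PrimeSpectrum.basicOpen e
  have hfin : IsFinite (W₁.ι ≫ pullback.snd f _) := by
    let ι : Spec (.of (Localization.Away e)) ⟶ pullback f (Spec.map φ ≫ hU.fromSpec) :=
      Spec.map (CommRingCat.ofHom <| algebraMap _ _) ≫ g
    have : ι.opensRange = W₁ := by
      simp only [Scheme.Hom.opensRange_comp, ι, W₁]
      congr 1
      exact TopologicalSpace.Opens.ext <| PrimeSpectrum.localization_away_comap_range _ _
    rw [← this, ← MorphismProperty.cancel_left_of_respectsIso @IsFinite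
      (Scheme.Hom.isoOpensRange _).hom]
    have H : (pullbackSpecIso _ R _).inv ≫ pullback.fst _ (Spec.map (f.appLE U V hUV)) = _ :=
      pullbackSpecIso_inv_fst ..
    simpa [Scheme.Hom.isoOpensRange, ι, g, e₁, RingHom.algebraMap_toAlgebra, φ, H,
      ← Spec.map_comp, IsFinite.SpecMap_iff]
  have hsnd : g ≫ pullback.snd f (Spec.map φ ≫ hU.fromSpec) =
      Spec.map (CommRingCat.ofHom Algebra.TensorProduct.includeLeftRingHom) := by
    simp only [g, Category.assoc, pullback.map, pullback.lift_snd, Category.comp_id, he₂]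
  refine ⟨Spec (.of R), Spec.map φ ≫ hU.fromSpec, ⟨P, ‹_›⟩, inferInstance, ?_, ?_, W₁, g ⟨P', ‹_›⟩,
    ⟨⟨P', ‹_›⟩, heP', rfl⟩, hfin, ?_, ?_, ?_, ?_⟩
  · dsimp [Spec.map_apply]
    convert! hU.fromSpec_primeIdealOf ⟨f x, hxU⟩
    exact PrimeSpectrum.ext (Ideal.over_def _ _).symm
  · let pt : Spec (CommRingCat.of R) := ⟨P, ‹_›⟩
    haveI : IsIso ((Spec.map φ).residueFieldMap pt) :=
      (ConcreteCategory.isIso_iff_bijective _).2 ⟨RingHom.injective _,
        surjective_residueFieldMap_specMap φ pt (exists_sub_mem_base _ P hbij)⟩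
    rw [Scheme.residueFieldMap_comp]
    exact (ConcreteCategory.isIso_iff_bijective _).1 (inferInstance : IsIso _)
  · trans hV.fromSpec ⟨P'.comap Algebra.TensorProduct.includeRight.toRingHom, inferInstance⟩
    · simp [← Scheme.Hom.comp_apply, -Scheme.Hom.comp_base, g, reassoc_of% he₁]; rfl
    convert! hV.fromSpec_primeIdealOf ⟨x, hxV⟩
  · rw [← Scheme.Hom.comp_apply, hsnd]
    exact PrimeSpectrum.ext (P'.over_def P).symm
  · have hfst : g ≫ pullback.fst f (Spec.map φ ≫ hU.fromSpec) =
        Spec.map (CommRingCat.ofHom Algebra.TensorProduct.includeRight.toRingHom) ≫ hV.fromSpec := by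
      simp only [g, Category.assoc, pullback.map, pullback.lift_fst, reassoc_of% he₁]
    let pt : Spec (CommRingCat.of (R ⊗[Γ(S, U)] Γ(X, V))) := ⟨P', ‹_›⟩
    have hs : IsIso ((Spec.map (CommRingCat.ofHom (Algebra.TensorProduct.includeRight :
        Γ(X, V) →ₐ[Γ(S, U)] R ⊗[Γ(S, U)] Γ(X, V)).toRingHom)).residueFieldMap pt) :=
      (ConcreteCategory.isIso_iff_bijective _).2 ⟨RingHom.injective _,
        surjective_residueFieldMap_specMap _ _ (exists_sub_mem _ P P' hbij)⟩
    have h1 : IsIso ((Spec.map (CommRingCat.ofHom Algebra.TensorProduct.includeRight.toRingHom) ≫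
        hV.fromSpec).residueFieldMap pt) := by
      rw [Scheme.residueFieldMap_comp]
      infer_instance
    have h2 : IsIso ((g ≫ pullback.fst f (Spec.map φ ≫ hU.fromSpec)).residueFieldMap pt) := by
      rw [Scheme.Hom.residueFieldMap_congr hfst]
      infer_instance
    rw [Scheme.residueFieldMap_comp] at h2
    exact IsIso.of_isIso_comp_right _ (g.residueFieldMap pt)
  · rintro z ⟨⟨Q, hQ⟩, heQ, rfl⟩ hz
    replace hz := (congrArg (fun h : Spec (CommRingCat.of (R ⊗[Γ(S, U)] Γ(X, V))) ⟶ Spec (CommRingCat.of R) => h ⟨Q, hQ⟩) hsnd).symm.trans ((Scheme.Hom.comp_apply _ _ _).trans hz)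
    have : Q.LiesOver P := ⟨(congrArg PrimeSpectrum.asIdeal hz).symm⟩
    exact congrArg g (PrimeSpectrum.ext (huniq Q hQ this heQ))

theorem bijective_comp {A B C : CommRingCat.{u}} {a : A ⟶ B} {b : B ⟶ C} (ha : Function.Bijective a)
    (hb : Function.Bijective b) : Function.Bijective (a ≫ b) := hb.comp ha

theorem bijective_fst {A B C : CommRingCat.{u}} {a : A ⟶ B} {b : B ⟶ C} (h : Function.Bijective (a ≫ b))
    (hb : Function.Injective b) : Function.Bijective a :=
  ⟨Function.Injective.of_comp (f := b) h.1, fun y => (h.2 (b y)).imp fun _ e => hb e⟩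

/-- Over a point with trivial residue extension, the fibre product has a unique point. -/
theorem exists_unique_point {P X U S : Scheme.{u}} {p : P ⟶ X} {q : P ⟶ U} {f : X ⟶ S} {g : U ⟶ S}
    (h : IsPullback p q f g) (x : X) (u : U) (hx : f x = g u) (hb : Function.Bijective (g.residueFieldMap u)) :
    ∃ v : P, p v = x ∧ q v = u ∧ Function.Bijective (p.residueFieldMap v) ∧
      ∀ w : P, p w = x → q w = u → w = v := by
  have hiso : IsIso (g.residueFieldMap u) := (ConcreteCategory.isIso_iff_bijective _).2 hb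
  have hj : Mono (U.fromSpecResidueField u ≫ g) := by
    rw [← Scheme.Hom.SpecMap_residueFieldMap_fromSpecResidueField]
    infer_instance
  let k : Spec (X.residueField x) ⟶ Spec (U.residueField u) :=
    Spec.map (inv (g.residueFieldMap u) ≫ (S.residueFieldCongr hx.symm).hom ≫ f.residueFieldMap x)
  have hk : k ≫ U.fromSpecResidueField u ≫ g = X.fromSpecResidueField x ≫ f := by
    rw [← Scheme.Hom.SpecMap_residueFieldMap_fromSpecResidueField,
      ← Scheme.Hom.SpecMap_residueFieldMap_fromSpecResidueField]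
    simp only [k, ← Spec.map_comp_assoc, IsIso.hom_inv_id_assoc]
    rw [Spec.map_comp_assoc, Scheme.residueFieldCongr_fromSpecResidueField]
  let l : Spec (X.residueField x) ⟶ P :=
    h.lift (X.fromSpecResidueField x) (k ≫ U.fromSpecResidueField u) (by rw [Category.assoc, hk])
  let pt : Spec (X.residueField x) := IsLocalRing.closedPoint (X.residueField x)
  have hlp : p (l pt) = x := by
    rw [← Scheme.Hom.comp_apply, h.lift_fst, Scheme.fromSpecResidueField_apply]
  have hlq : q (l pt) = u := by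
    rw [← Scheme.Hom.comp_apply, h.lift_snd, Scheme.Hom.comp_apply, Scheme.fromSpecResidueField_apply]
  have hfac : ∀ w : P, p w = x → q w = u → ∃ a : Spec (P.residueField w) ⟶ Spec (X.residueField x),
      a ≫ l = P.fromSpecResidueField w := by
    intro w hw₁ hw₂
    refine ⟨Spec.map ((X.residueFieldCongr hw₁.symm).hom ≫ p.residueFieldMap w), h.hom_ext ?_ ?_⟩
    · rw [Category.assoc, h.lift_fst, Spec.map_comp_assoc, Scheme.residueFieldCongr_fromSpecResidueField,
        Scheme.Hom.SpecMap_residueFieldMap_fromSpecResidueField]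
    · have hb' : Spec.map ((U.residueFieldCongr hw₂.symm).hom ≫ q.residueFieldMap w) ≫ U.fromSpecResidueField u =
          P.fromSpecResidueField w ≫ q := by
        rw [Spec.map_comp_assoc, Scheme.residueFieldCongr_fromSpecResidueField,
          Scheme.Hom.SpecMap_residueFieldMap_fromSpecResidueField]
      rw [Category.assoc, h.lift_snd, ← hb', ← Category.assoc]
      congr 1
      rw [← cancel_mono (U.fromSpecResidueField u ≫ g)]
      rw [Category.assoc, hk, reassoc_of% hb', ← h.w, Spec.map_comp_assoc,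
        Scheme.residueFieldCongr_fromSpecResidueField_assoc,
        Scheme.Hom.SpecMap_residueFieldMap_fromSpecResidueField_assoc]
  have huniq : ∀ w : P, p w = x → q w = u → w = l pt := by
    intro w hw₁ hw₂
    obtain ⟨a, ha⟩ := hfac w hw₁ hw₂
    conv_lhs => rw [← Scheme.fromSpecResidueField_apply w (IsLocalRing.closedPoint (P.residueField w)), ← ha]
    rw [Scheme.Hom.comp_apply]
    congr 1
    exact Subsingleton.elim _ _
  refine ⟨l pt, hlp, hlq, ?_, huniq⟩
  have h1 : Function.Bijective ((l ≫ p).residueFieldMap pt) := by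
    have := E4O.residueFieldMap_bijective_of_preimmersion (X.fromSpecResidueField x) pt
    rw [Scheme.Hom.residueFieldMap_congr (h.lift_fst _ _ _)]
    exact bijective_comp (ConcreteCategory.bijective_of_isIso _) this
  rw [Scheme.residueFieldMap_comp] at h1
  exact bijective_fst h1 (RingHom.injective _)

/-- The pieces we look for over an étale neighbourhood. -/
def HasFinitePart {X S U : Scheme.{u}} (f : X ⟶ S) (g : U ⟶ S) (u : U) (x : X) : Prop :=
  ∃ (V : (pullback f g).Opens) (v : ↑(pullback f g)), v ∈ V ∧ IsFinite (V.ι ≫ pullback.snd f g) ∧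
    pullback.snd f g v = u ∧ (∀ w : ↑(pullback f g), w ∈ V → pullback.snd f g w = u → w = v) ∧
    pullback.fst f g v = x ∧ Function.Bijective ((pullback.fst f g).residueFieldMap v)

variable {X S : Scheme.{u}} (f : X ⟶ S)

theorem exists_hasFinitePart [LocallyOfFiniteType f] (x : X) (hx : f.QuasiFiniteAt x) :
    ∃ (U : Scheme.{u}) (g : U ⟶ S) (u : U), Hens2.IsEtaleNbhd g u (f x) ∧ HasFinitePart f g u x := by
  obtain ⟨U, g, u, hg, hu, hb, V, v, hv, hfin, hvx, hvu, hiso, huniq⟩ := exists_elementary_nbhd f x hx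
  exact ⟨U, g, u, ⟨hg, hu, hb⟩, V, v, hv, hfin, hvu, huniq, hvx,
    (ConcreteCategory.isIso_iff_bijective _).1 hiso⟩

theorem HasFinitePart.refine {U U' : Scheme.{u}} {g : U ⟶ S} {u : U} {x : X} (h : HasFinitePart f g u x)
    (c : U' ⟶ U) (u' : U') (hu' : c u' = u) (hc : Function.Bijective (c.residueFieldMap u')) :
    HasFinitePart f (c ≫ g) u' x := by
  obtain ⟨V, v, hv, hfin, hvu, huniq, hvx, hb⟩ := h
  let π : pullback f (c ≫ g) ⟶ pullback f g :=
    pullback.map f (c ≫ g) f g (𝟙 X) c (𝟙 S) (by simp) (by simp)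
  have hπ₁ : π ≫ pullback.fst f g = pullback.fst f (c ≫ g) := (pullback.lift_fst _ _ _).trans (Category.comp_id _)
  have hsq : IsPullback π (pullback.snd f (c ≫ g)) (pullback.snd f g) c :=
    IsPullback.of_right (by rw [hπ₁]; exact IsPullback.of_hasPullback f (c ≫ g))
      (pullback.lift_snd _ _ _) (IsPullback.of_hasPullback f g)
  obtain ⟨v', hv'₁, hv'₂, hb', huniq'⟩ := exists_unique_point hsq v u' (hvu.trans hu'.symm) hc
  refine ⟨π ⁻¹ᵁ V, v', show π v' ∈ V from hv'₁ ▸ hv, ?_, hv'₂, fun w hw hwu => ?_, ?_, ?_⟩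
  · exact MorphismProperty.of_isPullback
      (((isPullback_morphismRestrict π V).flip.paste_horiz hsq.flip).flip) hfin
  · refine huniq' w (huniq _ hw ?_) hwu
    rw [← Scheme.Hom.comp_apply, hsq.w, Scheme.Hom.comp_apply, hwu, hu']
  · rw [← hπ₁, Scheme.Hom.comp_apply, hv'₁, hvx]
  · rw [Scheme.Hom.residueFieldMap_congr hπ₁.symm, Scheme.residueFieldMap_comp]
    refine bijective_comp (ConcreteCategory.bijective_of_isIso _) ?_
    subst hv'₁
    exact bijective_comp hb hb'

/-- Finite families of quasi-finite points over one point. -/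
theorem exists_hasFiniteParts [LocallyOfFiniteType f] (s : S) {ι : Type} [Finite ι] (x : ι → ↑X)
    (hs : ∀ i, f (x i) = s) (hx : ∀ i, f.QuasiFiniteAt (x i)) :
    ∃ (U : Scheme.{u}) (g : U ⟶ S) (u : U), Hens2.IsEtaleNbhd g u s ∧ ∀ i, HasFinitePart f g u (x i) := by
  classical
  suffices H : ∀ t : Finset ι, ∃ (U : Scheme.{u}) (g : U ⟶ S) (u : U), Hens2.IsEtaleNbhd g u s ∧
      ∀ i ∈ t, HasFinitePart f g u (x i) by
    haveI := Fintype.ofFinite ι
    obtain ⟨U, g, u, h₁, h₂⟩ := H Finset.univ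
    exact ⟨U, g, u, h₁, fun i => h₂ i (Finset.mem_univ i)⟩
  intro t
  induction t using Finset.induction_on with
  | empty =>
    refine ⟨S, 𝟙 S, s, ⟨inferInstance, rfl, ?_⟩, fun i hi => absurd hi (Finset.notMem_empty i)⟩
    rw [Scheme.residueFieldMap_id]
    exact Function.bijective_id
  | @insert i t hit ih =>
    obtain ⟨U₁, g₁, u₁, h₁, hp₁⟩ := ih
    obtain ⟨U₂, g₂, u₂, h₂, hp₂⟩ := exists_hasFinitePart f (x i) (hx i)
    haveI := h₁.etale
    haveI := h₂.etale
    obtain ⟨w, hw₁, hw₂, hb₁, -⟩ := exists_unique_point (IsPullback.of_hasPullback g₁ g₂) u₁ u₂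
      (h₁.base_eq.trans ((hs i).symm.trans h₂.base_eq.symm)) h₂.residue_bijective
    obtain ⟨w', hw'₂, hw'₁, hb₂, hu⟩ := exists_unique_point (IsPullback.of_hasPullback g₁ g₂).flip u₂ u₁
      ((h₁.base_eq.trans ((hs i).symm.trans h₂.base_eq.symm)).symm) h₁.residue_bijective
    obtain rfl : w = w' := hu w hw₂ hw₁
    refine ⟨pullback g₁ g₂, pullback.fst g₁ g₂ ≫ g₁, w, ⟨inferInstance, ?_, ?_⟩, fun j hj => ?_⟩
    · rw [Scheme.Hom.comp_apply, hw₁]; exact h₁.base_eq
    · rw [Scheme.residueFieldMap_comp]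
      subst hw₁
      exact bijective_comp h₁.residue_bijective hb₁
    · rcases Finset.mem_insert.mp hj with rfl | hj
      · rw [pullback.condition]
        exact hp₂.refine f _ w hw₂ hb₂
      · exact (hp₁ j hj).refine f _ w hw₁ hb₁

end Groth.Agent.FlatMor66
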