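import Mathlib
import Groth.Agent.FlatMor67.FlatMul

/-!
Localisations of tensor products of algebras and flatness.
-/

set_option autoImplicit false
set_option backward.isDefEq.respectTransparency.types false
universe u

namespace Groth.Agent.FlatMor66

open TensorProduct

lemma lmul'_flat_of_ringHom_ext {D T : Type u} [CommRing D] [CommRing T] [Algebra D T]
    (h : ∀ (R : Type u) [CommRing R] (φ ψ : T →+* R), φ.comp (algebraMap D T) = ψ.comp (algebraMap D T) → φ = ψ) :
    (Algebra.TensorProduct.lmul' D (S := T)).Flat := by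
  have e : ∀ t : T, (1 : T) ⊗ₜ[D] t = t ⊗ₜ[D] 1 := fun t => (DFunLike.congr_fun (h (T ⊗[D] T)
    Algebra.TensorProduct.includeLeftRingHom (Algebra.TensorProduct.includeRight : T →ₐ[D] T ⊗[D] T).toRingHom
    (RingHom.ext fun d => by
      show (algebraMap D T d) ⊗ₜ[D] (1 : T) = (1 : T) ⊗ₜ[D] (algebraMap D T d)
      rw [Algebra.algebraMap_eq_smul_one, TensorProduct.smul_tmul])) t).symm
  have e2 : ∀ z : T ⊗[D] T, (Algebra.TensorProduct.lmul' D z) ⊗ₜ[D] (1 : T) = z := fun z => by
    induction z using TensorProduct.induction_on with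
    | zero => rw [map_zero, TensorProduct.zero_tmul]
    | add a b ha hb => rw [map_add, TensorProduct.add_tmul, ha, hb]
    | tmul a b =>
      rw [Algebra.TensorProduct.lmul'_apply_tmul,
        show (a * b) ⊗ₜ[D] (1 : T) = (a ⊗ₜ[D] 1) * (b ⊗ₜ[D] 1) by
          rw [Algebra.TensorProduct.tmul_mul_tmul, mul_one],
        ← e b, Algebra.TensorProduct.tmul_mul_tmul, one_mul, mul_one]
  refine RingHom.Flat.of_bijective ⟨fun x y hxy => ?_, fun t => ⟨t ⊗ₜ 1, by simp⟩⟩
  rw [← e2 x, ← e2 y]
  exact congrArg (· ⊗ₜ[D] (1 : T)) hxy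

section

variable {A B C : Type u} [CommRing A] [CommRing B] [CommRing C] [Algebra A B] [Algebra A C]
  {A' B' C' : Type u} [CommRing A'] [CommRing B'] [CommRing C'] [Algebra A' B'] [Algebra A' C']
  [Algebra A A'] [Algebra B B'] [Algebra C C'] [Algebra A B'] [Algebra A C']
  [IsScalarTower A A' B'] [IsScalarTower A B B'] [IsScalarTower A A' C'] [IsScalarTower A C C']
  (MB : Submonoid B) [IsLocalization MB B'] (MC : Submonoid C) [IsLocalization MC C']

include MB MC in
/-- An algebra over the tensor product of localisations which is flat over the tensor product is flat over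
the tensor product of localisations. -/
theorem flat_tensor_localization {M : Type u} [CommRing M] (τ : B' ⊗[A'] C' →+* M)
    (j : B ⊗[A] C →+* M) (hjB : ∀ b, j (b ⊗ₜ 1) = τ (algebraMap B B' b ⊗ₜ 1))
    (hjC : ∀ c, j (1 ⊗ₜ c) = τ (1 ⊗ₜ algebraMap C C' c)) (hj : j.Flat) : τ.Flat := by
  let δ : B ⊗[A] C →ₐ[A] B' ⊗[A'] C' :=
    Algebra.TensorProduct.lift
      (((Algebra.TensorProduct.includeLeft : B' →ₐ[A'] B' ⊗[A'] C').restrictScalars A).comp
        (IsScalarTower.toAlgHom A B B'))
      (((Algebra.TensorProduct.includeRight : C' →ₐ[A'] B' ⊗[A'] C').restrictScalars A).comp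
        (IsScalarTower.toAlgHom A C C'))
      (fun _ _ => Commute.all _ _)
  letI : Algebra (B ⊗[A] C) (B' ⊗[A'] C') := δ.toRingHom.toAlgebra
  letI : Algebra (B' ⊗[A'] C') M := τ.toAlgebra
  letI : Algebra (B ⊗[A] C) M := j.toAlgebra
  have hδl : ∀ b : B, δ (b ⊗ₜ 1) = algebraMap B B' b ⊗ₜ[A'] 1 := fun b => by simp [δ]
  have hδr : ∀ c : C, δ (1 ⊗ₜ c) = (1 : B') ⊗ₜ[A'] algebraMap C C' c := fun c => by simp [δ]
  have hjδ : j = τ.comp δ.toRingHom :=
    RingHom.ext fun z => by
      induction z using TensorProduct.induction_on with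
      | zero => simp
      | add a b ha hb => simp only [map_add, ha, hb]
      | tmul b c =>
        rw [show b ⊗ₜ[A] c = (b ⊗ₜ[A] (1 : C)) * ((1 : B) ⊗ₜ[A] c) by simp, map_mul, map_mul, hjB, hjC]
        show τ _ * τ _ = τ (δ _) * τ (δ _)
        rw [hδl, hδr]
  have : IsScalarTower (B ⊗[A] C) (B' ⊗[A'] C') M := .of_algebraMap_eq' hjδ
  have hmul := lmul'_flat_of_ringHom_ext (D := B ⊗[A] C) (T := B' ⊗[A'] C') fun R _ φ ψ h => by
    have hB : φ.comp Algebra.TensorProduct.includeLeftRingHom = ψ.comp Algebra.TensorProduct.includeLeftRingHom := by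
      refine IsLocalization.ringHom_ext MB (RingHom.ext fun b => ?_)
      have := DFunLike.congr_fun h (b ⊗ₜ[A] (1 : C))
      change φ (δ _) = ψ (δ _) at this
      rwa [hδl] at this
    have hC : φ.comp (Algebra.TensorProduct.includeRight : C' →ₐ[A'] B' ⊗[A'] C').toRingHom =
        ψ.comp (Algebra.TensorProduct.includeRight : C' →ₐ[A'] B' ⊗[A'] C').toRingHom := by
      refine IsLocalization.ringHom_ext MC (RingHom.ext fun c => ?_)
      have := DFunLike.congr_fun h ((1 : B) ⊗ₜ[A] c)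
      change φ (δ _) = ψ (δ _) at this
      rwa [hδr] at this
    refine RingHom.ext fun z => ?_
    induction z using TensorProduct.induction_on with
    | zero => simp
    | add a b ha hb => simp only [map_add, ha, hb]
    | tmul b c =>
      rw [show b ⊗ₜ[A'] c = (b ⊗ₜ[A'] (1 : C')) * ((1 : B') ⊗ₜ[A'] c) by simp, map_mul, map_mul]
      exact congrArg₂ (· * ·) (DFunLike.congr_fun hB b) (DFunLike.congr_fun hC c)
  have : Module.Flat (B ⊗[A] C) M := hj
  exact FlatMor67.flat_of_flat_lmul' hmul M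

end

section

variable {R R' B F : Type u} [CommRing R] [CommRing R'] [CommRing B] [Algebra R R'] [Algebra R B]
  [AddCommGroup F] [Module R F] [Module B F] [IsScalarTower R B F]

/-- A flat module stays flat after base change, computed over the tensor product of the rings. -/
theorem flat_tensor_baseChange [Module.Flat R F] :
    letI : Algebra R' (B ⊗[R] R') := (Algebra.TensorProduct.includeRight : R' →ₐ[R] B ⊗[R] R').toRingHom.toAlgebra
    Module.Flat R' ((B ⊗[R] R') ⊗[B] F) := by
  letI : Algebra R' (B ⊗[R] R') := (Algebra.TensorProduct.includeRight : R' →ₐ[R] B ⊗[R] R').toRingHom.toAlgebra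
  have : IsScalarTower R R' (B ⊗[R] R') := .of_algebraMap_eq fun r =>
    ((Algebra.TensorProduct.includeRight : R' →ₐ[R] B ⊗[R] R').commutes r).symm
  have hsm : ∀ (r' : R') (b : B) (s : R'), r' • (b ⊗ₜ[R] s) = b ⊗ₜ[R] (r' * s) := fun r' b s => by
    rw [Algebra.smul_def]
    show ((1 : B) ⊗ₜ[R] r') * (b ⊗ₜ[R] s) = _
    simp
  let φ : R' →ₗ[R'] B ⊗[R] R' := Algebra.linearMap R' (B ⊗[R] R')
  let ψ₀ : F →ₗ[R] ((B ⊗[R] R') ⊗[B] F) := (TensorProduct.mk B (B ⊗[R] R') F 1).restrictScalars R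
  let ψ : R' ⊗[R] F →ₗ[R'] ((B ⊗[R] R') ⊗[B] F) :=
    AlgebraTensorModule.lift ((LinearMap.toSpanSingleton R' (F →ₗ[R] ((B ⊗[R] R') ⊗[B] F)) ψ₀))
  have hψ : ∀ r' f, ψ (r' ⊗ₜ f) = ((1 : B) ⊗ₜ[R] r') ⊗ₜ[B] f := fun r' f => by
    show r' • (((1 : B ⊗[R] R') ⊗ₜ[B] f)) = _
    rw [TensorProduct.smul_tmul', Algebra.TensorProduct.one_def, hsm, mul_one]
  let e : ((B ⊗[R] R') ⊗[B] F) ≃ₗ[R] R' ⊗[R] F :=
    ((TensorProduct.comm B (B ⊗[R] R') F).restrictScalars R) ≪≫ₗ
      ((AlgebraTensorModule.cancelBaseChange R B B F R').restrictScalars R) ≪≫ₗ TensorProduct.comm R F R'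
  have he : ∀ z, e (ψ z) = z := fun z => by
    induction z using TensorProduct.induction_on with
    | zero => simp
    | add a b ha hb => simp only [map_add, ha, hb]
    | tmul r f => rw [hψ]; simp [e]
  have hb : Function.Bijective ψ := by
    refine ⟨Function.LeftInverse.injective he, fun y => ⟨e y, e.injective (he _)⟩⟩
  have : Module.Flat R' (R' ⊗[R] F) := Module.Flat.baseChange R R' F
  exact Module.Flat.of_linearEquiv (LinearEquiv.ofBijective ψ hb).symm

end

end Groth.Agent.FlatMor66
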