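import Groth.Agent.FibCrit57.OfModel
import Groth.Agent.FlatMor66.EpiLoc
import Groth.Agent.FlatMor68.PullbackStalk

/-!
The fibre criterion of flatness at a point, given a Noetherian model.
-/

set_option autoImplicit false
set_option linter.style.haveILetI false
universe u

open TensorProduct

noncomputable section

namespace Groth.Agent.FlatMor66

attribute [local instance] Algebra.TensorProduct.rightAlgebra

/-- The comparison map of tensor products of residue fields with a pushout is flat. -/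
theorem exists_flat_fibre_map {D R k₁ k B₁ B : Type u} [CommRing D] [CommRing R] [Field k₁] [Field k] [CommRing B₁]
    [CommRing B] [Algebra D R] [Algebra D B₁] [Algebra R B] [Algebra B₁ B] [Algebra D B] [IsScalarTower D R B]
    [IsScalarTower D B₁ B] [Algebra.IsPushout D R B₁ B] [Algebra D k₁] [Algebra R k] [Algebra D k] [Algebra k₁ k]
    [IsScalarTower D R k] [IsScalarTower D k₁ k] :
    ∃ φ : k₁ ⊗[D] B₁ →+* k ⊗[R] B, φ.Flat ∧
      ∀ a b, φ (a ⊗ₜ b) = algebraMap k₁ k a ⊗ₜ algebraMap B₁ B b := by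
  let f₁ : k₁ ⊗[D] B₁ →+* k ⊗[D] B₁ :=
    (Algebra.TensorProduct.map (IsScalarTower.toAlgHom D k₁ k) (AlgHom.id D B₁)).toRingHom
  let e₁ : k ⊗[R] (R ⊗[D] B₁) ≃ₐ[k] k ⊗[D] B₁ := Algebra.TensorProduct.cancelBaseChange D R k k B₁
  let e₂ : k ⊗[R] (R ⊗[D] B₁) ≃ₐ[k] k ⊗[R] B :=
    Algebra.TensorProduct.congr AlgEquiv.refl (Algebra.IsPushout.equiv D R B₁ B)
  refine ⟨((e₁.symm.trans e₂).toRingEquiv.toRingHom).comp f₁, RingHom.Flat.comp ?_
    (RingHom.Flat.of_bijective (e₁.symm.trans e₂).bijective), fun a b => ?_⟩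
  · exact RingHom.Flat.tensorProductMap (RingHom.flat_algebraMap_iff.mpr (inferInstance : Module.Flat k₁ k))
      (RingHom.Flat.of_bijective Function.bijective_id)
  · have h : e₁.symm (algebraMap k₁ k a ⊗ₜ b) = algebraMap k₁ k a ⊗ₜ[R] ((1 : R) ⊗ₜ[D] b) := by
      rw [AlgEquiv.symm_apply_eq]
      simp [e₁]
    show e₂ (e₁.symm (algebraMap k₁ k a ⊗ₜ b)) = _
    rw [h]
    simp [e₂, Algebra.IsPushout.equiv_tmul]

/-- The fibre of a local ring over the residue field of a point below the closed one is a quotient. -/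
theorem includeRight_residueField_surjective {R L : Type u} [CommRing R] [CommRing L] [Algebra R L] (p : Ideal R) [p.IsPrime]
    (hu : ∀ s ∉ p, IsUnit (algebraMap R L s)) :
    Function.Surjective (Algebra.TensorProduct.includeRight : L →ₐ[R] p.ResidueField ⊗[R] L) := fun z => by
  induction z using TensorProduct.induction_on with
  | zero => exact ⟨0, map_zero _⟩
  | add a b ha hb =>
    obtain ⟨a, rfl⟩ := ha; obtain ⟨b, rfl⟩ := hb
    exact ⟨a + b, map_add _ _ _⟩
  | tmul a l =>
    obtain ⟨⟨x, s⟩, hxs⟩ := IsLocalization.surj (nonZeroDivisors (R ⧸ p)) a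
    obtain ⟨x, rfl⟩ := Ideal.Quotient.mk_surjective x
    obtain ⟨s₀, hs₀⟩ := Ideal.Quotient.mk_surjective (s : R ⧸ p)
    have hs : s₀ ∉ p := fun h => nonZeroDivisors.coe_ne_zero s (hs₀ ▸ Ideal.Quotient.eq_zero_iff_mem.mpr h)
    obtain ⟨u, hu⟩ := hu s₀ hs
    refine ⟨x • ((↑u⁻¹ : L) * l), ?_⟩
    have hsa : s₀ • a = x • (1 : p.ResidueField) := by
      rw [Algebra.smul_def, Algebra.smul_def, mul_one, mul_comm,
        IsScalarTower.algebraMap_apply R (R ⧸ p) p.ResidueField, IsScalarTower.algebraMap_apply R (R ⧸ p) p.ResidueField,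
        Ideal.Quotient.algebraMap_eq, hs₀]
      exact hxs
    have hsl : s₀ • ((↑u⁻¹ : L) * l) = l := by
      rw [Algebra.smul_def, ← hu, Units.mul_inv_cancel_left]
    show (1 : p.ResidueField) ⊗ₜ[R] (x • ((↑u⁻¹ : L) * l)) = a ⊗ₜ[R] l
    conv_rhs => rw [← hsl, ← TensorProduct.smul_tmul, hsa]
    rw [TensorProduct.smul_tmul]

/-- `E ⊗ L` computed over the fibre of `B`. -/
theorem flat_fibre_reassoc {D k B L : Type u} [CommRing D] [CommRing k] [CommRing B] [CommRing L] [Algebra D k]
    [Algebra D B] [Algebra D L] [Algebra B L] [IsScalarTower D B L]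
    (h : ((Algebra.TensorProduct.map (AlgHom.id D k) (IsScalarTower.toAlgHom D B L)).toRingHom).Flat) :
    Module.Flat (k ⊗[D] B) ((k ⊗[D] B) ⊗[B] L) := by
  letI : Algebra (k ⊗[D] B) (k ⊗[D] L) :=
    (Algebra.TensorProduct.map (AlgHom.id D k) (IsScalarTower.toAlgHom D B L)).toRingHom.toAlgebra
  letI : Algebra B (k ⊗[D] L) := ((algebraMap L (k ⊗[D] L)).comp (algebraMap B L)).toAlgebra
  have : IsScalarTower B L (k ⊗[D] L) := .of_algebraMap_eq' rfl
  have : IsScalarTower B (k ⊗[D] B) (k ⊗[D] L) := .of_algebraMap_eq fun b => by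
    show (1 : k) ⊗ₜ[D] algebraMap B L b = Algebra.TensorProduct.map _ _ ((1 : k) ⊗ₜ[D] b)
    simp
  have hflat : Module.Flat (k ⊗[D] B) (k ⊗[D] L) := h
  let ψ : (k ⊗[D] B) ⊗[B] L →ₗ[k ⊗[D] B] k ⊗[D] L :=
    AlgebraTensorModule.lift (LinearMap.toSpanSingleton (k ⊗[D] B) (L →ₗ[B] k ⊗[D] L)
      (IsScalarTower.toAlgHom B L (k ⊗[D] L)).toLinearMap)
  have hψ : ∀ a b l, ψ ((a ⊗ₜ[D] b) ⊗ₜ[B] l) = a ⊗ₜ[D] (algebraMap B L b * l) := fun a b l => by
    show (Algebra.TensorProduct.map (AlgHom.id D k) (IsScalarTower.toAlgHom D B L)) (a ⊗ₜ[D] b) * ((1 : k) ⊗ₜ[D] l) = _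
    simp
  let e : (k ⊗[D] L) →ₗ[D] (k ⊗[D] B) ⊗[B] L :=
    TensorProduct.lift (LinearMap.mk₂ D (fun a l => (a ⊗ₜ[D] (1 : B)) ⊗ₜ[B] l)
      (fun a a' l => by rw [add_tmul, add_tmul]) (fun r a l => by rw [← smul_tmul', ← smul_tmul'])
      (fun a l l' => tmul_add _ _ _) (fun r a l => by rw [tmul_smul]))
  have he : ∀ a l, e (a ⊗ₜ l) = (a ⊗ₜ[D] (1 : B)) ⊗ₜ[B] l := fun a l => rfl
  have h1 : ∀ z, ψ (e z) = z := fun z => by
    induction z using TensorProduct.induction_on with
    | zero => simp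
    | add x y hx hy => simp only [map_add, hx, hy]
    | tmul a l => rw [he, hψ, map_one, one_mul]
  have h2 : ∀ z, e (ψ z) = z := fun z => by
    induction z using TensorProduct.induction_on with
    | zero => simp
    | add x y hx hy => simp only [map_add, hx, hy]
    | tmul u l =>
      induction u using TensorProduct.induction_on with
      | zero => simp
      | add x y hx hy => simp only [add_tmul, map_add, hx, hy]
      | tmul a b =>
        rw [hψ, he, ← Algebra.smul_def, ← TensorProduct.smul_tmul]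
        congr 1
        rw [Algebra.smul_def]
        show ((1 : k) ⊗ₜ[D] b) * (a ⊗ₜ[D] (1 : B)) = _
        rw [Algebra.TensorProduct.tmul_mul_tmul, one_mul, mul_one]
  exact Module.Flat.of_linearEquiv (LinearEquiv.ofBijective ψ ⟨Function.LeftInverse.injective h2, fun z => ⟨e z, h1 z⟩⟩)

/-- **Fibre criterion at a point**, given a Noetherian model. -/
theorem flat_of_model_at {D R B₁ B C₁ C : Type u} [CommRing D] [CommRing R] [CommRing B₁]
    [CommRing B] [CommRing C₁] [CommRing C] [Algebra D R] [Algebra D B₁] [Algebra R B] [Algebra B₁ B]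
    [Algebra D B] [IsScalarTower D R B] [IsScalarTower D B₁ B] [Algebra.IsPushout D R B₁ B]
    [Algebra B₁ C₁] [Algebra B C] [Algebra B₁ C] [Algebra C₁ C] [IsScalarTower B₁ B C]
    [IsScalarTower B₁ C₁ C] [Algebra.IsPushout B₁ B C₁ C]
    [Algebra R C] [IsScalarTower R B C] [Algebra D C₁] [IsScalarTower D B₁ C₁]
    [IsNoetherianRing D] [IsNoetherianRing B₁] [IsNoetherianRing C₁] [Module.Flat D C₁]
    (Q : Ideal C) [Q.IsPrime]
    (hfib : ((Algebra.TensorProduct.map (AlgHom.id R ((Q.under B).under R).ResidueField)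
      (IsScalarTower.toAlgHom R B (Localization.AtPrime Q))).toRingHom).Flat) :
    Module.Flat B (Localization.AtPrime Q) := by
  let L := Localization.AtPrime Q
  let Q₁ := Q.under C₁
  let L₁ := Localization.AtPrime Q₁
  let p := (Q.under B).under R
  let p₁ := (Q₁.under B₁).under D
  have hp : p₁ = p.under D := by
    ext x
    simp only [p₁, p, Q₁, Ideal.under_def, Ideal.mem_comap]
    rw [← IsScalarTower.algebraMap_apply D R B, IsScalarTower.algebraMap_apply D B₁ B,
      ← IsScalarTower.algebraMap_apply B₁ B C, ← IsScalarTower.algebraMap_apply B₁ C₁ C]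
  let k := p.ResidueField
  let k₁ := p₁.ResidueField
  letI : Algebra k₁ k := (Ideal.ResidueField.map p₁ p (algebraMap D R) hp).toAlgebra
  haveI : IsScalarTower D k₁ k := .of_algebraMap_eq fun x => by
    rw [RingHom.algebraMap_toAlgebra, IsScalarTower.algebraMap_apply D R k]
    exact (Ideal.ResidueField.map_algebraMap ..).symm
  letI : Algebra D C := ((algebraMap B C).comp (algebraMap D B)).toAlgebra
  haveI : IsScalarTower D B C := .of_algebraMap_eq' rfl
  haveI : IsScalarTower D C₁ C := .of_algebraMap_eq fun x => by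
    rw [IsScalarTower.algebraMap_apply D B C, IsScalarTower.algebraMap_apply D B₁ B,
      IsScalarTower.algebraMap_apply D B₁ C₁, ← IsScalarTower.algebraMap_apply B₁ C₁ C,
      ← IsScalarTower.algebraMap_apply B₁ B C]
  haveI : IsScalarTower D R C := .of_algebraMap_eq fun x => by
    rw [IsScalarTower.algebraMap_apply D B C, IsScalarTower.algebraMap_apply R B C,
      IsScalarTower.algebraMap_apply D R B]
  haveI : Algebra.IsPushout B₁ C₁ B C := Algebra.IsPushout.symm inferInstance
  haveI : Algebra.IsPushout D B₁ R B := Algebra.IsPushout.symm inferInstance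
  haveI : Algebra.IsPushout D R C₁ C := by
    exact Algebra.IsPushout.symm ((Algebra.IsPushout.comp_iff D B₁ R B (T := C₁) (T' := C)).2 inferInstance)
  -- the local map
  letI : Algebra L₁ L := (Localization.localRingHom Q₁ Q (algebraMap C₁ C) rfl).toAlgebra
  haveI : IsScalarTower C₁ L₁ L := .of_algebraMap_eq fun x => by
    rw [RingHom.algebraMap_toAlgebra, Localization.localRingHom_to_map, ← IsScalarTower.algebraMap_apply C₁ C L]
  haveI : IsLocalHom (algebraMap L₁ L) := Localization.isLocalHom_localRingHom Q₁ Q (algebraMap C₁ C) rfl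
  -- the fibre rings
  let E₁ := k₁ ⊗[D] L₁
  let E := k ⊗[R] L
  obtain ⟨φB, hφB, hφBt⟩ := exists_flat_fibre_map (D := D) (R := R) (k₁ := k₁) (k := k) (B₁ := B₁) (B := B)
  obtain ⟨φC, hφC, hφCt⟩ := exists_flat_fibre_map (D := D) (R := R) (k₁ := k₁) (k := k) (B₁ := C₁) (B := C)
  let εB : k ⊗[R] B →+* E := (Algebra.TensorProduct.map (AlgHom.id R k) (IsScalarTower.toAlgHom R B L)).toRingHom
  let εC : k ⊗[R] C →+* E := (Algebra.TensorProduct.map (AlgHom.id R k) (IsScalarTower.toAlgHom R C L)).toRingHom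
  have hεC : εC.Flat := RingHom.Flat.tensorProductMap (RingHom.Flat.of_bijective Function.bijective_id)
    (RingHom.flat_algebraMap_iff.mpr (inferInstanceAs (Module.Flat C (Localization.AtPrime Q))))
  let εB₁ : k₁ ⊗[D] B₁ →+* E₁ := (Algebra.TensorProduct.map (AlgHom.id D k₁) (IsScalarTower.toAlgHom D B₁ L₁)).toRingHom
  let εC₁ : k₁ ⊗[D] C₁ →+* E₁ := (Algebra.TensorProduct.map (AlgHom.id D k₁) (IsScalarTower.toAlgHom D C₁ L₁)).toRingHom
  let γ : E₁ →+* E := (Algebra.TensorProduct.lift
    (((Algebra.TensorProduct.includeLeft : k →ₐ[R] k ⊗[R] L).restrictScalars D).comp (IsScalarTower.toAlgHom D k₁ k))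
    (((Algebra.TensorProduct.includeRight : L →ₐ[R] k ⊗[R] L).restrictScalars D).comp
      { algebraMap L₁ L with
        commutes' := fun x => by
          show algebraMap L₁ L (algebraMap D L₁ x) = algebraMap D L x
          rw [IsScalarTower.algebraMap_apply D C₁ L₁, ← IsScalarTower.algebraMap_apply C₁ L₁ L,
            IsScalarTower.algebraMap_apply C₁ C L, ← IsScalarTower.algebraMap_apply D C₁ C,
            ← IsScalarTower.algebraMap_apply D C L] })
    (fun _ _ => Commute.all _ _)).toRingHom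
  have hγ : ∀ a l, γ (a ⊗ₜ l) = algebraMap k₁ k a ⊗ₜ algebraMap L₁ L l := fun a l => by
    show (algebraMap k₁ k a ⊗ₜ[R] (1 : L)) * ((1 : k) ⊗ₜ[R] algebraMap L₁ L l) = _
    rw [Algebra.TensorProduct.tmul_mul_tmul, mul_one, one_mul]
  have sqC : γ.comp εC₁ = εC.comp φC := RingHom.ext fun z => by
    induction z using TensorProduct.induction_on with
    | zero => simp
    | add x y hx hy => simp only [map_add, hx, hy]
    | tmul a c =>
      show γ (a ⊗ₜ algebraMap C₁ L₁ c) = εC (φC (a ⊗ₜ c))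
      rw [hγ, hφCt, ← IsScalarTower.algebraMap_apply C₁ L₁ L]
      simp [εC, ← IsScalarTower.algebraMap_apply C₁ C L]
  have sqB : γ.comp εB₁ = εB.comp φB := RingHom.ext fun z => by
    induction z using TensorProduct.induction_on with
    | zero => simp
    | add x y hx hy => simp only [map_add, hx, hy]
    | tmul a c =>
      show γ (a ⊗ₜ algebraMap B₁ L₁ c) = εB (φB (a ⊗ₜ c))
      rw [hγ, hφBt, IsScalarTower.algebraMap_apply B₁ C₁ L₁, ← IsScalarTower.algebraMap_apply C₁ L₁ L,
        IsScalarTower.algebraMap_apply C₁ C L, ← IsScalarTower.algebraMap_apply B₁ C₁ C]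
      simp [εB, IsScalarTower.algebraMap_apply B C L, ← IsScalarTower.algebraMap_apply B₁ B C]
  letI : Algebra E₁ E := γ.toAlgebra
  -- `E` is flat over `E₁`
  haveI hE : Module.Flat E₁ E := by
    letI : Algebra (k₁ ⊗[D] C₁) E₁ := εC₁.toAlgebra
    letI : Algebra (k₁ ⊗[D] C₁) E := (γ.comp εC₁).toAlgebra
    haveI : IsScalarTower (k₁ ⊗[D] C₁) E₁ E := .of_algebraMap_eq' rfl
    haveI : Module.Flat (k₁ ⊗[D] C₁) E := by
      show (γ.comp εC₁).Flat
      rw [sqC]
      exact RingHom.Flat.comp hφC hεC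
    refine FlatMor67.flat_of_flat_lmul' (lmul'_flat_of_ringHom_ext (D := k₁ ⊗[D] C₁) (T := E₁) fun T _ φ ψ h => ?_) E
    have h' : ∀ (a : k₁) (c : C₁), φ (a ⊗ₜ algebraMap C₁ L₁ c) = ψ (a ⊗ₜ algebraMap C₁ L₁ c) := fun a c =>
      DFunLike.congr_fun h (a ⊗ₜ c)
    have hL : φ.comp (Algebra.TensorProduct.includeRight : L₁ →ₐ[D] E₁).toRingHom =
        ψ.comp (Algebra.TensorProduct.includeRight : L₁ →ₐ[D] E₁).toRingHom :=
      IsLocalization.ringHom_ext Q₁.primeCompl (RingHom.ext fun c => h' 1 c)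
    refine RingHom.ext fun z => ?_
    induction z using TensorProduct.induction_on with
    | zero => simp
    | add x y hx hy => simp only [map_add, hx, hy]
    | tmul a l =>
      rw [show a ⊗ₜ[D] l = (a ⊗ₜ[D] (1 : L₁)) * ((1 : k₁) ⊗ₜ[D] l) by simp, map_mul, map_mul]
      refine congrArg₂ (· * ·) ?_ (DFunLike.congr_fun hL l)
      simpa using h' a 1
  -- both are local, and the map is local
  have hsurj : Function.Surjective (Algebra.TensorProduct.includeRight : L →ₐ[R] E) :=
    includeRight_residueField_surjective p fun s hs => by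
      rw [IsScalarTower.algebraMap_apply R C L]
      refine IsLocalization.map_units L (⟨_, fun h => hs ?_⟩ : Q.primeCompl)
      show algebraMap B C (algebraMap R B s) ∈ Q
      rw [← IsScalarTower.algebraMap_apply R B C]
      exact h
  have hsurj₁ : Function.Surjective (Algebra.TensorProduct.includeRight : L₁ →ₐ[D] E₁) :=
    includeRight_residueField_surjective p₁ fun s hs => by
      rw [IsScalarTower.algebraMap_apply D C₁ L₁]
      refine IsLocalization.map_units L₁ (⟨_, fun h => hs ?_⟩ : Q₁.primeCompl)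
      show algebraMap B₁ C₁ (algebraMap D B₁ s) ∈ Q₁
      rw [← IsScalarTower.algebraMap_apply D B₁ C₁]
      exact h
  haveI : Nontrivial E := by
    have hpQ : p = Q.comap (algebraMap R C) := by
      rw [IsScalarTower.algebraMap_eq R B C, ← Ideal.comap_comap]
    let χ : E →ₐ[R] Q.ResidueField := Algebra.TensorProduct.lift
      { Ideal.ResidueField.map p Q (algebraMap R C) hpQ with
        commutes' := fun r => (Ideal.ResidueField.map_algebraMap ..).trans
          (IsScalarTower.algebraMap_apply R C Q.ResidueField r).symm }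
      (IsScalarTower.toAlgHom R L Q.ResidueField) fun _ _ => Commute.all _ _
    exact RingHom.domain_nontrivial χ.toRingHom
  haveI : Nontrivial E₁ := RingHom.domain_nontrivial γ
  haveI : IsLocalRing E := IsLocalRing.of_surjective' (Algebra.TensorProduct.includeRight : L →ₐ[R] E).toRingHom hsurj
  haveI : IsLocalRing E₁ := IsLocalRing.of_surjective' (Algebra.TensorProduct.includeRight : L₁ →ₐ[D] E₁).toRingHom hsurj₁
  haveI : IsLocalHom (algebraMap E₁ E) := by
    refine ⟨fun e he => ?_⟩
    obtain ⟨l, rfl⟩ := hsurj₁ e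
    have h1 : γ ((1 : k₁) ⊗ₜ[D] l) = (1 : k) ⊗ₜ[R] algebraMap L₁ L l := by rw [hγ, map_one]
    have hloc : IsLocalHom (Algebra.TensorProduct.includeRight : L →ₐ[R] E).toRingHom :=
      IsLocalHom.of_surjective _ hsurj
    have h2 : IsUnit (algebraMap L₁ L l) := by
      refine hloc.map_nonunit _ ?_
      show IsUnit ((1 : k) ⊗ₜ[R] algebraMap L₁ L l)
      rw [← h1]
      exact he
    exact (IsLocalHom.map_nonunit (f := algebraMap L₁ L) l h2).map (Algebra.TensorProduct.includeRight : L₁ →ₐ[D] E₁)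
  haveI : Module.FaithfullyFlat E₁ E := Module.FaithfullyFlat.of_flat_of_isLocalHom
  -- descend
  have hfib₁ : εB₁.Flat := by
    letI : Algebra (k₁ ⊗[D] B₁) E₁ := εB₁.toAlgebra
    letI : Algebra (k₁ ⊗[D] B₁) E := (γ.comp εB₁).toAlgebra
    haveI : IsScalarTower (k₁ ⊗[D] B₁) E₁ E := .of_algebraMap_eq' rfl
    haveI : Module.Flat (k₁ ⊗[D] B₁) E := by
      show (γ.comp εB₁).Flat
      rw [sqB]
      exact RingHom.Flat.comp hφB hfib
    haveI : Module.Flat (k₁ ⊗[D] B₁) (E ⊗[E₁] E₁) :=
      Module.Flat.of_linearEquiv ((AlgebraTensorModule.rid E₁ E₁ E).restrictScalars (k₁ ⊗[D] B₁))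
    exact FlatMor68.PullbackStalk.flat_of_flat_tensor (S := E₁) (L := E) (W := E₁)
  -- the Noetherian criterion
  let P := IsLocalRing.maximalIdeal L₁
  have hP : (P.under B₁).under D = p₁ := by
    have h : P.comap (algebraMap C₁ L₁) = Q₁ := IsLocalization.AtPrime.comap_maximalIdeal L₁ Q₁
    simp only [p₁, Ideal.under_def, Ideal.comap_comap, ← h, ← IsScalarTower.algebraMap_eq]
  have hflatD : Module.Flat D L₁ := Module.Flat.trans D C₁ L₁
  haveI : Module.Flat D (Localization.AtPrime P ⊗[L₁] L₁) := by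
    haveI : Module.Flat D (Localization.AtPrime P) := Module.Flat.trans D L₁ _
    exact Module.Flat.of_linearEquiv ((AlgebraTensorModule.rid L₁ L₁ (Localization.AtPrime P)).restrictScalars D)
  have hcast : ∀ (p' : Ideal D) [p'.IsPrime], p' = p₁ →
      Module.Flat (p'.ResidueField ⊗[D] B₁) ((p'.ResidueField ⊗[D] B₁) ⊗[B₁] L₁) := by
    rintro p' _ rfl
    exact flat_fibre_reassoc hfib₁
  have h1 : Module.Flat B₁ (Localization.AtPrime P ⊗[L₁] L₁) :=
    Cons62.flat_of_fibre_flat (A := D) P L₁ (hcast _ hP)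
  have hB₁ : Module.Flat B₁ L₁ := by
    have : Module.Flat B₁ (Localization.AtPrime P) :=
      Module.Flat.of_linearEquiv ((AlgebraTensorModule.rid L₁ L₁ (Localization.AtPrime P)).restrictScalars B₁).symm
    let ε : L₁ →ₗ[B₁] Localization.AtPrime P := (Algebra.linearMap L₁ _).restrictScalars B₁
    have hu : ∀ s : P.primeCompl, IsUnit (algebraMap L₁ L₁ s) := fun s => by
      exact IsLocalRing.notMem_maximalIdeal.mp s.2
    have hb : Function.Bijective ε := (IsLocalization.atUnits L₁ P.primeCompl (S := Localization.AtPrime P)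
      fun s hs => hu ⟨s, hs⟩).bijective
    exact Module.Flat.of_linearEquiv (LinearEquiv.ofBijective ε hb)
  let M := Algebra.algebraMapSubmonoid C Q₁.primeCompl
  let S := Localization M
  letI : Algebra L₁ S := localizationAlgebra Q₁.primeCompl C
  haveI : IsScalarTower C₁ L₁ S := .of_algebraMap_eq' (IsLocalization.map_comp _).symm
  haveI : IsScalarTower B₁ L₁ S := .of_algebraMap_eq fun x => by
    rw [IsScalarTower.algebraMap_apply B₁ C₁ L₁, ← IsScalarTower.algebraMap_apply C₁ _ S,
      IsScalarTower.algebraMap_apply C₁ C S, IsScalarTower.algebraMap_apply B₁ C S,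
      IsScalarTower.algebraMap_apply B₁ C₁ C]
  haveI : Algebra.IsPushout C₁ C L₁ S :=
    (Algebra.isPushout_of_isLocalization Q₁.primeCompl L₁ C S).symm.symm
  haveI hS : Algebra.IsPushout B₁ L₁ B S :=
    (Algebra.IsPushout.comp_iff B₁ C₁ B C (T := L₁) (T' := S)).2 (Algebra.IsPushout.symm inferInstance)
  haveI : Module.Flat B S := Module.Flat.isBaseChange B₁ B L₁ S (Algebra.IsPushout.symm hS).out
  have hMQ : M ≤ Q.primeCompl := by
    rintro _ ⟨x, hx, rfl⟩
    exact hx
  letI : Algebra S L := IsLocalization.localizationAlgebraOfSubmonoidLe S L M Q.primeCompl hMQ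
  haveI : IsScalarTower C S L := IsLocalization.localization_isScalarTower_of_submonoid_le S L M Q.primeCompl hMQ
  haveI : IsScalarTower B S L := .of_algebraMap_eq fun x => by
    rw [IsScalarTower.algebraMap_apply B C S, ← IsScalarTower.algebraMap_apply C S,
      ← IsScalarTower.algebraMap_apply B C]
  haveI : Module.Flat S L :=
    (Module.flat_iff_of_isLocalization S M L).2 (IsLocalization.flat _ Q.primeCompl)
  exact Module.Flat.trans B S L

end Groth.Agent.FlatMor66
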