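import Groth.Agent.FibCrit57.Main
import Groth.Agent.FlatMor66.FibPointModel
import Groth.Agent.FlatCrit65.FlatLocus.Module

/-!
The fibre criterion of flatness at a point, for finitely presented algebras over any ring.
-/

set_option autoImplicit false
set_option linter.style.haveILetI false
universe u

open TensorProduct

noncomputable section

namespace Groth.Agent.FlatMor66

attribute [local instance] Algebra.TensorProduct.rightAlgebra

theorem flat_of_presented_at {D R B C C₁ : Type u} [CommRing D] [CommRing R] [CommRing B] [CommRing C]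
    [CommRing C₁] [Algebra D R] [Algebra R B] [Algebra R C] [Algebra B C] [IsScalarTower R B C]
    [Algebra D C₁] [IsNoetherianRing D] [Algebra.FiniteType D C₁] [Module.Flat D C₁]
    (e : R ⊗[D] C₁ ≃ₐ[R] C) {n : ℕ} (π : MvPolynomial (Fin n) R →ₐ[R] B) (hπ : Function.Surjective π)
    (G : Set (MvPolynomial (Fin n) D))
    (hG : Ideal.span (MvPolynomial.map (algebraMap D R) '' G) = RingHom.ker π.toRingHom)
    (y : Fin n → C₁) (hy : ∀ i, e (1 ⊗ₜ y i) = algebraMap B C (π (MvPolynomial.X i)))
    (hθ : ∀ g ∈ G, MvPolynomial.aeval y g = 0)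
    (Q : Ideal C) [Q.IsPrime]
    (hfib : ((Algebra.TensorProduct.map (AlgHom.id R ((Q.under B).under R).ResidueField)
      (IsScalarTower.toAlgHom R B (Localization.AtPrime Q))).toRingHom).Flat) :
    Module.Flat B (Localization.AtPrime Q) := by
  letI : Algebra D B := ((algebraMap R B).comp (algebraMap D R)).toAlgebra
  haveI : IsScalarTower D R B := .of_algebraMap_eq' rfl
  letI : Algebra D C := ((algebraMap R C).comp (algebraMap D R)).toAlgebra
  haveI : IsScalarTower D R C := .of_algebraMap_eq' rfl
  haveI : IsScalarTower D B C := .of_algebraMap_eq fun x => by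
    show algebraMap R C _ = algebraMap B C (algebraMap R B _)
    rw [← IsScalarTower.algebraMap_apply R B C]
  let I := Ideal.span G
  let φ₁ : (MvPolynomial (Fin n) D ⧸ I) →ₐ[D] C₁ :=
    Ideal.Quotient.liftₐ I (MvPolynomial.aeval y) fun a ha =>
      RingHom.mem_ker.1 ((Ideal.span_le (I := RingHom.ker (MvPolynomial.aeval (R := D) y))).2
        (fun g hg => hθ g hg) ha)
  let aD : MvPolynomial (Fin n) D →ₐ[D] B := MvPolynomial.aeval fun i => π (MvPolynomial.X i)
  have hq : ∀ q, aD q = π (MvPolynomial.map (algebraMap D R) q) := by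
    intro q
    induction q using MvPolynomial.induction_on with
    | C a =>
      rw [MvPolynomial.algHom_C, MvPolynomial.map_C, MvPolynomial.algHom_C]
      rfl
    | add p q hp hq => simp only [map_add, hp, hq]
    | mul_X p i hp => simp only [map_mul, hp, MvPolynomial.map_X, aD, MvPolynomial.aeval_X]
  let β₁ : (MvPolynomial (Fin n) D ⧸ I) →ₐ[D] B := Ideal.Quotient.liftₐ I aD fun a ha =>
    RingHom.mem_ker.1 ((Ideal.span_le (I := RingHom.ker aD)).2 (fun g hg => by
      show aD g = 0
      rw [hq]
      have h1 : MvPolynomial.map (algebraMap D R) g ∈ RingHom.ker π.toRingHom :=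
        hG ▸ Ideal.subset_span ⟨g, hg, rfl⟩
      exact h1) ha)
  letI : Algebra (MvPolynomial (Fin n) D ⧸ I) C₁ := φ₁.toRingHom.toAlgebra
  letI : Algebra (MvPolynomial (Fin n) D ⧸ I) B := β₁.toRingHom.toAlgebra
  letI : Algebra (MvPolynomial (Fin n) D ⧸ I) C := ((algebraMap B C).comp β₁.toRingHom).toAlgebra
  haveI : IsScalarTower (MvPolynomial (Fin n) D ⧸ I) B C := .of_algebraMap_eq' rfl
  haveI : IsScalarTower D (MvPolynomial (Fin n) D ⧸ I) B := .of_algebraMap_eq fun x => (β₁.commutes x).symm
  haveI : IsScalarTower D (MvPolynomial (Fin n) D ⧸ I) C₁ := .of_algebraMap_eq fun x => (φ₁.commutes x).symm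
  let inc : C₁ →ₐ[D] C := (e.toAlgHom.restrictScalars D).comp Algebra.TensorProduct.includeRight
  letI : Algebra C₁ C := inc.toRingHom.toAlgebra
  haveI : IsScalarTower D C₁ C := .of_algebraMap_eq fun x => (inc.commutes x).symm
  haveI : IsScalarTower (MvPolynomial (Fin n) D ⧸ I) C₁ C := by
    refine .of_algebraMap_eq fun x => ?_
    obtain ⟨q, rfl⟩ := Ideal.Quotient.mk_surjective x
    have h : (IsScalarTower.toAlgHom D B C).comp aD = inc.comp (MvPolynomial.aeval y) :=
      MvPolynomial.algHom_ext fun i => by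
        simp only [AlgHom.comp_apply, aD, inc, MvPolynomial.aeval_X]
        exact (hy i).symm
    exact AlgHom.congr_fun h q
  haveI : Algebra.IsPushout D R (MvPolynomial (Fin n) D ⧸ I) B :=
    FibCrit57.isPushout_of_relations π hπ (Ideal.Quotient.mkₐ D I) (Ideal.Quotient.mkₐ_surjective D I) G
      (fun g hg => Ideal.Quotient.eq_zero_iff_mem.2 (Ideal.subset_span hg)) hG fun i => MvPolynomial.aeval_X _ i
  haveI : Algebra.IsPushout D R C₁ C := Algebra.IsPushout.of_equiv e (RingHom.ext fun x => rfl)
  haveI : Algebra.IsPushout (MvPolynomial (Fin n) D ⧸ I) B C₁ C := by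
    haveI : Algebra.IsPushout D (MvPolynomial (Fin n) D ⧸ I) R B := Algebra.IsPushout.symm inferInstance
    exact Algebra.IsPushout.symm ((Algebra.IsPushout.comp_iff D (MvPolynomial (Fin n) D ⧸ I) R B
      (T := C₁) (T' := C)).1 (Algebra.IsPushout.symm inferInstance))
  haveI : IsNoetherianRing C₁ := Algebra.FiniteType.isNoetherianRing D C₁
  haveI : IsNoetherianRing (MvPolynomial (Fin n) D ⧸ I) := isNoetherianRing_of_surjective _ _ (Ideal.Quotient.mk I) Ideal.Quotient.mk_surjective
  exact flat_of_model_at (D := D) (R := R) (B₁ := MvPolynomial (Fin n) D ⧸ I) (C₁ := C₁) Q hfib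

theorem flat_of_presented_stage_at {A₀ D R B C C₀ : Type u} [CommRing A₀] [CommRing D] [CommRing R]
    [CommRing B] [CommRing C] [CommRing C₀] [Algebra A₀ D] [Algebra A₀ R] [Algebra D R]
    [IsScalarTower A₀ D R] [Algebra A₀ C₀] [Algebra.FiniteType A₀ C₀] [IsNoetherianRing D]
    [Algebra R B] [Algebra R C] [Algebra B C] [IsScalarTower R B C]
    [Module.Flat D (D ⊗[A₀] C₀)]
    (e : R ⊗[A₀] C₀ ≃ₐ[R] C) {n : ℕ} (π : MvPolynomial (Fin n) R →ₐ[R] B) (hπ : Function.Surjective π)
    (G : Set (MvPolynomial (Fin n) D))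
    (hG : Ideal.span (MvPolynomial.map (algebraMap D R) '' G) = RingHom.ker π.toRingHom)
    (y : Fin n → C₀) (hy : ∀ i, e (1 ⊗ₜ y i) = algebraMap B C (π (MvPolynomial.X i)))
    (hθ : ∀ g ∈ G, MvPolynomial.aeval (fun i => (1 : D) ⊗ₜ[A₀] y i) g = 0)
    (Q : Ideal C) [Q.IsPrime]
    (hfib : ((Algebra.TensorProduct.map (AlgHom.id R ((Q.under B).under R).ResidueField)
      (IsScalarTower.toAlgHom R B (Localization.AtPrime Q))).toRingHom).Flat) :
    Module.Flat B (Localization.AtPrime Q) :=
  flat_of_presented_at ((Algebra.TensorProduct.cancelBaseChange A₀ D R R C₀).trans e) π hπ G hG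
    (fun i => (1 : D) ⊗ₜ y i) (fun i => by
      rw [AlgEquiv.trans_apply, Algebra.TensorProduct.cancelBaseChange_tmul, one_smul]
      exact hy i) hθ Q hfib

/-- `LocalizedModule` of an algebra at a prime is flat iff the local ring is. -/
theorem flat_localizedModule_iff {R C : Type u} [CommRing R] [CommRing C] [Algebra R C] (q : Ideal C) [q.IsPrime] :
    Module.Flat R (LocalizedModule q.primeCompl C) ↔ Module.Flat R (Localization.AtPrime q) := by
  let e := (IsLocalizedModule.iso q.primeCompl (Algebra.linearMap C (Localization.AtPrime q))).restrictScalars R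
  exact ⟨fun _ => Module.Flat.of_linearEquiv e.symm, fun _ => Module.Flat.of_linearEquiv e⟩

/-- A finitely presented algebra flat at a prime is flat on a basic open neighbourhood. -/
theorem exists_flat_nhd {R C : Type u} [CommRing R] [CommRing C] [Algebra R C] [Algebra.FinitePresentation R C]
    (Q : Ideal C) [Q.IsPrime] (h : Module.Flat R (Localization.AtPrime Q)) :
    ∃ g ∉ Q, Module.Flat R (Localization.Away g) := by
  have ho := FlatCrit65.isOpen_flat_locus_module (R := R) (S := C) (M := C)
  obtain ⟨_, ⟨g, rfl⟩, hg, hsub⟩ := PrimeSpectrum.isTopologicalBasis_basic_opens.exists_subset_of_mem_open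
    (show (⟨Q, ‹_›⟩ : PrimeSpectrum C) ∈ {q : PrimeSpectrum C | Module.Flat R (LocalizedModule q.asIdeal.primeCompl C)} from
      (flat_localizedModule_iff Q).mpr h) ho
  refine ⟨g, hg, ?_⟩
  let Cg := Localization.Away g
  refine Module.flat_of_isLocalized_maximal (R := R) (S := Cg) Cg (fun P _ => Localization.AtPrime P)
    (fun P _ => Algebra.linearMap Cg (Localization.AtPrime P)) fun P hP => ?_
  have hgP : g ∉ P.under C := fun hmem =>
    hP.ne_top (Ideal.eq_top_of_isUnit_mem _ hmem (IsLocalization.Away.algebraMap_isUnit g))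
  have : Module.Flat R (Localization.AtPrime (P.under C)) :=
    (flat_localizedModule_iff (P.under C)).mp (hsub (show (⟨P.under C, inferInstance⟩ : PrimeSpectrum C) ∈ _ from hgP))
  have : IsLocalization.AtPrime (Localization.AtPrime P) (P.under C) :=
    IsLocalization.isLocalization_isLocalization_atPrime_isLocalization (M := Submonoid.powers g) (Localization.AtPrime P) P
  exact Module.Flat.of_linearEquiv
    ((IsLocalization.algEquiv (P.under C).primeCompl (Localization.AtPrime (P.under C)) (Localization.AtPrime P)).toLinearEquiv.restrictScalars R).symm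

/-- **Fibrewise criterion of flatness at a point**: finitely presented algebras over any ring. -/
theorem flat_of_fibre_at {R B C : Type u} [CommRing R] [CommRing B] [CommRing C] [Algebra R B] [Algebra R C]
    [Algebra B C] [IsScalarTower R B C] [Algebra.FinitePresentation R B] [Algebra.FinitePresentation R C]
    [Module.Flat R C] (Q : Ideal C) [Q.IsPrime]
    (hfib : ((Algebra.TensorProduct.map (AlgHom.id R ((Q.under B).under R).ResidueField)
      (IsScalarTower.toAlgHom R B (Localization.AtPrime Q))).toRingHom).Flat) :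
    Module.Flat B (Localization.AtPrime Q) := by
  classical
  obtain ⟨n, π, hπ, w, hw⟩ := (inferInstance : Algebra.FinitePresentation R B).out
  obtain ⟨A₀, C₀, _, _, e, hN, hfp, ht⟩ := Cons62.exists_model (A := R)
    (t := Set.range fun i : Fin n => algebraMap B C (π (MvPolynomial.X i))) (Set.finite_range _)
  haveI := hN
  haveI := hfp
  choose y hy using fun i => ht ⟨i, rfl⟩
  obtain ⟨D₀, hD₀, hflat⟩ := FlatStage64.exists_fg_flat (R := A₀) (B := C₀) (M := C₀) (A := R)
    (Module.Flat.of_linearEquiv e.toLinearEquiv)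
  obtain ⟨D, hD, hle, G, hG, hθ⟩ := FibCrit57.exists_stage e π w hw y hy D₀ hD₀
  haveI : Algebra.FiniteType A₀ D := (Subalgebra.fg_iff_finiteType D).1 hD
  haveI : IsNoetherianRing D := Algebra.FiniteType.isNoetherianRing A₀ D
  haveI : Module.Flat D (D ⊗[A₀] C₀) := hflat D hle
  exact flat_of_presented_stage_at (D := D) e π hπ G hG y hy hθ Q hfib

end Groth.Agent.FlatMor66
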