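import Groth.Agent.E4O.ValDim
import Groth.Agent.E4O.BaseChangeDim
import Groth.Agent.FlatMor66.BCStalk
import Groth.Agent.Brnch26.Nbhd
import Groth.Agent.QCPull72.Support
import Groth.Agent.QC70.CohOps
import Mathlib

/-!
Fibre dimensions of the support of a flat module.
-/

set_option autoImplicit false
set_option linter.style.haveILetI false
set_option backward.isDefEq.respectTransparency.types false
universe u

open AlgebraicGeometry CategoryTheory Limits TopologicalSpace Topology

noncomputable section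

namespace Groth.Agent.FlatMor66

/-- A point of the stalk spectrum outside the support kills a section. -/
theorem exists_generization_mem_support {X : Scheme.{u}} (M : X.Modules) [M.IsQuasicoherent] (a : X)
    (m : M.presheaf.stalk a) (Q : PrimeSpectrum (X.presheaf.stalk a))
    (hQ : ∀ r : X.presheaf.stalk a, r • m = 0 → r ∈ Q.asIdeal) :
    X.fromSpecStalk a Q ∈ CohB1.support M := by
  obtain ⟨U, hU, haU, -⟩ := exists_isAffineOpen_mem_and_subset (U := (⊤ : X.Opens)) (x := a) trivial
  obtain ⟨f, t, hf, he⟩ := QC70.stalk_exists_smul (QC70.isLocAt_of_isQuasicoherent M hU) hU haU m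
  intro hsub
  have hξ : X.fromSpecStalk a Q ∈ Set.range (X.fromSpecStalk a) := ⟨Q, rfl⟩
  rw [Scheme.range_fromSpecStalk] at hξ
  have hξU : X.fromSpecStalk a Q ∈ U := (show X.fromSpecStalk a Q ⤳ a from hξ).mem_open U.2 haU
  obtain ⟨g, hg, hgt⟩ := (QCSupp72.subsingleton_stalk_iff M hU hξU).mp hsub t
  have hp : hU.primeIdealOf ⟨_, hξU⟩ = Spec.map (X.presheaf.germ U a haU) Q := by
    apply hU.fromSpec.isOpenEmbedding.injective
    rw [hU.fromSpec_primeIdealOf, ← Scheme.Hom.comp_apply]
    exact congrArg (fun k : Spec (X.presheaf.stalk a) ⟶ X => k Q) (hU.fromSpecStalk_eq_fromSpecStalk haU).symm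
  apply hg
  rw [hp]
  show X.presheaf.germ U a haU g ∈ Q.asIdeal
  refine hQ _ ?_
  rw [← (QC70.isUnit_germ hf : IsUnit (X.presheaf.germ U a haU f)).smul_eq_zero, smul_comm, he, ← QC70.germM_smul, hgt,
    QC70.germM_zero]

/-- Over a domain, a flat module with nonzero stalk has support over the generic point. -/
theorem exists_generization_over_generic {P : Scheme.{u}} {V : Type u} [CommRing V] [IsDomain V]
    (q : P ⟶ Spec (CommRingCat.of V)) (M : P.Modules) [M.IsQuasicoherent] (a : P)
    (hfl : FlatMod.IsFlatOverAt q M a) (ha : a ∈ CohB1.support M) :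
    ∃ ξ : P, ξ ⤳ a ∧ ξ ∈ CohB1.support M ∧ q ξ = genericPoint ↥(Spec (CommRingCat.of V)) := by
  let R := (Spec (CommRingCat.of V)).presheaf.stalk (q a)
  let O := P.presheaf.stalk a
  letI : Module R (M.presheaf.stalk a) := FlatMod.moduleStalkOver q M a
  haveI : Module.Flat R (M.presheaf.stalk a) := hfl
  obtain ⟨m, hm⟩ : ∃ m : M.presheaf.stalk a, m ≠ 0 := by
    by_contra! h
    exact ha (subsingleton_of_forall_eq 0 h)
  let T : Submonoid O := (nonZeroDivisors R).map (q.stalkMap a).hom
  let J : Ideal O := LinearMap.ker (LinearMap.toSpanSingleton O (M.presheaf.stalk a) m)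
  have hdisj : Disjoint (J : Set O) T := by
    rw [Set.disjoint_left]
    rintro _ hJ ⟨r, hr, rfl⟩
    apply hm
    have h := Module.IsTorsionFree.isSMulRegular (M := M.presheaf.stalk a)
      (isRegular_iff_ne_zero.mpr (nonZeroDivisors.ne_zero hr))
    refine h (a₁ := m) (a₂ := 0) ?_
    show (q.stalkMap a).hom r • m = r • (0 : M.presheaf.stalk a)
    rw [smul_zero]
    exact hJ
  obtain ⟨Q, hQ, hJQ, hQT⟩ := Ideal.exists_le_prime_disjoint J T hdisj
  refine ⟨P.fromSpecStalk a ⟨Q, hQ⟩, ?_, exists_generization_mem_support M a m ⟨Q, hQ⟩ fun r hr => hJQ hr, ?_⟩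
  · have : P.fromSpecStalk a ⟨Q, hQ⟩ ∈ Set.range (P.fromSpecStalk a) := ⟨_, rfl⟩
    rwa [Scheme.range_fromSpecStalk] at this
  · have h0 : Spec.map (q.stalkMap a) (⟨Q, hQ⟩ : PrimeSpectrum O) = (⊥ : PrimeSpectrum R) := by
      refine PrimeSpectrum.ext (eq_bot_iff.mpr fun r hr => ?_)
      by_contra h
      exact Set.disjoint_left.mp hQT hr ⟨r, mem_nonZeroDivisors_of_ne_zero h, rfl⟩
    rw [← Scheme.Hom.comp_apply, ← Scheme.SpecMap_stalkMap_fromSpecStalk, Scheme.Hom.comp_apply, h0]
    obtain ⟨G, hG⟩ : genericPoint ↥(Spec (CommRingCat.of V)) ∈ Set.range ((Spec (CommRingCat.of V)).fromSpecStalk (q a)) := by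
      rw [Scheme.range_fromSpecStalk]
      exact genericPoint_specializes _
    have h1 : (Spec (CommRingCat.of V)).fromSpecStalk (q a) (⊥ : PrimeSpectrum R) ⤳ genericPoint ↥(Spec (CommRingCat.of V)) :=
      hG ▸ (((PrimeSpectrum.le_iff_specializes (⊥ : PrimeSpectrum R) G).mp bot_le).map
        ((Spec (CommRingCat.of V)).fromSpecStalk (q a)).continuous)
    exact (h1.antisymm (genericPoint_specializes _)).eq

/-- A valuation ring realizing a specialization, with the same residue field at the generic point. -/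
theorem exists_valuationRing_hom_generic {Y : Scheme.{u}} {y y' : Y} (h : y' ⤳ y) :
    ∃ (V : Type u) (_ : CommRing V) (_ : IsDomain V) (_ : ValuationRing V)
      (w : Spec (CommRingCat.of V) ⟶ Y),
      w (genericPoint ↥(Spec (CommRingCat.of V))) = y' ∧ w (IsLocalRing.closedPoint V) = y ∧
      Function.Bijective (w.residueFieldMap (genericPoint ↥(Spec (CommRingCat.of V)))) := by
  let r : Y.presheaf.stalk y →+* Y.residueField y' :=
    (Y.residue y').hom.comp (Y.presheaf.stalkSpecializes h).hom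
  obtain ⟨W, hW, hWloc⟩ := IsLocalRing.exists_factor_valuationRing r
  let φ : Y.presheaf.stalk y →+* W := r.codRestrict W.toSubring fun z => hW z
  let w : Spec (CommRingCat.of W) ⟶ Y := Spec.map (CommRingCat.ofHom φ) ≫ Y.fromSpecStalk y
  let iW : W →+* Y.residueField y' := W.subtype
  have hcomp : (CommRingCat.ofHom φ) ≫ CommRingCat.ofHom iW =
      Y.presheaf.stalkSpecializes h ≫ Y.residue y' := CommRingCat.hom_ext (RingHom.ext fun z => rfl)
  have h2 : Spec.map (CommRingCat.ofHom iW) ≫ w = Y.fromSpecResidueField y' := by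
    rw [← Category.assoc, ← Spec.map_comp, hcomp, Spec.map_comp, Category.assoc,
      Scheme.SpecMap_stalkSpecializes_fromSpecStalk]
    rfl
  let c : Spec (CommRingCat.of (Y.residueField y')) := IsLocalRing.closedPoint (Y.residueField y')
  have hgen : Spec.map (CommRingCat.ofHom iW) c = genericPoint ↥(Spec (CommRingCat.of W)) := by
    rw [genericPoint_eq_bot_of_affine]
    refine PrimeSpectrum.ext ?_
    show (IsLocalRing.maximalIdeal (Y.residueField y')).comap iW = (⊥ : Ideal W)
    rw [IsLocalRing.maximalIdeal_eq_bot, ← RingHom.ker_eq_comap_bot,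
      (RingHom.injective_iff_ker_eq_bot iW).1 Subtype.val_injective]
  refine ⟨W, inferInstance, inferInstance, inferInstance, w, ?_, ?_, ?_⟩
  · rw [← hgen, ← Scheme.Hom.comp_apply, h2, Scheme.fromSpecResidueField_apply]
  · show (Spec.map (CommRingCat.ofHom φ) ≫ Y.fromSpecStalk y) _ = y
    rw [Scheme.Hom.comp_apply]
    refine Eq.trans ?_ (Y.fromSpecStalk_closedPoint (x := y))
    refine congrArg (Y.fromSpecStalk y) (PrimeSpectrum.ext ?_)
    exact ((IsLocalRing.local_hom_TFAE φ).out 0 4 rfl rfl).1 hWloc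
  · rw [← hgen]
    haveI : IsPreimmersion (Spec.map (CommRingCat.ofHom iW) ≫ w) := h2 ▸ inferInstance
    exact Brnch26.residueFieldMap_bijective_of_preimmersion (Spec.map (CommRingCat.ofHom iW)) w c

/-- Fibre dimensions of the support of a flat finite type module. -/
theorem dim_support_fibre_le {X S : Scheme.{u}} (f : X ⟶ S) [LocallyOfFiniteType f] [IrreducibleSpace ↑S]
    (F : X.Modules) [F.IsQuasicoherent] [F.IsFiniteType] (hfl : FlatMod.IsFlatOver f F) (r : WithBot ℕ∞)
    (h : topologicalKrullDim ↑(f ⁻¹' {genericPoint ↑S} ∩ CohB1.support F) ≤ r) (s : S) :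
    topologicalKrullDim ↑(f ⁻¹' {s} ∩ CohB1.support F) ≤ r := by
  have hK : IsClosed (CohB1.support F) := QC70.isClosed_support F
  refine E4O.dim_fibre_inter_closed_le f s hK fun x hx hxs => ?_
  obtain ⟨V, _, _, _, w, hw₀, hws, hwb⟩ := exists_valuationRing_hom_generic (genericPoint_specializes s)
  have sq := IsPullback.of_hasPullback f w
  obtain ⟨a, ha₁, ha₂, hdeg⟩ := E4O.exists_fdeg_eq_of_isPullback sq x (IsLocalRing.closedPoint V) (hxs.trans hws.symm)
  have : LocallyOfFiniteType (pullback.snd f w) := MorphismProperty.pullback_snd _ _ inferInstance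
  let F' := (Scheme.Modules.pullback (pullback.fst f w)).obj F
  have : F'.IsQuasicoherent := QCPull72.isQuasicoherent_pullback (pullback.fst f w) F
  have hsupp : CohB1.support F' = pullback.fst f w ⁻¹' CohB1.support F := QCPull72.support_pullback _ F
  obtain ⟨ξ, hξa, hξ, hξq⟩ := exists_generization_over_generic (pullback.snd f w) F' a
    (isFlatOverAt_baseChange sq F ‹F.IsQuasicoherent› a (hfl _))
    (by rw [hsupp]; exact show pullback.fst f w a ∈ CohB1.support F from ha₁ ▸ hx)
  have h1 : E4O.fdeg (pullback.snd f w) a ≤ E4O.fdeg (pullback.snd f w) ξ :=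
    E4O.fdeg_le_of_specializes_of_valuationRing _ hξa ha₂
  have h2 : E4O.fdeg (pullback.snd f w) ξ ≤ E4O.fdeg f (pullback.fst f w ξ) := E4O.fdeg_le_of_isPullback sq ξ
  have hξη : f (pullback.fst f w ξ) = genericPoint ↑S := by
    rw [← Scheme.Hom.comp_apply, pullback.condition, Scheme.Hom.comp_apply, hξq, hw₀]
  have hξF : pullback.fst f w ξ ∈ CohB1.support F := by rw [hsupp] at hξ; exact hξ
  rw [← hdeg]
  refine le_trans ?_ h
  refine le_trans (Nat.cast_le.mpr (h1.trans h2)) ?_
  obtain ⟨z, hz⟩ := (f.range_fiberι (genericPoint ↑S)).symm.subset (show pullback.fst f w ξ ∈ f ⁻¹' {genericPoint ↑S} from hξη)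
  rw [← hz, ← E4O.dim_closure_fiber f (genericPoint ↑S) z]
  have hle : closure ({z} : Set ↥(f.fiber (genericPoint ↑S))) ⊆ f.fiberι (genericPoint ↑S) ⁻¹' CohB1.support F :=
    closure_minimal (Set.singleton_subset_iff.mpr (show f.fiberι _ z ∈ CohB1.support F from hz.symm ▸ hξF))
      (hK.preimage (f.fiberι _).continuous)
  refine le_trans (TopDim50.dim_mono hle) ?_
  rw [Set.inter_comm, ← f.range_fiberι, ← E4O.dim_preimage_of_isEmbedding (E4O.isEmbedding_fiberι f _)]

end Groth.Agent.FlatMor66
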