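import Groth.Agent.E4O.ValDim
import Groth.Agent.E4O.ChartDim
import Groth.Agent.E4O.BaseChangeDim
import Groth.Agent.E4O.FibreComp
import Groth.Agent.FlatMor66.SuppDim
import Mathlib

/-!
Fibre dimensions at points of flatness, and the dimension formula for flat local domains.
-/

set_option autoImplicit false
set_option linter.style.haveILetI false
set_option backward.isDefEq.respectTransparency.types false
universe u

open AlgebraicGeometry CategoryTheory Limits TopologicalSpace Topology Groth.Agent.E4O

noncomputable section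

namespace Groth.Agent.FlatMor66

/-- At a point of flatness the residue degree is bounded by one over the generic point. -/
theorem exists_generic_fdeg_ge {X S X₀ : Scheme.{u}} (f : X ⟶ S) [LocallyOfFiniteType f]
    [IrreducibleSpace ↑S] (g : X₀ ⟶ X) [Flat (g ≫ f)] (x₀ : X₀) :
    ∃ ξ : X, ξ ⤳ g x₀ ∧ f ξ = genericPoint ↑S ∧ fdeg f (g x₀) ≤ fdeg f ξ := by
  obtain ⟨V, _, _, _, w, hw₀, hws, -⟩ := exists_valuationRing_hom_generic (genericPoint_specializes (f (g x₀)))
  have sq := IsPullback.of_hasPullback f w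
  obtain ⟨a, ha₁, ha₂, hdeg⟩ := exists_fdeg_eq_of_isPullback sq (g x₀) (IsLocalRing.closedPoint V) hws.symm
  have : LocallyOfFiniteType (pullback.snd f w) := MorphismProperty.pullback_snd _ _ inferInstance
  obtain ⟨a₀, -, ha₀⟩ := Scheme.Pullback.exists_preimage_pullback (f := g) (g := pullback.fst f w) x₀ a ha₁.symm
  have sq₀ := ((IsPullback.of_hasPullback g (pullback.fst f w)).flip.paste_horiz sq.flip).flip
  have : Flat (pullback.snd g (pullback.fst f w) ≫ pullback.snd f w) :=
    MorphismProperty.of_isPullback (P := @Flat) sq₀ inferInstance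
  obtain ⟨ξ₀, hξ₀, hξq⟩ := Flat.generalizingMap (pullback.snd g (pullback.fst f w) ≫ pullback.snd f w)
    (genericPoint_specializes ((pullback.snd g (pullback.fst f w) ≫ pullback.snd f w) a₀))
  rw [Scheme.Hom.comp_apply] at hξq
  have hsp : pullback.snd g (pullback.fst f w) ξ₀ ⤳ a :=
    ha₀ ▸ hξ₀.map (pullback.snd g (pullback.fst f w)).continuous
  refine ⟨pullback.fst f w (pullback.snd g (pullback.fst f w) ξ₀), ha₁ ▸ hsp.map (pullback.fst f w).continuous, ?_, ?_⟩
  · rw [← Scheme.Hom.comp_apply, pullback.condition, Scheme.Hom.comp_apply, hξq, hw₀]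
  · rw [← hdeg]
    exact (fdeg_le_of_specializes_of_valuationRing _ hsp ha₂).trans (fdeg_le_of_isPullback sq _)

theorem trdeg_eq_of_isLocalization {D E F : Type u} [CommRing D] [Nontrivial D] [CommRing E] [IsDomain E] [CommRing F] [IsDomain F]
    [Algebra D E] [Algebra D F] [Algebra E F] [IsScalarTower D E F] [FaithfulSMul D E] [FaithfulSMul E F]
    (M : Submonoid E) [IsLocalization M F] : Algebra.trdeg D F = Algebra.trdeg D E := by
  have : Algebra.IsAlgebraic E F := IsLocalization.isAlgebraic F M
  rw [← trdeg_add_eq D E (A := F), trdeg_eq_zero (R := E) (A := F), add_zero]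

/-- The residue degree of the closed point of a localization of a finite type algebra. -/
theorem trdeg_residueField_eq {A C B : Type u} [CommRing A] [CommRing C] [CommRing B] [IsLocalRing A]
    [IsLocalRing B] [Algebra A C] [Algebra A B] [Algebra C B] [IsScalarTower A C B]
    [IsLocalHom (algebraMap A B)] (M : Submonoid C) [IsLocalization M B] :
    Algebra.trdeg (IsLocalRing.ResidueField A) (IsLocalRing.ResidueField B) =
      Algebra.trdeg (A ⧸ ((IsLocalRing.maximalIdeal B).under C).under A)
        (C ⧸ (IsLocalRing.maximalIdeal B).under C) := by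
  let P := (IsLocalRing.maximalIdeal B).under C
  have hm : P.under A = IsLocalRing.maximalIdeal A := by
    rw [Ideal.under_under]
    exact ((IsLocalRing.local_hom_TFAE (algebraMap A B)).out 0 4 rfl rfl).1 inferInstance
  let K := IsLocalRing.ResidueField A
  let φ : C ⧸ P →+* IsLocalRing.ResidueField B := Ideal.quotientMap _ (algebraMap C B) le_rfl
  letI : Algebra (A ⧸ P.under A) K := (Ideal.Quotient.factor hm.le).toAlgebra
  have hbij : Function.Bijective (algebraMap (A ⧸ P.under A) K) := (Ideal.quotEquivOfEq hm).bijective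
  have : FaithfulSMul (A ⧸ P.under A) K := (faithfulSMul_iff_algebraMap_injective _ _).2 hbij.1
  have : IsFractionRing (A ⧸ P.under A) K := by
    have : IsFractionRing K K := inferInstance
    exact IsFractionRing.of_field _ _ fun z => ⟨(hbij.2 z).choose, 1, by simp [(hbij.2 z).choose_spec]⟩
  refine trdeg_eq_of_square (D := A ⧸ P.under A) (K := K) φ Ideal.quotientMap_injective
    Ideal.algebraMap_quotient_injective (fun d => ?_) fun x => ?_
  · obtain ⟨d, rfl⟩ := Ideal.Quotient.mk_surjective d
    change Ideal.Quotient.mk _ (algebraMap C B (algebraMap A C d)) = Ideal.Quotient.mk _ (algebraMap A B d)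
    rw [← IsScalarTower.algebraMap_apply]
  · obtain ⟨b, rfl⟩ := Ideal.Quotient.mk_surjective x
    obtain ⟨⟨c, s⟩, hcs⟩ := IsLocalization.surj M b
    refine ⟨Ideal.Quotient.mk P s, Ideal.Quotient.mk P c, fun h => ?_, ?_⟩
    · have h' : (s : C) ∈ P := Ideal.Quotient.eq_zero_iff_mem.1 h
      exact h' (IsLocalization.map_units B s)
    · change Ideal.Quotient.mk _ (algebraMap C B s) * Ideal.Quotient.mk _ b = Ideal.Quotient.mk _ (algebraMap C B c)
      exact (map_mul (Ideal.Quotient.mk (IsLocalRing.maximalIdeal B)) _ _).symm.trans (congrArg _ ((mul_comm _ _).trans hcs))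

/-- The dimension formula for a flat local homomorphism of domains, essentially of finite type. -/
theorem exists_dim_add_trdeg_eq {A C B : Type u} [CommRing A] [CommRing C] [CommRing B] [IsDomain A] [IsDomain B]
    [IsDomain C] [IsLocalRing A] [IsLocalRing B] [Algebra A C] [Algebra A B] [Algebra C B] [IsScalarTower A C B]
    [IsLocalHom (algebraMap A B)] [FaithfulSMul A C] [FaithfulSMul C B] [Algebra.FiniteType A C]
    (M : Submonoid C) [IsLocalization M B] [Module.Flat A B] :
    ∃ d e : ℕ, ringKrullDim (B ⧸ Ideal.map (algebraMap A B) (IsLocalRing.maximalIdeal A)) = d ∧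
      Algebra.trdeg (IsLocalRing.ResidueField A) (IsLocalRing.ResidueField B) = e ∧
      Algebra.trdeg A B = (d + e : ℕ) := by
  let f : Spec (CommRingCat.of C) ⟶ Spec (CommRingCat.of A) := Spec.map (CommRingCat.ofHom (algebraMap A C))
  let g : Spec (CommRingCat.of B) ⟶ Spec (CommRingCat.of C) := Spec.map (CommRingCat.ofHom (algebraMap C B))
  have : LocallyOfFiniteType f := (HasRingHomProperty.Spec_iff (P := @LocallyOfFiniteType)).2
    (RingHom.finiteType_algebraMap.2 inferInstance)
  have : Flat (g ≫ f) := by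
    rw [← Spec.map_comp, ← CommRingCat.ofHom_comp, ← IsScalarTower.algebraMap_eq]
    exact (HasRingHomProperty.Spec_iff (P := @Flat)).2 (RingHom.flat_algebraMap_iff.2 inferInstance)
  let Ch : Chart f := { A := A, B := C, e := 𝟙 _, j := 𝟙 _, comm := by simp [f] }
  let b₀ : PrimeSpectrum C := ⊥
  let n : ℕ := fdeg f (Ch.pt b₀)
  let P : PrimeSpectrum C := ⟨(IsLocalRing.maximalIdeal B).under C, inferInstance⟩
  let e := fdeg f (Ch.pt P)
  have he : Algebra.trdeg (IsLocalRing.ResidueField A) (IsLocalRing.ResidueField B) = e := by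
    rw [trdeg_residueField_eq M]
    exact Ch.trdeg_eq_fdeg P
  have hn : Algebra.trdeg A B = n := by
    rw [trdeg_eq_of_isLocalization (E := C) M, ← Ch.trdeg_eq_fdeg b₀]
    have hb : b₀.asIdeal.under A = ⊥ := Ideal.comap_bot_of_injective _ (FaithfulSMul.algebraMap_injective A C)
    exact (trdeg_eq_of_ringEquiv ((Ideal.quotEquivOfEq hb).trans (RingEquiv.quotientBot A))
      (RingEquiv.quotientBot C) (RingHom.ext fun x => by
        obtain ⟨x, rfl⟩ := Ideal.Quotient.mk_surjective x; rfl)).symm
  have hg : ∀ x : PrimeSpectrum C, (∃ y, Ch.pt x = g y) ↔ x ≤ P := by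
    intro x
    refine ⟨fun ⟨y, hy⟩ => ?_, fun hx => ?_⟩
    · have : x = PrimeSpectrum.comap (algebraMap C B) y := hy
      rw [this]
      exact Ideal.comap_mono (IsLocalRing.le_maximalIdeal y.2.ne_top)
    · have : x ∈ Set.range (PrimeSpectrum.comap (algebraMap C B)) := by
        rw [PrimeSpectrum.localization_comap_range B M]
        show Disjoint (M : Set C) x.asIdeal
        rw [Set.disjoint_left]
        exact fun c hc hcx => (hx hcx : algebraMap C B c ∈ IsLocalRing.maximalIdeal B)
          (IsLocalization.map_units B ⟨c, hc⟩)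
      obtain ⟨y, hy⟩ := this
      exact ⟨y, hy.symm⟩
  have hbot : genericPoint ↥(Spec (CommRingCat.of A)) = (⊥ : PrimeSpectrum A) := genericPoint_eq_bot_of_affine _
  have hb₀ : f (Ch.pt b₀) = genericPoint ↥(Spec (CommRingCat.of A)) := by
    rw [hbot]
    exact PrimeSpectrum.ext (Ideal.comap_bot_of_injective _ (FaithfulSMul.algebraMap_injective A C))
  have hmin : ∀ x : PrimeSpectrum C, Ch.pt b₀ ⤳ Ch.pt x := fun x => (Ch.specializes_iff _ _).2 bot_le
  have hle : ∀ x : PrimeSpectrum C, x ≤ P → fdeg f (Ch.pt x) ≤ n := fun x hx => by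
    obtain ⟨y, hy⟩ := (hg x).2 hx
    obtain ⟨ξ, -, hξ, hξd⟩ := exists_generic_fdeg_ge f g y
    rw [hy]
    exact hξd.trans (fdeg_le (hmin ξ) (hb₀.trans hξ.symm))
  obtain ⟨z, hzP, hfz, hzmax, -, -⟩ := exists_isFibreMax_specializes f (Ch.pt P)
  obtain ⟨q, rfl⟩ : z ∈ Set.range Ch.pt := ⟨z, rfl⟩
  have hqP : q ≤ P := (Ch.specializes_iff _ _).1 hzP
  have hqn : n ≤ fdeg f (Ch.pt q) := by
    obtain ⟨U, hzU, hU⟩ := exists_open_forall_fibreDimAt_le f (Ch.pt q)
    have h := (fdeg_le_fibreDimAt (f := f) (specializes_refl (Ch.pt b₀)) rfl).trans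
      (hU _ ((hmin q).mem_open U.2 hzU))
    rw [fibreDimAt_eq_fdeg (f := f) (x := Ch.pt q) fun w h1 h2 => hzmax w h1 h2] at h
    exact_mod_cast h
  have hePn : e ≤ n := (fdeg_le (f := f) hzP hfz).trans (hle q hqP)
  refine ⟨n - e, e, ?_, he, by rw [Nat.sub_add_cancel hePn]; exact hn⟩
  -- the closed fibre
  let J := Ideal.map (algebraMap A B) (IsLocalRing.maximalIdeal A)
  let toC : PrimeSpectrum (B ⧸ J) → PrimeSpectrum C := fun t =>
    PrimeSpectrum.comap (algebraMap C B) (PrimeSpectrum.comap (Ideal.Quotient.mk J) t)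
  have htoC : IsEmbedding toC := (PrimeSpectrum.localization_comap_isEmbedding B M).comp
    (PrimeSpectrum.isClosedEmbedding_comap_of_surjective _ _ Ideal.Quotient.mk_surjective).isEmbedding
  have hmono : StrictMono toC := Monotone.strictMono_of_injective
    (fun a b hab => Ideal.comap_mono (Ideal.comap_mono hab)) htoC.injective
  have hcl : ∀ x : PrimeSpectrum C, x ≤ P →
      (f (Ch.pt x) = f (Ch.pt P) ↔ IsLocalRing.maximalIdeal A ≤ x.asIdeal.under A) := by
    intro x hx
    have hm : P.asIdeal.under A = IsLocalRing.maximalIdeal A := by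
      rw [Ideal.under_under]
      exact ((IsLocalRing.local_hom_TFAE (algebraMap A B)).out 0 4 rfl rfl).1 inferInstance
    refine ⟨fun h => ?_, fun h => ?_⟩
    · exact (hm.symm.trans (congrArg PrimeSpectrum.asIdeal h).symm).le
    · refine PrimeSpectrum.ext (le_antisymm (Ideal.comap_mono hx) ?_)
      exact hm.trans_le h
  have htoC' : ∀ t, toC t ≤ P ∧ f (Ch.pt (toC t)) = f (Ch.pt P) := fun t => by
    have h1 : toC t ≤ P := (hg _).1 ⟨_, rfl⟩
    refine ⟨h1, (hcl _ h1).2 fun a ha => ?_⟩
    show Ideal.Quotient.mk J (algebraMap C B (algebraMap A C a)) ∈ t.asIdeal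
    rw [← IsScalarTower.algebraMap_apply, Ideal.Quotient.eq_zero_iff_mem.2 (Ideal.mem_map_of_mem _ ha)]
    exact t.asIdeal.zero_mem
  refine le_antisymm (iSup_le fun l => ?_) ?_
  · have key : ∀ i : Fin (l.length + 1), fdeg f (Ch.pt (toC (l i))) + i ≤ n := by
      intro i
      induction i using Fin.induction with
      | zero => simpa using hle _ (htoC' _).1
      | succ i ih =>
        have hlt := hmono (l.step i)
        have := fdeg_lt (f := f) ((Ch.specializes_iff _ _).2 hlt.le)
          ((htoC' (l i.castSucc)).2.trans (htoC' (l i.succ)).2.symm)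
          fun h => hlt.ne (Ch.isOpenEmbedding_pt.injective h)
        simp only [Fin.val_succ, Fin.val_castSucc] at *
        omega
    have h1 := key (Fin.last _)
    have h2 : e ≤ fdeg f (Ch.pt (toC (l (Fin.last _)))) :=
      fdeg_le ((Ch.specializes_iff _ _).2 (htoC' _).1) (htoC' _).2
    simp only [Fin.val_last] at h1
    exact_mod_cast (show l.length ≤ n - e by omega)
  · have h := Ch.fdeg_le_relHeight_add q P hqP hfz
    rw [relHeight_eq hqP] at h
    have hk : ((n - e : ℕ) : ℕ∞) ≤ Order.height (⟨P, hqP⟩ : Set.Ici q) := by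
      rcases eq_or_ne (Order.height (⟨P, hqP⟩ : Set.Ici q)) ⊤ with h' | h'
      · rw [h']; exact le_top
      · obtain ⟨k, hk⟩ := ENat.ne_top_iff_exists.1 h'
        rw [← hk] at h ⊢
        norm_cast at h ⊢
        omega
    obtain ⟨l, hl, hlen⟩ := Order.exists_series_of_le_height _ hk
    have hmem : ∀ i, ∃ t, toC t = (l i).1 := fun i => by
      have h1 : (l i).1 ≤ P := by
        have : l i ≤ l.last := LTSeries.monotone l (Fin.le_last i)
        rw [hl] at this
        exact this
      obtain ⟨y, hy⟩ := (hg _).2 h1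
      have hy' : (l i).1 = PrimeSpectrum.comap (algebraMap C B) y := hy
      have hJ : J ≤ y.asIdeal := Ideal.map_le_iff_le_comap.2 fun a ha => by
        have : algebraMap A C a ∈ (l i).1.asIdeal :=
          (l i).2 (((hcl q hqP).1 hfz) ha : algebraMap A C a ∈ q.asIdeal)
        rw [hy'] at this
        rw [Ideal.mem_comap, IsScalarTower.algebraMap_apply A C B]
        exact this
      obtain ⟨t, ht⟩ : y ∈ Set.range (PrimeSpectrum.comap (Ideal.Quotient.mk J)) := by
        rw [range_comap_of_surjective _ _ Ideal.Quotient.mk_surjective, Ideal.mk_ker]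
        exact hJ
      exact ⟨t, by rw [hy', ← ht]⟩
    choose t ht using hmem
    let L : LTSeries (PrimeSpectrum (B ⧸ J)) := LTSeries.mk l.length t fun i j hij => by
      refine lt_of_le_of_ne (fun x hx => ?_) fun he => ?_
      · have hle' : toC (t i) ≤ toC (t j) := by rw [ht, ht]; exact (LTSeries.strictMono l hij).le
        have hs := ((PrimeSpectrum.le_iff_specializes _ _).1 hle')
        exact (PrimeSpectrum.le_iff_specializes _ _).2 (htoC.isInducing.specializes_iff.1 hs) hx
      · exact (LTSeries.strictMono l hij).ne (Subtype.ext (by rw [← ht, ← ht, he]))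
    exact le_of_eq_of_le (by simp [L, hlen]) (Order.LTSeries.length_le_krullDim L)

end Groth.Agent.FlatMor66
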