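import Groth.Agent.S4698
import Groth.Agent.ConsProp93.Approx
import Groth.Agent.FlatMor66.RelFlatLocus
import Groth.Agent.FlatMor66.BCStalk
import Groth.Agent.QCPull72.Support
import Groth.Agent.SchBasics.Reduced
import Mathlib

/-!
Generic flatness stratification.
-/

set_option autoImplicit false
set_option linter.style.haveILetI false
set_option backward.isDefEq.respectTransparency.types false
universe u

open AlgebraicGeometry CategoryTheory Limits TopologicalSpace Topology

noncomputable section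

namespace Groth.Agent.FlatMor66.FlatStrat

variable {X S : Scheme.{u}}

/-- `F` is flat over `W` after base change along `j`. -/
def FlatAlong (f : X ⟶ S) (F : X.Modules) {W : Scheme.{u}} (j : W ⟶ S) : Prop :=
  FlatMod.IsFlatOver (pullback.snd f j) ((Scheme.Modules.pullback (pullback.fst f j)).obj F)

theorem isFlatOverAt_of_factor (f : X ⟶ S) (F : X.Modules) (hF : F.IsQuasicoherent) {W W' P : Scheme.{u}}
    (j : W ⟶ S) (k : W' ⟶ W) (g : P ⟶ X) (q : P ⟶ W') (hsq : IsPullback g q f (k ≫ j)) (p : P)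
    (h : ∀ p' : ↥(pullback f j), pullback.snd f j p' = k (q p) →
      FlatMod.IsFlatOverAt (pullback.snd f j) ((Scheme.Modules.pullback (pullback.fst f j)).obj F) p') :
    FlatMod.IsFlatOverAt q ((Scheme.Modules.pullback g).obj F) p := by
  let l : P ⟶ pullback f j := pullback.lift g (q ≫ k) (by rw [Category.assoc]; exact hsq.w)
  have sq : IsPullback l q (pullback.snd f j) k := by
    refine IsPullback.of_right ?_ (pullback.lift_snd _ _ _) (IsPullback.of_hasPullback f j)
    rw [pullback.lift_fst]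
    exact hsq
  have hF' : ((Scheme.Modules.pullback (pullback.fst f j)).obj F).IsQuasicoherent :=
    QCPull72.isQuasicoherent_pullback (pullback.fst f j) F
  have h1 := isFlatOverAt_baseChange sq ((Scheme.Modules.pullback (pullback.fst f j)).obj F) hF' p
    (h _ (by rw [← Scheme.Hom.comp_apply, sq.w, Scheme.Hom.comp_apply]))
  refine isFlatOverAt_of_iso q ?_ p h1
  exact (Scheme.Modules.pullbackComp l (pullback.fst f j)).app F ≪≫
    (Scheme.Modules.pullbackCongr (pullback.lift_fst _ _ _)).app F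

/-- The piece of the closed set `Z` outside `Z'`, with reduced structure. -/
def stratum (I I' : S.IdealSheafData) : I.subscheme.Opens := I.subschemeι ⁻¹ᵁ I'.support.compl

/-- The morphism of a stratum. -/
def stratumι (I I' : S.IdealSheafData) : (stratum I I' : Scheme.{u}) ⟶ S := (stratum I I').ι ≫ I.subschemeι

/-- The reduced closed subscheme structure. -/
abbrev vI (Z : Closeds ↑S) : S.IdealSheafData := Scheme.IdealSheafData.vanishingIdeal Z

/-- One step: a nonempty closed set has a nonempty open piece over which the module is flat. -/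
theorem exists_flat_piece (f : X ⟶ S) [IsNoetherian S] [LocallyOfFiniteType f] [QuasiCompact f] (F : X.Modules)
    (hF : Coh.IsCoh F) (Z : Closeds ↑S) (hZ : (Z : Set ↑S).Nonempty) :
    ∃ Z' : Closeds ↑S, Z' < Z ∧ FlatAlong f F (stratumι (vI Z) (vI Z')) := by
  classical
  let ι := (vI Z).subschemeι
  have hr : Set.range ι = (Z : Set ↑S) := by
    rw [Scheme.IdealSheafData.range_subschemeι, Scheme.IdealSheafData.coe_support_vanishingIdeal]
  have : NoetherianSpace ↥(vI Z).subscheme := ι.isEmbedding.isInducing.noetherianSpace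
  obtain ⟨z, hz⟩ := hZ
  obtain ⟨z', rfl⟩ := hr.ge hz
  let C := irreducibleComponent z'
  have hC : C ∈ irreducibleComponents ↥(vI Z).subscheme := irreducibleComponent_mem_irreducibleComponents _
  have hfin := NoetherianSpace.finite_irreducibleComponents (α := ↥(vI Z).subscheme)
  let K : Set ↥(vI Z).subscheme := ⋃₀ (irreducibleComponents ↥(vI Z).subscheme \ {C})
  have hK : IsClosed K := by
    rw [show K = ⋃ T ∈ irreducibleComponents ↥(vI Z).subscheme \ {C}, T from Set.sUnion_eq_biUnion]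
    exact hfin.diff.isClosed_biUnion fun T hT => isClosed_of_mem_irreducibleComponents T hT.1
  let P₀ : (vI Z).subscheme.Opens := ⟨Kᶜ, hK.isOpen_compl⟩
  obtain ⟨η, hη⟩ := QuasiSober.sober hC.1 (isClosed_of_mem_irreducibleComponents C hC)
  have hηP : η ∈ P₀ := by
    rintro ⟨T, ⟨hT, hTC⟩, hηT⟩
    have hCT : C ⊆ T := hη.def.symm.le.trans ((isClosed_of_mem_irreducibleComponents T hT).closure_subset_iff.2
      (Set.singleton_subset_iff.2 hηT))
    exact hTC (le_antisymm (hC.2 hT.1 hCT) hCT)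
  have hPC : (P₀ : Set ↥(vI Z).subscheme) ⊆ C := fun a ha => by
    by_contra h
    exact ha ⟨_, ⟨irreducibleComponent_mem_irreducibleComponents a, fun e => h (e ▸ mem_irreducibleComponent)⟩,
      mem_irreducibleComponent⟩
  have : IrreducibleSpace ↥(P₀ : Scheme.{u}) := by
    have hgen : IsGenericPoint (⟨η, hηP⟩ : ↥(P₀ : Scheme.{u})) Set.univ := by
      rw [isGenericPoint_iff_specializes]
      exact fun a => iff_of_true (P₀.ι.isEmbedding.isInducing.specializes_iff.1 (hη.specializes (hPC a.2))) trivial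
    exact (irreducibleSpace_def _).2 (by rw [Set.top_eq_univ]; exact hgen.isIrreducible)
  have : IsReduced (vI Z).subscheme := SchBasics.isReduced_vanishingIdeal_subscheme Z
  have : IsIntegral (P₀ : Scheme.{u}) := isIntegral_of_irreducibleSpace_of_isReduced _
  have : IsLocallyNoetherian (P₀ : Scheme.{u}) := LocallyOfFiniteType.isLocallyNoetherian (P₀.ι ≫ ι)
  let jP : (P₀ : Scheme.{u}) ⟶ S := P₀.ι ≫ ι
  have : LocallyOfFiniteType (pullback.snd f jP) := MorphismProperty.pullback_snd _ _ inferInstance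
  have : QuasiCompact (pullback.snd f jP) := MorphismProperty.pullback_snd _ _ inferInstance
  obtain ⟨O₁, hO₁ne, hO₁⟩ := S4698.result (pullback.snd f jP) ((Scheme.Modules.pullback (pullback.fst f jP)).obj F)
    (ConsProp93.isCoh_pullback _ hF)
  let O₂ : (vI Z).subscheme.Opens := P₀.ι ''ᵁ O₁
  obtain ⟨O, hO, hO₂⟩ := ι.isEmbedding.isInducing.isOpen_iff.1 O₂.2
  let Z' : Closeds ↑S := ⟨(Z : Set ↑S) ∩ Oᶜ, Z.isClosed.inter hO.isClosed_compl⟩
  refine ⟨Z', lt_of_le_of_ne (fun a ha => ha.1) fun e => ?_, ?_⟩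
  · obtain ⟨w, hw⟩ := hO₁ne
    have h1 : ι (P₀.ι w) ∈ (Z' : Set ↑S) := by rw [e]; exact hr.le ⟨_, rfl⟩
    exact h1.2 (show P₀.ι w ∈ ι ⁻¹' O from hO₂.ge ⟨w, hw, rfl⟩)
  have hmem : ∀ a : (stratum (vI Z) (vI Z') : Scheme.{u}), (stratum (vI Z) (vI Z')).ι a ∈ O₂ := by
    intro a
    have h1 : ι ((stratum (vI Z) (vI Z')).ι a) ∉ ((vI Z').support : Set ↑S) := a.2
    rw [Scheme.IdealSheafData.coe_support_vanishingIdeal] at h1
    have h2 : ι ((stratum (vI Z) (vI Z')).ι a) ∈ O := by
      by_contra h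
      exact h1 ⟨hr.le ⟨_, rfl⟩, h⟩
    exact hO₂.le h2
  have hrange : Set.range (stratum (vI Z) (vI Z')).ι ⊆ Set.range P₀.ι := by
    rintro _ ⟨a, rfl⟩
    obtain ⟨w, -, hw⟩ := hmem a
    exact ⟨w, hw⟩
  let k := IsOpenImmersion.lift P₀.ι (stratum (vI Z) (vI Z')).ι hrange
  have hk : k ≫ jP = stratumι (vI Z) (vI Z') := by
    simp only [k, jP, stratumι, IsOpenImmersion.lift_fac_assoc]
    rfl
  intro p
  refine isFlatOverAt_of_factor f F hF.1 jP k _ _ ?_ p fun p' hp' => hO₁ p' ?_
  · rw [hk]; exact IsPullback.of_hasPullback _ _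
  · rw [show (pullback.snd f jP).base p' = _ from hp']
    obtain ⟨w, hw, hww⟩ := hmem (pullback.snd f (stratumι (vI Z) (vI Z')) p)
    have : k (pullback.snd f (stratumι (vI Z) (vI Z')) p) = w := P₀.ι.isOpenEmbedding.injective (by
      rw [← Scheme.Hom.comp_apply, IsOpenImmersion.lift_fac]; exact hww.symm)
    rw [this]
    exact hw

/-- The stratification on a Noetherian base. -/
theorem exists_strat (f : X ⟶ S) [IsNoetherian S] [LocallyOfFiniteType f] [QuasiCompact f] (F : X.Modules)
    (hF : Coh.IsCoh F) (Z : Closeds ↑S) :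
    ∃ (t : ℕ) (Zs : Fin (t + 1) → Closeds ↑S), Antitone Zs ∧ Zs 0 = Z ∧ Zs (Fin.last t) = ⊥ ∧
      ∀ i : Fin t, FlatAlong f F (stratumι (vI (Zs i.castSucc)) (vI (Zs i.succ))) := by
  induction Z using (wellFounded_lt (α := Closeds ↑S)).induction with
  | _ Z ih =>
    rcases Set.eq_empty_or_nonempty (Z : Set ↑S) with h | h
    · exact ⟨0, fun _ => Z, antitone_const, rfl, SetLike.coe_injective h, fun i => i.elim0⟩
    obtain ⟨Z', hlt, hflat⟩ := exists_flat_piece f F hF Z h
    obtain ⟨t, Zs, hmono, h0, hlast, hs⟩ := ih Z' hlt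
    refine ⟨t + 1, Fin.cons Z Zs, ?_, Fin.cons_zero _ _, ?_, ?_⟩
    · refine Fin.antitone_iff_succ_le.2 fun i => ?_
      refine Fin.cases ?_ (fun j => ?_) i
      · rw [Fin.castSucc_zero, Fin.cons_zero, Fin.cons_succ, h0]; exact hlt.le
      · rw [Fin.castSucc_succ, Fin.cons_succ, Fin.cons_succ]
        exact Fin.antitone_iff_succ_le.1 hmono j
    · rw [← Fin.succ_last, Fin.cons_succ, hlast]
    · intro i
      refine Fin.cases ?_ (fun j => ?_) i
      · rw [Fin.castSucc_zero, Fin.cons_zero, Fin.cons_succ, h0]; exact hflat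
      · rw [Fin.castSucc_succ, Fin.cons_succ, Fin.cons_succ]
        exact hs j

/-- Pullback of a finite type ideal sheaf from a Noetherian scheme is of finite type. -/
theorem fg_comap {S' : Scheme.{u}} [IsLocallyNoetherian S'] (I : S'.IdealSheafData) (π : S ⟶ S') (U : S.affineOpens) :
    ((I.comap π).ideal U).FG := by
  let q := pullback.fst π I.subschemeι
  have : LocallyOfFinitePresentation I.subschemeι := inferInstance
  have : LocallyOfFinitePresentation q := inferInstance
  have : IsClosedImmersion q := MorphismProperty.pullback_fst _ _ inferInstance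
  show (q.ker.ideal U).FG
  rw [Scheme.Hom.ker_apply]
  have hfp : (q.appLE U.1 (q ⁻¹ᵁ U.1) le_rfl).hom.FinitePresentation :=
    q.finitePresentation_appLE U.2 (U.2.preimage q) le_rfl
  rw [Scheme.Hom.appLE_eq_app] at hfp
  have hs := Scheme.Hom.app_surjective q U.1 U.2
  algebraize [(q.app U.1).hom]
  exact Algebra.FinitePresentation.ker_fG_of_surjective (Algebra.ofId Γ(S, U.1) Γ(pullback π I.subschemeι, q ⁻¹ᵁ U.1)) hs

/-- Generic flatness stratification over a qcqs base. -/
theorem exists_flat_stratification (f : X ⟶ S) [LocallyOfFinitePresentation f] [QuasiCompact f] [QuasiSeparated f]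
    [CompactSpace ↑S] [QuasiSeparatedSpace ↑S] (F : X.Modules) (hq : Coh.IsQCoh F) (hfp : CohB1.IsFP F) :
    ∃ (t : ℕ) (I : Fin (t + 1) → S.IdealSheafData), Monotone I ∧ I (Fin.last t) = ⊤ ∧ ((I 0).support : Set ↑S) = Set.univ ∧
      (∀ i, ∀ U : S.affineOpens, ((I i).ideal U).FG) ∧
      ∀ i : Fin t, FlatMod.IsFlatOver
        (pullback.snd f (((I i.castSucc).subschemeι ⁻¹ᵁ (I i.succ).support.compl).ι ≫ (I i.castSucc).subschemeι))
        ((Scheme.Modules.pullback (pullback.fst f (((I i.castSucc).subschemeι ⁻¹ᵁ (I i.succ).support.compl).ι ≫ (I i.castSucc).subschemeι))).obj F) := by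
  have : F.IsQuasicoherent := hq
  have : CohB1.IsFP F := hfp
  obtain ⟨S', hln, hcp, π, X', u', _, _, e, F', sq, hF', ⟨φ⟩⟩ :
      ∃ (S' : Scheme.{u}) (_ : IsLocallyNoetherian S') (_ : CompactSpace ↑S') (π : S ⟶ S') (X' : Scheme.{u}) (u' : X' ⟶ S')
      (_ : LocallyOfFiniteType u') (_ : QuasiCompact u') (e : X ⟶ X') (F' : X'.Modules),
      IsPullback e f u' π ∧ Coh.IsCoh F' ∧ Nonempty ((Scheme.Modules.pullback e).obj F' ≅ F) := by
    obtain ⟨J, _, _, D, π, hD, ⟨hc⟩⟩ := Approx60.exists_approximation S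
    have := hD.aff
    have := hD.compact
    have hln := fun i => @Approx60.isLocallyNoetherian_of_lft_toZ _ (hD.lft i)
    obtain ⟨i, Xi, fi, g, hlfp, hqc, hqs, hg⟩ := Approx60.S0591 D _ hc X f
    have : CompactSpace Xi := QuasiCompact.compactSpace_of_compactSpace fi
    have : QuasiSeparatedSpace Xi := quasiSeparatedSpace_of_quasiSeparated fi
    let c' := LimTop61.bcCone D (Cone.mk S π) fi g f hg.w
    let F₁ : c'.pt.Modules := F
    have : F₁.IsQuasicoherent := hq
    have : CohB1.IsFP F₁ := hfp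
    obtain ⟨j, -, Fj, hq', hfp', ⟨e⟩⟩ := LimTop61.exists_fp_descend (D := LimTop61.bcDiagram D fi) (c := c')
      (i₀ := Over.mk (𝟙 i)) (LimTop61.isLimitBcCone D _ hc fi g f hg) F₁
    refine ⟨D.obj j.left, hln _, hD.compact _, π.app j.left, pullback fi (D.map j.hom), pullback.snd _ _,
      inferInstance, inferInstance, c'.π.app j, Fj, ?_, ConsProp93.isCoh_of_isFP hq' hfp', ⟨e⟩⟩
    refine IsPullback.of_right ?_ ?_ (IsPullback.of_hasPullback fi (D.map j.hom))
    · convert hg using 1
      · exact pullback.lift_fst _ _ _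
      · exact (Cone.mk S π).w j.hom
    · exact pullback.lift_snd _ _ _
  have : IsNoetherian S' := ⟨⟩
  obtain ⟨t, Zs, hmono, h0, hlast, hs⟩ := exists_strat u' F' hF' ⊤
  refine ⟨t, fun i => (vI (Zs i)).comap π, fun a b hab => Scheme.IdealSheafData.comap_mono π
    (Scheme.IdealSheafData.vanishingIdeal_antimono (hmono hab)), ?_, ?_, fun i U => fg_comap _ π U, fun i p => ?_⟩
  · simp [vI, hlast]
  · rw [Scheme.IdealSheafData.support_comap]
    simp [vI, h0]
  let I₀ := vI (Zs i.castSucc)
  let I₁ := vI (Zs i.succ)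
  let W := stratum (I₀.comap π) (I₁.comap π)
  let k₀ : (W : Scheme.{u}) ⟶ I₀.subscheme := W.ι ≫ (I₀.comapIso π).hom ≫ pullback.snd _ _
  have hk₀ : k₀ ≫ I₀.subschemeι = stratumι (I₀.comap π) (I₁.comap π) ≫ π := by
    simp only [k₀, stratumι, Category.assoc, ← pullback.condition]
    rw [Scheme.IdealSheafData.comapIso_hom_fst_assoc]
  have hrange : Set.range k₀ ⊆ Set.range (stratum I₀ I₁).ι := by
    rintro _ ⟨a, rfl⟩
    rw [Scheme.Opens.range_ι]
    show I₀.subschemeι (k₀ a) ∉ (I₁.support : Set ↑S')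
    rw [← Scheme.Hom.comp_apply, hk₀, Scheme.Hom.comp_apply]
    intro h
    have h2 : (I₀.comap π).subschemeι (W.ι a) ∉ ((I₁.comap π).support : Set ↑S) := a.2
    rw [Scheme.IdealSheafData.support_comap] at h2
    exact h2 h
  let k := IsOpenImmersion.lift (stratum I₀ I₁).ι k₀ hrange
  let j := stratumι (I₀.comap π) (I₁.comap π)
  have hkj : k ≫ stratumι I₀ I₁ = j ≫ π := by
    show k ≫ (stratum I₀ I₁).ι ≫ I₀.subschemeι = _
    rw [IsOpenImmersion.lift_fac_assoc, hk₀]
  have h1 := isFlatOverAt_of_factor u' F' hF'.1 (stratumι I₀ I₁) k (pullback.fst f j ≫ e) (pullback.snd f j)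
    (hkj ▸ (IsPullback.of_hasPullback f j).paste_horiz sq) p fun p' _ => hs i p'
  refine isFlatOverAt_of_iso (pullback.snd f j) ?_ p h1
  exact ((Scheme.Modules.pullbackComp (pullback.fst f j) e).app F').symm ≪≫ (Scheme.Modules.pullback (pullback.fst f j)).mapIso φ

end Groth.Agent.FlatMor66.FlatStrat
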