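import Groth.Agent.GenFree62.Generic
import Mathlib

/-!
Generic freeness of cokernels (Hochster–Roberts).
-/

set_option autoImplicit false
set_option linter.style.haveILetI false
set_option linter.unusedVariables false
universe u

open TensorProduct
open Groth.Agent.GenFree62

namespace Groth.Agent.FlatMor66

variable {A : Type u} [CommRing A]

/-- Subquotients in a quotient module. -/
theorem nonempty_subquot_equiv {M : Type u} [AddCommGroup M] [Module A M] (E S T : Submodule A M) (hET : E ≤ T) :
    Nonempty ((T ⧸ (S ⊔ E).comap T.subtype) ≃ₗ[A] (T.map E.mkQ ⧸ (S.map E.mkQ).comap (T.map E.mkQ).subtype)) := by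
  let φ : T →ₗ[A] T.map E.mkQ ⧸ (S.map E.mkQ).comap (T.map E.mkQ).subtype :=
    ((S.map E.mkQ).comap (T.map E.mkQ).subtype).mkQ ∘ₗ
      (E.mkQ ∘ₗ T.subtype).codRestrict (T.map E.mkQ) (fun t => ⟨t, t.2, rfl⟩)
  have hφ : Function.Surjective φ := fun q => by
    obtain ⟨⟨_, t, ht, rfl⟩, rfl⟩ := Submodule.mkQ_surjective _ q
    exact ⟨⟨t, ht⟩, rfl⟩
  have hk : LinearMap.ker φ = (S ⊔ E).comap T.subtype := by
    ext t
    simp only [φ, LinearMap.ker_comp, Submodule.ker_mkQ, Submodule.mem_comap]
    show E.mkQ (t : M) ∈ S.map E.mkQ ↔ (t : M) ∈ S ⊔ E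
    rw [← Submodule.mem_comap, Submodule.comap_map_mkQ, sup_comm]
  exact ⟨(Submodule.quotEquivOfEq _ _ hk.symm).trans (φ.quotKerEquivOfSurjective hφ)⟩

variable [IsDomain A]

section Step

variable {P : Type u} [CommRing P] [Algebra A P] [IsNoetherianRing P]
  {M : Type u} [AddCommGroup M] [Module A M] [Module P M] [IsScalarTower A P M]

/-- The filtration step for a quotient by a submodule of the first piece. -/
theorem exists_freeAway_quot_of_endo (y : M →ₗ[P] M) (N : Submodule P M) [Module.Finite P N]
    (htop : ⨆ i, N.map (y ^ i) = ⊤) (E : Submodule A M) (hE : E ≤ N.restrictScalars A)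
    (hN : ∃ f : A, f ≠ 0 ∧ FreeAway f (N.restrictScalars A ⧸ E.comap (N.restrictScalars A).subtype))
    (ih : ∀ (Q : Type u) [AddCommGroup Q] [Module A Q] [Module P Q] [IsScalarTower A P Q] [Module.Finite P Q],
      ∃ f : A, f ≠ 0 ∧ FreeAway f Q) :
    ∃ f : A, f ≠ 0 ∧ FreeAway f (M ⧸ E) := by
  classical
  obtain ⟨f₀, hf₀, hN⟩ := hN
  set W := filt y N with hW
  have hmono : Monotone W := monotone_nat_of_le_succ fun i => le_sup_left
  have hW1 : W 1 = N := by simp [hW, filt, Module.End.one_eq_id]
  have hmapW : ∀ i, (W i).map y ≤ W (i + 1) := by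
    intro i
    induction i with
    | zero => simp [hW, filt]
    | succ i ih' =>
      show (W i ⊔ N.map (y ^ i)).map y ≤ W (i + 1) ⊔ N.map (y ^ (i + 1))
      rw [Submodule.map_sup, ← Submodule.map_comp, ← Module.End.mul_eq_comp, ← pow_succ']
      exact sup_le_sup ih' le_rfl
  let φ : ∀ i, N →ₗ[P] W (i + 1) ⧸ (W i).comap (W (i + 1)).subtype := fun i =>
    ((W i).comap (W (i + 1)).subtype).mkQ ∘ₗ
      ((y ^ i) ∘ₗ N.subtype).codRestrict (W (i + 1))
        (fun n => Submodule.mem_sup_right ⟨n, n.2, rfl⟩)
  have hφ : ∀ i, Function.Surjective (φ i) := by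
    intro i q
    obtain ⟨⟨x, hx⟩, rfl⟩ := Submodule.mkQ_surjective _ q
    obtain ⟨a, ha, _, ⟨n, hn, rfl⟩, rfl⟩ := Submodule.mem_sup.mp hx
    refine ⟨⟨n, hn⟩, (Submodule.Quotient.eq _).mpr ?_⟩
    show (y ^ i) n - (a + (y ^ i) n) ∈ W i
    rw [sub_add_cancel_right]
    exact (W i).neg_mem ha
  have hker : ∀ i n, n ∈ LinearMap.ker (φ i) ↔ (y ^ i) (n : M) ∈ W i := fun i n => by
    simp [φ, Submodule.Quotient.mk_eq_zero] <;> rfl
  have hKmono : Monotone fun i => LinearMap.ker (φ i) := monotone_nat_of_le_succ fun i n hn => by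
    rw [hker] at hn ⊢
    rw [pow_succ', Module.End.mul_apply]
    exact hmapW i ⟨_, hn, rfl⟩
  obtain ⟨m, hm⟩ := monotone_stabilizes_iff_noetherian.mpr (inferInstance : IsNoetherian P N) ⟨_, hKmono⟩
  let e : ∀ i, (N ⧸ LinearMap.ker (φ i)) ≃ₗ[P] W (i + 1) ⧸ (W i).comap (W (i + 1)).subtype :=
    fun i => (φ i).quotKerEquivOfSurjective (hφ i)
  choose f hf0 hf using fun i => ih (N ⧸ LinearMap.ker (φ i))
  set F := f₀ * ∏ i ∈ Finset.range (m + 1), f i with hF
  have hF0 : F ≠ 0 := mul_ne_zero hf₀ (Finset.prod_ne_zero_iff.mpr fun i _ => hf0 i)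
  refine ⟨F, hF0, freeAway_of_free (M := M ⧸ E) ?_⟩
  have hQ : ∀ i, FreeAway F (N ⧸ LinearMap.ker (φ i)) := by
    intro i
    rcases Nat.lt_or_ge i m with h | h
    · exact ((hf i).of_dvd (Finset.dvd_prod_of_mem f (by simp; omega))).of_dvd (Dvd.intro_left _ rfl)
    · exact (((hf m).of_dvd (Finset.dvd_prod_of_mem f (by simp))).of_dvd (Dvd.intro_left _ rfl)).of_equiv
        ((Submodule.quotEquivOfEq _ _ (hm i h)).restrictScalars A)
  let W' : ℕ → Submodule A (M ⧸ E) := fun i => ((W i).restrictScalars A).map E.mkQ
  have hquot : ∀ i, FreeAway F (W' (i + 1) ⧸ (W' i).comap (W' (i + 1)).subtype) := by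
    intro i
    obtain ⟨ε⟩ := nonempty_subquot_equiv E ((W i).restrictScalars A) ((W (i + 1)).restrictScalars A)
      (hE.trans fun x hx => hmono (Nat.le_add_left 1 i) (hW1.symm ▸ hx))
    refine FreeAway.of_equiv ?_ ε
    cases i with
    | zero =>
      have h0 : (W 0).restrictScalars A ⊔ E = E := by simp [hW, filt]
      have h1 : (W (0 + 1)).restrictScalars A = N.restrictScalars A := congrArg _ hW1
      rw [h0, h1]
      exact hN.of_dvd (Dvd.intro _ rfl)
    | succ i =>
      have h0 : (W (i + 1)).restrictScalars A ⊔ E = (W (i + 1)).restrictScalars A :=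
        sup_eq_left.mpr (hE.trans fun x hx => hmono (Nat.le_add_left 1 i) (hW1.symm ▸ hx))
      rw [h0]
      exact (hQ (i + 1)).of_equiv (((e (i + 1)).restrictScalars A) ≪≫ₗ
        (Submodule.Quotient.restrictScalarsEquiv A ((W (i + 1)).comap (W (i + 1 + 1)).subtype)).symm)
  have : ∀ i, Module.Free (Localization.Away F)
      (Localization.Away F ⊗[A] (W' (i + 1) ⧸ (W' i).comap (W' (i + 1)).subtype)) :=
    fun i => hquot i _ (IsLocalization.Away.algebraMap_isUnit _)
  have : Module.Flat A (Localization.Away F) := IsLocalization.flat _ (Submonoid.powers F)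
  refine free_baseChange_of_filtration _ W' (by simp [W', hW, filt])
    (fun i k h => Submodule.map_mono (hmono h)) ?_
  rw [← Submodule.map_iSup, ← Submodule.restrictScalars_iSup,
    show ⨆ i, W i = ⊤ from eq_top_iff.mpr (htop ▸ iSup_le fun i => le_trans le_sup_right (le_iSup W (i + 1))),
    Submodule.restrictScalars_top, Submodule.map_top, Submodule.range_mkQ]

end Step

variable [IsNoetherianRing A]

/-- The submodule generated by finitely many elements over the first `n` variables. -/
def lowSpan (n m : ℕ) (M : Type u) [AddCommGroup M] [Module A M] [Module (MvPolynomial (Fin (n + m)) A) M]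
    (e : Set M) : Submodule A M :=
  Submodule.span A (Set.image2 (fun (p : MvPolynomial (Fin n) A) z => MvPolynomial.rename (Fin.castAdd m) p • z) Set.univ e)

theorem exists_freeAway_quot_lowSpan (n m : ℕ) : ∀ (M : Type u) [AddCommGroup M] [Module A M]
    [Module (MvPolynomial (Fin (n + m)) A) M] [IsScalarTower A (MvPolynomial (Fin (n + m)) A) M]
    [Module.Finite (MvPolynomial (Fin (n + m)) A) M] (e : Set M), e.Finite →
    ∃ f : A, f ≠ 0 ∧ FreeAway f (M ⧸ lowSpan (A := A) n m M e) := by
  induction m with
  | zero =>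
    intro M _ _ _ _ _ e _
    let E' : Submodule (MvPolynomial (Fin (n + 0)) A) M := Submodule.span _ e
    have : lowSpan (A := A) n 0 M e = E'.restrictScalars A := by
      refine le_antisymm (Submodule.span_le.mpr ?_) ?_
      · rintro _ ⟨p, -, z, hz, rfl⟩
        exact E'.smul_mem _ (Submodule.subset_span hz)
      · intro x hx
        induction (show x ∈ E' from hx) using Submodule.span_induction with
        | mem z hz =>
          exact Submodule.subset_span ⟨1, trivial, z, hz, by simp⟩
        | zero => exact zero_mem _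
        | add a b _ _ ha hb => exact add_mem (ha (by assumption)) (hb (by assumption))
        | smul p a _ ha =>
          have key : lowSpan (A := A) n 0 M e ≤ (lowSpan (A := A) n 0 M e).comap (Algebra.lsmul A A M p) := by
            refine Submodule.span_le.mpr ?_
            rintro _ ⟨q, -, z, hz, rfl⟩
            refine Submodule.subset_span ⟨p * q, trivial, z, hz, ?_⟩
            show MvPolynomial.rename (Fin.castAdd 0) (p * q) • z = p • MvPolynomial.rename (Fin.castAdd 0) q • z
            rw [map_mul, mul_smul, show (Fin.castAdd 0 : Fin n → Fin (n + 0)) = id from rfl, MvPolynomial.rename_id_apply]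
          exact key (ha (by assumption))
    rw [this]
    obtain ⟨f, hf, hfree⟩ := exists_freeAway_mvPolynomial (A := A) (n + 0) (M ⧸ E')
    exact ⟨f, hf, hfree.of_equiv (Submodule.Quotient.restrictScalarsEquiv A E').symm⟩
  | succ m ih =>
    intro M _ _ _ _ hfin e he
    let ι : MvPolynomial (Fin (n + m)) A →ₐ[A] MvPolynomial (Fin (n + (m + 1))) A := MvPolynomial.rename Fin.castSucc
    letI : Module (MvPolynomial (Fin (n + m)) A) M := Module.compHom M ι.toRingHom
    have : IsScalarTower A (MvPolynomial (Fin (n + m)) A) M := IsScalarTower.of_algebraMap_smul fun a x => by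
      show ι (algebraMap A _ a) • x = a • x
      rw [ι.commutes, algebraMap_smul]
    obtain ⟨s, hs⟩ := hfin.fg_top
    let N : Submodule (MvPolynomial (Fin (n + m)) A) M := Submodule.span _ ((s : Set M) ∪ e)
    have : Module.Finite (MvPolynomial (Fin (n + m)) A) N :=
      Module.Finite.span_of_finite _ (s.finite_toSet.union he)
    let y : M →ₗ[MvPolynomial (Fin (n + m)) A] M :=
      { toFun := fun x => (MvPolynomial.X (Fin.last (n + m)) : MvPolynomial (Fin (n + (m + 1))) A) • x
        map_add' := smul_add _
        map_smul' := fun p x => by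
          show (MvPolynomial.X (Fin.last (n + m)) : MvPolynomial (Fin (n + (m + 1))) A) • (ι p • x) =
            ι p • ((MvPolynomial.X (Fin.last (n + m)) : MvPolynomial (Fin (n + (m + 1))) A) • x)
          exact smul_comm _ _ _ }
    have hlow : ∀ (p : MvPolynomial (Fin n) A) (z : M), MvPolynomial.rename (Fin.castAdd (m + 1)) p • z =
        MvPolynomial.rename (Fin.castAdd m) p • z := by
      intro p z
      show _ = ι _ • z
      rw [MvPolynomial.rename_rename]
      rfl
    have hE : lowSpan (A := A) n (m + 1) M e ≤ N.restrictScalars A := by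
      refine Submodule.span_le.mpr ?_
      rintro _ ⟨p, -, z, hz, rfl⟩
      show _ ∈ N
      simp only [hlow]
      exact N.smul_mem _ (Submodule.subset_span (Or.inr hz))
    refine exists_freeAway_quot_of_endo y N ?_ _ hE ?_ (exists_freeAway_mvPolynomial (n + m))
    · set U := ⨆ i, N.map (y ^ i)
      have hy : ∀ x ∈ U, y x ∈ U := by
        intro x hx
        refine (show U.map y ≤ U from ?_) ⟨x, hx, rfl⟩
        rw [Submodule.map_iSup]
        refine iSup_le fun i => le_trans ?_ (le_iSup _ (i + 1))
        rw [← Submodule.map_comp, ← Module.End.mul_eq_comp, ← pow_succ']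
      have hp : ∀ (p : MvPolynomial (Fin (n + (m + 1))) A) x, x ∈ U → p • x ∈ U := by
        intro p
        induction p using MvPolynomial.induction_on with
        | C a =>
          intro x hx
          rw [← MvPolynomial.algebraMap_eq, algebraMap_smul]
          exact U.smul_of_tower_mem a hx
        | add p q hp hq => intro x hx; rw [add_smul]; exact add_mem (hp x hx) (hq x hx)
        | mul_X p j hp =>
          intro x hx
          rw [mul_smul]
          refine hp _ ?_
          induction j using Fin.lastCases with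
          | last => exact hy x hx
          | cast j =>
            have h1 : (MvPolynomial.X j.castSucc : MvPolynomial (Fin (n + (m + 1))) A) • x
                = (MvPolynomial.X j : MvPolynomial (Fin (n + m)) A) • x := by
              show _ = ι _ • x
              rw [MvPolynomial.rename_X]
            rw [h1]
            exact U.smul_mem _ hx
      rw [eq_top_iff]
      intro x _
      have hx : x ∈ Submodule.span (MvPolynomial (Fin (n + (m + 1))) A) (s : Set M) := hs ▸ Submodule.mem_top
      induction hx using Submodule.span_induction with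
      | mem z hz => exact Submodule.mem_iSup_of_mem 0 ⟨z, Submodule.subset_span (Or.inl hz), by simp⟩
      | zero => exact zero_mem _
      | add a b _ _ ha hb => exact add_mem (ha trivial) (hb trivial)
      | smul p a _ ha => exact hp p a (ha trivial)
    · obtain ⟨f, hf, hfree⟩ := ih N (Subtype.val ⁻¹' e) (he.preimage Subtype.val_injective.injOn)
      let ε : N ≃ₗ[A] N.restrictScalars A := LinearEquiv.refl A _
      refine ⟨f, hf, hfree.of_equiv (Submodule.Quotient.equiv _ _ ε ?_)⟩
      refine Submodule.map_injective_of_injective (f := (N.restrictScalars A).subtype) Subtype.val_injective ?_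
      rw [Submodule.map_comap_subtype, inf_eq_right.mpr hE, lowSpan, lowSpan, Submodule.map_span, Submodule.map_span]
      congr 1
      ext x
      constructor
      · rintro ⟨_, ⟨_, ⟨p, -, z, hz, rfl⟩, rfl⟩, rfl⟩
        exact ⟨p, trivial, z, hz, hlow p z⟩
      · rintro ⟨p, -, z, hz, rfl⟩
        refine ⟨_, ⟨_, ⟨p, trivial, ⟨z, Submodule.subset_span (Or.inr hz)⟩, hz, rfl⟩, rfl⟩, ?_⟩
        exact (hlow p z).symm

theorem exists_flat_localizedModule_coker {B C : Type u} [CommRing B] [CommRing C]
    [Algebra A B] [Algebra B C] [Algebra A C] [IsScalarTower A B C] [Algebra.FiniteType A B] [Algebra.FiniteType B C]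
    {M N : Type u} [AddCommGroup M] [Module B M] [Module A M] [IsScalarTower A B M] [Module.Finite B M]
    [AddCommGroup N] [Module C N] [Module B N] [Module A N] [IsScalarTower B C N] [IsScalarTower A B N] [Module.Finite C N]
    (u : M →ₗ[B] N) :
    ∃ f : A, f ≠ 0 ∧ Module.Flat (Localization.Away f)
      (LocalizedModule (Submonoid.powers f) (N ⧸ (LinearMap.range u).restrictScalars A)) := by
  classical
  haveI : IsScalarTower A C N := IsScalarTower.of_algebraMap_smul fun a x => by
    rw [IsScalarTower.algebraMap_apply A B C, algebraMap_smul, algebraMap_smul]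
  obtain ⟨n, π₁, hπ₁⟩ := Algebra.FiniteType.iff_quotient_mvPolynomial''.mp ‹Algebra.FiniteType A B›
  obtain ⟨m, π₂, hπ₂⟩ := Algebra.FiniteType.iff_quotient_mvPolynomial''.mp ‹Algebra.FiniteType B C›
  let π : MvPolynomial (Fin (n + m)) A →ₐ[A] C :=
    MvPolynomial.aeval (Fin.append (fun i => algebraMap B C (π₁ (.X i))) fun j => π₂ (.X j))
  have hlow : ∀ p, π (MvPolynomial.rename (Fin.castAdd m) p) = algebraMap B C (π₁ p) := by
    intro p
    have : π.comp (MvPolynomial.rename (Fin.castAdd m)) = (IsScalarTower.toAlgHom A B C).comp π₁ :=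
      MvPolynomial.algHom_ext fun i => by simp [π]
    exact DFunLike.congr_fun this p
  have hπ : Function.Surjective π := by
    intro c
    obtain ⟨q, rfl⟩ := hπ₂ c
    induction q using MvPolynomial.induction_on with
    | C b =>
      obtain ⟨p, rfl⟩ := hπ₁ b
      exact ⟨MvPolynomial.rename (Fin.castAdd m) p, (hlow p).trans (π₂.commutes _).symm⟩
    | add p q hp hq =>
      obtain ⟨a, ha⟩ := hp
      obtain ⟨b, hb⟩ := hq
      exact ⟨a + b, by rw [map_add, map_add, ha, hb]⟩
    | mul_X p j hp =>
      obtain ⟨a, ha⟩ := hp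
      exact ⟨a * .X (Fin.natAdd n j), by rw [map_mul, map_mul, ha]; simp [π]⟩
  letI : Module (MvPolynomial (Fin (n + m)) A) N := Module.compHom N π.toRingHom
  have : IsScalarTower A (MvPolynomial (Fin (n + m)) A) N := IsScalarTower.of_algebraMap_smul fun a x => by
    show π (algebraMap A _ a) • x = a • x
    rw [π.commutes, algebraMap_smul]
  have : Module.Finite (MvPolynomial (Fin (n + m)) A) N := by
    obtain ⟨s, hs⟩ := ‹Module.Finite C N›.fg_top
    refine ⟨s, eq_top_iff.mpr fun x _ => ?_⟩
    have hx : x ∈ Submodule.span C (s : Set N) := hs ▸ Submodule.mem_top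
    induction hx using Submodule.span_induction with
    | mem z hz => exact Submodule.subset_span hz
    | zero => exact zero_mem _
    | add a b _ _ ha hb => exact add_mem (ha trivial) (hb trivial)
    | smul c a _ ha =>
      obtain ⟨p, rfl⟩ := hπ c
      exact Submodule.smul_mem _ p (ha trivial)
  obtain ⟨t, ht⟩ := Submodule.FG.map u (Module.Finite.fg_top (R := B) (M := M))
  rw [Submodule.map_top] at ht
  obtain ⟨f, hf, hfree⟩ := exists_freeAway_quot_lowSpan (A := A) n m N (t : Set N) t.finite_toSet
  have hmem : ∀ (p : MvPolynomial (Fin n) A) (z : N),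
      MvPolynomial.rename (Fin.castAdd m) p • z = π₁ p • z := fun p z => by
    show π _ • z = _
    rw [hlow, algebraMap_smul]
  have heq : lowSpan (A := A) n m N (t : Set N) = (LinearMap.range u).restrictScalars A := by
    rw [← ht]
    refine le_antisymm (Submodule.span_le.mpr ?_) ?_
    · rintro _ ⟨p, -, z, hz, rfl⟩
      show _ ∈ Submodule.span B (t : Set N)
      simp only [hmem]
      exact Submodule.smul_mem _ _ (Submodule.subset_span hz)
    · intro x hx
      obtain ⟨c, rfl⟩ := (Submodule.mem_span_finset'.mp (show x ∈ Submodule.span B (t : Set N) from hx))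
      refine sum_mem fun z _ => ?_
      obtain ⟨p, hp⟩ := hπ₁ (c z)
      exact Submodule.subset_span ⟨p, trivial, z, z.2, by simp only [hmem, hp]⟩
  rw [heq] at hfree
  have := hfree.localizedModule
  exact ⟨f, hf, inferInstance⟩

end Groth.Agent.FlatMor66
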