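import Groth.Agent.E4O.DimField
import Groth.Agent.E4O.UnibranchPoly
import Mathlib

/-!
An element of a finite type domain which cuts the fibre properly has no nonzero multiple in the base.
-/

set_option autoImplicit false
set_option linter.style.haveILetI false
set_option backward.isDefEq.respectTransparency.types false
universe u

noncomputable section

namespace Groth.Agent.FlatMor66

open MvPolynomial

set_option synthInstance.maxHeartbeats 400000 in
/-- An element of a system of relative parameters at a point of quasi-finiteness divides no nonzero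
element of the base. -/
theorem false_of_isolated {A C : Type u} [CommRing A] [CommRing C] [IsDomain A] [IsDomain C] [Algebra A C]
    [FaithfulSMul A C] [Algebra.FiniteType A C] {ι : Type u} [Finite ι] (T : ι → C) (o : ι)
    (hcard : Algebra.trdeg A C = Cardinal.mk ι) (P : Ideal C) [P.IsPrime] (hTo : T o ∈ P)
    (hmin : ∀ Q : Ideal C, Q.IsPrime → Q ≤ P → P.comap (aeval (R := A) T).toRingHom ≤
      Q.comap (aeval (R := A) T).toRingHom → Q = P)
    (hmax : ∀ Q : Ideal C, Q.IsPrime → P ≤ Q → Q.comap (aeval (R := A) T).toRingHom =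
      P.comap (aeval (R := A) T).toRingHom → Q = P)
    (a : A) (ha : a ≠ 0) (u h : C) (hu : u ∉ P) (he : algebraMap A C a * u = T o * h) : False := by
  classical
  letI algR : Algebra (MvPolynomial ι A) C := (aeval (R := A) T).toRingHom.toAlgebra
  have htow : IsScalarTower A (MvPolynomial ι A) C := IsScalarTower.of_algebraMap_eq fun x => ((aeval (R := A) T).commutes x).symm
  have : Algebra.FiniteType (MvPolynomial ι A) C := .of_restrictScalars_finiteType A _ _
  have hqf : Algebra.QuasiFiniteAt (MvPolynomial ι A) P := by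
    let q : PrimeSpectrum C := ⟨P, inferInstance⟩
    refine Algebra.QuasiFiniteAt.of_isOpen_singleton_fiber q ?_
    let e := PrimeSpectrum.preimageHomeomorphFiber (MvPolynomial ι A) C (q.comap (algebraMap (MvPolynomial ι A) C))
    rw [← e.isOpen_image, Set.image_singleton]
    let p := q.comap (algebraMap (MvPolynomial ι A) C)
    let Fb := p.asIdeal.Fiber C
    have : IsNoetherianRing Fb := Algebra.FiniteType.isNoetherianRing p.asIdeal.ResidueField _
    let o' := PrimeSpectrum.preimageOrderIsoFiber (MvPolynomial ι A) C p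
    have hP0 : ∀ R' : PrimeSpectrum Fb, R' ≤ o' ⟨q, rfl⟩ → R' = o' ⟨q, rfl⟩ := by
      intro R' hR'
      obtain ⟨⟨Q, hQ⟩, rfl⟩ := o'.surjective R'
      have hle : Q ≤ q := o'.le_iff_le.1 hR'
      exact congrArg o' (Subtype.ext (PrimeSpectrum.ext (hmin Q.asIdeal Q.2 hle (congrArg PrimeSpectrum.asIdeal hQ).symm.le)))
    have hP1 : ∀ R' : PrimeSpectrum Fb, o' ⟨q, rfl⟩ ≤ R' → R' = o' ⟨q, rfl⟩ := by
      intro R' hR'
      obtain ⟨⟨Q, hQ⟩, rfl⟩ := o'.surjective R'
      have hle : q ≤ Q := o'.le_iff_le.1 hR'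
      exact congrArg o' (Subtype.ext (PrimeSpectrum.ext (hmax Q.asIdeal Q.2 hle (congrArg PrimeSpectrum.asIdeal hQ))))
    show IsOpen {o' ⟨q, rfl⟩}
    rw [← isClosed_compl_iff]
    have hcompl : ({o' ⟨q, rfl⟩} : Set (PrimeSpectrum Fb))ᶜ =
        ⋃ m ∈ {m ∈ minimalPrimes Fb | m ≠ (o' ⟨q, rfl⟩).asIdeal}, PrimeSpectrum.zeroLocus (m : Set Fb) := by
      ext R'
      simp only [Set.mem_compl_iff, Set.mem_singleton_iff, Set.mem_iUnion, Set.mem_sep_iff,
        PrimeSpectrum.mem_zeroLocus, SetLike.coe_subset_coe, exists_prop]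
      constructor
      · intro hne
        obtain ⟨m, hm, hmR⟩ := Ideal.exists_minimalPrimes_le (bot_le : (⊥ : Ideal Fb) ≤ R'.asIdeal)
        refine ⟨m, ⟨hm, fun hm' => hne (hP1 R' ?_)⟩, hmR⟩
        exact hm'.symm.le.trans hmR
      · rintro ⟨m, ⟨hm, hne⟩, hmR⟩ rfl
        exact hne (congrArg PrimeSpectrum.asIdeal (hP0 ⟨m, hm.1.1⟩ hmR))
    rw [hcompl]
    exact Set.Finite.isClosed_biUnion ((minimalPrimes.finite_of_isNoetherianRing Fb).subset fun m hm => hm.1)
      fun m _ => PrimeSpectrum.isClosed_zeroLocus _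
  obtain ⟨r, hrP, hr⟩ := Algebra.zariskisMainProperty_iff'.1
    (Algebra.ZariskisMainProperty.of_finiteType (R := MvPolynomial ι A) P)
  let L := FractionRing C
  let ψ : C →ₐ[A] L := IsScalarTower.toAlgHom A C L
  have hψ : Function.Injective ψ := IsFractionRing.injective C L
  -- algebraic independence
  have halg : Algebra.IsAlgebraic (Algebra.adjoin A (Set.range T)) C := by
    have hS : ∀ z : C, IsIntegral (MvPolynomial ι A) z → IsIntegral (Algebra.adjoin A (Set.range T)) z := by
      intro z hz
      obtain ⟨p, hp, hp0⟩ := hz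
      refine ⟨p.map ((aeval (R := A) T).toRingHom.codRestrict (Algebra.adjoin A (Set.range T)).toSubring fun x => ?_),
        hp.map _, ?_⟩
      · rw [Subalgebra.mem_toSubring, Algebra.adjoin_range_eq_range_aeval]
        exact ⟨x, rfl⟩
      · rw [Polynomial.eval₂_map]
        exact hp0
    have hr' : IsIntegral (MvPolynomial ι A) r := by
      obtain ⟨n, hn⟩ := hr r
      rw [← pow_succ] at hn
      exact (IsIntegral.pow_iff (by simp)).mp hn
    have hr0 : r ≠ 0 := fun h0 => hrP (h0 ▸ P.zero_mem)
    refine ⟨fun x => ?_⟩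
    obtain ⟨m, hm⟩ := hr x
    have h1 : IsAlgebraic (Algebra.adjoin A (Set.range T)) (r ^ m * x) := (hS _ hm).isAlgebraic
    have h2 : IsAlgebraic (Algebra.adjoin A (Set.range T)) (r ^ m) := ((hS _ hr').pow m).isAlgebraic
    exact IsAlgebraic.of_mul (mem_nonZeroDivisors_of_ne_zero (pow_ne_zero m hr0)) h2 (mul_comm (r ^ m) x ▸ h1)
  have hind : AlgebraicIndependent A T := by
    obtain ⟨t, hts, htb⟩ := exists_isTranscendenceBasis_subset (R := A) (A := C) (Set.range T)
    have hct : Cardinal.mk t = Cardinal.mk ι := htb.cardinalMk_eq_trdeg.trans hcard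
    have hfin : (Set.range T).Finite := Set.finite_range T
    have hle : Cardinal.mk (Set.range T) ≤ Cardinal.mk ι := Cardinal.mk_range_le
    have heq : t = Set.range T := by
      refine Set.Finite.eq_of_subset_of_encard_le' hfin hts ?_
      rw [← Set.toENat_cardinalMk, ← Set.toENat_cardinalMk]
      exact OrderHomClass.mono Cardinal.toENat (hct ▸ hle)
    have hinj : Function.Injective T := by
      have h' : Cardinal.mk ι = Cardinal.mk (Set.range T) := by rw [← heq]; exact hct.symm
      exact Subtype.val_injective.comp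
        ((Finite.injective_iff_surjective_of_equiv (Cardinal.eq.1 h').some).2 Set.rangeFactorization_surjective)
    rw [heq] at htb
    exact (algebraicIndependent_subtype_range hinj).1 htb.1
  -- normalization of the base
  let A' := integralClosure A L
  have : IsIntegrallyClosedIn A' L := inferInstance
  have : IsIntegrallyClosed A' := .of_isIntegrallyClosed_of_isIntegrallyClosedIn A' L
  have : IsIntegrallyClosed (MvPolynomial ι A') := Groth.Agent.E4O.isIntegrallyClosed_mvPolynomial A' ι
  have hindL : AlgebraicIndependent A' (ψ ∘ T) := (hind.map' hψ).extendScalars_of_isIntegral A'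
  letI algR' : Algebra (MvPolynomial ι A') L := (aeval (R := A') (ψ ∘ T)).toRingHom.toAlgebra
  let R' := MvPolynomial ι A'
  let E := integralClosure C L
  have hE : ∀ x : R', algebraMap R' L x ∈ E := by
    intro x
    induction x using MvPolynomial.induction_on with
    | C c =>
      show aeval (ψ ∘ T) (MvPolynomial.C c) ∈ E
      rw [aeval_C]
      exact (c.2 : IsIntegral A (c : L)).tower_top
    | add p q hp hq => rw [map_add]; exact add_mem hp hq
    | mul_X p i hp =>
      rw [map_mul]
      refine mul_mem hp ?_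
      show aeval (ψ ∘ T) (MvPolynomial.X i : R') ∈ E
      rw [aeval_X]
      exact isIntegral_algebraMap
  letI : Algebra R' E := ((algebraMap R' L).codRestrict E.toSubring hE).toAlgebra
  have : IsScalarTower R' E L := IsScalarTower.of_algebraMap_eq fun x => rfl
  let D := integralClosure R' L
  have hDE : ∀ z : D, (z : L) ∈ E := fun z => by
    have h1 : IsIntegral E (z : L) := (z.2 : IsIntegral R' (z : L)).tower_top
    exact isIntegral_trans (R := C) (A := E) (z : L) h1
  letI : CommRing D := @Subalgebra.toCommRing R' L _ _ algR' D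
  have : FaithfulSMul R' D := (faithfulSMul_iff_algebraMap_injective _ _).2 fun x y hxy =>
    hindL (congrArg Subtype.val hxy)
  obtain ⟨PE, -, hPE, hPEc⟩ := Ideal.exists_ideal_over_prime_of_isIntegral P (⊥ : Ideal E)
    (by
      rw [← RingHom.ker_eq_comap_bot]
      exact le_of_eq_of_le ((RingHom.injective_iff_ker_eq_bot _).1
        fun x y hxy => hψ (congrArg Subtype.val hxy)) bot_le)
  let jD : D →+* E := D.val.toRingHom.codRestrict E.toSubring hDE
  let PD : Ideal D := PE.comap jD
  let Q₀ : Ideal R' := Ideal.span {(X o : R')}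
  have : Q₀.IsPrime := (Ideal.span_singleton_prime (X_ne_zero o)).2 MvPolynomial.X_prime
  have hQ₀ : Q₀ ≤ PD.under R' := by
    rw [Ideal.span_le, Set.singleton_subset_iff]
    show jD (algebraMap R' D (X o)) ∈ PE
    have : jD (algebraMap R' D (X o)) = algebraMap C E (T o) := Subtype.ext (aeval_X _ _)
    rw [this, ← Ideal.mem_comap, hPEc]
    exact hTo
  obtain ⟨Q', hQ', hQ'p, hQ'o⟩ := Ideal.exists_ideal_le_liesOver_of_le (R := R') (S := D) (p := Q₀)
    (q := PD.under R') PD hQ₀
  -- integral elements of `C` lie in `D`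
  have hint : ∀ c : C, IsIntegral (MvPolynomial ι A) c → IsIntegral R' (ψ c) := by
    intro c hc
    obtain ⟨p, hp, hp0⟩ := hc
    refine ⟨p.map (MvPolynomial.map (algebraMap A A')), hp.map _, ?_⟩
    rw [Polynomial.eval₂_map]
    have hcomp : (algebraMap R' L).comp (MvPolynomial.map (algebraMap A A')) =
        ψ.toRingHom.comp (algebraMap (MvPolynomial ι A) C) := by
      refine MvPolynomial.ringHom_ext (fun x => ?_) fun i => ?_
      · show aeval (ψ ∘ T) (map (algebraMap A A') (MvPolynomial.C x)) = ψ (aeval T (MvPolynomial.C x))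
        rw [map_C, aeval_C, aeval_C]
        exact (ψ.commutes x).symm
      · show aeval (ψ ∘ T) (map (algebraMap A A') (X i)) = ψ (aeval T (X i))
        rw [map_X, aeval_X, aeval_X]; rfl
    rw [hcomp]
    exact (Polynomial.hom_eval₂ p (algebraMap (MvPolynomial ι A) C) ψ.toRingHom c).symm.trans
      ((congrArg ψ hp0).trans (map_zero ψ))
  obtain ⟨m₁, hm₁⟩ := hr u
  obtain ⟨m₂, hm₂⟩ := hr h
  have hr' : IsIntegral (MvPolynomial ι A) r := by
    obtain ⟨n, hn⟩ := hr r
    rw [← pow_succ] at hn
    exact (IsIntegral.pow_iff (by simp)).mp hn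
  let N := m₁ + m₂
  have hu' : IsIntegral (MvPolynomial ι A) (r ^ N * u) := by
    have := (hr'.pow m₂).mul hm₁
    rwa [← mul_assoc, ← pow_add, add_comm] at this
  have hh' : IsIntegral (MvPolynomial ι A) (r ^ N * h) := by
    have := (hr'.pow m₁).mul hm₂
    rwa [← mul_assoc, ← pow_add] at this
  let uD : D := ⟨ψ (r ^ N * u), hint _ hu'⟩
  let hD : D := ⟨ψ (r ^ N * h), hint _ hh'⟩
  let aR : R' := MvPolynomial.C (algebraMap A A' a)
  have heq : algebraMap R' D aR * uD = algebraMap R' D (X o) * hD := by
    refine Subtype.ext ?_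
    show aeval (ψ ∘ T) aR * ψ (r ^ N * u) = aeval (ψ ∘ T) (X o : R') * ψ (r ^ N * h)
    rw [aeval_C, aeval_X, Function.comp_apply, ← IsScalarTower.algebraMap_apply A A' L, ← ψ.commutes a,
      ← map_mul, ← map_mul, mul_left_comm, he, mul_left_comm]
  have hXo : algebraMap R' D (X o) * hD ∈ Q' :=
    Q'.mul_mem_right _ ((Ideal.LiesOver.over (P := Q') (p := Q₀)).le (Ideal.subset_span rfl))
  rw [← heq] at hXo
  rcases hQ'p.mem_or_mem hXo with h1 | h1
  · have h2 : aR ∈ Q₀ := (Ideal.LiesOver.over (P := Q') (p := Q₀)).ge h1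
    obtain ⟨c, hc⟩ := Ideal.mem_span_singleton.1 h2
    have := congrArg (MvPolynomial.eval (fun _ : ι => (0 : A'))) hc
    rw [eval_C, map_mul, eval_X, zero_mul] at this
    refine ha (hψ.comp (FaithfulSMul.algebraMap_injective A C) ?_)
    show ψ (algebraMap A C a) = ψ (algebraMap A C 0)
    rw [map_zero, map_zero, ψ.commutes, IsScalarTower.algebraMap_apply A A' L, this, map_zero]
  · have h2 : jD uD ∈ PE := hQ' h1
    have h3 : jD uD = algebraMap C E (r ^ N * u) := Subtype.ext rfl
    rw [h3, ← Ideal.mem_comap, hPEc] at h2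
    rcases (inferInstance : P.IsPrime).mem_or_mem h2 with h4 | h4
    · exact hrP ((inferInstance : P.IsPrime).mem_of_pow_mem _ h4)
    · exact hu h4

end Groth.Agent.FlatMor66
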