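import Groth.Agent.FlatMor66.HorizElem
import Mathlib

/-!
An element lying in no component of the closed fibre is horizontal.
-/

set_option autoImplicit false
set_option linter.style.haveILetI false
set_option backward.isDefEq.respectTransparency.types false
universe u

noncomputable section

namespace Groth.Agent.FlatMor66

/-- In a Noetherian local ring, an element outside all minimal primes starts a system of parameters. -/
theorem exists_parameters {R : Type u} [CommRing R] [IsNoetherianRing R] [IsLocalRing R] (g : R)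
    (hg : g ∈ IsLocalRing.maximalIdeal R) (hmin : ∀ q ∈ minimalPrimes R, g ∉ q) (d : ℕ) (hd : ringKrullDim R ≤ d) :
    ∃ (k : ℕ) (x : Fin k → R), k + 1 = d ∧ (∀ i, x i ∈ IsLocalRing.maximalIdeal R) ∧
      ∀ Q : Ideal R, Q.IsPrime → g ∈ Q → (∀ i, x i ∈ Q) → Q = IsLocalRing.maximalIdeal R := by
  classical
  let G : Ideal R := Ideal.span {g}
  have hGm : G ≤ IsLocalRing.maximalIdeal R := (Ideal.span_singleton_le_iff_mem _).2 hg
  let f := Ideal.Quotient.mk G
  have hf : Function.Surjective f := Ideal.Quotient.mk_surjective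
  let m₁ := (IsLocalRing.maximalIdeal R).map f
  have hm₁ : m₁.IsPrime := Ideal.map_isPrime_of_surjective hf (by rw [Ideal.mk_ker]; exact hGm)
  have hm₁c : m₁.comap f = IsLocalRing.maximalIdeal R := by
    rw [Ideal.comap_map_of_surjective f hf, ← RingHom.ker_eq_comap_bot, Ideal.mk_ker, sup_eq_left.2 hGm]
  have hlt : ((m₁.height : ℕ∞) : WithBot ℕ∞) + 1 ≤ d := by
    refine le_trans ?_ hd
    rw [show m₁.height = Order.height (⟨m₁, hm₁⟩ : PrimeSpectrum (R ⧸ G)) from
      PrimeSpectrum.height_eq_orderHeight ⟨m₁, hm₁⟩, ringKrullDim]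
    rw [Order.height_eq_krullDim_Iic, Order.krullDim_eq_iSup_length (α := Set.Iic (⟨m₁, hm₁⟩ : PrimeSpectrum (R ⧸ G))),
      ← WithBot.coe_one, ← WithBot.coe_add, ENat.iSup_add, Order.krullDim_eq_iSup_length, WithBot.coe_le_coe,
      iSup_le_iff]
    intro l
    let φ : Set.Iic (⟨m₁, hm₁⟩ : PrimeSpectrum (R ⧸ G)) → PrimeSpectrum R := fun q => PrimeSpectrum.comap f q.1
    have hφ : StrictMono φ := Monotone.strictMono_of_injective (fun a b h => Ideal.comap_mono h)
      fun a b h => Subtype.ext (PrimeSpectrum.comap_injective_of_surjective f hf h)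
    obtain ⟨p, hp, hp'⟩ := Ideal.exists_minimalPrimes_le (J := (φ l.head).asIdeal) bot_le
    have hp'' : (⟨p, hp.1.1⟩ : PrimeSpectrum R) < (l.map φ hφ).head := by
      refine lt_of_le_of_ne hp' fun h => hmin p hp ?_
      have h2 : g ∈ (φ l.head).asIdeal := by
        show f g ∈ (l.head).1.asIdeal
        rw [Ideal.Quotient.eq_zero_iff_mem.2 (Ideal.mem_span_singleton_self g)]
        exact Ideal.zero_mem _
      exact (congrArg PrimeSpectrum.asIdeal h).ge h2
    refine le_trans ?_ (le_iSup _ ((l.map φ hφ).cons ⟨p, hp.1.1⟩ hp''))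
    simp
  obtain ⟨s, hs, hcard⟩ := m₁.exists_finset_card_eq_height_of_isNoetherianRing
  rw [← hcard] at hlt
  have hlt' : s.card + 1 ≤ d := by exact_mod_cast hlt
  obtain ⟨k, rfl⟩ : ∃ k, d = k + 1 := ⟨d - 1, by omega⟩
  choose lift hlift using hf
  let l := s.toList
  refine ⟨k, fun i => if h : (i : ℕ) < l.length then lift l[(i : ℕ)] else 0, rfl, fun i => ?_, fun Q hQ hgQ hxQ => ?_⟩
  · dsimp only
    split_ifs with h
    · rw [← hm₁c, Ideal.mem_comap, hlift]
      exact hs.1.2 (Ideal.subset_span (Finset.mem_toList.1 (List.getElem_mem h)))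
    · exact Ideal.zero_mem _
  · have hGQ : G ≤ Q := (Ideal.span_singleton_le_iff_mem _).2 hgQ
    have hQ' : (Q.map f).IsPrime :=
      Ideal.map_isPrime_of_surjective Ideal.Quotient.mk_surjective (by rw [Ideal.mk_ker]; exact hGQ)
    have hQc : (Q.map f).comap f = Q := by
      rw [Ideal.comap_map_of_surjective f Ideal.Quotient.mk_surjective, ← RingHom.ker_eq_comap_bot, Ideal.mk_ker, sup_eq_left.2 hGQ]
    have hspan : Ideal.span (s : Set (R ⧸ G)) ≤ Q.map f := by
      rw [Ideal.span_le]
      intro y hy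
      obtain ⟨n, hn, rfl⟩ := List.getElem_of_mem (Finset.mem_toList.2 hy)
      have hnk : n < k := by
        have : s.toList.length = s.card := Finset.length_toList s
        omega
      have := hxQ ⟨n, hnk⟩
      simp only [dif_pos (show n < l.length from hn)] at this
      exact hlift (l[n]) ▸ Ideal.mem_map_of_mem f this
    refine le_antisymm (IsLocalRing.le_maximalIdeal hQ.ne_top) ?_
    rw [← hm₁c, ← hQc]
    exact Ideal.comap_mono (hs.2 ⟨hQ', hspan⟩ (Ideal.map_mono (IsLocalRing.le_maximalIdeal hQ.ne_top)))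

open MvPolynomial in
/-- An element outside all components of the closed fibre divides no nonzero element of the base. -/
theorem not_mem_span_of_proper_cut {A C B : Type u} [CommRing A] [CommRing C] [CommRing B] [IsDomain A] [IsDomain C]
    [IsLocalRing B] [Algebra A C] [Algebra A B] [Algebra C B] [IsScalarTower A C B]
    [FaithfulSMul A C] [FaithfulSMul C B] [Algebra.FiniteType A C]
    (M : Submonoid C) [IsLocalization M B] (g : B) (hg : g ∈ IsLocalRing.maximalIdeal B)
    (hmin : ∀ q ∈ (Ideal.map (algebraMap A B) (((IsLocalRing.maximalIdeal B).under C).under A)).minimalPrimes, g ∉ q)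
    (d e : ℕ) (hd : ringKrullDim (B ⧸ Ideal.map (algebraMap A B) (((IsLocalRing.maximalIdeal B).under C).under A)) ≤ d)
    (he : Algebra.trdeg (A ⧸ ((IsLocalRing.maximalIdeal B).under C).under A)
      (C ⧸ (IsLocalRing.maximalIdeal B).under C) = e)
    (hsum : Algebra.trdeg A C = (d + e : ℕ)) (a : A) (ha : a ≠ 0) : algebraMap A B a ∉ Ideal.span {g} := by
  classical
  intro hag
  obtain ⟨w, hw⟩ := Ideal.mem_span_singleton'.1 hag
  let P := (IsLocalRing.maximalIdeal B).under C
  let m := P.under A
  let J := Ideal.map (algebraMap A B) m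
  have hPp : P.under A = m := rfl
  obtain ⟨⟨cg, sg⟩, hcg⟩ := IsLocalization.surj M g
  obtain ⟨⟨cw, sw⟩, hcw⟩ := IsLocalization.surj M w
  dsimp only at hcg hcw
  have hunit : ∀ s : M, (s : C) ∉ P := fun s hs => hs (IsLocalization.map_units B s)
  have hJm : J ≤ IsLocalRing.maximalIdeal B := Ideal.map_le_iff_le_comap.2 fun x hx => by
    rw [Ideal.mem_comap, IsScalarTower.algebraMap_apply A C B]
    exact hx
  let R := B ⧸ J
  have : Algebra.EssFiniteType A B := by
    have : Algebra.EssFiniteType C B := .of_isLocalization B M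
    exact Algebra.EssFiniteType.comp A C B
  have : IsLocalRing R := by
    have : Nontrivial R := Ideal.Quotient.nontrivial_iff.2 fun h => (IsLocalRing.maximalIdeal.isMaximal B).ne_top (eq_top_iff.2 (h ▸ hJm))
    exact IsLocalRing.of_surjective' (Ideal.Quotient.mk J) Ideal.Quotient.mk_surjective
  let Am := Localization.AtPrime m
  have hu : ∀ y : m.primeCompl, IsUnit (algebraMap A B y) := fun y => IsLocalRing.notMem_maximalIdeal.1 fun h => y.2 <| by
    show algebraMap C B (algebraMap A C y) ∈ IsLocalRing.maximalIdeal B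
    rwa [← IsScalarTower.algebraMap_apply]
  letI : Algebra Am B := (IsLocalization.lift hu).toAlgebra
  have : IsScalarTower A Am B := IsScalarTower.of_algebraMap_eq fun x => (IsLocalization.lift_eq hu x).symm
  have : Algebra.EssFiniteType Am B := Algebra.EssFiniteType.of_comp A Am B
  letI : Field (Am ⧸ IsLocalRing.maximalIdeal Am) := Ideal.Quotient.field _
  have hJ : J = (IsLocalRing.maximalIdeal Am).map (algebraMap Am B) := by
    rw [← IsLocalization.AtPrime.map_eq_maximalIdeal m Am, Ideal.map_map, ← IsScalarTower.algebraMap_eq]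
  have : IsNoetherianRing (B ⧸ (IsLocalRing.maximalIdeal Am).map (algebraMap Am B)) :=
    Algebra.EssFiniteType.isNoetherianRing (Am ⧸ IsLocalRing.maximalIdeal Am) _
  have : IsNoetherianRing R := isNoetherianRing_of_ringEquiv _ (Ideal.quotEquivOfEq hJ.symm)
  have hmR : IsLocalRing.maximalIdeal R = (IsLocalRing.maximalIdeal B).map (Ideal.Quotient.mk J) :=
    (IsLocalRing.map_maximalIdeal_of_surjective _ Ideal.Quotient.mk_surjective).symm
  obtain ⟨k, x, rfl, hxm, hx⟩ := exists_parameters (R := R) (Ideal.Quotient.mk J g)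
    (hmR ▸ Ideal.mem_map_of_mem _ hg) (fun q hq hgq => hmin (q.comap (Ideal.Quotient.mk J))
      (by rw [Ideal.minimalPrimes_eq_comap]; exact ⟨q, hq, rfl⟩) hgq) d hd
  have hlift : ∀ i, ∃ (c : C) (s : M) (b : B), Ideal.Quotient.mk J b = x i ∧ b * algebraMap C B s = algebraMap C B c := fun i => by
    obtain ⟨b, hb⟩ := Ideal.Quotient.mk_surjective (x i)
    obtain ⟨⟨c, s⟩, hc⟩ := IsLocalization.surj M b
    exact ⟨c, s, b, hb, hc⟩
  choose cx sx bx hbx hcx using hlift
  let D := A ⧸ P.under A
  have : FaithfulSMul D (C ⧸ P) := (faithfulSMul_iff_algebraMap_injective _ _).2 Ideal.algebraMap_quotient_injective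
  have : IsDomain D := Ideal.Quotient.isDomain _
  obtain ⟨κ, y, hy⟩ := exists_isTranscendenceBasis' D (C ⧸ P)
  have hκ : Cardinal.mk κ = e := hy.cardinalMk_eq_trdeg.trans he
  have : Finite κ := Cardinal.mk_lt_aleph0_iff.1 (hκ ▸ Cardinal.natCast_lt_aleph0)
  choose t ht using fun i => Ideal.Quotient.mk_surjective (I := P) (y i)
  let ι := Option (ULift.{u} (Fin k) ⊕ κ)
  let T : ι → C := fun i => i.elim cg (Sum.elim (fun j => cx j.down) t)
  have hcard : Algebra.trdeg A C = Cardinal.mk ι := by
    rw [hsum, Cardinal.mk_option, Cardinal.mk_sum, hκ, Cardinal.lift_id, Cardinal.lift_id, Cardinal.mk_uLift,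
      Cardinal.mk_fin, Cardinal.lift_natCast]
    push_cast
    ring
  have hgP : cg ∈ P := by
    show algebraMap C B cg ∈ IsLocalRing.maximalIdeal B
    rw [← hcg]
    exact Ideal.mul_mem_right _ _ hg
  have hxP : ∀ i, cx i ∈ P := fun i => by
    show algebraMap C B (cx i) ∈ IsLocalRing.maximalIdeal B
    rw [← hcx]
    refine Ideal.mul_mem_right _ _ ?_
    have h := hxm i
    rw [← hbx i, hmR, Ideal.mem_map_iff_of_surjective _ Ideal.Quotient.mk_surjective] at h
    obtain ⟨b', hb', hbb⟩ := h
    have h2 : bx i - b' ∈ J := Ideal.Quotient.eq.1 hbb.symm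
    simpa using (IsLocalRing.maximalIdeal B).add_mem (hJm h2) hb'
  refine false_of_isolated T none hcard P hgP ?_ ?_ a ha ((sg : C) * sw) cw ?_ ?_
  · intro Q hQ hQP hle
    have hdis : Disjoint (M : Set C) Q := Set.disjoint_left.2 fun c hc hcQ => hunit ⟨c, hc⟩ (hQP hcQ)
    let QB := Q.map (algebraMap C B)
    have hQBp : QB.IsPrime := IsLocalization.isPrime_of_isPrime_disjoint M B Q hQ hdis
    have hQBc : QB.comap (algebraMap C B) = Q := IsLocalization.comap_map_of_isPrime_disjoint M B hQ hdis
    have hJQ : J ≤ QB := Ideal.map_le_iff_le_comap.2 fun z hz => by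
      have h1 : aeval (R := A) T (MvPolynomial.C z) ∈ Q := hle (show aeval (R := A) T (MvPolynomial.C z) ∈ P by
        rw [aeval_C]; exact hPp.ge hz)
      rw [aeval_C] at h1
      rw [Ideal.mem_comap, IsScalarTower.algebraMap_apply A C B]
      exact Ideal.mem_map_of_mem _ h1
    have hT : ∀ i, T i ∈ P → T i ∈ Q := fun i hi => by
      have h1 : aeval (R := A) T (X i) ∈ Q := hle (show aeval (R := A) T (X i) ∈ P by rwa [aeval_X])
      rwa [aeval_X] at h1
    let QR := QB.map (Ideal.Quotient.mk J)
    have hQR : QR.IsPrime := Ideal.map_isPrime_of_surjective Ideal.Quotient.mk_surjective (by rw [Ideal.mk_ker]; exact hJQ)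
    have hg' : g ∈ QB := (hQBp.mem_or_mem (hcg ▸ Ideal.mem_map_of_mem _ (hT none hgP) : g * algebraMap C B sg ∈ QB)).resolve_right
      fun h => hQBp.ne_top (Ideal.eq_top_of_isUnit_mem _ h (IsLocalization.map_units B sg))
    have hmax := hx QR hQR (Ideal.mem_map_of_mem _ hg') fun i => by
      rw [← hbx i]
      refine Ideal.mem_map_of_mem _ ((hQBp.mem_or_mem (?_ : bx i * algebraMap C B (sx i) ∈ QB)).resolve_right
        fun h => hQBp.ne_top (Ideal.eq_top_of_isUnit_mem _ h (IsLocalization.map_units B (sx i))))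
      rw [hcx]
      exact Ideal.mem_map_of_mem _ (hT (some (Sum.inl ⟨i⟩)) (hxP i))
    refine le_antisymm hQP ?_
    rw [← hQBc, ← sup_eq_left.2 hJQ, ← Ideal.mk_ker (I := J), RingHom.ker_eq_comap_bot,
      ← Ideal.comap_map_of_surjective _ Ideal.Quotient.mk_surjective, show QB.map (Ideal.Quotient.mk J) = IsLocalRing.maximalIdeal R from hmax]
    refine Ideal.comap_mono ?_
    rw [hmR]
    exact Ideal.le_comap_map
  · intro Q hQ hPQ heq
    refine le_antisymm (fun z hzQ => ?_) hPQ
    by_contra hzP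
    have hz0 : Ideal.Quotient.mk P z ≠ 0 := fun h => hzP (Ideal.Quotient.eq_zero_iff_mem.1 h)
    obtain ⟨⟨r, hr⟩, hr0, hdvd⟩ := (hy.isAlgebraic.isAlgebraic (Ideal.Quotient.mk P z)).exists_nonzero_dvd
      (mem_nonZeroDivisors_of_ne_zero hz0)
    have key : ∀ r ∈ Algebra.adjoin D (Set.range y), r ∈ ((Ideal.Quotient.mk P).comp (aeval (R := A) T).toRingHom).range := by
      intro r hr
      induction hr using Algebra.adjoin_induction with
      | mem v hv =>
        obtain ⟨i, rfl⟩ := hv
        refine ⟨X (some (Sum.inr i)), ?_⟩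
        simp [T, ht]
      | algebraMap v =>
        obtain ⟨v, rfl⟩ := Ideal.Quotient.mk_surjective v
        refine ⟨MvPolynomial.C v, ?_⟩
        show Ideal.Quotient.mk P (aeval (R := A) T (MvPolynomial.C v)) = _
        rw [aeval_C]; rfl
      | add v v' _ _ h1 h2 => exact add_mem h1 h2
      | mul v v' _ _ h1 h2 => exact mul_mem h1 h2
    obtain ⟨q, rfl⟩ := key r hr
    obtain ⟨v, hv⟩ := hdvd
    obtain ⟨v, rfl⟩ := Ideal.Quotient.mk_surjective v
    change Ideal.Quotient.mk P (aeval (R := A) T q) = Ideal.Quotient.mk P z * Ideal.Quotient.mk P v at hv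
    rw [← map_mul, Ideal.Quotient.eq] at hv
    have hqQ : aeval (R := A) T q ∈ Q := by
      simpa using Q.add_mem (hPQ hv) (Q.mul_mem_right v hzQ)
    exact hr0 (Subtype.ext (Ideal.Quotient.eq_zero_iff_mem.2 (heq.le (show q ∈ Q.comap (aeval (R := A) T).toRingHom from hqQ))))
  · exact fun h => (Ideal.IsPrime.mem_or_mem inferInstance h).elim (hunit sg) (hunit sw)
  · refine FaithfulSMul.algebraMap_injective C B ?_
    rw [map_mul, map_mul, map_mul]
    show algebraMap C B (algebraMap A C a) * _ = algebraMap C B cg * algebraMap C B cw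
    rw [← IsScalarTower.algebraMap_apply, ← hw, ← hcg, ← hcw]
    ring

end Groth.Agent.FlatMor66
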