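import Groth.Agent.S9738
import Groth.Agent.S0386
import Groth.Agent.Open62.SmoothBaseChange
import Groth.Agent.Unr55.StalkCrit
import Groth.Agent.SchBasics.UnramAt
import Groth.Agent.CAlg9.NisSize.Gen

/-!
Smooth and étale morphisms detected on infinitesimal neighbourhoods.
-/

set_option autoImplicit false
set_option linter.style.haveILetI false
set_option backward.isDefEq.respectTransparency.types false
universe u

open AlgebraicGeometry CategoryTheory Limits

noncomputable section

namespace Groth.Agent.FlatMor66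

variable {X S : Scheme.{u}} (f : X ⟶ S) (I : S.IdealSheafData)

/-- A reduced scheme over the closed subscheme factors through it. -/
theorem exists_lift_support {T : Scheme.{u}} [IsReduced T] (t : T ⟶ S) (h : ∀ p, t p ∈ I.support) :
    ∃ l : T ⟶ (I ^ (0 + 1)).subscheme, l ≫ (I ^ (0 + 1)).subschemeι = t := by
  refine CAlg9.NisSize.exists_lift _ t ?_
  rintro _ ⟨p, rfl⟩
  rw [Scheme.IdealSheafData.range_subschemeι, zero_add, pow_one]
  exact h p

/-- A property of the first neighbourhood passes to reduced schemes over the closed subscheme. -/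
theorem prop_of_nbhd (P : MorphismProperty Scheme.{u}) [P.IsStableUnderBaseChange]
    (h : P (pullback.snd f (I ^ (0 + 1)).subschemeι)) {T : Scheme.{u}} [IsReduced T] (t : T ⟶ S)
    (ht : ∀ p, t p ∈ I.support) : P (pullback.snd f t) := by
  obtain ⟨l, hl⟩ := exists_lift_support I t ht
  let m := (IsPullback.of_hasPullback f (I ^ (0 + 1)).subschemeι).lift (pullback.fst f t) (pullback.snd f t ≫ l)
    (by rw [Category.assoc, hl, pullback.condition])
  have hm : IsPullback m (pullback.snd f t) (pullback.snd f (I ^ (0 + 1)).subschemeι) l :=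
    IsPullback.of_right (by rw [IsPullback.lift_fst, hl]; exact IsPullback.of_hasPullback f t)
      (IsPullback.lift_snd _ _ _ _) (IsPullback.of_hasPullback f (I ^ (0 + 1)).subschemeι)
  exact MorphismProperty.of_isPullback hm h

variable [IsLocallyNoetherian S] [LocallyOfFinitePresentation f]

/-- Smoothness from the infinitesimal neighbourhoods. -/
theorem mem_smoothLocus_of_nbhds (h : ∀ n : ℕ, Smooth (pullback.snd f (I ^ (n + 1)).subschemeι)) (x : X)
    (hx : f x ∈ I.support) : x ∈ f.smoothLocus := by
  haveI : IsLocallyNoetherian X := LocallyOfFiniteType.isLocallyNoetherian f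
  have hfl : (f.stalkMap x).hom.Flat := S9738.result f I (fun n => by haveI := h n; infer_instance) x hx
  let U : X.Opens := ⟨{y | (f.stalkMap y).hom.Flat}, S0386.result f⟩
  let x₀ : U := ⟨x, hfl⟩
  haveI : Flat (U.ι ≫ f) := Flat.of_stalkMap _ fun y =>
    (Unr55.stalkMap_iff_restrict f RingHom.Flat.respectsIso U y).mp y.2
  haveI : IsLocallyNoetherian U := LocallyOfFiniteType.isLocallyNoetherian U.ι
  have key : x₀ ∈ (U.ι ≫ f).smoothLocus := by
    refine Open62.mem_smoothLocus_of_flat_of_fibre (f := U.ι ≫ f) x₀ fun K _ t p _ hp => ?_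
    have ht : ∀ k, t k ∈ I.support := fun k => by
      have : k = pullback.snd (U.ι ≫ f) t p := Subsingleton.elim _ _
      rw [this, ← Scheme.Hom.comp_apply, ← pullback.condition, Scheme.Hom.comp_apply, hp]
      exact hx
    haveI := prop_of_nbhd f I @Smooth (h 0) t ht
    let j : pullback (U.ι ≫ f) t ⟶ pullback f t :=
      pullback.map (U.ι ≫ f) t f t U.ι (𝟙 _) (𝟙 S) (Category.comp_id _) ((Category.comp_id t).trans (Category.id_comp t).symm)
    have hj : j ≫ pullback.snd f t = pullback.snd (U.ι ≫ f) t := (pullback.lift_snd _ _ _).trans (Category.comp_id _)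
    haveI : Smooth (pullback.snd (U.ι ≫ f) t) := by rw [← hj]; infer_instance
    rw [Scheme.Hom.smoothLocus_eq_top]
    trivial
  refine Scheme.Hom.mem_smoothLocus.mpr ?_
  exact (Unr55.stalkMap_iff_restrict f RingHom.FormallySmooth.respectsIso U x₀).mpr (Scheme.Hom.mem_smoothLocus.mp key)

/-- Étaleness from the infinitesimal neighbourhoods. -/
theorem exists_etale_of_nbhds (h : ∀ n : ℕ, Etale (pullback.snd f (I ^ (n + 1)).subschemeι)) (x : X)
    (hx : f x ∈ I.support) : ∃ U : X.Opens, x ∈ U ∧ Etale (U.ι ≫ f) := by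
  have hsm := mem_smoothLocus_of_nbhds f I (fun n => by haveI := h n; infer_instance) x hx
  have hunr : (f.stalkMap x).hom.FormallyUnramified := by
    have hu := SchBasics.formallyUnramified_stalkMap_iff_fiber (𝟙 S) f f (Category.comp_id f) (f x) (f.asFiber x)
    rw [Scheme.Hom.fiberι_asFiber] at hu
    refine hu.mpr ?_
    have hfib : Etale (f.fiberToSpecResidueField (f x)) :=
      prop_of_nbhd f I @Etale (h 0) (S.fromSpecResidueField (f x))
        fun k => by rw [Scheme.fromSpecResidueField_apply]; exact hx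
    haveI : IsIso ((𝟙 S : S ⟶ S).fiberToSpecResidueField (f x)) :=
      MorphismProperty.pullback_snd (P := MorphismProperty.isomorphisms Scheme.{u}) _ _ (inferInstanceAs (IsIso (𝟙 S)))
    have hfu : FormallyUnramified (CohIII.fiberMapOver f f (𝟙 S) (Category.comp_id f) (f x) ≫
        (𝟙 S : S ⟶ S).fiberToSpecResidueField (f x)) := by
      haveI := hfib
      rw [show CohIII.fiberMapOver f f (𝟙 S) (Category.comp_id f) (f x) ≫
        (𝟙 S : S ⟶ S).fiberToSpecResidueField (f x) = f.fiberToSpecResidueField (f x) from pullback.lift_snd _ _ _]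
      infer_instance
    rw [MorphismProperty.cancel_right_of_respectsIso @FormallyUnramified] at hfu
    haveI := hfu
    exact FormallyUnramified.stalkMap _ _
  obtain ⟨U₁, hx₁, h1⟩ := (Unr55.exists_formallyUnramified_iff f x).mpr hunr
  obtain ⟨U₂, hx₂, h2⟩ := (Unr55.exists_smooth_iff f x).mpr (Scheme.Hom.mem_smoothLocus.mp hsm)
  refine ⟨U₁ ⊓ U₂, ⟨hx₁, hx₂⟩, ?_⟩
  haveI : FormallyUnramified ((U₁ ⊓ U₂).ι ≫ f) := by
    rw [← X.homOfLE_ι (inf_le_left : U₁ ⊓ U₂ ≤ U₁), Category.assoc]
    exact MorphismProperty.comp_mem @FormallyUnramified _ _ inferInstance h1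
  haveI : Smooth ((U₁ ⊓ U₂).ι ≫ f) := by
    rw [← X.homOfLE_ι (inf_le_right : U₁ ⊓ U₂ ≤ U₂), Category.assoc]
    haveI := h2
    infer_instance
  exact Etale.of_formallyUnramified_of_flat _

end Groth.Agent.FlatMor66
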