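import Groth.Agent.FlatMor66.Weight
import Groth.Agent.FlatMor66.Count
import Mathlib.Topology.Spectral.ConstructibleTopology
import Mathlib.RingTheory.FinitePresentation
import Mathlib.AlgebraicGeometry.Morphisms.FinitePresentation
import Mathlib.AlgebraicGeometry.Morphisms.Separated

/-! Level sets of weightings are locally constructible. -/

set_option autoImplicit false
universe u

open AlgebraicGeometry CategoryTheory Limits IsLocalRing Topology

namespace Groth.Agent.FlatMor66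

variable {X Y S T : Scheme.{u}}

theorem isWeighting_restrict (f : X ⟶ Y) [LocallyQuasiFinite f] (w : X → ℤ) (hw : MoreMor.IsWeighting f w)
    (O : X.Opens) : MoreMor.IsWeighting (O.ι ≫ f) (fun x => w (O.ι x)) := by
  intro V g _ U hfin
  let m := pullback.map (O.ι ≫ f) g f g O.ι (𝟙 V) (𝟙 Y) (by simp) (by simp)
  have hm1 : m ≫ pullback.fst f g = pullback.fst (O.ι ≫ f) g ≫ O.ι := pullback.lift_fst ..
  have hm2 : m ≫ pullback.snd f g = pullback.snd (O.ι ≫ f) g := (pullback.lift_snd ..).trans (Category.comp_id _)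
  have : IsOpenImmersion m := by dsimp only [m]; infer_instance
  let U₂ : (pullback f g).Opens := m ''ᵁ U
  have e : (m.isoImage U).hom ≫ U₂.ι = U.ι ≫ m := by simp [U₂]
  have : IsFinite (U₂.ι ≫ pullback.snd f g) := by
    rw [← MorphismProperty.cancel_left_of_respectsIso @IsFinite (m.isoImage U).hom, reassoc_of% e, hm2]
    exact hfin
  suffices ifun (O.ι ≫ f) (fun x => w (O.ι x)) g U = ifun f w g U₂ by
    show IsLocallyConstant (ifun (O.ι ≫ f) (fun x => w (O.ι x)) g U)
    rw [this]; exact hw V g U₂ inferInstance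
  funext t
  obtain ⟨K, _, _, p, rfl⟩ := exists_gpt t
  rw [ifun_eq_pSum (O.ι ≫ f) _ _ _ p (finite_fibre_of_isFinite _ _), ifun_eq_pSum f w _ _ p (finite_fibre_of_isFinite _ _)]
  have hl : ∀ (q : Spec (CommRingCat.of K) ⟶ O.toScheme) (h : q ≫ O.ι ≫ f = p ≫ g) (h' : (q ≫ O.ι) ≫ f = p ≫ g),
      pullback.lift (q ≫ O.ι) p h' = pullback.lift q p h ≫ m := fun q h h' => by
    apply pullback.hom_ext
    · rw [pullback.lift_fst, Category.assoc, hm1, pullback.lift_fst_assoc]
    · rw [pullback.lift_snd, Category.assoc, hm2, pullback.lift_snd]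
  refine finsum_eq_of_bijective (fun q : Pts (O.ι ≫ f) g U p =>
    (⟨q.1 ≫ O.ι, by rw [Category.assoc]; exact q.2.1, ?_⟩ : Pts f g U₂ p)) ?_ fun q => ?_
  · rw [hl q.1 q.2.1, gpt_comp]
    exact ⟨_, q.2.2, rfl⟩
  · refine ⟨fun q q' h => Subtype.ext ((cancel_mono O.ι).mp (congrArg Subtype.val h)), fun q => ?_⟩
    obtain ⟨q, hq, z, hz, hzq⟩ := q
    have hz2 : pullback.fst f g (m z) = gpt q :=
      (congrArg (pullback.fst f g) hzq).trans (by rw [← gpt_comp, pullback.lift_fst])
    have hsub : Set.range q ⊆ Set.range O.ι := by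
      rintro _ ⟨c, rfl⟩
      rw [show c = closedPoint K from Subsingleton.elim _ _]
      refine ⟨pullback.fst (O.ι ≫ f) g z, ?_⟩
      rw [← Scheme.Hom.comp_apply, ← hm1, Scheme.Hom.comp_apply]
      exact hz2
    have h1 : IsOpenImmersion.lift O.ι q hsub ≫ O.ι ≫ f = p ≫ g := by rw [IsOpenImmersion.lift_fac_assoc, hq]
    refine ⟨⟨IsOpenImmersion.lift O.ι q hsub, h1, ?_⟩, Subtype.ext (IsOpenImmersion.lift_fac ..)⟩
    have h2 := hl _ h1 (by rw [Category.assoc]; exact h1)
    simp only [IsOpenImmersion.lift_fac] at h2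
    have : m (gpt (pullback.lift (IsOpenImmersion.lift O.ι q hsub) p h1)) = m z := by
      rw [← gpt_comp, ← h2]; exact hzq.symm
    rwa [m.isOpenEmbedding.injective this]
  · show w _ = w _
    rw [gpt_comp]

lemma exists_constructible_avoid_Spec {A C : CommRingCat.{u}} (φ : A ⟶ C) (t : Spec A)
    (h : t ∉ Set.range (Spec.map φ)) :
    ∃ E : Set (Spec A), IsConstructible E ∧ t ∈ E ∧ E ∩ Set.range (Spec.map φ) = ∅ := by
  classical
  let p : PrimeSpectrum A := t
  have hne : ¬ Disjoint (Ideal.map φ.hom p.asIdeal : Set C) (Submonoid.map φ.hom p.asIdeal.primeCompl : Set C) := by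
    intro hd
    obtain ⟨P, hP, hle, hdisj⟩ := Ideal.exists_le_prime_disjoint _ _ hd
    apply h
    refine ⟨⟨P, hP⟩, PrimeSpectrum.ext (le_antisymm (fun a ha => ?_) (Ideal.map_le_iff_le_comap.mp hle))⟩
    by_contra hap
    exact Set.disjoint_left.mp hdisj ha ⟨a, hap, rfl⟩
  obtain ⟨_, hc, s, hs, rfl⟩ := Set.not_disjoint_iff.mp hne
  obtain ⟨G, hG, hGm⟩ : ∃ G : Finset A, ↑G ⊆ (p.asIdeal : Set A) ∧ φ.hom s ∈ Ideal.map φ.hom (Ideal.span (G : Set A)) := by
    rw [Ideal.map, SetLike.mem_coe, Ideal.span] at hc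
    obtain ⟨T, hT, hcT⟩ := Submodule.mem_span_finite_of_mem_span hc
    choose g hg hg' using fun x : (T : Set C) => hT x.2
    refine ⟨Finset.univ.image g, ?_, ?_⟩
    · intro a ha
      obtain ⟨x, -, rfl⟩ := Finset.mem_image.mp ha
      exact hg x
    · rw [Ideal.map_span]
      refine Ideal.span_mono ?_ hcT
      intro c hc'
      exact ⟨g ⟨c, hc'⟩, Finset.mem_coe.mpr (Finset.mem_image.mpr ⟨⟨c, hc'⟩, Finset.mem_univ _, rfl⟩), hg' ⟨c, hc'⟩⟩
  refine ⟨(PrimeSpectrum.basicOpen s : Set (PrimeSpectrum A)) ∩ ⋂ g : G, (PrimeSpectrum.basicOpen g.1 : Set (PrimeSpectrum A))ᶜ, ?_, ?_, ?_⟩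
  · exact PrimeSpectrum.isConstructible_basicOpen.inter (IsConstructible.iInter fun g => PrimeSpectrum.isConstructible_basicOpen.compl)
  · exact ⟨hs, Set.mem_iInter.mpr fun g hg' => hg' (hG g.2)⟩
  · rw [Set.eq_empty_iff_forall_notMem]
    rintro _ ⟨⟨hxs, hxG⟩, P, rfl⟩
    refine hxs ?_
    have hle : Ideal.map φ.hom (Ideal.span (G : Set A)) ≤ P.asIdeal := by
      rw [Ideal.map_le_iff_le_comap, Ideal.span_le]
      intro a ha
      exact not_not.mp (Set.mem_iInter.mp hxG ⟨a, ha⟩)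
    exact hle hGm

lemma exists_constructible_avoid [IsAffine S] (g : T ⟶ S) [IsAffine T] (t : S) (h : t ∉ Set.range g) :
    ∃ E : Set S, IsConstructible E ∧ t ∈ E ∧ E ∩ Set.range g = ∅ := by
  obtain ⟨φ, hφ⟩ := Spec.map_surjective (T.isoSpec.inv ≫ g ≫ S.isoSpec.hom)
  have hi : ∀ x : S, S.isoSpec.inv (S.isoSpec.hom x) = x := fun x => by
    rw [← Scheme.Hom.comp_apply, Iso.hom_inv_id]; rfl
  obtain ⟨E, hE, htE, hEr⟩ := exists_constructible_avoid_Spec φ (S.isoSpec.hom t) (by
    rintro ⟨z, hz⟩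
    rw [hφ] at hz
    refine h ⟨T.isoSpec.inv z, ?_⟩
    rw [Scheme.Hom.comp_apply, Scheme.Hom.comp_apply] at hz
    rw [← hi t, ← hz, hi])
  refine ⟨S.isoSpec.hom ⁻¹' E, S.isoSpec.hom.isConstructible_preimage hE, htE, ?_⟩
  rw [Set.eq_empty_iff_forall_notMem]
  rintro _ ⟨hE', z, rfl⟩
  refine Set.eq_empty_iff_forall_notMem.mp hEr _ ⟨hE', T.isoSpec.hom z, ?_⟩
  rw [hφ, ← Scheme.Hom.comp_apply, Iso.hom_inv_id_assoc, Scheme.Hom.comp_apply]

/-- Near an inseparable point of a finite scheme over an affine base, there is a constructible set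
over which fibres have at most one geometric point. -/
lemma exists_constructible_single {Z : Scheme.{u}} [IsAffine S] (π : Z ⟶ S) [IsFinite π] (t : S)
    {K : Type u} [Field K] [IsAlgClosed K] (p : Spec (CommRingCat.of K) ⟶ S) (hp : gpt p = t)
    (h1 : ∀ (K' : Type u) [Field K'] [IsAlgClosed K'] (q₁ q₂ : Spec (CommRingCat.of K') ⟶ Z),
      q₁ ≫ π = q₂ ≫ π → π (gpt q₁) = t → q₁ = q₂) :
    ∃ E : Set S, IsConstructible E ∧ t ∈ E ∧ ∀ (K' : Type u) [Field K'] [IsAlgClosed K']
      (q₁ q₂ : Spec (CommRingCat.of K') ⟶ Z), q₁ ≫ π = q₂ ≫ π → π (gpt q₁) ∈ E → q₁ = q₂ := by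
  classical
  have : IsAffine Z := isAffine_of_isAffineHom π
  have : IsAffine (pullback π π) := isAffine_of_isAffineHom (pullback.fst π π)
  have hft : π.appTop.hom.FiniteType := HasRingHomProperty.appTop @LocallyOfFiniteType π inferInstance
  letI := π.appTop.hom.toAlgebra
  obtain ⟨G, hG⟩ := (hft : Algebra.FiniteType Γ(S, ⊤) Γ(Z, ⊤)).out
  let d : G → Γ(pullback π π, ⊤) := fun g => (pullback.fst π π).appTop g.1 - (pullback.snd π π).appTop g.1
  let ρ : pullback π π ⟶ S := pullback.fst π π ≫ π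
  have hzero : ∀ {K' : Type u} [Field K'] (r : Spec (CommRingCat.of K') ⟶ pullback π π) (g : G),
      gpt r ∉ (pullback π π).basicOpen (d g) ↔ r.appTop (d g) = 0 := by
    intro K' _ r g
    rw [← basicOpen_eq_bot_iff (r.appTop (d g)), ← Scheme.preimage_basicOpen_top, ← not_iff_not, not_not]
    constructor
    · intro h e
      have : closedPoint K' ∈ r ⁻¹ᵁ (pullback π π).basicOpen (d g) := h
      rw [e] at this
      exact this
    · intro h
      by_contra h'
      refine h (TopologicalSpace.Opens.ext (Set.eq_empty_iff_forall_notMem.mpr fun z hz => h' ?_))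
      rw [show z = closedPoint K' from Subsingleton.elim _ _] at hz
      exact hz
  have hΔ : ∀ {K' : Type u} [Field K'] (r : Spec (CommRingCat.of K') ⟶ pullback π π),
      (∀ g, gpt r ∉ (pullback π π).basicOpen (d g)) → r ≫ pullback.fst π π = r ≫ pullback.snd π π := by
    intro K' _ r hr
    apply ext_of_isAffine
    refine CommRingCat.hom_ext (RingHom.eq_of_eqOn_set_top ?_)
    rw [show (⊤ : Subring Γ(Z, ⊤)) = Subring.closure (Set.range (algebraMap Γ(S, ⊤) Γ(Z, ⊤)) ∪ (G : Set Γ(Z, ⊤))) by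
      rw [← Algebra.adjoin_eq_ring_closure, hG]; exact Algebra.top_toSubring.symm]
    refine RingHom.eqOn_set_closure ?_
    rintro _ (⟨a, rfl⟩ | hg)
    · have e : (r ≫ pullback.fst π π) ≫ π = (r ≫ pullback.snd π π) ≫ π := by
        rw [Category.assoc, Category.assoc, pullback.condition]
      exact congrArg (fun h : Spec (CommRingCat.of K') ⟶ S => h.appTop.hom a) e
    · have h0 := (hzero r ⟨_, hg⟩).mp (hr _)
      simp only [d, map_sub, sub_eq_zero] at h0
      exact h0
  have hE : ∀ g : G, ∃ E : Set S, IsConstructible E ∧ t ∈ E ∧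
      E ∩ Set.range (((pullback π π).basicOpen (d g)).ι ≫ ρ) = ∅ := by
    intro g
    have : IsAffine ((pullback π π).basicOpen (d g)).toScheme := (isAffineOpen_top _).basicOpen (d g)
    refine exists_constructible_avoid _ t ?_
    rintro ⟨⟨z, hz⟩, hzt⟩
    obtain ⟨K', _, _, r, rfl⟩ := exists_gpt z
    have e := h1 K' (r ≫ pullback.fst π π) (r ≫ pullback.snd π π)
      (by rw [Category.assoc, Category.assoc, pullback.condition])
      (by rw [← gpt_comp, Category.assoc, gpt_comp]; exact (Scheme.Hom.comp_apply _ _ _).symm.trans hzt)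
    refine (hzero r g).mpr ?_ hz
    have h2 := congrArg (fun h : Spec (CommRingCat.of K') ⟶ Z => h.appTop g.1) e
    simp only [Scheme.Hom.comp_appTop, CommRingCat.comp_apply] at h2
    simp only [d, map_sub, sub_eq_zero]
    exact h2
  choose E hE1 hE2 hE3 using hE
  refine ⟨⋂ g, E g, IsConstructible.iInter hE1, Set.mem_iInter.mpr hE2, fun K' _ _ q₁ q₂ hq hqE => ?_⟩
  let r := pullback.lift q₁ q₂ hq
  have := hΔ r fun g hg => Set.eq_empty_iff_forall_notMem.mp (hE3 g) (π (gpt q₁))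
    ⟨Set.mem_iInter.mp hqE _, ⟨gpt r, hg⟩, by
      rw [Scheme.Hom.comp_apply]
      show ρ (gpt r) = _
      rw [← gpt_comp, ← gpt_comp]
      simp only [r, ρ, pullback.lift_fst_assoc]⟩
  simpa only [r, pullback.lift_fst, pullback.lift_snd] using this

end Groth.Agent.FlatMor66
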