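import Groth.Agent.FlatMor66.Decomp

/-! Étale localization of a finite open piece of a base change; weightings are universal. -/

set_option autoImplicit false
universe u

open AlgebraicGeometry CategoryTheory Limits IsLocalRing

namespace Groth.Agent.FlatMor66

variable {X Y T : Scheme.{u}} {K : Type u} [Field K]

/-- An étale localization in which `U` splits into pieces with one geometric point each. -/
structure Localization' (f : X ⟶ Y) (a : T ⟶ Y) (U : (pullback f a).Opens)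
    (p : Spec (CommRingCat.of K) ⟶ T) where
  T' : Scheme.{u}
  d : T' ⟶ T
  r : Spec (CommRingCat.of K) ⟶ T'
  [etale : Etale d]
  hr : r ≫ d = p
  V : Pts f a U p → (pullback f (d ≫ a)).Opens
  finite : ∀ q, IsFinite ((V q).ι ≫ pullback.snd f (d ≫ a))
  mem : ∀ q : Pts f a U p, liftPt f (d ≫ a) q.1 r (by rw [reassoc_of% hr]; exact q.2.1) ∈ V q
  uniquePt : ∀ q : Pts f a U p, ∀ z ∈ V q, pullback.snd f (d ≫ a) z = gpt r →
    z = liftPt f (d ≫ a) q.1 r (by rw [reassoc_of% hr]; exact q.2.1)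
  cover : ∀ z, z ∈ pullMap f a d ⁻¹ᵁ U ↔ ∃ q, z ∈ V q
  disjoint : ∀ z q q', z ∈ V q → z ∈ V q' → q = q'
  single : ∀ (q : Pts f a U p) (K' : Type u) [Field K'] [IsAlgClosed K']
    (p' : Spec (CommRingCat.of K') ⟶ T'), gpt p' = gpt r →
    ∀ w : X → ℤ, pSum f w (d ≫ a) (V q) p' = w (gpt q.1)
  lc : ∀ (q : Pts f a U p) (w : X → ℤ), MoreMor.IsWeighting f w → IsLocallyConstant (ifun f w (d ≫ a) (V q))

theorem exists_localization [IsAlgClosed K] (f : X ⟶ Y) [LocallyQuasiFinite f] [LocallyOfFiniteType f]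
    (a : T ⟶ Y) (U : (pullback f a).Opens) [IsFinite (U.ι ≫ pullback.snd f a)]
    (p : Spec (CommRingCat.of K) ⟶ T) : Nonempty (Localization' f a U p) := by
  have := finite_Pts f a U p
  let s : Set X := Set.range fun q : Pts f a U p => gpt q.1
  obtain ⟨D⟩ := exists_splitting f (p ≫ a) s (Set.finite_range _) (by
    rintro _ ⟨q, rfl⟩
    rw [← gpt_comp, q.2.1])
  have := D.etale
  let t₀ : Spec (CommRingCat.of K) ⟶ pullback a D.b := pullback.lift p D.r D.hr.symm
  let a₀ : pullback a D.b ⟶ Y := pullback.fst a D.b ≫ a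
  let π₂ := pm f (pullback.snd a D.b) (a' := a₀) pullback.condition.symm
  let qs : Pts f a U p → {q : GPt f (p ≫ a) // gpt q.1 ∈ s} := fun q => ⟨⟨q.1, q.2.1⟩, ⟨q, rfl⟩⟩
  let U₀ := pm f (pullback.fst a D.b) (a' := a₀) rfl ⁻¹ᵁ U
  have : IsFinite (U₀.ι ≫ pullback.snd f a₀) := isFinite_pm f _ _ U
  have hV₀ : ∀ q, IsFinite ((π₂ ⁻¹ᵁ D.V (qs q)).ι ≫ pullback.snd f a₀) := fun q => by
    have := D.finite (qs q); exact isFinite_pm f _ _ _
  have ht₀ : t₀ ≫ a₀ = p ≫ a := pullback.lift_fst_assoc ..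
  have hlU : ∀ (q : GPt f (p ≫ a)),
      pm f (pullback.fst a D.b) (a' := a₀) rfl (liftPt f a₀ q.1 t₀ (by rw [ht₀, q.2])) =
        liftPt f a q.1 p q.2 := fun q => by
    rw [pm_liftPt]; simp only [t₀, pullback.lift_fst]
  have hlV : ∀ (q : {q : GPt f (p ≫ a) // gpt q.1 ∈ s}),
      π₂ (liftPt f a₀ q.1.1 t₀ (by rw [ht₀, q.1.2])) = D.pt q := fun q => by
    rw [pm_liftPt]; simp only [t₀, pullback.lift_snd, Splitting.pt]
  have hpt : ∀ z, pullback.snd f a₀ z = gpt t₀ → ∀ q : {q : GPt f (p ≫ a) // gpt q.1 ∈ s},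
      π₂ z = D.pt q → z = liftPt f a₀ q.1.1 t₀ (by rw [ht₀, q.1.2]) := fun z hz q hzq =>
    (eq_of_pm_eq f _ _ t₀ _ z (snd_liftPt ..) hz ((hlV q).trans hzq.symm)
      (by rw [hlV q]; exact D.pi _ (snd_liftPt ..) ((fst_liftPt f D.b q.1.1 D.r _).symm ▸ q.2))).symm
  have hsnd₂ : ∀ z, pullback.snd f a₀ z = gpt t₀ → pullback.snd f D.b (π₂ z) = gpt D.r := fun z hz => by
    rw [← Scheme.Hom.comp_apply, pm_snd, Scheme.Hom.comp_apply, hz, ← gpt_comp, pullback.lift_snd]
  have huniq₀ : ∀ q : Pts f a U p, ∀ z ∈ π₂ ⁻¹ᵁ D.V (qs q), pullback.snd f a₀ z = gpt t₀ →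
      z = liftPt f a₀ q.1 t₀ (by rw [ht₀, q.2.1]) := fun q z hz hzt =>
    hpt z hzt (qs q) (D.unique (qs q) _ hz (hsnd₂ z hzt))
  obtain ⟨N, htN, hN⟩ := exists_decomposition f a₀ U₀ (fun q => π₂ ⁻¹ᵁ D.V (qs q)) hV₀ (gpt t₀)
    (by
      intro q z hz hzt
      show pm f _ _ z ∈ U
      rw [huniq₀ q z hz hzt, hlU ⟨q.1, q.2.1⟩]
      exact q.2.2)
    (by
      intro z hz hzt
      obtain ⟨⟨l, hl⟩, hlz⟩ := exists_lift (pullback.snd f a₀) t₀ z hzt
      let x := l ≫ pullback.fst f a₀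
      have hx : x ≫ f = p ≫ a := by
        simp only [x, Category.assoc, pullback.condition, reassoc_of% hl, ht₀]
      have hzx : z = liftPt f a₀ x t₀ (by rw [ht₀, hx]) := by
        refine hlz.symm.trans ?_
        show gpt l = gpt (pullback.lift x t₀ _)
        congr 1
        apply pullback.hom_ext
        · rw [pullback.lift_fst]
        · rw [pullback.lift_snd, hl]
      have hxU : gpt (pullback.lift x p hx) ∈ U := by
        have := hz
        change pm f _ _ z ∈ U at this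
        rwa [hzx, hlU ⟨x, hx⟩] at this
      refine ⟨⟨x, hx, hxU⟩, ?_⟩
      show π₂ z ∈ D.V _
      rw [hzx, hlV (qs ⟨x, hx, hxU⟩)]
      exact D.mem _)
    (by
      intro q q' hne z hz hz' hzt
      apply hne
      have h1 := D.unique (qs q) _ hz (hsnd₂ z hzt)
      have h2 := D.unique (qs q') _ hz' (hsnd₂ z hzt)
      have := D.pt_injective (h1.symm.trans h2)
      exact Subtype.ext (congrArg (fun x => x.1.1) this))
  have hrange : Set.range t₀ ⊆ Set.range N.ι := by
    rintro _ ⟨z, rfl⟩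
    rw [Scheme.Opens.range_ι, show z = closedPoint K from Subsingleton.elim _ _]
    exact htN
  let r : Spec (CommRingCat.of K) ⟶ N.toScheme := IsOpenImmersion.lift N.ι t₀ hrange
  have hrN : r ≫ N.ι = t₀ := IsOpenImmersion.lift_fac ..
  let d : N.toScheme ⟶ T := N.ι ≫ pullback.fst a D.b
  let π := pm f N.ι (a := a₀) (a' := d ≫ a) (Category.assoc _ _ _).symm
  have hπU : ∀ z, pullMap f a d z = pm f (pullback.fst a D.b) (a' := a₀) rfl (π z) := by
    intro z
    rw [← Scheme.Hom.comp_apply]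
    refine congrArg (fun h : _ ⟶ pullback f a => h z) ?_
    apply pullback.hom_ext
    · simp only [Category.assoc, pullMap_fst, pm_fst, π, a₀]
    · simp only [Category.assoc, pullMap_snd, pm_snd, pm_snd_assoc, π, a₀, d]
  have hπN : ∀ z, pullback.snd f a₀ (π z) ∈ N := fun z => by
    rw [← Scheme.Hom.comp_apply, pm_snd, Scheme.Hom.comp_apply]
    exact (pullback.snd f (d ≫ a) z).2
  refine ⟨{ T' := N.toScheme, d := d, r := r, hr := ?_, V := fun q => π ⁻¹ᵁ (π₂ ⁻¹ᵁ D.V (qs q)),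
            finite := fun q => (have := hV₀ q; isFinite_pm f _ _ _), mem := ?_, uniquePt := ?_, cover := ?_,
            disjoint := ?_, single := ?_, lc := ?_ }⟩
  · simp only [d, reassoc_of% hrN, t₀, pullback.lift_fst]
  · intro q
    show π₂ (π _) ∈ D.V (qs q)
    rw [show π _ = liftPt f a₀ q.1 t₀ (by rw [ht₀, q.2.1]) from
      (pm_liftPt f N.ι _ _ _ _).trans (by simp only [hrN]), hlV (qs q)]
    exact D.mem _
  · intro q z hz hzr
    refine eq_of_pm_eq f N.ι (a := a₀) (Category.assoc _ _ _).symm r z _ hzr (snd_liftPt ..) ?_ ?_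
    · rw [pm_liftPt]
      simp only [hrN]
      refine huniq₀ q _ hz ?_
      rw [← Scheme.Hom.comp_apply, pm_snd, Scheme.Hom.comp_apply, hzr, ← gpt_comp, hrN]
    · have hzt : pullback.snd f a₀ (π z) = gpt t₀ := by
        rw [← Scheme.Hom.comp_apply, pm_snd, Scheme.Hom.comp_apply, hzr, ← gpt_comp, hrN]
      have h1 := D.unique (qs q) _ hz (hsnd₂ _ hzt)
      have h2 : PIAt (pullback.snd f D.b) (π₂ (π z)) :=
        D.pi _ (hsnd₂ _ hzt) (by rw [h1]; exact (fst_liftPt f D.b q.1 D.r _).symm ▸ (qs q).2)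
      intro K' _ _ q₁ q₂ g₁ g₂ ge
      have h' := h2 K' (q₁ ≫ π₂) (q₂ ≫ π₂) (by rw [gpt_comp, g₁]) (by rw [gpt_comp, g₂]) (by
        rw [Category.assoc, Category.assoc, pm_snd, reassoc_of% ge])
      apply pullback.hom_ext
      · simpa only [Category.assoc, π₂, pm_fst] using congrArg (· ≫ pullback.fst f D.b) h'
      · exact ge
  · intro z
    show pullMap f a d z ∈ U ↔ _
    rw [hπU]
    exact (hN (π z) (hπN z)).1
  · exact fun z q q' h h' => (hN (π z) (hπN z)).2 q q' h h'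
  · intro q K' _ _ p' hp' w
    have e1 : ∀ (b : N.toScheme ⟶ D.W) (a' : N.toScheme ⟶ Y) (h : b ≫ D.b = a'),
        pSum f w a' (pm f b h ⁻¹ᵁ D.V (qs q)) p' = pSum f w D.b (D.V (qs q)) (p' ≫ b) := by
      intro b a' h; subst h; exact pSum_comp f w D.b b _ p'
    have e2 : π ≫ π₂ = pm f (N.ι ≫ pullback.snd a D.b)
        (show (N.ι ≫ pullback.snd a D.b) ≫ D.b = d ≫ a by simp only [d, Category.assoc, pullback.condition]) := by
      apply pullback.hom_ext
      · simp only [Category.assoc, π₂, π, pm_fst]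
      · simp only [Category.assoc, π₂, π, pm_snd, pm_snd_assoc]
    rw [← Scheme.Hom.comp_preimage, e2, e1]
    refine D.pSum_single w (qs q) _ ?_
    rw [gpt_comp, hp', ← gpt_comp, ← Category.assoc, hrN, pullback.lift_snd]
  · intro q w hw
    have := D.finite (qs q)
    have := hV₀ q
    have h1 : IsLocallyConstant (ifun f w D.b (D.V (qs q))) := hw D.W D.b (D.V (qs q)) (D.finite (qs q))
    have h2 : ifun f w (d ≫ a) (π ⁻¹ᵁ (π₂ ⁻¹ᵁ D.V (qs q))) =
        ifun f w D.b (D.V (qs q)) ∘ fun z => pullback.snd a D.b (N.ι z) := by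
      funext z
      rw [ifun_pm f w N.ι, ifun_pm f w (pullback.snd a D.b)]
      rfl
    rw [h2]
    exact h1.comp_continuous ((pullback.snd a D.b).continuous.comp N.ι.continuous)

namespace Localization'

variable {f : X ⟶ Y} {a : T ⟶ Y} {U : (pullback f a).Opens} {p : Spec (CommRingCat.of K) ⟶ T}
  (L : Localization' f a U p)

attribute [instance] Localization'.etale

theorem ifun_comp_eq_sum [IsAlgClosed K] [LocallyQuasiFinite f] [Fintype (Pts f a U p)]
    [IsFinite (U.ι ≫ pullback.snd f a)] (w : X → ℤ) (z : L.T') :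
    ifun f w a U (L.d z) = ∑ q, ifun f w (L.d ≫ a) (L.V q) z := by
  have := L.finite
  have := isFinite_pullMap f a L.d U
  rw [← ifun_comp f w a L.d U z]
  obtain ⟨K', _, _, p', rfl⟩ := exists_gpt z
  rw [ifun_eq_pSum f w _ _ p' (finite_fibre_of_isFinite _ _),
    pSum_decomp f w (L.d ≫ a) _ L.V p' (fun j => finite_Pts f _ _ p') (fun x _ => ⟨L.cover x, L.disjoint x⟩)]
  exact Finset.sum_congr rfl fun q _ => (ifun_eq_pSum f w _ _ p' (finite_fibre_of_isFinite _ _)).symm

theorem isOpenMap_d : IsOpenMap L.d := L.d.isOpenMap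

theorem apply_r : L.d (gpt L.r) = gpt p := by rw [← gpt_comp, L.hr]

theorem ifun_single [IsAlgClosed K] [LocallyQuasiFinite f] (w : X → ℤ) (q : Pts f a U p) :
    ifun f w (L.d ≫ a) (L.V q) (gpt L.r) = w (gpt q.1) := by
  have := L.finite
  rw [ifun_eq_pSum f w _ _ L.r (finite_fibre_of_isFinite _ _)]
  exact L.single q K L.r rfl w

end Localization'

/-- A weighting has locally constant integrals after any base change. -/
theorem isLocallyConstant_ifun (f : X ⟶ Y) [LocallyQuasiFinite f] [LocallyOfFiniteType f] (w : X → ℤ)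
    (hw : MoreMor.IsWeighting f w) (a : T ⟶ Y) (U : (pullback f a).Opens)
    [IsFinite (U.ι ≫ pullback.snd f a)] : IsLocallyConstant (ifun f w a U) := by
  refine isLocallyConstant_of_open_lift _ fun t => ?_
  obtain ⟨K, _, _, p, rfl⟩ := exists_gpt t
  obtain ⟨L⟩ := exists_localization f a U p
  have := finite_Pts f a U p
  have := Fintype.ofFinite (Pts f a U p)
  have hlc := fun q => L.lc q w hw
  refine ⟨L.T', inferInstance, L.d, ⋂ q, {z | ifun f w (L.d ≫ a) (L.V q) z = ifun f w (L.d ≫ a) (L.V q) (gpt L.r)},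
    gpt L.r, L.isOpenMap_d, isOpen_iInter_of_finite fun q => (hlc q).isOpen_fiber _,
    Set.mem_iInter.mpr fun q => rfl, L.apply_r, fun z hz => ?_⟩
  rw [← L.apply_r, L.ifun_comp_eq_sum, L.ifun_comp_eq_sum]
  exact Finset.sum_congr rfl fun q _ => Set.mem_iInter.mp hz q

end Groth.Agent.FlatMor66
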