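import Groth.Agent.FlatMor66.Semi
import Groth.Agent.FlatMor66.LevelF

/-! The maximum locus of the fibre integral of a positive weighting is affine, and affine stratifications.
The affineness of images under finite surjective morphisms enters as a hypothesis `Chev`. -/

set_option autoImplicit false
universe u

open AlgebraicGeometry CategoryTheory Limits IsLocalRing

namespace Groth.Agent.FlatMor66

/-- Images of affine schemes under finite surjective morphisms are affine. -/
def Chev : Prop :=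
  ∀ (A B : Scheme.{u}) (h : A ⟶ B), IsAffine A → IsFinite h → Surjective h → IsAffine B

/-- The maximum locus with value `m` is affine, for affine schemes. -/
def MaxAff (m : ℕ) : Prop :=
  ∀ (X Y : Scheme.{u}) (f : X ⟶ Y), IsAffine X → IsAffine Y → LocallyQuasiFinite f → LocallyOfFiniteType f →
    ∀ w : X → ℤ, MoreMor.IsWeighting f w → (∀ x, 0 < w x) → (∀ y, MoreMor.fibreIntegral f w y ≤ m) →
      ∀ h : IsOpen {y : Y | MoreMor.fibreIntegral f w y = m},
        IsAffineOpen (⟨{y : Y | MoreMor.fibreIntegral f w y = m}, h⟩ : Y.Opens)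

variable {X Y : Scheme.{u}}

lemma fibreIntegral_nonneg' (f : X ⟶ Y) (w : X → ℤ) (hw : ∀ x, 0 < w x) (y : Y) :
    0 ≤ MoreMor.fibreIntegral f w y :=
  finsum_nonneg fun u => mul_nonneg (hw _).le (Int.natCast_nonneg _)

lemma le_fibreIntegral (f : X ⟶ Y) [LocallyQuasiFinite f] (w : X → ℤ) (hw : ∀ x, 0 < w x) (x : X)
    (hfin : (f ⁻¹' {f x}).Finite) : w x ≤ MoreMor.fibreIntegral f w (f x) := by
  obtain ⟨K, _, _, p, hp⟩ := exists_gpt (f x)
  obtain ⟨q, hq⟩ := exists_lift f p x hp.symm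
  rw [← hp] at hfin ⊢
  have := finite_GPt f p hfin
  have := Fintype.ofFinite (GPt f p)
  rw [fibreIntegral_eq_gSum f w p hfin, gSum, finsum_eq_sum_of_fintype, ← hq]
  exact Finset.single_le_sum (f := fun q : GPt f p => w (gpt q.1)) (fun i _ => (hw _).le) (Finset.mem_univ q)

theorem exists_affineHom_nhd [IsAffine X] [IsAffine Y] (f : X ⟶ Y) [LocallyQuasiFinite f]
    [LocallyOfFiniteType f] (w : X → ℤ) (hw : MoreMor.IsWeighting f w) (hpos : ∀ x, 0 < w x) (n : ℕ)
    (hmax : ∀ y, MoreMor.fibreIntegral f w y ≤ n) (IH : ∀ m < n, MaxAff.{u} m) (Yd : Y.Opens)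
    (hYd : ∀ y, y ∈ Yd ↔ MoreMor.fibreIntegral f w y = n) (y : Y) (hy : 0 < MoreMor.fibreIntegral f w y) :
    ∃ M : Y.Opens, y ∈ M ∧ IsAffineHom (Yd.ι ∣_ M) := by
  have hfin : ∀ y : Y, (f ⁻¹' {y}).Finite := finite_fibre_of_compact f
  obtain ⟨W, b, N, w₀, ι, _, V, hb, hw₀, rfl, hV, hN⟩ := exists_pieces f hfin w hw hpos y
  have hall : ∀ x, pullback.snd f b x = w₀ → ∃ i, x ∈ V i := (hN w₀ hw₀).2 rfl
  let U₀ : (pullback f b).Opens := ⨆ i, V i
  have : IsFinite (U₀.ι ≫ pullback.snd f b) := by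
    refine isFinite_of_finite_cover _ (fun i => U₀.ι ⁻¹ᵁ V i) (fun i => ?_) fun x => ?_
    · have : IsIso (U₀.ι ∣_ V i) := by
        have : Surjective (U₀.ι ∣_ V i) := ⟨fun z => ⟨⟨⟨z.1, le_iSup V i z.2⟩, z.2⟩,
          (V i).ι.isOpenEmbedding.injective (by rw [← Scheme.Hom.comp_apply, morphismRestrict_ι]; rfl)⟩⟩
        have : Epi (U₀.ι ∣_ V i).base := (TopCat.epi_iff_surjective _).mpr (U₀.ι ∣_ V i).surjective
        exact IsOpenImmersion.isIso (U₀.ι ∣_ V i)
      rw [← Category.assoc, ← morphismRestrict_ι, Category.assoc]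
      infer_instance
    · obtain ⟨i, hi⟩ := TopologicalSpace.Opens.mem_iSup.mp x.2
      exact ⟨i, hi⟩
  let c := MoreMor.fibreIntegral f w (b w₀)
  have hU₀ : ifun f w b U₀ w₀ = c := by
    obtain ⟨K, _, _, p, hp⟩ := exists_gpt w₀
    rw [← hp, ifun_eq_pSum f w b U₀ p (finite_fibre_of_isFinite _ _)]
    show _ = MoreMor.fibreIntegral f w (b w₀)
    rw [← hp, ← gpt_comp, fibreIntegral_eq_gSum f w _ (hfin _), ← pSum_top]
    refine finsum_eq_of_bijective (fun q : Pts f b U₀ p => (⟨q.1, q.2.1, trivial⟩ : Pts f b ⊤ p))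
      ⟨fun q q' h => Subtype.ext (congrArg (fun x : Pts f b ⊤ p => x.1) h), fun q => ?_⟩ fun _ => rfl
    obtain ⟨q, hq, -⟩ := q
    refine ⟨⟨q, hq, ?_⟩, rfl⟩
    obtain ⟨i, hi⟩ := hall (gpt (pullback.lift q p hq)) (by rw [← gpt_comp, pullback.lift_snd, hp])
    exact TopologicalSpace.Opens.mem_iSup.mpr ⟨i, hi⟩
  have hlc : IsLocallyConstant (ifun f w b U₀) := isLocallyConstant_ifun f w hw b U₀
  obtain ⟨A, hA, htA, hAN⟩ := W.isBasis_affineOpens.exists_subset_of_mem_open
    (show w₀ ∈ (N : Set W) ∩ {z | ifun f w b U₀ z = c} from ⟨hw₀, hU₀⟩) (N.2.inter (hlc.isOpen_fiber c))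
  obtain ⟨A, hA', rfl⟩ := hA
  have : IsAffine (Scheme.Opens.toScheme A) := hA'
  let a : Scheme.Opens.toScheme A ⟶ Y := Scheme.Opens.ι A ≫ b
  let U : (pullback f a).Opens := pullMap f b (Scheme.Opens.ι A) ⁻¹ᵁ U₀
  have : IsFinite (U.ι ≫ pullback.snd f a) := isFinite_pullMap f b _ U₀
  have hUcl : IsClosed (U : Set ↑(pullback f a)) := isClosed_piece f a U
  let R : (pullback f a).Opens := ⟨(U : Set ↑(pullback f a))ᶜ, hUcl.isOpen_compl⟩
  have : IsClosedImmersion R.ι := IsClosedImmersion.of_isPreimmersion R.ι (by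
    rw [Scheme.Opens.range_ι]; exact isClosed_compl_iff.mpr U.2)
  have : IsAffine R.toScheme := isAffine_of_isAffineHom R.ι
  let g : R.toScheme ⟶ Scheme.Opens.toScheme A := R.ι ≫ pullback.snd f a
  have hwR : MoreMor.IsWeighting g (fun u => w (pullback.fst f a (R.ι u))) :=
    isWeighting_restrict (pullback.snd f a) (w ∘ ⇑(pullback.fst f a))
      (isWeighting_baseChange f w hw (pullback.snd f a) (pullback.fst f a) a (IsPullback.of_hasPullback f a)) R
  have hFR : ∀ z, MoreMor.fibreIntegral g (fun u => w (pullback.fst f a (R.ι u))) z =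
      MoreMor.fibreIntegral f w (a z) - c := by
    intro z
    obtain ⟨K, _, _, p, rfl⟩ := exists_gpt z
    have hcU : ifun f w a U (gpt p) = c := by
      rw [ifun_comp f w b (Scheme.Opens.ι A) U₀ (gpt p)]
      exact (hAN (gpt p).2).2
    rw [ifun_eq_pSum f w a U p (finite_fibre_of_isFinite _ _)] at hcU
    have := finite_Pts f a U p
    have hRfin : (g ⁻¹' {gpt p}).Finite := finite_fibre_of_compact g _
    have : Finite (Pts f a R p) := by
      have := finite_GPt f (p ≫ a) (hfin _)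
      exact Finite.of_injective (fun q : Pts f a R p => (⟨q.1, q.2.1⟩ : GPt f (p ≫ a)))
        fun q q' h => Subtype.ext (congrArg (fun x : GPt f (p ≫ a) => x.1) h)
    show ifun f w a R (gpt p) = _
    rw [ifun_eq_pSum f w a R p hRfin, ← gpt_comp, fibreIntegral_eq_gSum f w _ (hfin _), ← pSum_top,
      pSum_decomp f w a ⊤ (fun j : ULift.{u} Bool => cond j.down U R) p
        (by rintro ⟨_ | _⟩ <;> assumption) ?_]
    · rw [← (Equiv.ulift.{u, 0}).symm.sum_comp, Fintype.sum_bool]
      show _ = pSum f w a U p + pSum f w a R p - c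
      omega
    · intro x _
      refine ⟨⟨fun _ => ?_, fun _ => trivial⟩, ?_⟩
      · by_cases hx : x ∈ U
        · exact ⟨⟨true⟩, hx⟩
        · exact ⟨⟨false⟩, hx⟩
      · rintro ⟨_ | _⟩ ⟨_ | _⟩ h h'
        · rfl
        · exact absurd h' h
        · exact absurd h h'
        · rfl
  have hcn : c ≤ n := hmax _
  obtain ⟨m, hm⟩ : ∃ m : ℕ, (m : ℤ) = n - c := ⟨((n : ℤ) - c).toNat, Int.toNat_of_nonneg (by omega)⟩
  have hset : {z | MoreMor.fibreIntegral g (fun u => w (pullback.fst f a (R.ι u))) z = m} =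
      (a ⁻¹ᵁ Yd : Set (Scheme.Opens.toScheme A)) := by
    ext z
    simp only [Set.mem_setOf_eq, hFR]
    refine ⟨fun h => (hYd _).mpr (by omega), fun h => ?_⟩
    have := (hYd (a z)).mp h
    omega
  have hYA : IsAffineOpen (a ⁻¹ᵁ Yd) := by
    have hc0 : 0 < c := hy
    have h := IH m (by omega) _ _ g inferInstance inferInstance inferInstance inferInstance _ hwR
      (fun u => hpos _) (fun z => by have h1 := hFR z; have h2 := hmax (a z); omega)
      (by rw [hset]; exact (a ⁻¹ᵁ Yd).2)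
    convert h using 1
    exact TopologicalSpace.Opens.ext hset.symm
  have : IsAffine (a ⁻¹ᵁ Yd).toScheme := hYA
  let M : Y.Opens := ⟨Set.range a, a.isOpenMap.isOpen_range⟩
  refine ⟨M, ⟨⟨w₀, htA⟩, rfl⟩, ?_⟩
  let c' : Scheme.Opens.toScheme A ⟶ M.toScheme := IsOpenImmersion.lift M.ι a (by
    rw [Scheme.Opens.range_ι]; exact subset_rfl)
  have hcM : c' ≫ M.ι = a := IsOpenImmersion.lift_fac _ _ _
  have : Etale (c' ≫ M.ι) := by rw [hcM]; infer_instance
  have : Etale c' := Etale.of_comp c' M.ι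
  have : Surjective c' := ⟨fun z => by
    obtain ⟨t, ht⟩ := z.2
    refine ⟨t, M.ι.isOpenEmbedding.injective ?_⟩
    rw [← Scheme.Hom.comp_apply, hcM]
    exact ht⟩
  have h1 : IsAffineHom (pullback.snd Yd.ι a) := by
    rw [← MorphismProperty.cancel_left_of_respectsIso @IsAffineHom
      (isPullback_morphismRestrict a Yd).isoPullback.hom, IsPullback.isoPullback_hom_snd]
    infer_instance
  have h2 : IsAffineHom (pullback.snd Yd.ι (c' ≫ M.ι)) := by rw [hcM]; exact h1
  have := Groth.Agent.Unr55.isAffineHom.{u}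
  have : IsAffineHom (pullback.snd Yd.ι M.ι) :=
    MorphismProperty.of_isPullback_of_descendsAlong (P := @IsAffineHom)
      (Q := @Surjective ⊓ @Flat ⊓ @LocallyOfFinitePresentation) (isPullback_pullMap Yd.ι M.ι c').flip
      ⟨⟨inferInstance, inferInstance⟩, inferInstance⟩ h2
  rw [← (isPullback_morphismRestrict Yd.ι M).flip.isoPullback_hom_snd]
  infer_instance

/-- The maximum locus is affine for an affine source and separated target. -/
theorem isAffineOpen_max_of_IH (hch : Chev.{u}) [IsAffine X] [Y.IsSeparated] (f : X ⟶ Y) [LocallyQuasiFinite f]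
    [LocallyOfFiniteType f] (w : X → ℤ) (hw : MoreMor.IsWeighting f w) (hpos : ∀ x, 0 < w x) (n : ℕ) (hn : 0 < n)
    (hmax : ∀ y, MoreMor.fibreIntegral f w y ≤ n) (IH : ∀ m < n, MaxAff.{u} m)
    (hopen : IsOpen {y : Y | MoreMor.fibreIntegral f w y = n}) :
    IsAffineOpen (⟨{y : Y | MoreMor.fibreIntegral f w y = n}, hopen⟩ : Y.Opens) := by
  have : IsAffineHom f := MorphismProperty.of_postcomp (W := @IsAffineHom) (W' := @IsSeparated) f (terminal.from Y)
    inferInstance (by rw [terminal.comp_from]; infer_instance)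
  have hfin : ∀ y : Y, (f ⁻¹' {y}).Finite := finite_fibre_of_compact f
  let Yd : Y.Opens := ⟨{y : Y | MoreMor.fibreIntegral f w y = n}, hopen⟩
  let Xd : X.Opens := f ⁻¹ᵁ Yd
  have hF : ∀ x : X, MoreMor.fibreIntegral (pullback.snd f f) (w ∘ ⇑(pullback.fst f f)) x =
      MoreMor.fibreIntegral f w (f x) := fun x =>
    fibreIntegral_baseChange f (pullback.snd f f) (pullback.fst f f) f (IsPullback.of_hasPullback f f) w x (hfin _)
  have key : ∀ x : X, ∃ M : X.Opens, x ∈ M ∧ IsAffineHom (Xd.ι ∣_ M) := fun x =>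
    exists_affineHom_nhd (pullback.snd f f) _
      (isWeighting_baseChange f w hw _ _ _ (IsPullback.of_hasPullback f f)) (fun z => hpos _) n
      (fun z => by rw [hF]; exact hmax _) IH Xd
      (fun z => by rw [hF]; exact Iff.rfl) x
      (by rw [hF]; exact (hpos x).trans_le (le_fibreIntegral f w hpos x (hfin _)))
  choose M hxM hM using key
  have : IsAffineHom Xd.ι := by
    rw [IsZariskiLocalAtTarget.iff_of_iSup_eq_top (P := @IsAffineHom) M
      (top_le_iff.mp fun x _ => TopologicalSpace.Opens.mem_iSup.mpr ⟨x, hxM x⟩)]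
    exact hM
  have : IsAffine Xd.toScheme := isAffine_of_isAffineHom Xd.ι
  obtain ⟨_, hfinite⟩ := isOpen_isFinite_max_locus f hfin w hw hpos n hmax
  refine hch _ _ (f ∣_ Yd) inferInstance hfinite ⟨fun z => ?_⟩
  obtain ⟨x, hx⟩ : ∃ x, f x = z.1 := by
    by_contra hne
    have h0 : MoreMor.fibreIntegral f w z.1 = 0 := by
      have : IsEmpty {u : X // f u = z.1} := ⟨fun u => hne ⟨u.1, u.2⟩⟩
      exact finsum_of_isEmpty _
    have : MoreMor.fibreIntegral f w z.1 = n := z.2
    omega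
  have hxd : x ∈ Xd := by show f x ∈ Yd; rw [hx]; exact z.2
  refine ⟨⟨x, hxd⟩, Yd.ι.isOpenEmbedding.injective ?_⟩
  rw [← Scheme.Hom.comp_apply, morphismRestrict_ι]
  exact hx

theorem maxAff (hch : Chev.{u}) (n : ℕ) : MaxAff.{u} n := by
  induction n using Nat.strong_induction_on with
  | _ n IH =>
    intro X Y f _ _ _ _ w hw hpos hmax hopen
    by_cases hn : n = 0
    · subst hn
      have : (⟨_, hopen⟩ : Y.Opens) = ⊤ := top_le_iff.mp fun y _ =>
        le_antisymm (by simpa using hmax y) (fibreIntegral_nonneg' f w hpos y)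
      rw [this]
      exact isAffineOpen_top Y
    · exact isAffineOpen_max_of_IH hch f w hw hpos n (Nat.pos_of_ne_zero hn) hmax IH hopen

theorem hasAffineStratification_of_values (hch : Chev.{u}) [IsAffine X] [Y.IsSeparated] [Nonempty Y] (f : X ⟶ Y)
    [Surjective f] [LocallyQuasiFinite f] [LocallyOfFiniteType f] (w : X → ℤ) (hw : MoreMor.IsWeighting f w)
    (hpos : ∀ x, 0 < w x) (k : ℕ) (hk : (Set.range (MoreMor.fibreIntegral f w)).ncard = k)
    (hkfin : (Set.range (MoreMor.fibreIntegral f w)).Finite) :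
    MoreMor.HasAffineStratification Y (k - 1) := by
  classical
  have : IsAffineHom f := MorphismProperty.of_postcomp (W := @IsAffineHom) (W' := @IsSeparated) f (terminal.from Y)
    inferInstance (by rw [terminal.comp_from]; infer_instance)
  have hfin : ∀ y : Y, (f ⁻¹' {y}).Finite := finite_fibre_of_compact f
  have hl := lowerSemicontinuous_fibreIntegral f hfin w hw hpos
  have hkpos : 0 < k := hk ▸ (Set.ncard_pos hkfin).mpr (Set.range_nonempty _)
  have hcard : hkfin.toFinset.card = k - 1 + 1 := by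
    rw [← Set.ncard_eq_toFinset_card _ hkfin, hk]; omega
  let e : Fin (k - 1 + 1) ≃o hkfin.toFinset := hkfin.toFinset.orderIsoOfFin hcard
  let s : Y → Fin (k - 1 + 1) := fun y => e.symm ⟨MoreMor.fibreIntegral f w y, hkfin.mem_toFinset.mpr ⟨y, rfl⟩⟩
  have hs : ∀ (y : Y) (i : Fin (k - 1 + 1)), (s y ≤ i ↔ MoreMor.fibreIntegral f w y ≤ (e i).1) ∧
      (s y = i ↔ MoreMor.fibreIntegral f w y = (e i).1) := fun y i => by
    constructor
    · rw [← e.le_iff_le, OrderIso.apply_symm_apply]; exact Iff.rfl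
    · rw [← e.apply_eq_iff_eq, OrderIso.apply_symm_apply, Subtype.ext_iff]
  have hcl : ∀ d : ℤ, IsClosed {y : Y | MoreMor.fibreIntegral f w y ≤ d} := fun d => by
    rw [← isOpen_compl_iff]
    convert (isOpen_iff_mem_nhds.mpr fun y hy => hl y d hy :
      IsOpen {y | d < MoreMor.fibreIntegral f w y}) using 1
    ext y
    simp only [Set.mem_compl_iff, Set.mem_setOf_eq, not_le]
  refine ⟨s, fun i => ?_, fun i => ?_⟩
  · simp only [(hs _ i).1]; exact hcl _
  obtain ⟨y₀, hy₀⟩ : ∃ y, MoreMor.fibreIntegral f w y = (e i).1 := hkfin.mem_toFinset.mp (e i).2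
  obtain ⟨n, hn⟩ : ∃ n : ℕ, (n : ℤ) = (e i).1 :=
    ⟨(e i).1.toNat, Int.toNat_of_nonneg (hy₀ ▸ fibreIntegral_nonneg' f w hpos y₀)⟩
  have hn0 : 0 < n := by
    obtain ⟨x, rfl⟩ := f.surjective y₀
    have := le_fibreIntegral f w hpos x (hfin _)
    have := hpos x
    omega
  let I := Scheme.IdealSheafData.vanishingIdeal (⟨_, hcl (e i).1⟩ : TopologicalSpace.Closeds Y)
  let iC := I.subschemeι
  have hrange : Set.range iC = {y : Y | MoreMor.fibreIntegral f w y ≤ (e i).1} := by
    rw [Scheme.IdealSheafData.range_subschemeι, Scheme.IdealSheafData.coe_support_vanishingIdeal]; rfl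
  have : IsAffine (pullback f iC) := isAffine_of_isAffineHom (pullback.fst f iC)
  have : I.subscheme.IsSeparated := ⟨by
    rw [← terminal.comp_from iC]
    infer_instance⟩
  have hFC : ∀ z, MoreMor.fibreIntegral (pullback.snd f iC) (w ∘ ⇑(pullback.fst f iC)) z =
      MoreMor.fibreIntegral f w (iC z) := fun z =>
    fibreIntegral_baseChange f (pullback.snd f iC) (pullback.fst f iC) iC (IsPullback.of_hasPullback f iC) w z (hfin _)
  have hmaxC : ∀ z, MoreMor.fibreIntegral (pullback.snd f iC) (w ∘ ⇑(pullback.fst f iC)) z ≤ n := fun z => by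
    rw [hFC, hn]
    exact hrange.le ⟨z, rfl⟩
  have hwC := isWeighting_baseChange f w hw _ _ _ (IsPullback.of_hasPullback f iC)
  obtain ⟨hopen, -⟩ := isOpen_isFinite_max_locus (pullback.snd f iC) (fun z => finite_fibre_of_compact _ z)
    _ hwC (fun z => hpos _) n hmaxC
  have hZ : IsAffine (Scheme.Opens.toScheme
      (⟨{z | MoreMor.fibreIntegral (pullback.snd f iC) (w ∘ ⇑(pullback.fst f iC)) z = n}, hopen⟩ : I.subscheme.Opens)) :=
    isAffineOpen_max_of_IH hch (pullback.snd f iC) _ hwC (fun z => hpos _) n hn0 hmaxC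
      (fun m _ => maxAff hch m) hopen
  let Zo : I.subscheme.Opens :=
    ⟨{z | MoreMor.fibreIntegral (pullback.snd f iC) (w ∘ ⇑(pullback.fst f iC)) z = n}, hopen⟩
  have : IsAffine Zo.toScheme := hZ
  refine ⟨Zo.toScheme, Zo.ι ≫ iC, inferInstance, inferInstance, ?_, ?_⟩
  · exact MorphismProperty.of_postcomp (W := @IsAffineHom) (W' := @IsSeparated) _ (terminal.from Y)
      inferInstance (by rw [terminal.comp_from]; infer_instance)
  · ext y
    simp only [Set.mem_setOf_eq, (hs y i).2, ← hn]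
    constructor
    · rintro ⟨z, rfl⟩
      rw [Scheme.Hom.comp_apply, ← hFC]
      exact z.2
    · intro hy
      obtain ⟨z, hz⟩ : y ∈ Set.range iC := hrange.ge (by show _ ≤ (e i).1; omega)
      refine ⟨⟨z, (hFC z).trans (by rw [hz]; exact hy)⟩, ?_⟩
      rw [Scheme.Hom.comp_apply]
      exact hz

end Groth.Agent.FlatMor66
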