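import Mathlib
import Groth.Agent.CAlg5.FlatDescent
import Groth.Agent.SpFP87.NoethDesc

/-!
Locally Noetherian fibres and fppf maps.
-/

set_option autoImplicit false
set_option backward.isDefEq.respectTransparency.types false
set_option linter.style.haveILetI false
universe u

namespace Groth.Agent.FlatMor66

open AlgebraicGeometry CategoryTheory CategoryTheory.Limits

theorem isLocallyNoetherian_iff_of_field_extension {X P : Scheme.{u}} {k K : CommRingCat.{u}} (hk : IsField k) (hK : IsField K)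
    (φ : k ⟶ K) (hφ : φ.hom.EssFiniteType) {π : P ⟶ X} {t : P ⟶ Spec K} {s : X ⟶ Spec k}
    (H : IsPullback π t s (Spec.map φ)) : IsLocallyNoetherian X ↔ IsLocallyNoetherian P := by
  letI := hk.toField
  letI := hK.toField
  have : Surjective (Spec.map φ) := ⟨fun p => ⟨(default : PrimeSpectrum K), Subsingleton.elim (α := PrimeSpectrum k) _ _⟩⟩
  have : Flat (Spec.map φ) := by
    rw [HasRingHomProperty.Spec_iff (P := @Flat)]
    letI := φ.hom.toAlgebra
    exact (inferInstance : Module.Flat k K)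
  have : IsAffineHom π := MorphismProperty.of_isPullback H.flip (inferInstance : IsAffineHom (Spec.map φ))
  have : Flat π := MorphismProperty.of_isPullback H.flip ‹Flat (Spec.map φ)›
  have : Surjective π := MorphismProperty.of_isPullback H.flip ‹Surjective (Spec.map φ)›
  have hchart : ∀ U : X.affineOpens, IsNoetherianRing Γ(X, U.1) ↔ IsNoetherianRing Γ(P, π ⁻¹ᵁ U.1) := by
    intro U
    have : IsAffine U.1.toScheme := U.2
    have : IsAffine (π ⁻¹ᵁ U.1).toScheme := IsAffineHom.isAffine_preimage (f := π) U.1 U.2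
    have H' : IsPullback (π ∣_ U.1) ((π ⁻¹ᵁ U.1).ι ≫ t) (U.1.ι ≫ s) (Spec.map φ) :=
      (isPullback_morphismRestrict π U.1).flip.flip.paste_vert H |>.flip.flip
    have hp := isPushout_appTop_of_isPullback H'
    have hfi : ((Spec.map φ).appTop).hom.EssFiniteType := by
      have := Scheme.ΓSpecIso_naturality φ
      rw [show (Spec.map φ).appTop = ((Scheme.ΓSpecIso k).hom ≫ φ) ≫ (Scheme.ΓSpecIso K).inv by
        rw [← this]; simp]
      rw [CommRingCat.hom_comp, CommRingCat.hom_comp]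
      exact ((RingHom.FiniteType.of_surjective _ (ConcreteCategory.bijective_of_isIso (Scheme.ΓSpecIso k).hom).surjective).essFiniteType.comp hφ).comp
        (RingHom.FiniteType.of_surjective _ (ConcreteCategory.bijective_of_isIso (Scheme.ΓSpecIso K).inv).surjective).essFiniteType
    have hfg : (π ∣_ U.1).appTop.hom.EssFiniteType := by
      letI := ((U.1.ι ≫ s).appTop).hom.toAlgebra
      letI := ((Spec.map φ).appTop).hom.toAlgebra
      letI := (π ∣_ U.1).appTop.hom.toAlgebra
      letI := ((π ⁻¹ᵁ U.1).ι ≫ t).appTop.hom.toAlgebra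
      letI : Algebra Γ(Spec k, ⊤) Γ((π ⁻¹ᵁ U.1).toScheme, ⊤) :=
        ((π ∣_ U.1).appTop.hom.comp (U.1.ι ≫ s).appTop.hom).toAlgebra
      have : IsScalarTower Γ(Spec k, ⊤) Γ(U.1.toScheme, ⊤) Γ((π ⁻¹ᵁ U.1).toScheme, ⊤) := .of_algebraMap_eq' rfl
      have : IsScalarTower Γ(Spec k, ⊤) Γ(Spec K, ⊤) Γ((π ⁻¹ᵁ U.1).toScheme, ⊤) :=
        .of_algebraMap_eq' (congrArg CommRingCat.Hom.hom hp.w)
      have : Algebra.IsPushout Γ(Spec k, ⊤) Γ(U.1.toScheme, ⊤) Γ(Spec K, ⊤) Γ((π ⁻¹ᵁ U.1).toScheme, ⊤) :=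
        CommRingCat.isPushout_iff_isPushout.mp hp
      have : Algebra.IsPushout Γ(Spec k, ⊤) Γ(Spec K, ⊤) Γ(U.1.toScheme, ⊤) Γ((π ⁻¹ᵁ U.1).toScheme, ⊤) := this.symm
      exact RingHom.EssFiniteType.isStableUnderBaseChange Γ(Spec k, ⊤) Γ(Spec K, ⊤) Γ(U.1.toScheme, ⊤)
        Γ((π ⁻¹ᵁ U.1).toScheme, ⊤) hfi
    have hff : (π ∣_ U.1).appTop.hom.FaithfullyFlat :=
      (Flat.flat_and_surjective_iff_faithfullyFlat_of_isAffine (π ∣_ U.1)).mp
        ⟨IsZariskiLocalAtTarget.restrict ‹Flat π› _, IsZariskiLocalAtTarget.restrict ‹Surjective π› _⟩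
    letI := (π ∣_ U.1).appTop.hom.toAlgebra
    have : Module.FaithfullyFlat Γ(U.1.toScheme, ⊤) Γ((π ⁻¹ᵁ U.1).toScheme, ⊤) := hff
    have e1 := U.1.topIso.commRingCatIsoToRingEquiv
    have e2 := (π ⁻¹ᵁ U.1).topIso.commRingCatIsoToRingEquiv
    constructor
    · intro hN
      have : IsNoetherianRing Γ(U.1.toScheme, ⊤) := isNoetherianRing_of_ringEquiv _ e1.symm
      have : Algebra.EssFiniteType Γ(U.1.toScheme, ⊤) Γ((π ⁻¹ᵁ U.1).toScheme, ⊤) := hfg
      have := Algebra.EssFiniteType.isNoetherianRing Γ(U.1.toScheme, ⊤) Γ((π ⁻¹ᵁ U.1).toScheme, ⊤)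
      exact isNoetherianRing_of_ringEquiv _ e2
    · intro hN
      have : IsNoetherianRing Γ((π ⁻¹ᵁ U.1).toScheme, ⊤) := isNoetherianRing_of_ringEquiv _ e2.symm
      have := CAlg5.isNoetherianRing_of_faithfullyFlat Γ(U.1.toScheme, ⊤) Γ((π ⁻¹ᵁ U.1).toScheme, ⊤)
      exact isNoetherianRing_of_ringEquiv _ e1
  rw [isLocallyNoetherian_iff_of_iSup_eq_top (S := fun U : X.affineOpens => U) (iSup_affineOpens_eq_top X),
    isLocallyNoetherian_iff_of_iSup_eq_top
      (S := fun U : X.affineOpens => (⟨π ⁻¹ᵁ U.1, IsAffineHom.isAffine_preimage (f := π) U.1 U.2⟩ : P.affineOpens))]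
  · exact forall_congr' hchart
  · show ⨆ U : X.affineOpens, π ⁻¹ᵁ U.1 = ⊤
    rw [← Scheme.Hom.preimage_iSup, iSup_affineOpens_eq_top]
    rfl

variable {X Y X' Y' : Scheme.{u}}

theorem locallyNoetherian_fibre_baseChange {f : X ⟶ Y} {f' : X' ⟶ Y'} {g' : X' ⟶ X} {g : Y' ⟶ Y} [LocallyOfFiniteType g]
    (hc : IsPullback g' f' f g) (y' : Y') :
    IsLocallyNoetherian (f.fiber (g y')) ↔ IsLocallyNoetherian (f'.fiber y') := by
  let q := Spec.map (g.residueFieldMap y')
  have hq : q ≫ Y.fromSpecResidueField (g y') = Y'.fromSpecResidueField y' ≫ g :=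
    Scheme.Hom.SpecMap_residueFieldMap_fromSpecResidueField g y'
  have h1 : IsPullback (f'.fiberι y' ≫ g') (f'.fiberToSpecResidueField y') f (q ≫ Y.fromSpecResidueField (g y')) := by
    rw [hq]
    exact (IsPullback.of_hasPullback f' (Y'.fromSpecResidueField y')).paste_horiz hc
  have hF : IsPullback (f.fiberι (g y')) (f.fiberToSpecResidueField (g y')) f (Y.fromSpecResidueField (g y')) :=
    IsPullback.of_hasPullback _ _
  let m := hF.lift (f'.fiberι y' ≫ g') (f'.fiberToSpecResidueField y' ≫ q) (by rw [h1.w, Category.assoc])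
  have h2 : IsPullback m (f'.fiberToSpecResidueField y') (f.fiberToSpecResidueField (g y')) q :=
    IsPullback.of_right (by rw [hF.lift_fst]; exact h1) (hF.lift_snd _ _ _) hF
  refine isLocallyNoetherian_iff_of_field_extension (Field.toIsField _) (Field.toIsField _) _ ?_ h2
  exact RingHom.EssFiniteType.residueFieldMap (LocallyOfFiniteType.stalkMap g y')

theorem locallyNoetherian_fibre_source {f : X ⟶ Y} (a : X' ⟶ X) [Flat a] [LocallyOfFinitePresentation a] [Surjective a] (y : Y) :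
    IsLocallyNoetherian (f.fiber y) ↔ IsLocallyNoetherian ((a ≫ f).fiber y) := by
  have h1 : IsPullback ((a ≫ f).fiberι y) ((a ≫ f).fiberToSpecResidueField y) (a ≫ f) (Y.fromSpecResidueField y) :=
    IsPullback.of_hasPullback _ _
  have hF : IsPullback (f.fiberι y) (f.fiberToSpecResidueField y) f (Y.fromSpecResidueField y) :=
    IsPullback.of_hasPullback _ _
  let m := hF.lift ((a ≫ f).fiberι y ≫ a) ((a ≫ f).fiberToSpecResidueField y) (by rw [Category.assoc]; exact h1.w)
  have h2 : IsPullback ((a ≫ f).fiberι y) m a (f.fiberι y) :=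
    IsPullback.of_bot (by rw [hF.lift_snd]; exact h1) (hF.lift_fst _ _ _).symm hF
  have : Flat m := MorphismProperty.of_isPullback h2 ‹Flat a›
  have : LocallyOfFinitePresentation m := MorphismProperty.of_isPullback h2 ‹LocallyOfFinitePresentation a›
  have : Surjective m := MorphismProperty.of_isPullback h2 ‹Surjective a›
  refine ⟨fun _ => LocallyOfFiniteType.isLocallyNoetherian m, fun _ => SpFP87.isLocallyNoetherian_of_flat_lfp_surjective m⟩

end Groth.Agent.FlatMor66
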