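import Groth.Agent.PerfSch56.PicPerf
import Mathlib.Dynamics.Newton

/-! Prime-to-characteristic torsion of the Picard group lifts along thickenings. -/

set_option autoImplicit false
set_option linter.unusedSectionVars false
set_option backward.isDefEq.respectTransparency.types false

universe u

open CategoryTheory CategoryTheory.Limits AlgebraicGeometry Opposite TopologicalSpace Polynomial

noncomputable section

namespace Groth.Agent.FlatMor66.PicTors

open Var76.LineBundle Var76.ZeroScheme Perf96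

theorem aeval_derivative_aux {R : Type u} [CommRing R] (n : ℕ) (a c : R) :
    aeval a (derivative ((X : R[X]) ^ n - C c)) = n * a ^ (n - 1) := by
  simp [derivative_X_pow]

/-- `n`-th roots of units are rigid modulo nilpotents. -/
theorem root_unique {R : Type u} [CommRing R] {n : ℕ} (hn : IsUnit (n : R)) {a b : R} (ha : IsUnit a)
    (h : IsNilpotent (a - b)) (hab : a ^ n = b ^ n) : a = b := by
  obtain ⟨r, -, hr⟩ := Polynomial.existsUnique_nilpotent_sub_and_aeval_eq_zero
    (P := (X : R[X]) ^ n - C (b ^ n)) (x := a)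
    (by simp [hab]) (by rw [aeval_derivative_aux]; exact hn.mul (ha.pow (n - 1)))
  exact (hr a ⟨by simp, by simp [hab]⟩).trans (hr b ⟨h, by simp⟩).symm

theorem isUnit_of_map {R S : Type u} [CommRing R] [CommRing S] {f : R →+* S} (hf : Function.Surjective f)
    (hker : ∀ r, f r = 0 → IsNilpotent r) {a : R} (ha : IsUnit (f a)) : IsUnit a := by
  obtain ⟨b, hb⟩ := hf ↑ha.unit⁻¹
  have h1 : IsUnit (a * b) := by
    have h0 : IsNilpotent (a * b - 1) := hker _ (by rw [map_sub, map_mul, hb, map_one, ha.mul_val_inv, sub_self])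
    have := h0.isUnit_add_one
    rwa [sub_add_cancel] at this
  exact isUnit_of_mul_isUnit_left h1

/-- Existence of the root lifting a given one. -/
theorem root_exists {R S : Type u} [CommRing R] [CommRing S] {f : R →+* S} (hf : Function.Surjective f)
    (hker : ∀ r, f r = 0 → IsNilpotent r) {n : ℕ} (hn : IsUnit (n : S)) {c : R} {t : S} (ht : IsUnit t)
    (h : t ^ n = f c) : ∃ d, f d = t ∧ d ^ n = c := by
  obtain ⟨x, rfl⟩ := hf t
  have hx : IsUnit x := isUnit_of_map hf hker ht
  have hnR : IsUnit (n : R) := isUnit_of_map hf hker (by rwa [map_natCast])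
  obtain ⟨r, ⟨hr1, hr2⟩, -⟩ := Polynomial.existsUnique_nilpotent_sub_and_aeval_eq_zero
    (P := (X : R[X]) ^ n - C c) (x := x)
    (by simpa using hker (x ^ n - c) (by rw [map_sub, map_pow, h, sub_self]))
    (by rw [aeval_derivative_aux]; exact hnR.mul (hx.pow (n - 1)))
  have hr : r ^ n = c := by simpa [sub_eq_zero] using hr2
  refine ⟨r, (root_unique hn ht (by rw [← map_sub]; exact hr1.map f) ?_).symm, hr⟩
  rw [← map_pow f r, hr, h]

variable {X X' : Scheme.{u}} {i : X ⟶ X'} [IsClosedImmersion i] [Surjective i] {n : ℕ}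

theorem ker_nil {V : X'.Opens} (hV : IsAffineOpen V) (s : Γ(X', V)) (h : i.app V s = 0) : IsNilpotent s :=
  isNilpotent_of_app_eq_zero hV.isCompact h

theorem isUnit_cast (hu : IsUnit (n : Γ(X, ⊤))) (U : X.Opens) : IsUnit (n : Γ(X, U)) := by
  simpa using hu.map (X.presheaf.map (homOfLE le_top : U ⟶ ⊤).op).hom

theorem isUnit_cast' (i : X ⟶ X') [IsClosedImmersion i] [Surjective i] (hu : IsUnit (n : Γ(X, ⊤))) {V : X'.Opens} (hV : IsAffineOpen V) : IsUnit (n : Γ(X', V)) :=
  isUnit_of_map (f := (i.app V).hom) (i.app_surjective V hV) (ker_nil hV) (by simpa using isUnit_cast hu _)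

theorem app_fres {U V : X'.Opens} (h : V ≤ U) (a : Γ(X', U)) :
    i.app V (fres h a) = fres (i.preimage_mono h) (i.app U a) := app_map h a

/-- Roots with a given image are unique. -/
theorem eq_of_pow_eq (hu : IsUnit (n : Γ(X, ⊤))) {V : X'.Opens} {a b : Γ(X', V)} (ha : IsUnit a)
    (hi : i.app V a = i.app V b) (hab : a ^ n = b ^ n) : a = b := by
  refine EGA73.fres_eq_of_locally a b fun x hx => ?_
  obtain ⟨A, hA, hxA, hle⟩ := exists_isAffineOpen_mem_and_subset (U := V) hx
  refine ⟨A, hle, hxA, root_unique (isUnit_cast' i hu hA) (ha.map _)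
    (ker_nil (i := i) hA _ ?_) ?_⟩
  · rw [map_sub, app_fres, app_fres, hi, sub_self]
  · simp only [fres, ← map_pow, hab]

/-- A root on the closed subscheme lifts to a root. -/
theorem exists_root (hn : 0 < n) (hu : IsUnit (n : Γ(X, ⊤))) {V : X'.Opens} {c : Γ(X', V)} (hc : IsUnit c)
    {t : Γ(X, i ⁻¹ᵁ V)} (ht : IsUnit t) (h : t ^ n = i.app V c) :
    ∃ d : Γ(X', V), i.app V d = t ∧ d ^ n = c := by
  choose A hA hxA hle using fun x : V => exists_isAffineOpen_mem_and_subset (U := V) x.2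
  choose d hd1 hd2 using fun x : V => root_exists (f := (i.app (A x)).hom) (i.app_surjective _ (hA x))
    (ker_nil (hA x)) (isUnit_cast hu _) (c := fres (hle x) c)
    (t := fres (i.preimage_mono (hle x)) t) (ht.map _)
    (by show fres _ t ^ n = i.app (A x) (fres (hle x) c)
        rw [app_fres, ← h]; simp only [fres, map_pow])
  have hdu : ∀ x, IsUnit (d x) := fun x => by
    have : IsUnit (d x ^ n) := by rw [hd2]; exact hc.map _
    exact (isUnit_pow_iff hn.ne').1 this
  obtain ⟨D, hD, -⟩ := X'.sheaf.existsUnique_gluing' A V (fun x => homOfLE (hle x))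
    (fun y hy => Opens.mem_iSup.2 ⟨⟨y, hy⟩, hxA _⟩) d fun x y => by
      show fres (inf_le_left : A x ⊓ A y ≤ A x) (d x) = fres (inf_le_right : A x ⊓ A y ≤ A y) (d y)
      refine eq_of_pow_eq (i := i) hu ((hdu x).map _) ?_ ?_
      · rw [app_fres, app_fres]
        show fres _ ((i.app (A x)).hom (d x)) = fres _ ((i.app (A y)).hom (d y))
        rw [hd1, hd1]
        simp only [fres, Curves2.Glue.map_map_fn]
      · simp only [fres, ← map_pow, hd2, Curves2.Glue.map_map_fn]
  have hD' : ∀ x, fres (hle x) D = d x := hD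
  refine ⟨D, EGA73.fres_eq_of_locally _ _ fun z hz => ?_, EGA73.fres_eq_of_locally _ _ fun z hz => ?_⟩
  · refine ⟨i ⁻¹ᵁ A ⟨i z, hz⟩, i.preimage_mono (hle _), hxA ⟨i z, hz⟩, ?_⟩
    rw [← app_fres (show A ⟨i z, hz⟩ ≤ V from hle _), hD']
    exact hd1 _
  · refine ⟨A ⟨z, hz⟩, hle _, hxA ⟨z, hz⟩, ?_⟩
    have := hd2 ⟨z, hz⟩
    rw [← hD' ⟨z, hz⟩] at this
    simpa [fres] using this

theorem exists_frame_preimage {L : X.Modules} (hL : PicF.IsInvertible L) (x : X') :
    ∃ V : X'.affineOpens, x ∈ V.1 ∧ ∃ e : Γ(L, i ⁻¹ᵁ V.1), IsFrame L (i ⁻¹ᵁ V.1) e := by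
  have hemb := i.isClosedEmbedding
  have hhom : IsHomeomorph i := isHomeomorph_iff_isEmbedding_surjective.2 ⟨hemb.isEmbedding, i.surjective⟩
  obtain ⟨z, rfl⟩ := i.surjective x
  obtain ⟨W, hzW, -, e, he⟩ := Mero90.exists_affine_frame hL z ⊤ trivial
  let W' : X'.Opens := ⟨i '' (W.1 : Set X), hhom.isOpenMap _ W.1.2⟩
  obtain ⟨V, hV, hzV, hle⟩ := exists_isAffineOpen_mem_and_subset (U := W') (x := i z) ⟨z, hzW, rfl⟩
  have hle' : i ⁻¹ᵁ V ≤ W.1 := fun y hy => by
    obtain ⟨y', hy', e'⟩ := hle hy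
    exact hhom.injective e' ▸ hy'
  exact ⟨⟨V, hV⟩, hzV, res L hle' e, he.res hle'⟩

theorem exists_lift (hn : 0 < n) (hu : IsUnit (n : Γ(X, ⊤))) {L : X.Modules} (hL : PicF.IsInvertible L)
    (hT : Nonempty (CohB1.tensorPow L n ≅ Coh.structureModule X)) :
    ∃ L' : X'.Modules, PicF.IsInvertible L' ∧ Nonempty (CohB1.tensorPow L' n ≅ Coh.structureModule X') ∧
      Nonempty ((Scheme.Modules.pullback i).obj L' ≅ L) := by
  obtain ⟨iso⟩ := hT
  choose V₀ hxV e he using exists_frame_preimage (i := i) hL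
  let V : X' → X'.Opens := fun x => (V₀ x).1
  have hcov : ∀ x : X', ∃ j, x ∈ V j := fun x => ⟨x, hxV x⟩
  have hone : ∀ j, IsFrame _ (i ⁻¹ᵁ V j) (val (CohB1.tensorPow L n) iso.inv (i ⁻¹ᵁ V j)) := fun j =>
    (Amp73.isFrame_iff_le_genLocus iso.inv _).2 (by
      have h0 := Amp73.genLocus_comp_iso (𝟙 (Coh.structureModule X)) iso.inv
      rw [Category.id_comp, Amp73.genLocus_id] at h0
      exact le_top.trans h0.ge)
  choose a ha using fun j => Amp73.exists_coord iso.inv (Amp73.isFrame_epow (he j) n)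
  have hau : ∀ j, IsUnit (a j) := fun j =>
    (Amp73.isFrame_smul_iff (Amp73.isFrame_epow (he j) n) _).1 ((ha j).symm ▸ hone j)
  choose a' ha' using fun j => i.app_surjective (V j) (V₀ j).2 (a j)
  have hau' : ∀ j, IsUnit (a' j) := fun j =>
    isUnit_of_map (f := (i.app (V j)).hom) (i.app_surjective _ (V₀ j).2) (ker_nil (V₀ j).2)
      (by rw [show (i.app (V j)).hom (a' j) = a j from ha' j]; exact hau j)
  choose c hc using fun j k => ((he j) _ (i.preimage_mono (inf_le_left : V j ⊓ V k ≤ V j))).2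
    (res L (i.preimage_mono (inf_le_right : V j ⊓ V k ≤ V k)) (e k))
  dsimp only at hc
  have hc' : ∀ (j k : X') (A : X.Opens) (hA : A ≤ i ⁻¹ᵁ (V j ⊓ V k)),
      fres hA (c j k) • res L (hA.trans (i.preimage_mono inf_le_left)) (e j) =
        res L (hA.trans (i.preimage_mono inf_le_right)) (e k) := fun j k A hA => by
    rw [← res_res L (i.preimage_mono (inf_le_left : V j ⊓ V k ≤ V j)) hA, ← res_smul, hc, res_res]
  -- the relation between the coordinates of the trivialisation
  have hrel : ∀ j k, fres (i.preimage_mono (inf_le_left : V j ⊓ V k ≤ V j)) (a j) =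
      fres (i.preimage_mono (inf_le_right : V j ⊓ V k ≤ V k)) (a k) * c j k ^ n := fun j k => by
    refine ((Amp73.isFrame_epow (he j) n) _ (i.preimage_mono (inf_le_left : V j ⊓ V k ≤ V j))).1 ?_
    show _ • res _ _ (Amp73.epow (e j) n) = _ • res _ _ (Amp73.epow (e j) n)
    rw [← res_smul, ha, mul_smul, Amp73.res_epow, ← Amp73.epow_smul, hc, ← Amp73.res_epow, ← res_smul, ha,
      res_val, res_val]
  have hcu : ∀ j k, IsUnit (c j k) := fun j k => by
    refine (isUnit_pow_iff hn.ne').1 (isUnit_of_mul_isUnit_right (x := fres (i.preimage_mono inf_le_right) (a k)) ?_)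
    rw [← hrel]
    exact (hau j).map _
  have hroot : ∀ j k, ∃ d : Γ(X', V j ⊓ V k), i.app _ d = c j k ∧
      fres (inf_le_left : V j ⊓ V k ≤ V j) (a' j) = fres (inf_le_right : V j ⊓ V k ≤ V k) (a' k) * d ^ n := by
    intro j k
    obtain ⟨w, hw⟩ := (hau' k).map (X'.presheaf.map (homOfLE (inf_le_right : V j ⊓ V k ≤ V k)).op).hom
    have hw' : (w : Γ(X', V j ⊓ V k)) = fres inf_le_right (a' k) := hw
    obtain ⟨d, hd1, hd2⟩ := exists_root (i := i) hn hu
      (c := fres (inf_le_left : V j ⊓ V k ≤ V j) (a' j) * (↑w⁻¹ : Γ(X', V j ⊓ V k)))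
      (((hau' j).map _).mul w⁻¹.isUnit) (hcu j k) (by
        have e1 : i.app (V j ⊓ V k) (fres inf_le_left (a' j)) =
            i.app (V j ⊓ V k) (fres inf_le_right (a' k)) * c j k ^ n := by
          rw [app_fres, app_fres, ha', ha', hrel]
        rw [map_mul, e1, mul_right_comm, ← map_mul, ← hw', Units.mul_inv, map_one, one_mul])
    refine ⟨d, hd1, ?_⟩
    rw [hd2, ← hw', mul_comm (fres _ (a' j)), ← mul_assoc, Units.mul_inv, one_mul]
  choose d hd1 hd2 using hroot
  have hdu : ∀ j k, IsUnit (d j k) := fun j k => by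
    refine (isUnit_pow_iff hn.ne').1 (isUnit_of_mul_isUnit_right (x := fres inf_le_right (a' k)) ?_)
    rw [← hd2]
    exact (hau' j).map _
  obtain ⟨L', g, hL', hg, hgc⟩ := EGA73.exists_lineBundle hcov d
    (fun j => by
      refine eq_of_pow_eq (i := i) hu (hdu j j) ?_ ?_
      · rw [hd1, map_one]
        exact ((he j) _ (i.preimage_mono (inf_le_left : V j ⊓ V j ≤ V j))).1 (by
          dsimp only
          rw [one_smul, hc])
      · rw [one_pow]
        refine ((hau' j).map (X'.presheaf.map (homOfLE (inf_le_left : V j ⊓ V j ≤ V j)).op).hom).mul_left_cancel ?_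
        rw [mul_one]
        exact (hd2 j j).symm)
    (fun j k l A hjk hkl hjl => by
      refine eq_of_pow_eq (i := i) hu (((hdu j k).map _).mul ((hdu k l).map _)) ?_ ?_
      · rw [map_mul, app_fres, app_fres, app_fres, hd1, hd1, hd1]
        refine ((he j) _ (i.preimage_mono (hjk.trans inf_le_left))).1 ?_
        show _ • res L _ (e j) = _ • res L _ (e j)
        rw [mul_comm, mul_smul, hc' j k _ (i.preimage_mono hjk), hc' k l _ (i.preimage_mono hkl),
          hc' j l _ (i.preimage_mono hjl)]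
      · have e1 := congrArg (fres hjk) (hd2 j k)
        have e2 := congrArg (fres hkl) (hd2 k l)
        have e3 := congrArg (fres hjl) (hd2 j l)
        simp only [fres, map_mul, map_pow, Curves2.Glue.map_map_fn] at e1 e2 e3 ⊢
        refine ((hau' l).map (X'.presheaf.map (homOfLE (hkl.trans inf_le_right)).op).hom).mul_left_cancel ?_
        rw [← e3, e1, e2, mul_pow]
        ring)
  refine ⟨L', hL', ?_, ?_⟩
  · obtain ⟨φ, hφ⟩ := PerfSch56.exists_hom_of_values (M := CohB1.tensorPow L' n) V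
      (top_le_iff.1 fun x _ => Opens.mem_iSup.2 (hcov x)) (fun j => a' j • Amp73.epow (g j) n) fun j k => by
        rw [res_smul, res_smul, Amp73.res_epow, Amp73.res_epow, hgc j k, Amp73.epow_smul, smul_smul, ← hd2]
    have : IsIso φ := Amp73.isIso_of_frames φ fun x => ⟨V x, PerfSch56.one _, hxV x, PerfSch56.isFrame_one _, by
      show IsFrame _ _ (val _ φ (V x))
      rw [hφ]
      exact (Amp73.isFrame_smul_iff (Amp73.isFrame_epow (hg x) n) _).2 (hau' x)⟩
    exact ⟨(asIso φ).symm⟩
  · have hpg : ∀ j, IsFrame _ (i ⁻¹ᵁ V j) (Amp73.pullS i L' (V j) (g j)) := fun j =>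
      Amp73.isFrame_pullS i hL' (hg j)
    obtain ⟨ψ, hψ⟩ := Amp73.exists_hom_of_frames (L := (Scheme.Modules.pullback i).obj L') (M := L)
      (fun j => i ⁻¹ᵁ V j) (top_le_iff.1 fun z _ => Opens.mem_iSup.2 (hcov (i z)))
      (fun j => Amp73.pullS i L' (V j) (g j)) hpg e fun j k O hj hk b hb => by
        have hO : O ≤ i ⁻¹ᵁ (V j ⊓ V k) := le_inf hj hk
        obtain rfl : fres hO (c j k) = b := by
          refine ((hpg j) O hj).1 (Eq.trans ?_ hb)
          show fres hO (c j k) • res _ hj _ = res _ hk _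
          rw [← res_res _ (i.preimage_mono (inf_le_left : V j ⊓ V k ≤ V j)) hO,
            ← res_res _ (i.preimage_mono (inf_le_right : V j ⊓ V k ≤ V k)) hO,
            Amp73.res_pullS i L' (inf_le_left : V j ⊓ V k ≤ V j),
            Amp73.res_pullS i L' (inf_le_right : V j ⊓ V k ≤ V k),
            hgc j k, Amp73.pullS_smul, hd1, res_smul]
        exact (hc' j k O hO).symm
    have : IsIso ψ := Amp73.isIso_of_frames ψ fun z =>
      ⟨i ⁻¹ᵁ V (i z), _, hxV (i z), hpg (i z), by rw [hψ]; exact he (i z)⟩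
    exact ⟨asIso ψ⟩

end Groth.Agent.FlatMor66.PicTors
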