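import Mathlib

/-!
Transcendence of `a ^ n + b` for large `n`, uniformly over all primes.
-/

set_option autoImplicit false
set_option linter.style.haveILetI false
set_option backward.isDefEq.respectTransparency.types false
universe u

open Filter
open scoped Polynomial

noncomputable section

namespace Groth.Agent.FlatMor66.PowerPert

variable {R S : Type u} [CommRing R] [CommRing S] [Algebra R S]

/-- The image of the base in the residue domain. -/
abbrev DQ (R : Type u) {S : Type u} [CommRing R] [CommRing S] [Algebra R S] (w : PrimeSpectrum S) : Type u :=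
  R ⧸ w.asIdeal.under R

/-- The residue domain. -/
abbrev EQ {S : Type u} [CommRing S] (w : PrimeSpectrum S) : Type u := S ⧸ w.asIdeal

/-- Transcendence over the base of the value of `x` at `w`. -/
def Trans (R : Type u) {S : Type u} [CommRing R] [CommRing S] [Algebra R S] (w : PrimeSpectrum S) (x : S) : Prop :=
  Transcendental (DQ R w) (Ideal.Quotient.mk w.asIdeal x)

instance (w : PrimeSpectrum S) : FaithfulSMul (DQ R w) (EQ w) :=
  (faithfulSMul_iff_algebraMap_injective _ _).2 Ideal.algebraMap_quotient_injective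

/-- The subalgebra generated by a finite set maps onto the generated subalgebra of the residue domain. -/
theorem mem_adjoin_image_iff (w : PrimeSpectrum S) (T : Set S) (z : EQ w) :
    z ∈ Algebra.adjoin (DQ R w) (Ideal.Quotient.mk w.asIdeal '' T) ↔
      ∃ y ∈ Algebra.adjoin R T, Ideal.Quotient.mk w.asIdeal y = z := by
  constructor
  · intro h
    induction h using Algebra.adjoin_induction with
    | mem v hv => obtain ⟨y, hy, rfl⟩ := hv; exact ⟨y, Algebra.subset_adjoin hy, rfl⟩
    | algebraMap v =>
      obtain ⟨v, rfl⟩ := Ideal.Quotient.mk_surjective v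
      exact ⟨algebraMap R S v, Subalgebra.algebraMap_mem _ v, rfl⟩
    | add v v' _ _ h1 h2 =>
      obtain ⟨y, hy, rfl⟩ := h1; obtain ⟨y', hy', rfl⟩ := h2
      exact ⟨y + y', add_mem hy hy', map_add _ _ _⟩
    | mul v v' _ _ h1 h2 =>
      obtain ⟨y, hy, rfl⟩ := h1; obtain ⟨y', hy', rfl⟩ := h2
      exact ⟨y * y', mul_mem hy hy', map_mul _ _ _⟩
  · rintro ⟨y, hy, rfl⟩
    induction hy using Algebra.adjoin_induction with
    | mem v hv => exact Algebra.subset_adjoin ⟨v, hv, rfl⟩
    | algebraMap v => exact Subalgebra.algebraMap_mem (Algebra.adjoin (DQ R w) _) (Ideal.Quotient.mk _ v)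
    | add v v' _ _ h1 h2 => rw [map_add]; exact add_mem h1 h2
    | mul v v' _ _ h1 h2 => rw [map_mul]; exact mul_mem h1 h2

/-- Algebraicity over finitely many elements spreads to the nearby primes of an ultrafilter limit. -/
theorem eventually_isAlgebraic [Algebra.FiniteType R S] {ι : Type} (U : Filter ι) (v : ι → PrimeSpectrum S)
    (w : PrimeSpectrum S) (hpos : ∀ s ∈ w.asIdeal, ∀ᶠ i in U, s ∈ (v i).asIdeal)
    (hneg : ∀ s ∉ w.asIdeal, ∀ᶠ i in U, s ∉ (v i).asIdeal) (T : Set S)
    [halg : Algebra.IsAlgebraic (Algebra.adjoin (DQ R w) (Ideal.Quotient.mk w.asIdeal '' T)) (EQ w)] :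
    ∀ᶠ i in U, Algebra.IsAlgebraic (Algebra.adjoin (DQ R (v i)) (Ideal.Quotient.mk (v i).asIdeal '' T)) (EQ (v i)) := by
  classical
  let A₀ := Algebra.adjoin R T
  have key : ∀ x : S, ∀ᶠ i in U, IsAlgebraic (Algebra.adjoin (DQ R (v i)) (Ideal.Quotient.mk (v i).asIdeal '' T))
      (Ideal.Quotient.mk (v i).asIdeal x) := by
    intro x
    obtain ⟨p, hp0, hp⟩ := halg.1 (Ideal.Quotient.mk w.asIdeal x)
    let ψ : A₀ →+* Algebra.adjoin (DQ R w) (Ideal.Quotient.mk w.asIdeal '' T) :=
      ((Ideal.Quotient.mk w.asIdeal).comp A₀.val.toRingHom).codRestrict _ fun y =>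
        (mem_adjoin_image_iff w T _).2 ⟨y.1, y.2, rfl⟩
    have hψ : Function.Surjective ψ := fun z => by
      obtain ⟨y, hy, hyz⟩ := (mem_adjoin_image_iff w T z.1).1 z.2
      exact ⟨⟨y, hy⟩, Subtype.ext hyz⟩
    obtain ⟨P, rfl⟩ := Polynomial.map_surjective ψ hψ p
    obtain ⟨k, hk⟩ : ∃ k, ψ (P.coeff k) ≠ 0 := by
      by_contra! h
      exact hp0 (Polynomial.ext fun k => by rw [Polynomial.coeff_map, h, Polynomial.coeff_zero])
    have hmem : Polynomial.eval₂ A₀.val.toRingHom x P ∈ w.asIdeal := by
      rw [← Ideal.Quotient.eq_zero_iff_mem, Polynomial.hom_eval₂]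
      rw [Polynomial.aeval_def, Polynomial.eval₂_map] at hp
      exact hp
    have hk' : (P.coeff k : S) ∉ w.asIdeal := fun h => hk (Subtype.ext (Ideal.Quotient.eq_zero_iff_mem.2 h))
    filter_upwards [hpos _ hmem, hneg _ hk'] with i h1 h2
    let φ : A₀ →+* Algebra.adjoin (DQ R (v i)) (Ideal.Quotient.mk (v i).asIdeal '' T) :=
      ((Ideal.Quotient.mk (v i).asIdeal).comp A₀.val.toRingHom).codRestrict _ fun y =>
        (mem_adjoin_image_iff (v i) T _).2 ⟨y.1, y.2, rfl⟩
    refine ⟨P.map φ, fun h => h2 ?_, ?_⟩
    · have := congrArg (fun q => (Polynomial.coeff q k).1) h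
      simp only [Polynomial.coeff_map, Polynomial.coeff_zero] at this
      exact Ideal.Quotient.eq_zero_iff_mem.1 this
    · rw [Polynomial.aeval_def, Polynomial.eval₂_map]
      rw [← Ideal.Quotient.eq_zero_iff_mem, Polynomial.hom_eval₂] at h1
      exact h1
  obtain ⟨G, hG⟩ := Algebra.FiniteType.out (R := R) (A := S)
  filter_upwards [(eventually_all_finset G).2 fun x _ => key x] with i hi
  let Ti := Algebra.adjoin (DQ R (v i)) (Ideal.Quotient.mk (v i).asIdeal '' T)
  refine ⟨fun z => ?_⟩
  obtain ⟨z, rfl⟩ := Ideal.Quotient.mk_surjective z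
  have hz : z ∈ Algebra.adjoin R (G : Set S) := hG ▸ Algebra.mem_top
  induction hz using Algebra.adjoin_induction with
  | mem x hx => exact hi x hx
  | algebraMap r =>
    exact isAlgebraic_algebraMap (⟨_, Subalgebra.algebraMap_mem Ti (Ideal.Quotient.mk _ r)⟩ : Ti)
  | add x y _ _ hx hy => rw [map_add]; exact hx.add hy
  | mul x y _ _ hx hy => rw [map_mul]; exact hx.mul hy

/-- A polynomial with all degrees below `n` does not vanish on `(X, c - X ^ n)`. -/
theorem eval_sub_pow_ne_zero {K : Type u} [CommRing K] [IsDomain K] (n : ℕ) (c : K) (Q : K[X][X])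
    (hQ : Q ≠ 0) (hdeg : ∀ j, (Q.coeff j).natDegree < n) :
    Q.eval (Polynomial.C c - Polynomial.X ^ n) ≠ 0 := by
  classical
  let g : K[X] := Polynomial.C c - Polynomial.X ^ n
  have hg : g.natDegree = n := by
    rw [show g = -(Polynomial.X ^ n - Polynomial.C c) by simp [g], Polynomial.natDegree_neg,
      Polynomial.natDegree_X_pow_sub_C]
  have hn : 0 < n := lt_of_le_of_lt (Nat.zero_le _) (hdeg 0)
  have hg0 : g ≠ 0 := fun h => by rw [h, Polynomial.natDegree_zero] at hg; omega
  have main : ∀ N, ∀ Q : K[X][X], Q.natDegree ≤ N → (∀ j, (Q.coeff j).natDegree < n) → Q ≠ 0 →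
      Q.eval g ≠ 0 ∧ (Q.eval g).natDegree = (Q.coeff Q.natDegree).natDegree + n * Q.natDegree := by
    intro N
    induction N with
    | zero =>
      intro Q hN hd h0
      rw [Polynomial.eq_C_of_natDegree_le_zero hN] at h0 ⊢
      simp only [Polynomial.eval_C, Polynomial.natDegree_C, Polynomial.coeff_C_zero, mul_zero, add_zero, and_true]
      exact fun h => h0 (by rw [h, map_zero])
    | succ N ih =>
      intro Q hN hd h0
      have hlead : Q.coeff Q.natDegree ≠ 0 := fun h => h0 (Polynomial.leadingCoeff_eq_zero.1 h)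
      have hmain : (Q.coeff Q.natDegree * g ^ Q.natDegree).natDegree =
          (Q.coeff Q.natDegree).natDegree + n * Q.natDegree := by
        rw [Polynomial.natDegree_mul hlead (pow_ne_zero _ hg0), Polynomial.natDegree_pow, hg, mul_comm n]
      have hsplit : Q.eval g = Q.eraseLead.eval g + Q.coeff Q.natDegree * g ^ Q.natDegree := by
        conv_lhs => rw [← Polynomial.eraseLead_add_C_mul_X_pow Q]
        rw [Polynomial.eval_add, Polynomial.eval_mul, Polynomial.eval_C, Polynomial.eval_pow, Polynomial.eval_X]
        rfl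
      rw [hsplit]
      by_cases he : Q.eraseLead = 0
      · rw [he, Polynomial.eval_zero, zero_add]
        exact ⟨mul_ne_zero hlead (pow_ne_zero _ hg0), hmain⟩
      have hlt : Q.eraseLead.natDegree < Q.natDegree :=
        (Polynomial.eraseLead_natDegree_lt_or_eraseLead_eq_zero Q).resolve_right he
      have hd' : ∀ j, (Q.eraseLead.coeff j).natDegree < n := fun j => by
        rw [Polynomial.eraseLead_coeff]; split_ifs
        · rwa [Polynomial.natDegree_zero]
        · exact hd j
      obtain ⟨h1, h2⟩ := ih Q.eraseLead (by omega) hd' he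
      have hlt2 : (Q.eraseLead.eval g).natDegree < (Q.coeff Q.natDegree * g ^ Q.natDegree).natDegree := by
        rw [hmain, h2]
        have := hd' Q.eraseLead.natDegree
        nlinarith
      rw [Polynomial.natDegree_add_eq_right_of_natDegree_lt hlt2]
      refine ⟨fun h => ?_, hmain⟩
      rw [add_eq_zero_iff_eq_neg] at h
      rw [h, Polynomial.natDegree_neg] at hlt2
      exact lt_irrefl _ hlt2
  exact (main _ Q le_rfl hdeg hQ).1

/-- The key uniformity: if everywhere the residue degree is at most `d`, then for large `n` the element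
`a ^ n + b` is transcendental wherever the degree is `d` and `a` or `b` is transcendental. -/
theorem exists_forall_transcendental [Algebra.FiniteType R S] (d : ℕ) (a b : S)
    (hd : ∀ w : PrimeSpectrum S, Algebra.trdeg (DQ R w) (EQ w) ≤ d) :
    ∃ n₀ : ℕ, ∀ n ≥ n₀, ∀ w : PrimeSpectrum S, Algebra.trdeg (DQ R w) (EQ w) = d →
      (Trans R w a ∨ Trans R w b) → Trans R w (a ^ n + b) := by
  classical
  by_contra hcon
  push Not at hcon
  choose g hg v hv hor hbad using hcon
  let U : Filter ℕ := ↑(hyperfilter ℕ)
  have hU : U ≤ atTop := Nat.hyperfilter_le_atTop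
  -- the limit prime
  let I : Ideal S :=
    { carrier := {s | ∀ᶠ i in U, s ∈ (v i).asIdeal}
      add_mem' := fun {x y} hx hy => by
        filter_upwards [hx, hy] with i h1 h2 using add_mem h1 h2
      zero_mem' := Eventually.of_forall fun i => zero_mem _
      smul_mem' := fun c x hx => by
        filter_upwards [hx] with i h1 using Ideal.mul_mem_left _ _ h1 }
  have hI : I.IsPrime := by
    refine ⟨fun h => ?_, fun {x y} h => ?_⟩
    · obtain ⟨i, hi⟩ := ((I.eq_top_iff_one).1 h : ∀ᶠ i in U, (1 : S) ∈ (v i).asIdeal).exists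
      exact (v i).2.ne_top ((Ideal.eq_top_iff_one _).2 hi)
    · exact (Ultrafilter.eventually_or (f := hyperfilter ℕ)).1 (h.mono fun i hi => (v i).2.mem_or_mem hi)
  let w : PrimeSpectrum S := ⟨I, hI⟩
  have hpos : ∀ s ∈ w.asIdeal, ∀ᶠ i in U, s ∈ (v i).asIdeal := fun s hs => hs
  have hneg : ∀ s ∉ w.asIdeal, ∀ᶠ i in U, s ∉ (v i).asIdeal := fun s hs =>
    Ultrafilter.eventually_not.2 hs
  -- at the bad primes the value of `b` depends on `a`, which is transcendental
  have hga : ∀ i, 0 < g i → Trans R (v i) a := by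
    intro i hi
    refine (hor i).elim id fun hb ha => hb ?_
    have ht : IsAlgebraic (DQ R (v i)) (Ideal.Quotient.mk (v i).asIdeal (a ^ g i + b)) := not_not.1 (hbad i)
    rw [map_add, map_pow] at ht
    have := ht.sub (IsAlgebraic.pow (ha : IsAlgebraic (DQ R (v i)) _) (g i))
    simpa using this
  obtain ⟨G, hG⟩ := Algebra.FiniteType.out (R := R) (A := S)
  let ab : Fin 2 → EQ w := ![Ideal.Quotient.mk _ a, Ideal.Quotient.mk _ b]
  by_cases hind : AlgebraicIndependent (DQ R w) ab
  · -- independent: the same holds at the bad primes, a contradiction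
    let full : Set (EQ w) := Set.range ab ∪ Ideal.Quotient.mk w.asIdeal '' (G : Set S)
    have : Algebra.IsAlgebraic (Algebra.adjoin (DQ R w) full) (EQ w) := ⟨fun z => by
      obtain ⟨z, rfl⟩ := Ideal.Quotient.mk_surjective z
      have hz : Ideal.Quotient.mk w.asIdeal z ∈ Algebra.adjoin (DQ R w) full :=
        Algebra.adjoin_mono Set.subset_union_right
          ((mem_adjoin_image_iff w (G : Set S) _).2 ⟨z, hG ▸ Algebra.mem_top, rfl⟩)
      exact isAlgebraic_algebraMap (⟨_, hz⟩ : Algebra.adjoin (DQ R w) full)⟩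
    obtain ⟨s, hs1, -, hs⟩ := exists_isTranscendenceBasis_between (Set.range ab) full Set.subset_union_left
      hind.to_subtype_range
    have hscard : Cardinal.mk s ≤ (d : Cardinal) := hs.cardinalMk_eq_trdeg.trans_le (hd w)
    have : Finite s := Cardinal.mk_lt_aleph0_iff.1 (hscard.trans_lt Cardinal.natCast_lt_aleph0)
    let lift : EQ w → S := fun z =>
      if z = Ideal.Quotient.mk _ a then a else if z = Ideal.Quotient.mk _ b then b else Function.surjInv Ideal.Quotient.mk_surjective z
    have hlift : ∀ z, Ideal.Quotient.mk w.asIdeal (lift z) = z := fun z => by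
      dsimp only [lift]; split_ifs with h1 h2
      · exact h1.symm
      · exact h2.symm
      · exact Function.surjInv_eq _ _
    have hab : Ideal.Quotient.mk w.asIdeal b ≠ Ideal.Quotient.mk w.asIdeal a := fun h =>
      absurd (hind.injective (a₁ := 0) (a₂ := 1) (by simp [ab, h])) (by decide)
    have hla : lift (Ideal.Quotient.mk _ a) = a := if_pos rfl
    have hlb : lift (Ideal.Quotient.mk _ b) = b := by rw [show lift _ = _ from if_neg hab, if_pos rfl]
    let T : Set S := lift '' s
    have hT : Ideal.Quotient.mk w.asIdeal '' T = s := by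
      rw [Set.image_image]; simp [hlift]
    have : Algebra.IsAlgebraic (Algebra.adjoin (DQ R w) (Ideal.Quotient.mk w.asIdeal '' T)) (EQ w) := by
      rw [hT, ← Subtype.range_coe (s := s)]
      exact hs.isAlgebraic
    have hev : ∀ᶠ i in U, 1 ≤ i := hU (eventually_ge_atTop 1)
    obtain ⟨i, hi, hialg⟩ := (hev.and (eventually_isAlgebraic (R := R) U v w hpos hneg T)).exists
    have hgi : 0 < g i := lt_of_lt_of_le hi (hg i)
    let x : s → EQ (v i) := fun z => Ideal.Quotient.mk _ (lift z)
    have hrange : Set.range x = Ideal.Quotient.mk (v i).asIdeal '' T := by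
      simp only [x, T, Set.image_image]
      exact (Set.image_eq_range (fun z => Ideal.Quotient.mk (v i).asIdeal (lift z)) s).symm
    have : Algebra.IsAlgebraic (Algebra.adjoin (DQ R (v i)) (Set.range x)) (EQ (v i)) := by rwa [hrange]
    have hbasis := Algebra.IsAlgebraic.isTranscendenceBasis_of_le_trdeg_of_finite (DQ R (v i)) x (hscard.trans (hv i).ge)
    let e : Fin 2 → s := ![⟨_, hs1 ⟨0, rfl⟩⟩, ⟨_, hs1 ⟨1, rfl⟩⟩]
    have he : Function.Injective e := fun j k h => hind.injective (by
      have := congrArg Subtype.val h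
      fin_cases j <;> fin_cases k <;> simp [e, ab] at this ⊢ <;> first | exact this | exact this.symm)
    have hind' : AlgebraicIndependent (DQ R (v i)) (x ∘ e) := hbasis.1.comp e he
    obtain ⟨q, hq0, hq⟩ : IsAlgebraic (DQ R (v i)) (Ideal.Quotient.mk (v i).asIdeal (a ^ g i + b)) :=
      not_not.1 (hbad i)
    let P : MvPolynomial (Fin 2) (DQ R (v i)) := Polynomial.aeval (MvPolynomial.X 0 ^ g i + MvPolynomial.X 1) q
    have hP : MvPolynomial.aeval (x ∘ e) P = 0 := by
      rw [← Polynomial.aeval_algHom_apply, map_add, map_pow, MvPolynomial.aeval_X, MvPolynomial.aeval_X]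
      have h3 : x (e 0) = Ideal.Quotient.mk (v i).asIdeal a := congrArg (Ideal.Quotient.mk (v i).asIdeal) hla
      have h4 : x (e 1) = Ideal.Quotient.mk (v i).asIdeal b := congrArg (Ideal.Quotient.mk (v i).asIdeal) hlb
      rw [Function.comp_apply, Function.comp_apply, h3, h4, ← map_pow, ← map_add]
      exact hq
    have hP0 := hind'.eq_zero_of_aeval_eq_zero P hP
    have h2 := congrArg (MvPolynomial.aeval ![(0 : (DQ R (v i))[X]), Polynomial.X]) hP0
    rw [← Polynomial.aeval_algHom_apply, map_zero] at h2
    simp [hgi.ne', Polynomial.aeval_X_left_apply] at h2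
    exact hq0 h2
  · -- dependent: the relation spreads to the bad primes
    obtain ⟨P, hP, hP0⟩ : ∃ P : MvPolynomial (Fin 2) (DQ R w), MvPolynomial.aeval ab P = 0 ∧ P ≠ 0 := by
      simpa [algebraicIndependent_iff] using hind
    obtain ⟨P, rfl⟩ := MvPolynomial.map_surjective (Ideal.Quotient.mk (w.asIdeal.under R)) Ideal.Quotient.mk_surjective P
    obtain ⟨m, hm⟩ : ∃ m, Ideal.Quotient.mk (w.asIdeal.under R) (P.coeff m) ≠ 0 := by
      by_contra! h
      exact hP0 (MvPolynomial.ext _ _ fun m => by rw [MvPolynomial.coeff_map, h, MvPolynomial.coeff_zero])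
    have hmem : MvPolynomial.aeval ![a, b] P ∈ w.asIdeal := by
      rw [← Ideal.Quotient.eq_zero_iff_mem, ← hP, MvPolynomial.aeval_def, MvPolynomial.eval₂_comp_left,
        MvPolynomial.aeval_def, MvPolynomial.eval₂_map]
      congr 1
      funext j
      fin_cases j <;> rfl
    have hm' : algebraMap R S (P.coeff m) ∉ w.asIdeal := fun h => hm (Ideal.Quotient.eq_zero_iff_mem.2 h)
    have hev : ∀ᶠ i in U, P.totalDegree + 1 ≤ i := hU (eventually_ge_atTop (P.totalDegree + 1))
    obtain ⟨i, ⟨hi, h1⟩, h2⟩ := ((hev.and (hpos _ hmem)).and (hneg _ hm')).exists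
    let n := g i
    have hn : P.totalDegree < n := lt_of_lt_of_le hi (hg i)
    have hta := hga i (lt_of_le_of_lt (Nat.zero_le _) hn)
    let D := DQ R (v i)
    let E := EQ (v i)
    let K := Subalgebra.algebraicClosure D E
    let c : K := ⟨Ideal.Quotient.mk (v i).asIdeal (a ^ n + b), not_not.1 (hbad i)⟩
    have htK : Transcendental K (Ideal.Quotient.mk (v i).asIdeal a) := fun h =>
      hta (h.restrictScalars (R := D))
    let f : R →+* K := (algebraMap D K).comp (Ideal.Quotient.mk _)
    let Q : (K : Type u)[X][X] := MvPolynomial.eval₂ ((Polynomial.C.comp Polynomial.C).comp f) ![Polynomial.C Polynomial.X, Polynomial.X] P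
    have hco : ∀ j k, (Q.coeff j).coeff k = f (P.coeff (Finsupp.single 0 k + Finsupp.single 1 j)) := by
      intro j k
      suffices h : ∀ P' : MvPolynomial (Fin 2) R, ((MvPolynomial.eval₂ (S₁ := (K : Type u)[X][X]) ((Polynomial.C.comp Polynomial.C).comp f)
          ![Polynomial.C Polynomial.X, Polynomial.X] P' : (K : Type u)[X][X]).coeff j).coeff k =
          f (P'.coeff (Finsupp.single 0 k + Finsupp.single 1 j)) from h P
      intro P'
      induction P' using MvPolynomial.induction_on' with
      | monomial e r =>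
        rw [MvPolynomial.eval₂_monomial, Finsupp.prod_fintype _ _ (by simp), Fin.prod_univ_two]
        simp only [Matrix.cons_val_zero, Matrix.cons_val_one, MvPolynomial.coeff_monomial, RingHom.coe_comp, Function.comp_apply]
        rw [← map_pow, ← mul_assoc, ← map_mul, Polynomial.coeff_C_mul_X_pow]
        by_cases he : e = Finsupp.single 0 k + Finsupp.single 1 j
        · subst he; simp
        · rw [if_neg he, show f 0 = 0 from f.map_zero]
          split_ifs with hj
          · rw [Polynomial.coeff_C_mul_X_pow, if_neg]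
            intro hk
            refine he (Finsupp.ext fun t => ?_)
            fin_cases t <;> simp [hj, hk]
          · rfl
      | add p q hp hq => simp [hp, hq, MvPolynomial.coeff_add]
    have hQ0 : Q ≠ 0 := by
      intro h
      refine h2 ?_
      have hm2 : Finsupp.single 0 (m 0) + Finsupp.single 1 (m 1) = m := Finsupp.ext fun t => by fin_cases t <;> simp
      have h3 := hco (m 1) (m 0)
      rw [h, hm2] at h3
      simp only [Polynomial.coeff_zero] at h3
      have h4 : algebraMap D E (Ideal.Quotient.mk _ (P.coeff m)) = 0 := congrArg Subtype.val h3.symm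
      exact Ideal.Quotient.eq_zero_iff_mem.1 h4
    have hQd : ∀ j, (Q.coeff j).natDegree < n := fun j => by
      refine lt_of_le_of_lt (Polynomial.natDegree_le_iff_coeff_eq_zero.2 fun k hk => ?_) hn
      rw [hco, MvPolynomial.coeff_eq_zero_of_totalDegree_lt, map_zero]
      refine lt_of_lt_of_le hk ?_
      rw [← Finsupp.degree_apply, map_add, Finsupp.degree_single, Finsupp.degree_single]
      exact Nat.le_add_right _ _
    have hne := eval_sub_pow_ne_zero n c Q hQ0 hQd
    refine hne (transcendental_iff.1 htK _ ?_)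
    have hcomp : (Polynomial.aeval (R := K) (Ideal.Quotient.mk (v i).asIdeal a)).toRingHom.comp
        (Polynomial.evalRingHom (Polynomial.C c - Polynomial.X ^ n)) =
        (Polynomial.aeval (R := K) (Ideal.Quotient.mk (v i).asIdeal a)).toRingHom.comp
        (Polynomial.evalRingHom (Polynomial.C c - Polynomial.X ^ n)) := rfl
    calc Polynomial.aeval (Ideal.Quotient.mk (v i).asIdeal a) (Q.eval (Polynomial.C c - Polynomial.X ^ n))
        = MvPolynomial.eval₂ ((Ideal.Quotient.mk (v i).asIdeal).comp (algebraMap R S))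
            ![Ideal.Quotient.mk _ a, Ideal.Quotient.mk _ b] P := by
          show ((Polynomial.aeval (R := K) (Ideal.Quotient.mk (v i).asIdeal a)).toRingHom.comp
            (Polynomial.evalRingHom (Polynomial.C c - Polynomial.X ^ n))) Q = _
          rw [MvPolynomial.eval₂_comp_left]
          congr 1
          · ext r
            simp [f]
            rfl
          · funext j
            fin_cases j
            · simp
            · simp [c]
              exact add_sub_cancel_left _ _
      _ = 0 := by
          refine Eq.trans ?_ (Ideal.Quotient.eq_zero_iff_mem.2 h1)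
          rw [MvPolynomial.aeval_def, MvPolynomial.eval₂_comp_left]
          congr 1
          funext j
          fin_cases j <;> rfl

end Groth.Agent.FlatMor66.PowerPert
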