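import Groth.Agent.VarGal.QFPoint
import Groth.Agent.S5166
import Mathlib

/-!
Closed subschemes quasi-finite at a given closed point of a fibre.
-/

set_option autoImplicit false
set_option linter.style.haveILetI false
set_option backward.isDefEq.respectTransparency.types false
universe u

open AlgebraicGeometry CategoryTheory TopologicalSpace Topology

noncomputable section

namespace Groth.Agent.FlatMor66

theorem quasiFiniteAt_of_no_specialization {X Y : Scheme.{u}} (f : X ⟶ Y) [LocallyOfFiniteType f] (x : X)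
    (h1 : ∀ v, v ⤳ x → f v = f x → v = x) (h2 : ∀ v, x ⤳ v → f v = f x → v = x) : f.QuasiFiniteAt x := by
  rw [Scheme.Hom.quasiFiniteAt_iff_isOpen_singleton_asFiber]
  have hi := (f.fiberι (f x)).isEmbedding
  have hmem : ∀ a, f (f.fiberι (f x) a) = f x := fun a => (f.range_fiberι (f x)).le ⟨a, rfl⟩
  have : LocallyOfFiniteType (f.fiberToSpecResidueField (f x)) :=
    MorphismProperty.pullback_snd _ _ inferInstance
  have : IsLocallyNoetherian (f.fiber (f x)) :=
    LocallyOfFiniteType.isLocallyNoetherian (f.fiberToSpecResidueField (f x))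
  refine VarGal.isOpen_singleton_of_closed_maximal (fun v hv => hi.injective ?_) (fun v hv => hi.injective ?_)
  · have hv' := hv.map (f.fiberι (f x)).continuous
    rw [Scheme.Hom.fiberι_asFiber] at hv' ⊢
    exact h1 _ hv' (hmem v)
  · have hv' := hv.map (f.fiberι (f x)).continuous
    rw [Scheme.Hom.fiberι_asFiber] at hv' ⊢
    exact h2 _ hv' (hmem v)

/-- A generization in a given open, off the fibre, isolating a closed point of the fibre. -/
theorem exists_generization_isolating {X S : Scheme.{u}} (f : X ⟶ S) [IsLocallyNoetherian X] (x : X) (U : X.Opens)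
    (x' : X) (hx'U : x' ∈ U) (hx' : x' ⤳ x) (hf : f x' ≠ f x) :
    ∃ z : X, z ∈ U ∧ z ⤳ x ∧ f z ≠ f x ∧ ∀ w, z ⤳ w → w ⤳ x → f w = f x → w = x := by
  let O := X.presheaf.stalk x
  let φ := (f.stalkMap x).hom
  have hfp : ∀ Q : PrimeSpectrum O, f (X.fromSpecStalk x Q) = f x ↔
      (IsLocalRing.maximalIdeal (S.presheaf.stalk (f x))).map φ ≤ Q.asIdeal := by
    intro Q
    rw [← Scheme.Hom.comp_apply, ← Scheme.SpecMap_stalkMap_fromSpecStalk, Scheme.Hom.comp_apply]
    conv_lhs => rhs; rw [← S.fromSpecStalk_closedPoint (x := f x)]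
    rw [(S.fromSpecStalk (f x)).isEmbedding.injective.eq_iff, Ideal.map_le_iff_le_comap]
    refine Iff.trans PrimeSpectrum.ext_iff ?_
    exact ⟨fun h => le_of_eq h.symm, fun h => le_antisymm
      (IsLocalRing.le_maximalIdeal (Ideal.IsPrime.ne_top inferInstance)) h⟩
  obtain ⟨Q₀, hQ₀⟩ : x' ∈ Set.range (X.fromSpecStalk x) := by rw [Scheme.range_fromSpecStalk]; exact hx'
  obtain ⟨a, ha, haQ⟩ : ∃ a ∈ IsLocalRing.maximalIdeal (S.presheaf.stalk (f x)), φ a ∉ Q₀.asIdeal := by
    by_contra! h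
    exact hf (hQ₀ ▸ (hfp Q₀).2 (Ideal.map_le_iff_le_comap.2 h))
  obtain ⟨_, ⟨h, rfl⟩, hQh, hhU⟩ := PrimeSpectrum.isTopologicalBasis_basic_opens.exists_subset_of_mem_open
    (show Q₀ ∈ X.fromSpecStalk x ⁻¹' (U : Set X) by
      show X.fromSpecStalk x Q₀ ∈ U
      rwa [hQ₀]) (U.2.preimage (X.fromSpecStalk x).continuous)
  let R := O ⧸ Q₀.asIdeal
  let mk := Ideal.Quotient.mk Q₀.asIdeal
  have : IsLocalRing R := IsLocalRing.of_surjective' mk Ideal.Quotient.mk_surjective
  have hne : mk (h * φ a) ≠ 0 := fun h0 => (Q₀.2.mem_or_mem (Ideal.Quotient.eq_zero_iff_mem.1 h0)).elim hQh haQ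
  have hnu : mk (h * φ a) ∈ IsLocalRing.maximalIdeal R := by
    rw [← IsLocalRing.map_maximalIdeal_of_surjective mk Ideal.Quotient.mk_surjective]
    exact Ideal.mem_map_of_mem _ (Ideal.mul_mem_left _ _ (map_nonunit φ a ha))
  obtain ⟨p, hp, hdim⟩ := S5166.result R (Ideal.span {mk (h * φ a)})
    (ne_top_of_le_ne_top (IsLocalRing.maximalIdeal.isMaximal R).ne_top ((Ideal.span_singleton_le_iff_mem _).2 hnu))
    (fun q hq hle => by
      rw [IsDomain.minimalPrimes_eq_singleton_bot] at hq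
      obtain rfl : q = ⊥ := hq
      exact hne ((Ideal.mem_bot).1 (hle (Ideal.mem_span_singleton_self _))))
  let Q := PrimeSpectrum.comap mk p
  have hpb : h * φ a ∉ Q.asIdeal := fun hm => hp ((Ideal.span_singleton_le_iff_mem _).2 hm)
  have hQf : f (X.fromSpecStalk x Q) ≠ f x := fun e =>
    hpb (Ideal.mul_mem_left _ _ ((hfp Q).1 e (Ideal.mem_map_of_mem _ ha)))
  refine ⟨X.fromSpecStalk x Q, hhU (show h ∉ Q.asIdeal from fun hh => hpb (Ideal.mul_mem_right _ _ hh)), ?_, hQf, ?_⟩
  · have : X.fromSpecStalk x Q ∈ Set.range (X.fromSpecStalk x) := ⟨_, rfl⟩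
    rwa [Scheme.range_fromSpecStalk] at this
  · intro w hzw hwx hfw
    obtain ⟨W, rfl⟩ : w ∈ Set.range (X.fromSpecStalk x) := by rw [Scheme.range_fromSpecStalk]; exact hwx
    have hQW : Q ≤ W := (PrimeSpectrum.le_iff_specializes _ _).2
      ((X.fromSpecStalk x).isEmbedding.isInducing.specializes_iff.1 hzw)
    have hker : RingHom.ker mk ≤ W.asIdeal := le_trans (Ideal.comap_mono bot_le) hQW
    let W' : PrimeSpectrum R := ⟨W.asIdeal.map mk, Ideal.map_isPrime_of_surjective Ideal.Quotient.mk_surjective hker⟩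
    have hWc : W'.asIdeal.comap mk = W.asIdeal := by
      rw [Ideal.comap_map_of_surjective mk Ideal.Quotient.mk_surjective, ← RingHom.ker_eq_comap_bot, sup_eq_left.2 hker]
    have hpW : p.asIdeal ≤ W'.asIdeal := by
      rw [← Ideal.comap_le_comap_iff_of_surjective mk Ideal.Quotient.mk_surjective, hWc]
      exact hQW
    by_contra hne'
    have h1 : p.asIdeal < W'.asIdeal := lt_of_le_of_ne hpW fun e => hQf <| by
      have : W = Q := PrimeSpectrum.ext (by rw [← hWc, ← e]; rfl)
      rw [← this]; exact hfw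
    have h2 : W'.asIdeal < IsLocalRing.maximalIdeal R :=
      lt_of_le_of_ne (IsLocalRing.le_maximalIdeal W'.2.ne_top) fun e => hne' <| by
        have : W = IsLocalRing.closedPoint O := PrimeSpectrum.ext (by
          rw [← hWc, e]
          exact ((IsLocalRing.local_hom_TFAE mk).out 0 4 rfl rfl).1 (IsLocalHom.of_surjective mk Ideal.Quotient.mk_surjective))
        rw [this, Scheme.fromSpecStalk_closedPoint]
    let m : Fin 3 → PrimeSpectrum.zeroLocus (R := R) (p.asIdeal : Set R) :=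
      ![⟨p, fun _ h => h⟩, ⟨W', fun _ h => hpW h⟩, ⟨IsLocalRing.closedPoint R, fun _ h => h2.le (hpW h)⟩]
    have hm : StrictMono m := Fin.strictMono_iff_lt_succ.2 fun i => by
      fin_cases i
      · exact h1
      · exact h2
    have h2le : (2 : WithBot ℕ∞) ≤ ringKrullDim (R ⧸ p.asIdeal) := by
      rw [ringKrullDim_quotient]
      exact Order.LTSeries.length_le_krullDim (LTSeries.mk 2 m hm)
    rw [hdim] at h2le
    exact absurd h2le (by decide)

/-- A closed subscheme through `x`, quasi-finite at `x`, meeting `U` at a generization off the fibre. -/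
theorem exists_quasiFinite_subscheme {X S : Scheme.{u}} (f : X ⟶ S) [LocallyOfFiniteType f] [IsLocallyNoetherian S] (x : X)
    (hcl : ∀ w, x ⤳ w → f w = f x → w = x) (U : X.Opens) (hx' : ∃ x' : X, x' ∈ U ∧ x' ⤳ x ∧ f x' ≠ f x) :
    ∃ (I : X.IdealSheafData) (z₀ x₀ : ↑I.subscheme), I.subschemeι x₀ = x ∧ (I.subschemeι ≫ f).QuasiFiniteAt x₀ ∧
      I.subschemeι z₀ ∈ U ∧ I.subschemeι z₀ ⤳ x ∧ f (I.subschemeι z₀) ≠ f x := by
  have : IsLocallyNoetherian X := LocallyOfFiniteType.isLocallyNoetherian f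
  obtain ⟨x', hx'U, hx'x, hfx'⟩ := hx'
  obtain ⟨z, hzU, hzx, hzf, hiso⟩ := exists_generization_isolating f x U x' hx'U hx'x hfx'
  let I : X.IdealSheafData := Scheme.IdealSheafData.vanishingIdeal ⟨closure {z}, isClosed_closure⟩
  have hr : Set.range I.subschemeι = closure {z} := by
    rw [Scheme.IdealSheafData.range_subschemeι, Scheme.IdealSheafData.coe_support_vanishingIdeal]
    rfl
  obtain ⟨z₀, hz₀⟩ : z ∈ Set.range I.subschemeι := hr.ge (subset_closure rfl)
  obtain ⟨x₀, hx₀⟩ : x ∈ Set.range I.subschemeι := hr.ge (specializes_iff_mem_closure.1 hzx)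
  refine ⟨I, z₀, x₀, hx₀, ?_, hz₀ ▸ hzU, hz₀ ▸ hzx, hz₀ ▸ hzf⟩
  have he := I.subschemeι.isEmbedding
  refine quasiFiniteAt_of_no_specialization _ x₀ (fun v hv hfv => he.injective ?_) fun v hv hfv => he.injective ?_
  · rw [Scheme.Hom.comp_apply, Scheme.Hom.comp_apply, hx₀] at hfv
    rw [hx₀]
    exact hiso _ (specializes_iff_mem_closure.2 (hr.le ⟨v, rfl⟩)) (hx₀ ▸ hv.map I.subschemeι.continuous) hfv
  · rw [Scheme.Hom.comp_apply, Scheme.Hom.comp_apply, hx₀] at hfv
    rw [hx₀]
    exact hcl _ (hx₀ ▸ hv.map I.subschemeι.continuous) hfv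

end Groth.Agent.FlatMor66
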