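import Groth.Agent.FlatMor66.FibPointModel
import Groth.Agent.EGA4Alg4.FlatReg
import Groth.Agent.Cons62.FlatFibre
import Mathlib.RingTheory.Regular.Flat
import Mathlib.RingTheory.Flat.TorsionFree

/-!
A regular sequence in a Noetherian local algebra over a field generates a flat polynomial subalgebra.
-/

set_option autoImplicit false
set_option linter.style.haveILetI false
universe u

open TensorProduct Polynomial RingTheory.Sequence IsLocalRing
open scoped Pointwise

noncomputable section

namespace Groth.Agent.FlatMor66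

attribute [local instance] Algebra.TensorProduct.rightAlgebra

/-- A regular element in the Jacobson radical makes an algebra over a field flat over polynomials. -/
theorem flat_aeval_of_regular {k L : Type u} [Field k] [CommRing L] [Algebra k L] (h : L)
    (hreg : IsSMulRegular L h) (hu : ∀ y, IsUnit (1 + h * y)) :
    ((aeval h : k[X] →ₐ[k] L).toRingHom).Flat := by
  letI : Algebra k[X] L := (aeval h : k[X] →ₐ[k] L).toRingHom.toAlgebra
  show Module.Flat k[X] L
  haveI : Module.IsTorsionFree k[X] L := by
    refine ⟨fun p hp x y hxy => ?_⟩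
    obtain ⟨q, hq, hndvd⟩ := exists_eq_pow_rootMultiplicity_mul_and_not_dvd p hp.ne_zero 0
    rw [C_0, sub_zero] at hq hndvd
    have hc : q.coeff 0 ≠ 0 := fun h0 => hndvd (X_dvd_iff.mpr h0)
    have hunit : IsUnit (aeval h q) := by
      rw [← X_mul_divX_add q, map_add, map_mul, aeval_X, aeval_C]
      have e : h * aeval h (divX q) + algebraMap k L (q.coeff 0) =
          algebraMap k L (q.coeff 0) * (1 + h * (algebraMap k L (q.coeff 0)⁻¹ * aeval h (divX q))) := by
        have h1 : algebraMap k L (q.coeff 0) * algebraMap k L (q.coeff 0)⁻¹ = 1 := by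
          rw [← map_mul, mul_inv_cancel₀ hc, map_one]
        linear_combination (-(h * aeval h (divX q))) * h1
      rw [e]
      exact ((isUnit_iff_ne_zero.mpr hc).map (algebraMap k L)).mul (hu _)
    have hpe : ∀ z : L, p • z = h ^ p.rootMultiplicity 0 * (aeval h q * z) := fun z => by
      rw [← mul_assoc]
      conv_lhs => rw [hq]
      show aeval h (X ^ p.rootMultiplicity 0 * q) * z = _
      rw [map_mul, map_pow, aeval_X]
    simp only [hpe] at hxy
    exact hunit.mul_left_cancel ((hreg.pow _) hxy)
  infer_instance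

/-- The same on a fibre of a local ring. -/
theorem flat_map_aeval_of_regular {R L k : Type u} [CommRing R] [CommRing L] [IsLocalRing L] [Field k] [Algebra R L]
    [Algebra R k] (hs : Function.Surjective (Algebra.TensorProduct.includeRight : L →ₐ[R] k ⊗[R] L))
    (h : L) (hm : h ∈ maximalIdeal L) (hreg : IsSMulRegular (k ⊗[R] L) ((1 : k) ⊗ₜ[R] h)) :
    ((Algebra.TensorProduct.map (AlgHom.id R k) (aeval h : R[X] →ₐ[R] L)).toRingHom).Flat := by
  have hu : ∀ z : k ⊗[R] L, IsUnit (1 + ((1 : k) ⊗ₜ[R] h) * z) := fun z => by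
    obtain ⟨y, rfl⟩ := hs z
    have h1 : IsUnit (1 + h * y) := by
      by_contra hn
      have h1 : (1 : L) + h * y ∈ maximalIdeal L := hn
      have h2 := (maximalIdeal L).sub_mem h1 ((maximalIdeal L).mul_mem_right y hm)
      rw [add_sub_cancel_right] at h2
      exact (maximalIdeal.isMaximal L).ne_top ((Ideal.eq_top_iff_one _).mpr h2)
    have h2 := h1.map (Algebra.TensorProduct.includeRight : L →ₐ[R] k ⊗[R] L)
    rw [map_add, map_mul, map_one] at h2
    exact h2
  have h1 := RingHom.Flat.comp (RingHom.Flat.of_bijective (f := ((polyEquivTensor' R k).symm.toRingEquiv.toRingHom))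
    (polyEquivTensor' R k).symm.bijective) (flat_aeval_of_regular (k := k) ((1 : k) ⊗ₜ[R] h) hreg hu)
  convert h1 using 1
  have key : (Algebra.TensorProduct.map (AlgHom.id k k) (aeval h : R[X] →ₐ[R] L)).comp
      (polyEquivTensor' R k).toAlgHom = (aeval ((1 : k) ⊗ₜ[R] h) : k[X] →ₐ[k] k ⊗[R] L) :=
    Polynomial.algHom_ext (by simp [polyEquivTensor_apply])
  refine RingHom.ext fun z => ?_
  have := DFunLike.congr_fun key ((polyEquivTensor' R k).symm z)
  rw [AlgHom.comp_apply] at this
  show _ = aeval ((1 : k) ⊗ₜ[R] h) ((polyEquivTensor' R k).symm z)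
  rw [← this]
  show _ = Algebra.TensorProduct.map (AlgHom.id k k) (aeval h : R[X] →ₐ[R] L)
    (polyEquivTensor' R k ((polyEquivTensor' R k).symm z))
  rw [AlgEquiv.apply_symm_apply]
  rfl

/-- A Noetherian local algebra, flat over a Noetherian ring, with an element which is regular modulo
that ring. -/
theorem flat_polynomial_of_regular {R L : Type u} [CommRing R] [CommRing L] [IsLocalRing L] [IsNoetherianRing R]
    [IsNoetherianRing L] [Algebra R L] [Module.Flat R L] (h : L) (hm : h ∈ maximalIdeal L)
    (hreg : ∀ (N : Type u) [AddCommGroup N] [Module R N],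
      Function.Injective (((LinearMap.lsmul L L h).restrictScalars R).lTensor N)) :
    ((aeval h : R[X] →ₐ[R] L).toRingHom).Flat := by
  letI : Algebra R[X] L := (aeval h : R[X] →ₐ[R] L).toRingHom.toAlgebra
  haveI : IsScalarTower R R[X] L := .of_algebraMap_eq fun x => ((aeval h : R[X] →ₐ[R] L).commutes x).symm
  show Module.Flat R[X] L
  let P := maximalIdeal L
  let p := (P.under R[X]).under R
  let k := p.ResidueField
  have hP : p = P.under R := by
    simp only [p, Ideal.under_def, Ideal.comap_comap, ← IsScalarTower.algebraMap_eq]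
  have hu : ∀ s ∉ p, IsUnit (algebraMap R L s) := fun s hs => by
    by_contra hn
    exact hs (hP.ge hn)
  have hreg' : IsSMulRegular (k ⊗[R] L) ((1 : k) ⊗ₜ[R] h) := by
    intro x y hxy
    apply hreg k
    have e : ∀ z : k ⊗[R] L, ((LinearMap.lsmul L L h).restrictScalars R).lTensor k z = ((1 : k) ⊗ₜ[R] h) • z := fun z => by
      induction z using TensorProduct.induction_on with
      | zero => simp
      | add a b ha hb => simp [map_add, ha, hb, mul_add, smul_eq_mul]
      | tmul a b => simp [smul_eq_mul]
    rw [e, e]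
    exact hxy
  have hfib : ((Algebra.TensorProduct.map (AlgHom.id R k) (IsScalarTower.toAlgHom R R[X] L)).toRingHom).Flat :=
    flat_map_aeval_of_regular (includeRight_residueField_surjective p hu) h hm hreg'
  haveI hAT : IsLocalization P.primeCompl L := IsLocalization.self fun x hx => by
    by_contra hn
    exact hx hn
  let e : Localization.AtPrime P ⊗[L] L ≃ₗ[L] L :=
    (AlgebraTensorModule.rid L (Localization.AtPrime P) (Localization.AtPrime P)).restrictScalars L ≪≫ₗ
      (IsLocalization.algEquiv P.primeCompl (Localization.AtPrime P) L).toLinearEquiv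
  haveI : Module.Flat R (Localization.AtPrime P ⊗[L] L) := Module.Flat.of_linearEquiv (e.restrictScalars R)
  haveI := Cons62.flat_of_fibre_flat (A := R) (B := R[X]) (C := L) P L (flat_fibre_reassoc hfib)
  exact Module.Flat.of_linearEquiv (e.restrictScalars R[X]).symm

/-- Multiplication by a regular element with flat cokernel stays injective. -/
theorem lTensor_lsmul_injective {R L : Type u} [CommRing R] [CommRing L] [Algebra R L] (f : L)
    (hf : IsSMulRegular L f) (hflat : Module.Flat R (QuotSMulTop f L)) :
    ∀ (N : Type u) [AddCommGroup N] [Module R N],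
      Function.Injective (((LinearMap.lsmul L L f).restrictScalars R).lTensor N) := by
  intro N _ _
  let π : L →ₗ[R] QuotSMulTop f L := (f • ⊤ : Submodule L L).mkQ.restrictScalars R
  have hπ : Function.Surjective π := fun q => by
    obtain ⟨m, rfl⟩ := Submodule.Quotient.mk_surjective _ q
    exact ⟨m, rfl⟩
  have hex : Function.Exact ((LinearMap.lsmul L L f).restrictScalars R) π := fun m => by
    change Submodule.Quotient.mk m = 0 ↔ _
    rw [Submodule.Quotient.mk_eq_zero, Submodule.mem_smul_pointwise_iff_exists]
    simp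
  exact LinearMap.lTensor_injective_of_exact_of_flat π hπ ((LinearMap.lsmul L L f).restrictScalars R) hf hex N

/-- A regular sequence in a Noetherian local algebra over a field gives a flat map of polynomials. -/
theorem flat_mvPolynomial_of_regular {k : Type u} [Field k] : ∀ (n : ℕ) (L : Type u) [CommRing L] [IsLocalRing L]
    [IsNoetherianRing L] [Algebra k L] (fs : Fin n → L), (∀ i, fs i ∈ maximalIdeal L) →
    IsWeaklyRegular L (List.ofFn fs) →
    ((MvPolynomial.aeval fs : MvPolynomial (Fin n) k →ₐ[k] L).toRingHom).Flat := by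
  intro n
  induction n with
  | zero =>
    intro L _ _ _ _ fs _ _
    have h1 : (algebraMap k L).Flat := RingHom.flat_algebraMap_iff.mpr inferInstance
    have h2 := RingHom.Flat.comp (RingHom.Flat.of_bijective
      (f := (MvPolynomial.isEmptyAlgEquiv k (Fin 0)).toRingEquiv.toRingHom)
      (MvPolynomial.isEmptyAlgEquiv k (Fin 0)).bijective) h1
    convert h2 using 1
    refine MvPolynomial.ringHom_ext (fun c => ?_) fun i => i.elim0
    show MvPolynomial.aeval fs (MvPolynomial.C c) = algebraMap k L ((MvPolynomial.isEmptyAlgEquiv k (Fin 0)) (MvPolynomial.C c))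
    rw [MvPolynomial.aeval_C, ← MvPolynomial.algebraMap_eq, AlgEquiv.commutes]
    rfl
  | succ n ih =>
    intro L _ _ _ _ fs hm hreg
    rw [List.ofFn_succ] at hreg
    obtain ⟨hr0, hrs⟩ := (isWeaklyRegular_cons_iff L _ _).mp hreg
    let I : Ideal L := Ideal.span {fs 0}
    haveI : Nontrivial (L ⧸ I) := Ideal.Quotient.nontrivial_iff.mpr
      (ne_top_of_le_ne_top (maximalIdeal.isMaximal L).ne_top ((Ideal.span_singleton_le_iff_mem _).mpr (hm 0)))
    haveI : IsLocalRing (L ⧸ I) := IsLocalRing.of_surjective' (Ideal.Quotient.mk I) Ideal.Quotient.mk_surjective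
    let tail : Fin n → L := fun i => fs i.succ
    let e : QuotSMulTop (fs 0) L ≃ₗ[L] L ⧸ I :=
      Submodule.quotEquivOfEq _ _ (by rw [← Submodule.ideal_span_singleton_smul, smul_eq_mul, Ideal.mul_top])
    have hrs' : IsWeaklyRegular (L ⧸ I) (List.ofFn fun i => Ideal.Quotient.mk I (tail i)) := by
      have h1 := (isWeaklyRegular_map_algebraMap_iff (L ⧸ I) (L ⧸ I) (List.ofFn tail)).mpr
        ((e.isWeaklyRegular_congr _).mp hrs)
      rwa [List.map_ofFn] at h1
    have hm' : ∀ i, Ideal.Quotient.mk I (tail i) ∈ maximalIdeal (L ⧸ I) := fun i => by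
      haveI : IsLocalHom (Ideal.Quotient.mk I) := IsLocalHom.of_surjective _ Ideal.Quotient.mk_surjective
      exact (map_mem_nonunits_iff (Ideal.Quotient.mk I) _).mpr (hm i.succ)
    have hflat := ih (L ⧸ I) (fun i => Ideal.Quotient.mk I (tail i)) hm' hrs'
    let R₀ := MvPolynomial (Fin n) k
    letI : Algebra R₀ L := (MvPolynomial.aeval tail : R₀ →ₐ[k] L).toRingHom.toAlgebra
    haveI : IsScalarTower k R₀ L := .of_algebraMap_eq fun x => ((MvPolynomial.aeval tail : R₀ →ₐ[k] L).commutes x).symm
    haveI : Module.Flat R₀ (L ⧸ I) := by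
      have e' : algebraMap R₀ (L ⧸ I) =
          (MvPolynomial.aeval fun i => Ideal.Quotient.mk I (tail i) : R₀ →ₐ[k] L ⧸ I).toRingHom := by
        refine MvPolynomial.ringHom_ext (fun c => ?_) fun i => ?_
        · show Ideal.Quotient.mk I (MvPolynomial.aeval tail (MvPolynomial.C c)) =
            MvPolynomial.aeval (fun i => Ideal.Quotient.mk I (tail i)) (MvPolynomial.C c)
          rw [MvPolynomial.aeval_C, MvPolynomial.aeval_C]
          rfl
        · show Ideal.Quotient.mk I (MvPolynomial.aeval tail (MvPolynomial.X i)) =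
            MvPolynomial.aeval (fun i => Ideal.Quotient.mk I (tail i)) (MvPolynomial.X i)
          rw [MvPolynomial.aeval_X, MvPolynomial.aeval_X]
      rw [← RingHom.flat_algebraMap_iff, e']
      exact hflat
    haveI : Module.Flat R₀ (QuotSMulTop (fs 0) L) := Module.Flat.of_linearEquiv (e.restrictScalars R₀)
    haveI : Module.Flat R₀ L := EGA4Alg4.FlatReg13.flat_of_flat_quotSMulTop (A := R₀) L (fs 0) (hm 0) hr0
    have hreg0 := @lTensor_lsmul_injective R₀ L _ _ _ (fs 0) hr0 ‹Module.Flat R₀ (QuotSMulTop (fs 0) L)›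
    have hpoly := flat_polynomial_of_regular (R := R₀) (fs 0) (hm 0) hreg0
    have hb : Function.Bijective (MvPolynomial.finSuccEquiv k n).toRingEquiv.toRingHom :=
      (MvPolynomial.finSuccEquiv k n).bijective
    have key : (MvPolynomial.aeval fs : MvPolynomial (Fin (n + 1)) k →ₐ[k] L) =
        ((aeval (fs 0) : R₀[X] →ₐ[R₀] L).restrictScalars k).comp (MvPolynomial.finSuccEquiv k n).toAlgHom := by
      refine MvPolynomial.algHom_ext fun i => ?_
      rw [AlgHom.comp_apply, MvPolynomial.aeval_X, AlgHom.restrictScalars_apply]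
      cases i using Fin.cases with
      | zero =>
        show fs 0 = aeval (fs 0) (MvPolynomial.finSuccEquiv k n (MvPolynomial.X 0))
        rw [MvPolynomial.finSuccEquiv_X_zero, aeval_X]
      | succ i =>
        show fs i.succ = aeval (fs 0) (MvPolynomial.finSuccEquiv k n (MvPolynomial.X i.succ))
        rw [MvPolynomial.finSuccEquiv_X_succ, aeval_C]
        exact (MvPolynomial.aeval_X tail i).symm
    rw [key]
    exact RingHom.Flat.comp (RingHom.Flat.of_bijective hb) hpoly

end Groth.Agent.FlatMor66
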