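import Groth.Agent.FlatCrit65.GenFree
import Groth.Agent.FBase64.AssFibre.Generic
import Groth.Agent.FBase64.AssTensor.Fiber
import Groth.Prelude.Def_FlatCA
import Mathlib

/-!
Associated primes of the fibres over an arbitrary domain, near the generic point.
-/

set_option autoImplicit false
set_option linter.style.haveILetI false
set_option maxHeartbeats 1000000
universe u

open TensorProduct
open Groth.Agent.GenFree62

noncomputable section

namespace Groth.Agent.FlatMor66.RelAssAlg

attribute [local instance] Algebra.TensorProduct.rightAlgebra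

variable {A : Type u} [CommRing A] [IsDomain A]

/-- A map which is injective at the generic point and has source and cokernel free away from `f`
stays injective after inverting `f` and changing the base. -/
theorem baseChange_injective {f : A} (hf : f ≠ 0) {N M : Type u} [AddCommGroup N] [Module A N] [AddCommGroup M]
    [Module A M] (μ : N →ₗ[A] M) (K : Type u) [Field K] [Algebra A K] [IsFractionRing A K]
    (hK : Function.Injective (μ.baseChange K))
    (hN : FreeAway f N) (hC : FreeAway f (M ⧸ LinearMap.range μ))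
    (F : Type u) [CommRing F] [Algebra A F] (hu : IsUnit (algebraMap A F f)) :
    Function.Injective (μ.baseChange F) := by
  let A' := Localization.Away f
  have := hN A' (IsLocalization.Away.algebraMap_isUnit f)
  have := hC A' (IsLocalization.Away.algebraMap_isUnit f)
  have huK : IsUnit (algebraMap A K f) := isUnit_iff_ne_zero.2
    (mt (IsFractionRing.to_map_eq_zero_iff (K := K)).1 hf)
  have key : ∀ (F : Type u) [CommRing F] [Algebra A F] [Algebra A' F] [IsScalarTower A A' F] (z : A' ⊗[A] N),
      μ.baseChange F (AlgebraTensorModule.cancelBaseChange A A' F F N ((1 : F) ⊗ₜ z)) =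
        AlgebraTensorModule.cancelBaseChange A A' F F M ((1 : F) ⊗ₜ μ.baseChange A' z) := by
    intro F _ _ _ _ z
    induction z using TensorProduct.induction_on with
    | zero => simp
    | add x y hx hy => simp only [tmul_add, map_add, hx, hy]
    | tmul b n => simp
  let μ' := μ.baseChange A'
  have hinj : Function.Injective μ' := by
    letI := (IsLocalization.Away.lift f huK : A' →+* K).toAlgebra
    haveI : IsScalarTower A A' K := IsScalarTower.of_algebraMap_eq fun a =>
      (IsLocalization.Away.lift_eq f huK a).symm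
    have hA'K : Function.Injective (algebraMap A' K) := by
      haveI : IsFractionRing A' K := IsFractionRing.isFractionRing_of_isDomain_of_isLocalization (.powers f) A' K
      exact IsFractionRing.injective A' K
    rw [injective_iff_map_eq_zero]
    intro z hz
    have h1 := key K z
    rw [hz, tmul_zero, map_zero] at h1
    have h2 : (1 : K) ⊗ₜ[A'] z = 0 :=
      (AlgebraTensorModule.cancelBaseChange A A' K K N).map_eq_zero_iff.1
        ((injective_iff_map_eq_zero _).1 hK _ h1)
    have h3 : Function.Injective ((Algebra.linearMap A' K).rTensor (A' ⊗[A] N)) :=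
      Module.Flat.rTensor_preserves_injective_linearMap _ hA'K
    apply (TensorProduct.lid A' (A' ⊗[A] N)).symm.injective
    rw [map_zero]
    apply h3
    simp [h2]
  let π' := (LinearMap.range μ).mkQ.baseChange A'
  have hex : Function.Exact μ' π' := lTensor_exact A' (LinearMap.exact_map_mkQ_range μ) (Submodule.mkQ_surjective _)
  have hsurj : Function.Surjective π' := LinearMap.lTensor_surjective A' (Submodule.mkQ_surjective _)
  obtain ⟨s, hs⟩ := Module.projective_lifting_property π' LinearMap.id hsurj
  obtain ⟨r, hr⟩ : ∃ r, r ∘ₗ μ' = LinearMap.id :=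
    ((Function.Exact.split_tfae hex hinj hsurj).out 0 1 rfl rfl).mp ⟨s, hs⟩
  letI := (IsLocalization.Away.lift f hu : A' →+* F).toAlgebra
  haveI : IsScalarTower A A' F := IsScalarTower.of_algebraMap_eq fun a =>
    (IsLocalization.Away.lift_eq f hu a).symm
  let eN := AlgebraTensorModule.cancelBaseChange A A' F F N
  let eM := AlgebraTensorModule.cancelBaseChange A A' F F M
  have hcomm : ∀ x, μ.baseChange F (eN x) = eM (μ'.baseChange F x) := fun x => by
    induction x using TensorProduct.induction_on with
    | zero => simp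
    | add x y hx hy => simp [hx, hy]
    | tmul a y =>
      induction y using TensorProduct.induction_on with
      | zero => simp
      | add x y hx hy => simp only [tmul_add, map_add, hx, hy]
      | tmul b n => simp [eN, eM, μ']
  have hinj' : Function.Injective (μ'.baseChange F) := by
    refine Function.LeftInverse.injective (g := r.baseChange F) fun x => ?_
    rw [← LinearMap.comp_apply, ← LinearMap.baseChange_comp, hr, LinearMap.baseChange_id]
    rfl
  intro x y hxy
  obtain ⟨x, rfl⟩ := eN.surjective x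
  obtain ⟨y, rfl⟩ := eN.surjective y
  rw [hcomm, hcomm] at hxy
  rw [hinj' (eM.injective hxy)]

variable {B : Type u} [CommRing B] [Algebra A B] [Algebra.FiniteType A B]
  {M : Type u} [AddCommGroup M] [Module A M] [Module B M] [IsScalarTower A B M] [Module.Finite B M]

/-- Generic injectivity of a map of finite modules over an algebra of finite type over a domain. -/
theorem exists_injective_rTensor {N : Type u} [AddCommGroup N] [Module A N] [Module B N] [IsScalarTower A B N]
    [Module.Finite B N] (μ : N →ₗ[B] M)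
    (K : Type u) [Field K] [Algebra A K] [IsFractionRing A K]
    (hK : Function.Injective ((μ.restrictScalars A).rTensor K)) :
    ∃ f : A, f ≠ 0 ∧ FreeAway f N ∧ ∀ (F : Type u) [CommRing F] [Algebra A F], IsUnit (algebraMap A F f) →
      Function.Injective ((μ.restrictScalars A).rTensor F) := by
  obtain ⟨f₁, hf₁, hN, -, -, -⟩ := FlatCrit65.generic_freeness (R := A) (S := B) (M := N)
  obtain ⟨f₂, hf₂, hC, -, -, -⟩ := FlatCrit65.generic_freeness (R := A) (S := B) (M := M ⧸ LinearMap.range μ)
  refine ⟨f₁ * f₂, mul_ne_zero hf₁ hf₂, hN.of_dvd (dvd_mul_right _ _), fun F _ _ hu => ?_⟩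
  refine FBase64.AssFibre.rTensor_inj _ ?_
  exact baseChange_injective (mul_ne_zero hf₁ hf₂) _ K ((LinearMap.lTensor_inj_iff_rTensor_inj _ _).2 hK) (hN.of_dvd (dvd_mul_right _ _))
    ((hC.of_dvd (dvd_mul_left _ _)).of_equiv (Submodule.Quotient.restrictScalarsEquiv A _).symm) F hu

omit [IsDomain A] [Algebra.FiniteType A B] [Module.Finite B M] in
/-- The map by a family of ring elements kills exactly what all of them kill. -/
theorem rTensor_family_eq_zero_iff {ι : Type u} [Fintype ι] (g : ι → B) (F : Type u) [CommRing F] [Algebra A F]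
    (z : M ⊗[A] F) :
    ((LinearMap.pi fun i => g i • LinearMap.id : M →ₗ[B] ι → M).restrictScalars A).rTensor F z = 0 ↔
      ∀ i, g i • z = 0 := by
  classical
  let μ : M →ₗ[A] ι → M := (LinearMap.pi fun i => g i • LinearMap.id : M →ₗ[B] ι → M).restrictScalars A
  have h1 : ∀ i w, (LinearMap.proj (R := A) (φ := fun _ : ι => M) i).rTensor F (μ.rTensor F w) = g i • w := by
    intro i w
    induction w using TensorProduct.induction_on with
    | zero => simp
    | add x y hx hy => simp only [map_add, smul_add, hx, hy]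
    | tmul m c => simp [μ, TensorProduct.smul_tmul']
  have h2 : ∀ w, μ.rTensor F w = ∑ i, (LinearMap.single A (fun _ : ι => M) i).rTensor F (g i • w) := by
    intro w
    induction w using TensorProduct.induction_on with
    | zero => simp
    | add x y hx hy => simp only [map_add, smul_add, Finset.sum_add_distrib, hx, hy]
    | tmul m c =>
      simp only [μ, LinearMap.rTensor_tmul, TensorProduct.smul_tmul', ← TensorProduct.sum_tmul]
      congr 1
      ext i
      simp [Finset.sum_apply, Pi.single_apply]
  refine ⟨fun h i => ?_, fun h => ?_⟩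
  · rw [← h1, show μ.rTensor F z = 0 from h, map_zero]
  · show μ.rTensor F z = 0
    rw [h2]
    simp [h]

abbrev inc (p : Ideal A) [p.IsPrime] : B →+* p.Fiber B :=
  (Algebra.TensorProduct.includeRight : B →ₐ[A] p.Fiber B).toRingHom

omit [IsDomain A] [Module.Finite B M] in
/-- All members of a family are zero divisors on a fibre module in a common associated prime exactly when
some nonzero element is killed by all of them. -/
theorem exists_ass_iff (p : Ideal A) [p.IsPrime] {ι : Type u} [Fintype ι] (g : ι → B) :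
    (∃ P ∈ associatedPrimes (p.Fiber B) (FlatCA.fiberMod p B M), ∀ i, inc p (g i) ∈ P) ↔
      ¬ Function.Injective
        (((LinearMap.pi fun i => g i • LinearMap.id : M →ₗ[B] ι → M).restrictScalars A).rTensor p.ResidueField) := by
  haveI : IsNoetherianRing (p.Fiber B) := Algebra.FiniteType.isNoetherianRing p.ResidueField _
  let e := FBase64.AssFibre.fibreEquiv (A := A) (B := B) p.ResidueField M
  have hact : ∀ (b : B) (w : (p.Fiber B) ⊗[B] M), inc p b • w = b • w := fun b w =>
    algebraMap_smul (p.Fiber B) b w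
  rw [injective_iff_map_eq_zero]
  simp only [rTensor_family_eq_zero_iff, not_forall]
  constructor
  · rintro ⟨P, hP, hg⟩
    obtain ⟨hp, w, hw⟩ := isAssociatedPrime_iff.mp (show IsAssociatedPrime P ((p.Fiber B) ⊗[B] M) from hP)
    refine ⟨e w, fun i => ?_, fun h => hp.ne_top ?_⟩
    · have h1 := hg i
      rw [hw, Submodule.mem_colon_singleton, Submodule.mem_bot, hact] at h1
      rw [← map_smul, h1, map_zero]
    · rw [hw, e.map_eq_zero_iff.1 h]
      exact Ideal.eq_top_iff_one _ |>.2 (by simp [Submodule.mem_colon_singleton])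
  · rintro ⟨z, hz, hne⟩
    have hne' : e.symm z ≠ 0 := fun h => hne (e.symm.map_eq_zero_iff.1 h)
    obtain ⟨P, hP, hle⟩ := exists_le_isAssociatedPrime_of_isNoetherianRing (p.Fiber B) _ hne'
    refine ⟨P, hP, fun i => hle ?_⟩
    rw [Submodule.mem_colon_singleton, Submodule.mem_bot, hact, ← map_smul, hz i, map_zero]

/-- Associated primes of the fibres avoid a closed set near the generic point when they do so at the
generic point. -/
theorem exists_avoid (J : Ideal B)
    (h : ∀ P ∈ associatedPrimes ((⊥ : Ideal A).Fiber B) (FlatCA.fiberMod (⊥ : Ideal A) B M), ¬ J ≤ P.comap (inc ⊥)) :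
    ∃ a : A, a ≠ 0 ∧ ∀ (p : Ideal A) [p.IsPrime], a ∉ p →
      ∀ P ∈ associatedPrimes (p.Fiber B) (FlatCA.fiberMod p B M), ¬ J ≤ P.comap (inc p) := by
  classical
  haveI : IsNoetherianRing ((⊥ : Ideal A).Fiber B) := Algebra.FiniteType.isNoetherianRing (⊥ : Ideal A).ResidueField _
  haveI : Module.Finite ((⊥ : Ideal A).Fiber B) (FlatCA.fiberMod (⊥ : Ideal A) B M) :=
    Module.Finite.base_change B _ M
  have hfin := associatedPrimes.finite ((⊥ : Ideal A).Fiber B) (FlatCA.fiberMod (⊥ : Ideal A) B M)
  haveI := hfin.fintype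
  choose g hgJ hgP using fun P : associatedPrimes ((⊥ : Ideal A).Fiber B) (FlatCA.fiberMod (⊥ : Ideal A) B M) =>
    Set.not_subset.1 (h P.1 P.2)
  let μ := (LinearMap.pi fun i => g i • LinearMap.id : M →ₗ[B] _ → M)
  have h0 : Function.Injective ((μ.restrictScalars A).rTensor (⊥ : Ideal A).ResidueField) := by
    by_contra hc
    obtain ⟨P, hP, hg⟩ := (exists_ass_iff ⊥ g).2 hc
    exact hgP ⟨P, hP⟩ (hg ⟨P, hP⟩)
  obtain ⟨a, ha, -, hinj⟩ := exists_injective_rTensor μ (⊥ : Ideal A).ResidueField h0
  refine ⟨a, ha, fun p _ hap P hP hle => ?_⟩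
  refine (exists_ass_iff p g).1 ⟨P, hP, fun i => hle (hgJ i)⟩ ?_
  exact hinj _ (isUnit_iff_ne_zero.2 (mt Ideal.algebraMap_residueField_eq_zero.1 hap))

omit [Module.Finite B M] in
/-- An associated prime of the generic fibre is the annihilator of an element up to torsion. -/
theorem exists_generic_elem (P : Ideal ((⊥ : Ideal A).Fiber B))
    (hP : P ∈ associatedPrimes ((⊥ : Ideal A).Fiber B) (FlatCA.fiberMod (⊥ : Ideal A) B M)) :
    ∃ z : M, ∀ b : B, b ∈ P.comap (inc ⊥) ↔ ∃ d : A, d ≠ 0 ∧ d • b • z = 0 := by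
  classical
  haveI : IsNoetherianRing ((⊥ : Ideal A).Fiber B) := Algebra.FiniteType.isNoetherianRing (⊥ : Ideal A).ResidueField _
  let e := FBase64.AssFibre.fibreEquiv (A := A) (B := B) (⊥ : Ideal A).ResidueField M
  let σ := TensorProduct.comm A M (⊥ : Ideal A).ResidueField
  obtain ⟨hp, w, hw⟩ := isAssociatedPrime_iff.mp
    (show IsAssociatedPrime P (((⊥ : Ideal A).Fiber B) ⊗[B] M) from hP)
  haveI : IsLocalizedModule (nonZeroDivisors A) (TensorProduct.mk A (⊥ : Ideal A).ResidueField M 1) :=
    (isLocalizedModule_iff_isBaseChange (nonZeroDivisors A) (⊥ : Ideal A).ResidueField _).mpr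
      (TensorProduct.isBaseChange A M _)
  have hu : ∀ d : A, d ≠ 0 → IsUnit (algebraMap A (⊥ : Ideal A).ResidueField d) := fun d hd =>
    isUnit_iff_ne_zero.2 (mt Ideal.algebraMap_residueField_eq_zero.1 hd)
  have hcancel : ∀ (d : A), d ≠ 0 → ∀ v : M ⊗[A] (⊥ : Ideal A).ResidueField, d • v = 0 → v = 0 := by
    intro d hd v hv
    have h' := congrArg σ hv
    rw [map_smul, map_zero, ← algebraMap_smul (⊥ : Ideal A).ResidueField d, (hu d hd).smul_eq_zero] at h'
    exact σ.map_eq_zero_iff.1 h'
  obtain ⟨z, c, hc, hz⟩ : ∃ (z : M) (c : A), c ≠ 0 ∧ c • e w = z ⊗ₜ[A] (1 : (⊥ : Ideal A).ResidueField) := by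
    obtain ⟨⟨z, ⟨c, hc⟩⟩, hz⟩ := IsLocalizedModule.surj (nonZeroDivisors A)
      (TensorProduct.mk A (⊥ : Ideal A).ResidueField M 1) (σ (e w))
    refine ⟨z, c, nonZeroDivisors.ne_zero hc, σ.injective ?_⟩
    rw [map_smul, TensorProduct.comm_tmul]
    exact hz
  refine ⟨z, fun b => ?_⟩
  have hmem : b ∈ P.comap (inc ⊥) ↔ b • w = 0 := by
    rw [Ideal.mem_comap, hw, Submodule.mem_colon_singleton, Submodule.mem_bot]
    exact iff_of_eq (congrArg (· = 0) (algebraMap_smul ((⊥ : Ideal A).Fiber B) b w))
  rw [hmem, ← e.map_eq_zero_iff, map_smul]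
  constructor
  · intro h
    have h1 : (b • z) ⊗ₜ[A] (1 : (⊥ : Ideal A).ResidueField) = 0 := by
      rw [← TensorProduct.smul_tmul' (R := A), ← hz, smul_comm, h, smul_zero]
    have h' := congrArg σ h1
    rw [TensorProduct.comm_tmul, map_zero] at h'
    obtain ⟨⟨d, hd⟩, hdz⟩ := (IsLocalizedModule.eq_zero_iff (nonZeroDivisors A)
      (TensorProduct.mk A (⊥ : Ideal A).ResidueField M 1)).1 h'
    exact ⟨d, nonZeroDivisors.ne_zero hd, hdz⟩
  · rintro ⟨d, hd, hdz⟩
    refine hcancel c hc _ (hcancel d hd _ ?_)
    rw [smul_comm c b, hz, TensorProduct.smul_tmul' (R := A), TensorProduct.smul_tmul' (R := A), hdz,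
      TensorProduct.zero_tmul]

omit [Algebra.FiniteType A B] [Module.Finite B M] in
/-- Torsion in a module which is free away from `a` is killed by powers of `a`. -/
theorem exists_pow_smul_eq_zero {a : A} (ha : a ≠ 0) {N : Type u} [AddCommGroup N] [Module A N] (hfree : FreeAway a N)
    (y : N) {d : A} (hd : d ≠ 0) (hdy : d • y = 0) : ∃ n : ℕ, a ^ n • y = 0 := by
  let A' := Localization.Away a
  haveI := hfree A' (IsLocalization.Away.algebraMap_isUnit a)
  haveI : IsLocalizedModule (Submonoid.powers a) (TensorProduct.mk A A' N 1) :=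
    (isLocalizedModule_iff_isBaseChange (Submonoid.powers a) A' _).mpr (TensorProduct.isBaseChange A N A')
  haveI : IsDomain A' := IsLocalization.isDomain_localization (powers_le_nonZeroDivisors_of_noZeroDivisors ha)
  have h2 : algebraMap A A' d • ((1 : A') ⊗ₜ[A] y) = 0 := by
    rw [algebraMap_smul, ← TensorProduct.tmul_smul, hdy, TensorProduct.tmul_zero]
  have h3 : (1 : A') ⊗ₜ[A] y = 0 := (smul_eq_zero.1 h2).resolve_left fun h => hd
    ((IsLocalization.injective A' (powers_le_nonZeroDivisors_of_noZeroDivisors ha)) (h.trans (map_zero _).symm))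
  obtain ⟨⟨_, n, rfl⟩, hn⟩ := (IsLocalizedModule.eq_zero_iff (Submonoid.powers a) (TensorProduct.mk A A' N 1)).1 h3
  exact ⟨n, hn⟩

omit [Algebra.FiniteType A B] [Module.Finite B M] in
/-- A generator of a cyclic module which is free away from `a` and not torsion stays nonzero on the fibres. -/
theorem tmul_one_ne_zero {a : A} (ha : a ≠ 0) {N : Type u} [AddCommGroup N] [Module A N] [Module B N]
    [IsScalarTower A B N] (hfree : FreeAway a N) (y : N) (hgen : ∀ v : N, ∃ b : B, b • y = v)
    (hy : ∀ d : A, d ≠ 0 → d • y ≠ 0) (F : Type u) [CommRing F] [Nontrivial F] [Algebra A F]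
    (hu : IsUnit (algebraMap A F a)) : y ⊗ₜ[A] (1 : F) ≠ 0 := by
  let A' := Localization.Away a
  haveI := hfree A' (IsLocalization.Away.algebraMap_isUnit a)
  haveI : IsDomain A' := IsLocalization.isDomain_localization (powers_le_nonZeroDivisors_of_noZeroDivisors ha)
  haveI : IsLocalizedModule (Submonoid.powers a) (TensorProduct.mk A A' N 1) :=
    (isLocalizedModule_iff_isBaseChange (Submonoid.powers a) A' _).mpr (TensorProduct.isBaseChange A N A')
  haveI : Nontrivial (A' ⊗[A] N) := by
    refine ⟨⟨(1 : A') ⊗ₜ[A] y, 0, fun h => ?_⟩⟩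
    obtain ⟨⟨d, hd⟩, hn⟩ := (IsLocalizedModule.eq_zero_iff (Submonoid.powers a) (TensorProduct.mk A A' N 1)).1 h
    obtain ⟨n, rfl⟩ := hd
    exact hy _ (pow_ne_zero n ha) hn
  letI := (IsLocalization.Away.lift a hu : A' →+* F).toAlgebra
  haveI : IsScalarTower A A' F := IsScalarTower.of_algebraMap_eq fun x =>
    (IsLocalization.Away.lift_eq a hu x).symm
  haveI : Nontrivial (F ⊗[A] N) := by
    haveI : Nontrivial (F ⊗[A'] (A' ⊗[A] N)) := by
      let bs := Module.Free.chooseBasis A' (A' ⊗[A] N)
      haveI := bs.index_nonempty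
      exact (Algebra.TensorProduct.basis F bs).repr.toEquiv.nontrivial
    exact (AlgebraTensorModule.cancelBaseChange A A' F F N).symm.toEquiv.nontrivial
  intro h
  apply not_subsingleton (F ⊗[A] N)
  refine subsingleton_of_forall_eq 0 fun v => ?_
  induction v using TensorProduct.induction_on with
  | zero => rfl
  | add x x' hx hx' => rw [hx, hx', add_zero]
  | tmul t v =>
    obtain ⟨b, rfl⟩ := hgen v
    have h4 := congrArg (fun v => t • TensorProduct.comm A N F (b • v)) h
    simpa [TensorProduct.smul_tmul'] using h4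

omit [IsDomain A] [Algebra.FiniteType A B] [Module.Finite B M] in
theorem fibreEquiv_inc_smul (p : Ideal A) [p.IsPrime] (z : M) (b : B) :
    FBase64.AssFibre.fibreEquiv (A := A) (B := B) p.ResidueField M (inc p b • ((1 : p.Fiber B) ⊗ₜ[B] z)) =
      (b • z) ⊗ₜ[A] (1 : p.ResidueField) := by
  rw [TensorProduct.smul_tmul', smul_eq_mul, mul_one]
  exact FBase64.AssFibre.fibreEquiv_tmul _ _ _ _ _

omit [IsDomain A] [Algebra.FiniteType A B] [Module.Finite B M] in
/-- The annihilator of an element of a fibre module spanning an injectively embedded cyclic module. -/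
theorem colon_fibre (p : Ideal A) [p.IsPrime] (z : M) (Q : Ideal B) (hQ : ∀ b : B, b • z = 0 → b ∈ Q)
    (hQ' : ∀ b ∈ Q, ∃ d : A, d ∉ p ∧ d • b • z = 0)
    (hi : Function.Injective (((B ∙ z).subtype.restrictScalars A).rTensor p.ResidueField)) :
    (⊥ : Submodule (p.Fiber B) ((p.Fiber B) ⊗[B] M)).colon {(1 : p.Fiber B) ⊗ₜ[B] z} = Q.map (inc p) := by
  let e := FBase64.AssFibre.fibreEquiv (A := A) (B := B) p.ResidueField M
  have hu : ∀ r : A, r ∉ p → IsUnit (algebraMap A p.ResidueField r) := fun r hr =>
    isUnit_iff_ne_zero.2 (mt Ideal.algebraMap_residueField_eq_zero.1 hr)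
  refine le_antisymm (fun x hx => ?_) (Ideal.map_le_iff_le_comap.2 fun b hb => ?_)
  · obtain ⟨r, hr, b, hrb⟩ := Ideal.Fiber.exists_smul_eq_one_tmul (p := p) x
    have hu' : IsUnit (algebraMap A (p.Fiber B) r) := by
      rw [IsScalarTower.algebraMap_apply A p.ResidueField (p.Fiber B)]
      exact (hu r hr).map _
    rw [Algebra.smul_def] at hrb
    refine (Ideal.unit_mul_mem_iff_mem _ hu').1 ?_
    rw [hrb]
    rw [Submodule.mem_colon_singleton, Submodule.mem_bot] at hx
    have h1 : (b • z) ⊗ₜ[A] (1 : p.ResidueField) = 0 := by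
      rw [← fibreEquiv_inc_smul p z b, show inc p b = algebraMap A (p.Fiber B) r * x from hrb.symm, mul_smul, hx,
        smul_zero, map_zero]
    let y : (B ∙ z) := ⟨b • z, (B ∙ z).smul_mem b (Submodule.mem_span_singleton_self z)⟩
    have h2 : y ⊗ₜ[A] (1 : p.ResidueField) = 0 := (injective_iff_map_eq_zero _).1 hi _ (by simpa [y] using h1)
    let σ : B →ₗ[A] (B ∙ z) := ((LinearMap.toSpanSingleton B M z).codRestrict (B ∙ z)
      (fun b => (B ∙ z).smul_mem b (Submodule.mem_span_singleton_self z))).restrictScalars A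
    have hσ : Function.Surjective σ := by
      rintro ⟨m, hm⟩
      obtain ⟨b, rfl⟩ := Submodule.mem_span_singleton.1 hm
      exact ⟨b, rfl⟩
    have h3 : σ.lTensor p.ResidueField ((1 : p.ResidueField) ⊗ₜ[A] b) = 0 := by
      rw [LinearMap.lTensor_tmul]
      have h4 := congrArg (TensorProduct.comm A (B ∙ z) p.ResidueField) h2
      rw [map_zero, TensorProduct.comm_tmul] at h4
      exact h4
    obtain ⟨v, hv⟩ := (lTensor_exact p.ResidueField (LinearMap.exact_subtype_ker_map σ) hσ _).1 h3
    show (1 : p.ResidueField) ⊗ₜ[A] b ∈ Q.map (inc p)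
    rw [← hv]
    clear hv
    induction v using TensorProduct.induction_on with
    | zero => simp
    | add v v' hv hv' => rw [map_add]; exact add_mem hv hv'
    | tmul t k =>
      obtain ⟨k, hk⟩ := k
      rw [LinearMap.lTensor_tmul, Submodule.subtype_apply,
        show t ⊗ₜ[A] k = (t ⊗ₜ[A] (1 : B)) * ((1 : p.ResidueField) ⊗ₜ[A] k) by
          rw [Algebra.TensorProduct.tmul_mul_tmul, mul_one, one_mul]]
      exact Ideal.mul_mem_left _ _ (Ideal.mem_map_of_mem (inc p) (hQ k (congrArg Subtype.val hk)))
  · obtain ⟨d, hd, hdz⟩ := hQ' b hb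
    rw [Ideal.mem_comap, Submodule.mem_colon_singleton, Submodule.mem_bot, ← e.map_eq_zero_iff]
    refine (fibreEquiv_inc_smul p z b).trans ?_
    apply (TensorProduct.comm A M p.ResidueField).injective
    rw [map_zero, TensorProduct.comm_tmul, ← (hu d hd).smul_eq_zero, algebraMap_smul, ← TensorProduct.tmul_smul,
      hdz, TensorProduct.tmul_zero]

theorem minimalPrimes_colon_mem_ass {R L : Type u} [CommRing R] [IsNoetherianRing R] [AddCommGroup L] [Module R L]
    (w : L) {P' : Ideal R} (hP' : P' ∈ ((⊥ : Submodule R L).colon {w}).minimalPrimes) : P' ∈ associatedPrimes R L := by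
  have hspan : (R ∙ w).annihilator = (⊥ : Submodule R L).colon {w} := by
    ext x
    rw [Submodule.mem_annihilator_span_singleton, Submodule.mem_colon_singleton, Submodule.mem_bot]
  haveI : Module.Finite R (R ∙ w) := Module.Finite.iff_fg.2 (Submodule.fg_span_singleton w)
  rw [← hspan] at hP'
  exact associatedPrimes.subset_of_injective (f := Submodule.subtype _) Subtype.val_injective
    (Module.associatedPrimes.minimalPrimes_annihilator_subset_associatedPrimes R _ hP')

/-- The irreducible components of the specializations of an associated prime of the generic fibre are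
associated to the fibres near the generic point. -/
theorem exists_specialize (P : Ideal ((⊥ : Ideal A).Fiber B))
    (hP : P ∈ associatedPrimes ((⊥ : Ideal A).Fiber B) (FlatCA.fiberMod (⊥ : Ideal A) B M)) :
    ∃ a : A, a ≠ 0 ∧ ∀ (p : Ideal A) [p.IsPrime], a ∉ p →
      (P.comap (inc ⊥)).map (inc p) ≠ ⊤ ∧
        ∀ P' ∈ ((P.comap (inc ⊥)).map (inc p)).minimalPrimes,
          P' ∈ associatedPrimes (p.Fiber B) (FlatCA.fiberMod p B M) := by
  classical
  obtain ⟨z, hQ⟩ := exists_generic_elem P hP
  have hPne := hP.1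
  haveI : Module.Finite B (B ∙ z) := Module.Finite.iff_fg.2 (Submodule.fg_span_singleton z)
  haveI : Module.Flat A (⊥ : Ideal A).ResidueField := IsLocalization.flat _ (nonZeroDivisors A)
  obtain ⟨a, ha, hfree, hinj⟩ := exists_injective_rTensor (B ∙ z).subtype (⊥ : Ideal A).ResidueField
    (Module.Flat.rTensor_preserves_injective_linearMap (M := (⊥ : Ideal A).ResidueField)
      ((B ∙ z).subtype.restrictScalars A) Subtype.val_injective)
  refine ⟨a, ha, fun p hpp hap => ?_⟩
  haveI := hpp
  haveI : IsNoetherianRing (p.Fiber B) := Algebra.FiniteType.isNoetherianRing p.ResidueField _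
  have hup : IsUnit (algebraMap A p.ResidueField a) :=
    isUnit_iff_ne_zero.2 (mt Ideal.algebraMap_residueField_eq_zero.1 hap)
  let Q := P.comap (inc (B := B) ⊥)
  let y : (B ∙ z) := ⟨z, Submodule.mem_span_singleton_self z⟩
  have hi := hinj p.ResidueField hup
  have hcol := colon_fibre p z Q (fun b hb => (hQ b).2 ⟨1, one_ne_zero, by rw [hb, smul_zero]⟩) (fun b hb => by
    obtain ⟨d, hd, hdz⟩ := (hQ b).1 hb
    obtain ⟨n, hn⟩ := exists_pow_smul_eq_zero ha hfree (b • y) hd (Subtype.ext hdz)
    exact ⟨a ^ n, fun h => hap (hpp.mem_of_pow_mem n h), congrArg Subtype.val hn⟩) hi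
  have hy : y ⊗ₜ[A] (1 : p.ResidueField) ≠ 0 := by
    refine tmul_one_ne_zero (B := B) ha hfree y (fun v => ?_) (fun d hd h => hPne.ne_top ?_) p.ResidueField hup
    · obtain ⟨b, hb⟩ := Submodule.mem_span_singleton.1 v.2
      exact ⟨b, Subtype.ext hb⟩
    · have h1 : (1 : B) ∈ Q := (hQ 1).2 ⟨d, hd, by rw [one_smul]; exact congrArg Subtype.val h⟩
      rw [Ideal.eq_top_iff_one]
      have h2 : inc (⊥ : Ideal A) (1 : B) ∈ P := h1
      rwa [map_one] at h2
  have hne : Q.map (inc p) ≠ ⊤ := fun htop => hy <| (injective_iff_map_eq_zero _).1 hi _ <| by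
    rw [← hcol, Ideal.eq_top_iff_one, Submodule.mem_colon_singleton, Submodule.mem_bot] at htop
    have h1 := fibreEquiv_inc_smul p z (1 : B)
    rw [map_one, htop, map_zero, one_smul] at h1
    simpa [y] using h1.symm
  refine ⟨hne, fun P' hP' => ?_⟩
  rw [← hcol] at hP'
  exact minimalPrimes_colon_mem_ass (R := p.Fiber B) (L := (p.Fiber B) ⊗[B] M) _ hP'

end Groth.Agent.FlatMor66.RelAssAlg
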