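import Groth.Agent.FlatMor66.RelAssAlg
import Groth.Agent.FBase64.AssFibre.Scheme
import Groth.Agent.FlatMor68.RelAssBC
import Groth.Agent.ConsProp93.Approx
import Groth.Agent.SchBasics.Reduced

/-!
The relative assassin near a generic point of the base.
-/

set_option autoImplicit false
set_option linter.style.haveILetI false
set_option backward.isDefEq.respectTransparency.types false
set_option maxHeartbeats 2000000
universe u

open AlgebraicGeometry CategoryTheory CategoryTheory.Limits TopologicalSpace Topology TensorProduct IsLocalRing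
open Groth.Agent.Div89 Groth.Agent.FBase64.AssSheaf Groth.Agent.FBase64.AssTensor
open Groth.Agent.FlatMor66.RelAssAlg

noncomputable section

namespace Groth.Agent.FlatMor66.RelAssGen

attribute [local instance] Algebra.TensorProduct.rightAlgebra

/-- Points of the relative assassin on an affine chart. -/
theorem mem_relAss_chart {Y S : Scheme.{u}} (g : Y ⟶ S) [LocallyOfFiniteType g] (G : Y.Modules) [G.IsQuasicoherent]
    {W : S.Opens} {V : Y.Opens} (hW : IsAffineOpen W) (hV : IsAffineOpen V) (e : V ≤ g ⁻¹ᵁ W)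
    (r : Spec Γ(S, W)) (y : Y) (hy : y ∈ V) :
    letI := (g.appLE W V e).hom.toAlgebra
    letI : Module Γ(S, W) Γ(G, V) := Module.compHom _ (g.appLE W V e).hom
    haveI : IsScalarTower Γ(S, W) Γ(Y, V) Γ(G, V) := IsScalarTower.of_algebraMap_smul fun _ _ => rfl
    (y ∈ MoreMor.relAss g G ∧ g y = hW.fromSpec r) ↔
      ∃ P ∈ associatedPrimes ((show PrimeSpectrum Γ(S, W) from r).asIdeal.Fiber Γ(Y, V))
          (FlatCA.fiberMod (show PrimeSpectrum Γ(S, W) from r).asIdeal Γ(Y, V) Γ(G, V)),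
        P.comap (inc (show PrimeSpectrum Γ(S, W) from r).asIdeal) =
            primeAt (⟨V, hV⟩ : Y.affineOpens) y hy := by
  letI := (g.appLE W V e).hom.toAlgebra
  letI : Module Γ(S, W) Γ(G, V) := Module.compHom _ (g.appLE W V e).hom
  haveI : IsScalarTower Γ(S, W) Γ(Y, V) Γ(G, V) := IsScalarTower.of_algebraMap_smul fun _ _ => rfl
  haveI : Algebra.FiniteType Γ(S, W) Γ(Y, V) :=
    HasRingHomProperty.appLE (P := @LocallyOfFiniteType) g inferInstance ⟨W, hW⟩ ⟨V, hV⟩ e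
  let p := (show PrimeSpectrum Γ(S, W) from r).asIdeal
  let s := hW.fromSpec r
  let R := p.Fiber Γ(Y, V)
  haveI : IsNoetherianRing R := Algebra.FiniteType.isNoetherianRing p.ResidueField _
  obtain ⟨σ, hσ⟩ := exists_residueIso hW r s rfl
  have w1 : Spec.map (CommRingCat.ofHom (algebraMap Γ(S, W) Γ(Y, V))) ≫ hW.fromSpec = hV.fromSpec ≫ g :=
    IsAffineOpen.SpecMap_appLE_fromSpec g hW hV e
  let ι : pullback g (S.fromSpecResidueField s) ⟶ Y := pullback.fst _ _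
  let d : Spec (CommRingCat.of R) ⟶ pullback g (S.fromSpecResidueField s) :=
    (pullbackSpecIso Γ(S, W) p.ResidueField Γ(Y, V)).inv ≫ (pullbackSymmetry _ _).hom ≫
      pullback.map _ _ g (S.fromSpecResidueField s) hV.fromSpec σ.hom hW.fromSpec w1 hσ.symm
  have hd : d ≫ ι = Spec.map (CommRingCat.ofHom (algebraMap Γ(Y, V) R)) ≫ hV.fromSpec := by
    simp only [d, ι, pullback.map, Category.assoc, pullback.lift_fst, pullbackSymmetry_hom_comp_fst_assoc,
      pullbackSpecIso_inv_snd_assoc]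
    rfl
  have hopen : IsOpenImmersion d := by dsimp only [d]; infer_instance
  have hrange : Set.range d = ⇑ι ⁻¹' (V : Set Y) := by
    dsimp only [d, ι]
    rw [← Category.assoc, Scheme.Hom.comp_base, TopCat.coe_comp, Set.range_comp,
      ((pullbackSpecIso Γ(S, W) p.ResidueField Γ(Y, V)).inv ≫ (pullbackSymmetry _ _).hom).surjective.range_eq,
      Set.image_univ, Scheme.Pullback.range_map, hV.range_fromSpec,
      Set.range_eq_univ.mpr σ.hom.surjective, Set.preimage_univ, Set.inter_univ]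
  have key : ∀ Q : Spec (CommRingCat.of R),
      d Q ∈ AssSch.Ass ((Scheme.Modules.pullback ι).obj G) ↔
        (show PrimeSpectrum R from Q).asIdeal ∈ associatedPrimes R (FlatCA.fiberMod p Γ(Y, V) Γ(G, V)) := by
    intro Q
    refine (FBase64.AssSheaf.mem_ass_pullback_iff d _ Q).symm.trans ?_
    refine (Set.ext_iff.mp (ass_iso ((Scheme.Modules.pullbackComp d ι).app G)) Q).trans ?_
    exact mem_ass_pullback_spec G ‹_› hV _ hd Q
  have hpt : ∀ (Q : Spec (CommRingCat.of R)), ι (d Q) = y ↔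
      (show PrimeSpectrum R from Q).asIdeal.comap (algebraMap Γ(Y, V) R) = primeAt (⟨V, hV⟩ : Y.affineOpens) y hy := by
    intro Q
    rw [← Scheme.Hom.comp_apply, hd, Scheme.Hom.comp_apply]
    constructor
    · intro h
      subst h
      exact (primeAt_fromSpec hV _ hy).symm
    · intro h
      refine Eq.trans (congrArg hV.fromSpec ?_) (hV.fromSpec_primeIdealOf ⟨y, hy⟩)
      exact PrimeSpectrum.ext h
  have hι : ∀ z, ι z ∈ MoreMor.relAss g G ↔ z ∈ AssSch.Ass ((Scheme.Modules.pullback ι).obj G) :=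
    fun z => FlatMor68.RelAssBC.relAss_iff g G s z
  show (y ∈ MoreMor.relAss g G ∧ g y = s) ↔ _
  constructor
  · rintro ⟨hy', hys⟩
    obtain ⟨z, hz⟩ : ∃ z : ↥(pullback g (S.fromSpecResidueField s)), ι z = y := E4O.exists_fiberι_eq g hys
    obtain ⟨Q, rfl⟩ : z ∈ Set.range d := by rw [hrange, Set.mem_preimage, hz]; exact hy
    refine ⟨_, (key Q).mp ((hι _).1 ?_), (hpt Q).mp hz⟩
    rw [hz]; exact hy'
  · rintro ⟨P, hP, hPy⟩
    have hz := (hpt ⟨P, hP.1⟩).mpr hPy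
    refine ⟨hz ▸ (hι _).2 ((key ⟨P, hP.1⟩).mpr hP), ?_⟩
    rw [← hz]
    exact E4O.apply_fiberι g s _

variable {X S : Scheme.{u}} (f : X ⟶ S) (F : X.Modules)

theorem primeAt_genericPoint [IsIntegral S] (W : S.affineOpens) (h : genericPoint S ∈ W.1) :
    (W.2.primeIdealOf ⟨_, h⟩).asIdeal = ⊥ := FBase64.AssFibre.primeAt_genericPoint W h

/-- Near the generic point the relative assassin avoids a closed set, on one chart. -/
theorem exists_avoid_chart [IsIntegral S] [LocallyOfFiniteType f] (hF : Coh.IsCoh F) (U : X.Opens)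
    (h : ∀ x ∈ MoreMor.relAss f F, f x = genericPoint S → x ∈ U) {W : S.Opens} (hW : IsAffineOpen W)
    (hη : genericPoint S ∈ W) {V : X.Opens} (hV : IsAffineOpen V) (e : V ≤ f ⁻¹ᵁ W) :
    ∃ a : Γ(S, W), genericPoint S ∈ S.basicOpen a ∧
      ∀ x ∈ MoreMor.relAss f F, x ∈ V → f x ∈ S.basicOpen a → x ∈ U := by
  classical
  haveI : F.IsQuasicoherent := hF.1
  haveI : F.IsFiniteType := hF.2
  let W' : S.affineOpens := ⟨W, hW⟩
  let V' : X.affineOpens := ⟨V, hV⟩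
  haveI : Nonempty W := ⟨⟨_, hη⟩⟩
  letI := (f.appLE W V e).hom.toAlgebra
  letI : Module Γ(S, W) Γ(F, V) := Module.compHom _ (f.appLE W V e).hom
  haveI : IsScalarTower Γ(S, W) Γ(X, V) Γ(F, V) := IsScalarTower.of_algebraMap_smul fun _ _ => rfl
  haveI : Algebra.FiniteType Γ(S, W) Γ(X, V) :=
    HasRingHomProperty.appLE (P := @LocallyOfFiniteType) f inferInstance W' V' e
  haveI : Module.Finite Γ(X, V) Γ(F, V) := QC70.finite_sections_of_isFiniteType F hV
  obtain ⟨J, hJ⟩ : ∃ J : Ideal Γ(X, V), ∀ (y : X) (hy : y ∈ V), y ∉ U ↔ J ≤ primeAt V' y hy := by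
    obtain ⟨J, hJ⟩ := (PrimeSpectrum.isClosed_iff_zeroLocus_ideal
      ((hV.fromSpec ⁻¹' (U : Set X))ᶜ : Set (PrimeSpectrum Γ(X, V)))).1
      (U.2.preimage hV.fromSpec.continuous).isClosed_compl
    refine ⟨J, fun y hy => ?_⟩
    have h1 := Set.ext_iff.1 hJ (hV.primeIdealOf ⟨y, hy⟩)
    rw [Set.mem_compl_iff, Set.mem_preimage, hV.fromSpec_primeIdealOf ⟨y, hy⟩] at h1
    exact h1
  have hbot : ∀ P ∈ associatedPrimes ((⊥ : Ideal Γ(S, W)).Fiber Γ(X, V)) (FlatCA.fiberMod (⊥ : Ideal Γ(S, W)) Γ(X, V) Γ(F, V)),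
      ¬ J ≤ P.comap (inc ⊥) := by
    intro P hP hle
    haveI : (P.comap (inc (⊥ : Ideal Γ(S, W)))).IsPrime := hP.1.comap _
    obtain ⟨y, hy, hPy⟩ := exists_point V' (P.comap (inc ⊥))
    have hfy := (mem_relAss_chart f F hW hV e (⟨⊥, Ideal.isPrime_bot⟩ : PrimeSpectrum Γ(S, W)) y hy).2 ⟨P, hP, hPy.symm⟩
    refine (hJ y hy).2 (hPy ▸ hle) (h y hfy.1 (hfy.2.trans ?_))
    refine (congrArg hW.fromSpec ?_).trans (hW.fromSpec_primeIdealOf ⟨_, hη⟩)
    exact PrimeSpectrum.ext (primeAt_genericPoint W' hη).symm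
  obtain ⟨a, ha, H⟩ := exists_avoid J hbot
  refine ⟨a, ?_, fun x hx hxV hfx => ?_⟩
  · rw [mem_basicOpen_iff_notMem W' _ hη]
    rw [show primeAt W' _ hη = ⊥ from primeAt_genericPoint W' hη]
    exact ha
  · rw [mem_basicOpen_iff_notMem W' _ (e hxV)] at hfx
    obtain ⟨P, hP, hPx⟩ := (mem_relAss_chart f F hW hV e (hW.primeIdealOf ⟨f x, e hxV⟩) x hxV).1
      ⟨hx, (hW.fromSpec_primeIdealOf ⟨f x, e hxV⟩).symm⟩
    by_contra hxU
    haveI := primeAt_isPrime W' (f x) (e hxV)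
    exact H (hW.primeIdealOf ⟨f x, e hxV⟩).asIdeal hfx P hP (hPx ▸ (hJ x hxV).1 hxU)

/-- Near the generic point the relative assassin avoids a closed set. -/
theorem exists_avoid_integral [IsIntegral S] [LocallyOfFiniteType f] [QuasiCompact f] (hF : Coh.IsCoh F) (U : X.Opens)
    (h : ∀ x ∈ MoreMor.relAss f F, f x = genericPoint S → x ∈ U) :
    ∃ V : S.Opens, genericPoint S ∈ V ∧ ∀ x ∈ MoreMor.relAss f F, f x ∈ V → x ∈ U := by
  classical
  obtain ⟨_, ⟨W, hW, rfl⟩, hη, -⟩ :=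
    S.isBasis_affineOpens.exists_subset_of_mem_open (Set.mem_univ (genericPoint S)) isOpen_univ
  have hc : IsCompact ((f ⁻¹ᵁ W : X.Opens) : Set X) :=
    QuasiCompact.isCompact_preimage (f := f) (W : Set S) W.2 hW.isCompact
  obtain ⟨T, hT⟩ := hc.elim_finite_subcover (fun V : {V : X.affineOpens // V.1 ≤ f ⁻¹ᵁ W} => (V.1.1 : Set X))
    (fun V => V.1.1.2) fun x hx => by
      obtain ⟨_, ⟨V, hV, rfl⟩, hxV, hle⟩ := X.isBasis_affineOpens.exists_subset_of_mem_open hx (f ⁻¹ᵁ W).2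
      exact Set.mem_iUnion.mpr ⟨⟨⟨V, hV⟩, hle⟩, hxV⟩
  choose a haη H using fun V : {V : X.affineOpens // V.1 ≤ f ⁻¹ᵁ W} =>
    exists_avoid_chart f F hF U h hW hη V.1.2 V.2
  refine ⟨⟨(W : Set S) ∩ ⋂ V ∈ T, (S.basicOpen (a V) : Set S),
    W.2.inter (isOpen_biInter_finset fun V _ => (S.basicOpen (a V)).2)⟩,
    ⟨hη, Set.mem_iInter₂.2 fun V _ => haη V⟩, fun x hx hfx => ?_⟩
  obtain ⟨V, hV, hxV⟩ : ∃ V ∈ T, x ∈ V.1.1 := by simpa using hT hfx.1
  exact H V x hx hxV (Set.mem_iInter₂.1 hfx.2 V hV)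

/-- The components of the closure of a point of the relative assassin over the generic point are in the
relative assassin over nearby points. -/
theorem exists_specialize_integral [IsIntegral S] [LocallyOfFiniteType f] (hF : Coh.IsCoh F) (ξ : X)
    (hξ : ξ ∈ MoreMor.relAss f F) (hfξ : f ξ = genericPoint S) :
    ∃ (V : X.Opens) (O : S.Opens), ξ ∈ V ∧ genericPoint S ∈ O ∧
      (∀ s ∈ O, ∃ x ∈ MoreMor.relAss f F, f x = s ∧ ξ ⤳ x) ∧
      ∀ x ∈ V, f x ∈ O → ξ ⤳ x → (∀ w ∈ V, f w = f x → ξ ⤳ w → w ⤳ x → w = x) → x ∈ MoreMor.relAss f F := by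
  classical
  haveI : F.IsQuasicoherent := hF.1
  haveI : F.IsFiniteType := hF.2
  obtain ⟨_, ⟨W, hW, rfl⟩, hη, -⟩ :=
    S.isBasis_affineOpens.exists_subset_of_mem_open (Set.mem_univ (genericPoint S)) isOpen_univ
  obtain ⟨_, ⟨V, hV, rfl⟩, hξV, e⟩ :=
    X.isBasis_affineOpens.exists_subset_of_mem_open (show ξ ∈ f ⁻¹ᵁ W by show f ξ ∈ W; rw [hfξ]; exact hη) (f ⁻¹ᵁ W).2
  let W' : S.affineOpens := ⟨W, hW⟩
  let V' : X.affineOpens := ⟨V, hV⟩
  haveI : Nonempty W := ⟨⟨_, hη⟩⟩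
  letI := (f.appLE W V e).hom.toAlgebra
  letI : Module Γ(S, W) Γ(F, V) := Module.compHom _ (f.appLE W V e).hom
  haveI : IsScalarTower Γ(S, W) Γ(X, V) Γ(F, V) := IsScalarTower.of_algebraMap_smul fun _ _ => rfl
  haveI : Algebra.FiniteType Γ(S, W) Γ(X, V) :=
    HasRingHomProperty.appLE (P := @LocallyOfFiniteType) f inferInstance W' V' e
  haveI : Module.Finite Γ(X, V) Γ(F, V) := QC70.finite_sections_of_isFiniteType F hV
  obtain ⟨P, hP, hPξ⟩ := (mem_relAss_chart f F hW hV e (⟨⊥, Ideal.isPrime_bot⟩ : PrimeSpectrum Γ(S, W)) ξ hξV).1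
    ⟨hξ, hfξ.trans (((congrArg hW.fromSpec (PrimeSpectrum.ext (primeAt_genericPoint W' hη).symm)).trans
      (hW.fromSpec_primeIdealOf ⟨_, hη⟩)).symm)⟩
  obtain ⟨a, ha, H⟩ := exists_specialize P hP
  rw [hPξ] at H
  refine ⟨V, S.basicOpen a, hξV, ?_, fun s hs => ?_, fun x hxV hfx hξx hmax => ?_⟩
  · rw [mem_basicOpen_iff_notMem W' _ hη]
    rw [show primeAt W' _ hη = ⊥ from primeAt_genericPoint W' hη]
    exact ha
  · have hsW : s ∈ W := S.basicOpen_le _ hs
    rw [mem_basicOpen_iff_notMem W' _ hsW] at hs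
    let r := hW.primeIdealOf ⟨s, hsW⟩
    obtain ⟨hne, hmin⟩ := H r.asIdeal hs
    obtain ⟨Q, hQ⟩ := Ideal.nonempty_minimalPrimes hne
    have hass := hmin Q hQ
    haveI : (Q.comap (inc r.asIdeal)).IsPrime := hass.1.comap _
    obtain ⟨y, hy, hyQ⟩ := exists_point V' (Q.comap (inc r.asIdeal))
    obtain ⟨h1, h2⟩ := (mem_relAss_chart f F hW hV e r y hy).2 ⟨Q, hass, hyQ.symm⟩
    exact ⟨y, h1, h2.trans (hW.fromSpec_primeIdealOf ⟨s, hsW⟩),
      (specializes_iff_primeAt_le V' hy hξV).2 (hyQ ▸ Ideal.map_le_iff_le_comap.1 hQ.1.2)⟩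
  · have hsW : f x ∈ W := e hxV
    rw [mem_basicOpen_iff_notMem W' _ hsW] at hfx
    let r := hW.primeIdealOf ⟨f x, hsW⟩
    obtain ⟨-, hmin⟩ := H r.asIdeal hfx
    let iso := PrimeSpectrum.preimageOrderIsoFiber Γ(S, W) Γ(X, V) r
    let q : PrimeSpectrum.comap (algebraMap Γ(S, W) Γ(X, V)) ⁻¹' {r} :=
      ⟨hV.primeIdealOf ⟨x, hxV⟩, PrimeSpectrum.ext (comap_primeAt f W' V' e x hxV)⟩
    let Q := iso q
    have hQx : Q.asIdeal.comap (inc r.asIdeal) = primeAt V' x hxV :=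
      congrArg (fun w => (Subtype.val w).asIdeal) (iso.symm_apply_apply q)
    have hQmin : Q.asIdeal ∈ ((primeAt V' ξ hξV).map (inc r.asIdeal)).minimalPrimes := by
      refine ⟨⟨Q.isPrime, Ideal.map_le_iff_le_comap.2 (hQx ▸ (specializes_iff_primeAt_le V' hxV hξV).1 hξx)⟩, ?_⟩
      rintro Q' ⟨hQ', hle⟩ hQ'Q
      haveI : (Q'.comap (inc r.asIdeal)).IsPrime := hQ'.comap _
      obtain ⟨w, hw, hwQ⟩ := exists_point V' (Q'.comap (inc r.asIdeal))
      have hfw : f w = f x := by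
        refine primeAt_inj W' (e hw) hsW ?_
        rw [← comap_primeAt f W' V' e w hw, hwQ]
        exact congrArg PrimeSpectrum.asIdeal (iso.symm ⟨Q', hQ'⟩).2
      have := hmax w hw hfw ((specializes_iff_primeAt_le V' hw hξV).2 (hwQ ▸ Ideal.map_le_iff_le_comap.1 hle))
        ((specializes_iff_primeAt_le V' hxV hw).2 (hwQ ▸ hQx ▸ Ideal.comap_mono hQ'Q))
      subst this
      exact (iso.symm.le_iff_le (x := Q) (y := ⟨Q', hQ'⟩)).1
        (show Q.asIdeal.comap (inc r.asIdeal) ≤ Q'.comap (inc r.asIdeal) by rw [hQx, hwQ])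
    exact ((mem_relAss_chart f F hW hV e r x hxV).2 ⟨_, hmin _ hQmin, hQx⟩).1

end Groth.Agent.FlatMor66.RelAssGen
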