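import Groth.Agent.FlatMor66.RelAssLocus
import Groth.Agent.FlatMor66.RelAssGen
import Groth.Agent.Props58.LocFree.FP
import Groth.Agent.ConsProp93.Approx

/-!
Constructibility of the locus where the relative assassin lies in an open.
-/

set_option backward.isDefEq.respectTransparency.types false
set_option linter.style.haveILetI false
set_option autoImplicit false
set_option maxHeartbeats 2000000
universe u

open CategoryTheory CategoryTheory.Limits AlgebraicGeometry TopologicalSpace Topology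
open Groth.Agent.Div89 Groth.Agent.FBase64.AssSheaf Groth.Agent.FlatMor66.RelAssAlg

noncomputable section

namespace Groth.Agent.FlatMor66.RelAssConsStmt

open RelAssLocus RelAssGen

variable {X Y : Scheme.{u}}

theorem isConstructible_chart (f : X ⟶ Y) [LocallyOfFinitePresentation f] [QuasiSeparated f] (F : X.Modules) [F.IsQuasicoherent]
    [CohB1.IsFP F] (U : X.Opens) [QuasiCompact (U.ι ≫ f)] {W : Y.Opens} (hW : IsAffineOpen W)
    {V : X.Opens} (hV : IsAffineOpen V) (e : V ≤ f ⁻¹ᵁ W) :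
    IsConstructible {r : PrimeSpectrum Γ(Y, W) | ∀ x ∈ V, x ∈ MoreMor.relAss f F → f x = hW.fromSpec r → x ∈ U} := by
  classical
  let W' : Y.affineOpens := ⟨W, hW⟩
  let V' : X.affineOpens := ⟨V, hV⟩
  letI := (f.appLE W V e).hom.toAlgebra
  letI : Module Γ(Y, W) Γ(F, V) := Module.compHom _ (f.appLE W V e).hom
  haveI : IsScalarTower Γ(Y, W) Γ(X, V) Γ(F, V) := IsScalarTower.of_algebraMap_smul fun _ _ => rfl
  haveI : Algebra.FinitePresentation Γ(Y, W) Γ(X, V) := f.finitePresentation_appLE hW hV e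
  haveI : Module.FinitePresentation Γ(X, V) Γ(F, V) := Props58.LocFree.finitePresentation_sections F hV
  obtain ⟨t, ht⟩ : ∃ t : Finset Γ(X, V), ∀ (x : X) (hx : x ∈ V), x ∉ U ↔ ∀ g ∈ t, g ∈ primeAt V' x hx := by
    have hcU : IsCompact ((U : Set X) ∩ (V : Set X)) := by
      have h1 : IsCompact ((U : Set X) ∩ f ⁻¹' (W : Set Y)) := by
        have h2 := (QuasiCompact.isCompact_preimage (f := U.ι ≫ f) (W : Set Y) W.2 hW.isCompact).image U.ι.continuous
        convert h2 using 1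
        ext x
        constructor
        · rintro ⟨hxU, hxW⟩
          exact ⟨⟨x, hxU⟩, hxW, rfl⟩
        · rintro ⟨y, hy, rfl⟩
          exact ⟨y.2, hy⟩
      have hq : IsQuasiSeparated ((f ⁻¹ᵁ W : X.Opens) : Set X) := by
        haveI : QuasiSeparatedSpace ↥(f ⁻¹ᵁ W : X.Opens) := by
          haveI : IsAffine (W : Scheme.{u}) := hW
          exact quasiSeparatedSpace_of_quasiSeparated (f ∣_ W)
        exact (isQuasiSeparated_iff_quasiSeparatedSpace _ (f ⁻¹ᵁ W).2).2 ‹_›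
      have h3 := hq _ _ Set.inter_subset_right (U.2.inter (W.2.preimage f.continuous)) h1 (e : (V : Set X) ⊆ _) V.2 hV.isCompact
      convert h3 using 1
      ext x
      exact ⟨fun h => ⟨⟨h.1, e h.2⟩, h.2⟩, fun h => ⟨h.1.1, h.2⟩⟩
    have hc2 : IsCompact (hV.fromSpec ⁻¹' (U : Set X)) := by
      rw [← Set.preimage_inter_range, hV.range_fromSpec]
      exact hV.fromSpec.isEmbedding.isInducing.isCompact_preimage' hcU
        (Set.inter_subset_right.trans hV.range_fromSpec.ge)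
    obtain ⟨s, hs, hs'⟩ := (isCompact_open_iff_eq_finite_iUnion_of_isTopologicalBasis
      (fun g : Γ(X, V) => (PrimeSpectrum.basicOpen g : Set (PrimeSpectrum Γ(X, V))))
      PrimeSpectrum.isTopologicalBasis_basic_opens (fun g => PrimeSpectrum.isCompact_basicOpen g) _).1
      ⟨hc2, U.2.preimage hV.fromSpec.continuous⟩
    refine ⟨hs.toFinset, fun x hx => ?_⟩
    have key : x ∈ U ↔ ∃ g ∈ s, g ∉ primeAt V' x hx := by
      have h1 := Set.ext_iff.1 hs' (hV.primeIdealOf ⟨x, hx⟩)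
      erw [Set.mem_preimage, hV.fromSpec_primeIdealOf ⟨x, hx⟩, Set.mem_iUnion₂] at h1
      refine h1.trans ⟨fun ⟨g, hg, hx'⟩ => ⟨g, hg, hx'⟩, fun ⟨g, hg, hx'⟩ => ⟨g, hg, hx'⟩⟩
    rw [key]
    simp
  let g : ULift.{u} (Fin t.card) → Γ(X, V) := fun i => (t.equivFin.symm i.down : Γ(X, V))
  suffices h : {r : PrimeSpectrum Γ(Y, W) | ∀ x ∈ V, x ∈ MoreMor.relAss f F → f x = hW.fromSpec r → x ∈ U} =
      injLocus (fam (A := Γ(Y, W)) g Γ(F, V)) by
    rw [h]; exact isConstructible_injLocus g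
  ext r
  rw [mem_injLocus_fam_iff]
  constructor
  · intro h P hP hg
    haveI : (P.comap (inc r.asIdeal)).IsPrime := hP.1.comap _
    obtain ⟨x, hx, hxP⟩ := exists_point V' (P.comap (inc r.asIdeal))
    obtain ⟨h1, h2⟩ := (mem_relAss_chart f F hW hV e r x hx).2 ⟨P, hP, hxP.symm⟩
    refine (ht x hx).2 (fun a ha => ?_) (h x hx h1 h2)
    rw [hxP]
    simpa [g] using hg ⟨t.equivFin ⟨a, ha⟩⟩
  · intro h x hx h1 h2
    obtain ⟨P, hP, hPx⟩ := (mem_relAss_chart f F hW hV e r x hx).1 ⟨h1, h2⟩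
    by_contra hxU
    refine h P hP fun i => ?_
    have := (ht x hx).1 hxU _ (t.equivFin.symm i.down).2
    rw [← hPx] at this
    exact this

theorem isLocallyConstructible_relAss_subset (f : X ⟶ Y) [LocallyOfFinitePresentation f] [QuasiCompact f]
    [QuasiSeparated f] (F : X.Modules) [F.IsQuasicoherent] [CohB1.IsFP F] (U : X.Opens) [QuasiCompact (U.ι ≫ f)] :
    IsLocallyConstructible {y : ↑Y | ∀ x ∈ MoreMor.relAss f F, f x = y → x ∈ U} := by
  classical
  refine ConsProp93.isLocallyConstructible_of_affine fun W hW => ?_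
  have hc : IsCompact ((f ⁻¹ᵁ W : X.Opens) : Set X) :=
    QuasiCompact.isCompact_preimage (f := f) (W : Set Y) W.2 hW.isCompact
  obtain ⟨T, hT⟩ := hc.elim_finite_subcover (fun V : {V : X.affineOpens // V.1 ≤ f ⁻¹ᵁ W} => (V.1.1 : Set X))
    (fun V => V.1.1.2) fun x hx => by
      obtain ⟨_, ⟨V, hV, rfl⟩, hxV, hle⟩ := X.isBasis_affineOpens.exists_subset_of_mem_open hx (f ⁻¹ᵁ W).2
      exact Set.mem_iUnion.mpr ⟨⟨⟨V, hV⟩, hle⟩, hxV⟩
  have hset : IsConstructible (hW.fromSpec ⁻¹' {y : ↑Y | ∀ x ∈ MoreMor.relAss f F, f x = y → x ∈ U}) := by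
    have h1 : IsConstructible (⋂ V ∈ T, {r : PrimeSpectrum Γ(Y, W) |
        ∀ x ∈ V.1.1, x ∈ MoreMor.relAss f F → f x = hW.fromSpec r → x ∈ U}) :=
      .biInter T.finite_toSet fun V _ => isConstructible_chart f F U hW V.1.2 V.2
    suffices h : (hW.fromSpec ⁻¹' {y : ↑Y | ∀ x ∈ MoreMor.relAss f F, f x = y → x ∈ U} : Set (PrimeSpectrum Γ(Y, W))) =
        ⋂ V ∈ T, {r : PrimeSpectrum Γ(Y, W) | ∀ x ∈ V.1.1, x ∈ MoreMor.relAss f F → f x = hW.fromSpec r → x ∈ U} from h ▸ h1
    ext r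
    simp only [Set.mem_preimage, Set.mem_setOf_eq, Set.mem_iInter]
    refine ⟨fun h V _ x _ hx hfx => h x hx hfx, fun h x hx hfx => ?_⟩
    have hxW : x ∈ f ⁻¹ᵁ W := by
      show f x ∈ W
      rw [hfx]
      exact hW.range_fromSpec.le ⟨r, rfl⟩
    obtain ⟨V, hV, hxV⟩ : ∃ V ∈ T, x ∈ V.1.1 := by simpa using hT hxW
    exact h V hV x hxV hx hfx
  haveI : IsAffine (W : Scheme.{u}) := hW
  have h2 := hset.preimage_of_isOpenEmbedding hW.isoSpec.hom.isOpenEmbedding
  convert h2.isLocallyConstructible using 1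
  ext x
  simp only [Set.mem_preimage, IsAffineOpen.fromSpec]
  rw [← Scheme.Hom.comp_apply, Iso.hom_inv_id_assoc]

end Groth.Agent.FlatMor66.RelAssConsStmt
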