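import Groth.Agent.FlatMor66.RelAssAlg
import Groth.Agent.Cons62.FibreTop
import Mathlib

/-!
The locus of injectivity of a map of modules on the fibres.
-/

set_option autoImplicit false
set_option linter.style.haveILetI false
set_option maxHeartbeats 1000000
universe u

open TensorProduct MvPolynomial Topology
open Groth.Agent.FlatMor66.RelAssAlg

noncomputable section

namespace Groth.Agent.FlatMor66.RelAssLocus

attribute [local instance] MvPolynomial.algebraMvPolynomial

section Desc

variable {R : Type u} [CommRing R] {n k : ℕ}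

/-- Base change of a finitely presented polynomial module, with its values. -/
theorem exists_baseChange_quotient_span {A : Type u} [CommRing A] [Algebra A R]
    (T₀ : Set (Fin k → MvPolynomial (Fin n) A)) :
    ∃ e : R ⊗[A] ((Fin k → MvPolynomial (Fin n) A) ⧸ Submodule.span (MvPolynomial (Fin n) A) T₀) ≃ₗ[R]
      ((Fin k → MvPolynomial (Fin n) R) ⧸ Submodule.span (MvPolynomial (Fin n) R)
        ((fun x (i : Fin k) => MvPolynomial.map (algebraMap A R) (x i)) '' T₀)),
      ∀ x, e ((1 : R) ⊗ₜ Submodule.Quotient.mk x) =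
        Submodule.Quotient.mk fun i => MvPolynomial.map (algebraMap A R) (x i) := by
  classical
  set J := fun (x : Fin k → MvPolynomial (Fin n) A) (i : Fin k) =>
    MvPolynomial.map (algebraMap A R) (x i) with hJ
  set K₀ := Submodule.span (MvPolynomial (Fin n) A) T₀ with hK₀
  set K := Submodule.span (MvPolynomial (Fin n) R) (J '' T₀) with hK
  let A₀ : R ⊗[A] (Fin k → MvPolynomial (Fin n) A) ≃ₗ[R] (Fin k → MvPolynomial (Fin n) R) :=
    TensorProduct.piRight A R R (fun _ : Fin k => MvPolynomial (Fin n) A) ≪≫ₗ
      LinearEquiv.piCongrRight fun _ => (MvPolynomial.algebraTensorAlgEquiv A R).toLinearEquiv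
  have hA₀ : ∀ x, A₀ (1 ⊗ₜ x) = J x := by
    intro x; funext i
    simp [A₀, J]
  let Q₀ := (K₀.restrictScalars A).subtype.baseChange R
  have hQ₀ : ∀ (r : R) (x : K₀.restrictScalars A), A₀ (Q₀ (r ⊗ₜ x)) = r • J x.1 := by
    intro r x
    rw [show Q₀ (r ⊗ₜ x) = r • ((1 : R) ⊗ₜ[A] x.1) by simp [Q₀, smul_tmul'], map_smul, hA₀]
  have hJsmul : ∀ (p : MvPolynomial (Fin n) A) x, J (p • x) = MvPolynomial.map (algebraMap A R) p • J x := by
    intro p x; funext i; simp [J]
  have hrange : (LinearMap.range Q₀).map A₀.toLinearMap = K.restrictScalars R := by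
    apply le_antisymm
    · rintro _ ⟨_, ⟨z, rfl⟩, rfl⟩
      induction z using TensorProduct.induction_on with
      | zero => simp
      | tmul r x =>
        have hx : J x.1 ∈ K := by
          obtain ⟨x, hx⟩ := x
          induction hx using Submodule.span_induction with
          | mem z hz => exact Submodule.subset_span ⟨z, hz, rfl⟩
          | zero => convert K.zero_mem; funext i; simp [J]
          | add a b _ _ ha hb => convert add_mem ha hb; funext i; simp [J]
          | smul p a _ ha => exact hJsmul p a ▸ K.smul_mem _ ha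
        exact (hQ₀ r x).symm ▸ Submodule.smul_of_tower_mem K r hx
      | add a b ha hb => simp only [map_add]; exact add_mem ha hb
    · set W := (LinearMap.range Q₀).map A₀.toLinearMap
      have hbase : ∀ x ∈ K₀, J x ∈ W := fun x hx =>
        ⟨_, ⟨(1 : R) ⊗ₜ[A] ⟨x, hx⟩, rfl⟩, (hQ₀ 1 ⟨x, hx⟩).trans (one_smul _ _)⟩
      have hstab : ∀ (p : MvPolynomial (Fin n) R) (y : Fin k → MvPolynomial (Fin n) R),
          y ∈ W → p • y ∈ W := by
        intro p
        induction p using MvPolynomial.induction_on with
        | C a =>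
          intro y hy
          rw [← MvPolynomial.algebraMap_eq, algebraMap_smul]
          exact W.smul_mem a hy
        | add p q hp hq => intro y hy; rw [add_smul]; exact add_mem (hp y hy) (hq y hy)
        | mul_X p i hp =>
          intro y hy
          rw [mul_smul]
          refine hp _ ?_
          obtain ⟨_, ⟨z, rfl⟩, rfl⟩ := hy
          induction z using TensorProduct.induction_on with
          | zero => simp
          | tmul r x =>
            show (MvPolynomial.X i : MvPolynomial (Fin n) R) • A₀ (Q₀ (r ⊗ₜ x)) ∈ W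
            rw [hQ₀, smul_comm, ← MvPolynomial.map_X (algebraMap A R) i, ← hJsmul]
            exact W.smul_mem r (hbase _ (K₀.smul_mem _ x.2))
          | add a b ha hb => simp only [map_add, smul_add]; exact add_mem ha hb
      intro y hy
      induction (show y ∈ Submodule.span (MvPolynomial (Fin n) R) (J '' T₀) from hy) using
        Submodule.span_induction with
      | mem v hv =>
        obtain ⟨q, hq, rfl⟩ := hv
        exact hbase q (Submodule.subset_span hq)
      | zero => exact zero_mem _
      | add a b _ _ ha hb => exact add_mem (ha ‹_›) (hb ‹_›)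
      | smul p a _ ha => exact hstab p a (ha ‹_›)
  let M := (LinearMap.range Q₀)
  let L := Function.Exact.linearEquivOfSurjective
      (f := Q₀) (g := (K₀.restrictScalars A).mkQ.baseChange R)
      (lTensor_exact R (LinearMap.exact_subtype_mkQ _) (Submodule.mkQ_surjective _))
      (LinearMap.lTensor_surjective R (Submodule.mkQ_surjective _))
  refine ⟨(LinearEquiv.baseChange A R _ _ (Submodule.Quotient.restrictScalarsEquiv A K₀)).symm ≪≫ₗ
    L.symm ≪≫ₗ Submodule.Quotient.equiv _ _ A₀ hrange ≪≫ₗ Submodule.Quotient.restrictScalarsEquiv R K, fun x => ?_⟩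
  have h1 : (LinearEquiv.baseChange A R _ _ (Submodule.Quotient.restrictScalarsEquiv A K₀)).symm
      ((1 : R) ⊗ₜ Submodule.Quotient.mk x) = (1 : R) ⊗ₜ[A] (K₀.restrictScalars A).mkQ x := by
    rw [LinearEquiv.symm_apply_eq]
    rfl
  have h2 : L.symm ((1 : R) ⊗ₜ[A] (K₀.restrictScalars A).mkQ x) = Submodule.Quotient.mk ((1 : R) ⊗ₜ[A] x) := by
    rw [LinearEquiv.symm_apply_eq]
    rfl
  simp only [LinearEquiv.trans_apply, h1, h2, Submodule.Quotient.equiv_apply, Submodule.mapQ_apply]
  show Submodule.Quotient.mk (A₀ ((1 : R) ⊗ₜ[A] x)) = _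
  rw [hA₀]
  rfl

/-- Base change of a finitely presented polynomial module, up to equality of the relations. -/
theorem exists_baseChange_quotient_span' {A : Type u} [CommRing A] [Algebra A R]
    (T₀ : Set (Fin k → MvPolynomial (Fin n) A)) (T : Set (Fin k → MvPolynomial (Fin n) R))
    (h : (fun x (i : Fin k) => MvPolynomial.map (algebraMap A R) (x i)) '' T₀ = T) :
    ∃ e : R ⊗[A] ((Fin k → MvPolynomial (Fin n) A) ⧸ Submodule.span (MvPolynomial (Fin n) A) T₀) ≃ₗ[R]
      ((Fin k → MvPolynomial (Fin n) R) ⧸ Submodule.span (MvPolynomial (Fin n) R) T),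
      ∀ x, e ((1 : R) ⊗ₜ Submodule.Quotient.mk x) =
        Submodule.Quotient.mk fun i => MvPolynomial.map (algebraMap A R) (x i) := by
  subst h
  exact exists_baseChange_quotient_span T₀

end Desc

variable {A : Type u} [CommRing A]

/-- The primes at which a map of modules is injective on the fibres. -/
def injLocus {N M : Type u} [AddCommGroup N] [Module A N] [AddCommGroup M] [Module A M] (μ : N →ₗ[A] M) :
    Set (PrimeSpectrum A) :=
  {p | Function.Injective (μ.baseChange p.asIdeal.ResidueField)}

theorem baseChange_baseChange_injective_iff {D F : Type u} [CommRing D] [Algebra A D] [CommRing F] [Algebra A F]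
    [Algebra D F] [IsScalarTower A D F] {N M : Type u} [AddCommGroup N] [Module A N] [AddCommGroup M] [Module A M]
    (μ : N →ₗ[A] M) :
    Function.Injective ((μ.baseChange D).baseChange F) ↔ Function.Injective (μ.baseChange F) := by
  let eN := AlgebraTensorModule.cancelBaseChange A D F F N
  let eM := AlgebraTensorModule.cancelBaseChange A D F F M
  have hcomm : ∀ x, μ.baseChange F (eN x) = eM ((μ.baseChange D).baseChange F x) := fun x => by
    induction x using TensorProduct.induction_on with
    | zero => simp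
    | add x y hx hy => simp [hx, hy]
    | tmul a y =>
      induction y using TensorProduct.induction_on with
      | zero => simp
      | add x y hx hy => simp only [tmul_add, map_add, hx, hy]
      | tmul b m => simp [eN, eM]
  constructor
  · intro h x y hxy
    obtain ⟨x, rfl⟩ := eN.surjective x
    obtain ⟨y, rfl⟩ := eN.surjective y
    rw [hcomm, hcomm] at hxy
    rw [h (eM.injective hxy)]
  · intro h x y hxy
    exact eN.injective (h (by rw [hcomm, hcomm, hxy]))

theorem baseChange_injective_iff_of_field {k F : Type u} [Field k] [Algebra A k] [Field F] [Algebra A F]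
    [Algebra k F] [IsScalarTower A k F] {N M : Type u} [AddCommGroup N] [Module A N] [AddCommGroup M] [Module A M]
    (μ : N →ₗ[A] M) :
    Function.Injective (μ.baseChange F) ↔ Function.Injective (μ.baseChange k) := by
  rw [← baseChange_baseChange_injective_iff (D := k) μ]
  exact Module.FaithfullyFlat.lTensor_injective_iff_injective k F (μ.baseChange k)

theorem injLocus_baseChange {D : Type u} [CommRing D] [Algebra A D] {N M : Type u} [AddCommGroup N] [Module A N]
    [AddCommGroup M] [Module A M] (μ : N →ₗ[A] M) :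
    injLocus (μ.baseChange D) = PrimeSpectrum.comap (algebraMap A D) ⁻¹' injLocus μ := by
  ext q
  show Function.Injective ((μ.baseChange D).baseChange q.asIdeal.ResidueField) ↔
    Function.Injective (μ.baseChange (q.asIdeal.comap (algebraMap A D)).ResidueField)
  rw [baseChange_baseChange_injective_iff]
  let p := q.asIdeal.comap (algebraMap A D)
  letI : Algebra p.ResidueField q.asIdeal.ResidueField :=
    (Ideal.ResidueField.mapₐ p q.asIdeal (Algebra.ofId A D) rfl).toRingHom.toAlgebra
  haveI : IsScalarTower A p.ResidueField q.asIdeal.ResidueField :=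
    IsScalarTower.of_algebraMap_eq fun a =>
      ((Ideal.ResidueField.mapₐ p q.asIdeal (Algebra.ofId A D) rfl).commutes a).symm
  exact baseChange_injective_iff_of_field μ

theorem injLocus_congr {N M N' M' : Type u} [AddCommGroup N] [Module A N] [AddCommGroup M] [Module A M]
    [AddCommGroup N'] [Module A N'] [AddCommGroup M'] [Module A M'] (μ : N →ₗ[A] M) (μ' : N' →ₗ[A] M')
    (eN : N ≃ₗ[A] N') (eM : M ≃ₗ[A] M') (h : ∀ x, μ' (eN x) = eM (μ x)) : injLocus μ' = injLocus μ := by
  ext p
  let K := p.asIdeal.ResidueField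
  let EN := LinearEquiv.baseChange A K _ _ eN
  let EM := LinearEquiv.baseChange A K _ _ eM
  have hcomm : ∀ x, μ'.baseChange K (EN x) = EM (μ.baseChange K x) := fun x => by
    induction x using TensorProduct.induction_on with
    | zero => simp
    | add x y hx hy => simp [hx, hy]
    | tmul a m => simp [EN, EM, h]
  show Function.Injective (μ'.baseChange K) ↔ Function.Injective (μ.baseChange K)
  rw [show ⇑(μ'.baseChange K) = EM ∘ μ.baseChange K ∘ EN.symm from funext fun x => by
    simp only [Function.comp_apply, ← hcomm, LinearEquiv.apply_symm_apply]]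
  rw [EM.injective.of_comp_iff, Function.Injective.of_comp_iff' _ EN.symm.bijective]

section Family

variable {B : Type u} [CommRing B] [Algebra A B] {M : Type u} [AddCommGroup M] [Module A M] [Module B M]
  [IsScalarTower A B M] {ι : Type u} [Fintype ι]

/-- The map given by a family of ring elements. -/
abbrev fam (g : ι → B) (M : Type u) [AddCommGroup M] [Module A M] [Module B M] [IsScalarTower A B M] :
    M →ₗ[A] ι → M :=
  (LinearMap.pi fun i => g i • LinearMap.id : M →ₗ[B] ι → M).restrictScalars A

theorem mem_injLocus_fam_iff [Algebra.FiniteType A B] (g : ι → B) (p : PrimeSpectrum A) :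
    p ∈ injLocus (fam (A := A) g M) ↔
      ∀ P ∈ associatedPrimes (p.asIdeal.Fiber B) (FlatCA.fiberMod p.asIdeal B M), ¬ ∀ i, inc p.asIdeal (g i) ∈ P := by
  show Function.Injective (LinearMap.lTensor p.asIdeal.ResidueField _) ↔ _
  rw [LinearMap.lTensor_inj_iff_rTensor_inj]
  have := exists_ass_iff (M := M) p.asIdeal g
  constructor
  · intro h P hP hg
    exact this.1 ⟨P, hP, hg⟩ h
  · intro h
    by_contra hc
    obtain ⟨P, hP, hg⟩ := this.2 hc
    exact h P hP hg

theorem exists_dense [IsDomain A] [Algebra.FiniteType A B] [Module.Finite B M] (g : ι → B) :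
    ∃ a : A, a ≠ 0 ∧ ((PrimeSpectrum.basicOpen a : Set (PrimeSpectrum A)) ⊆ injLocus (fam (A := A) g M) ∨
      Disjoint (PrimeSpectrum.basicOpen a : Set (PrimeSpectrum A)) (injLocus (fam (A := A) g M))) := by
  by_cases h : (⟨⊥, Ideal.isPrime_bot⟩ : PrimeSpectrum A) ∈ injLocus (fam (A := A) g M)
  · obtain ⟨a, ha, -, H⟩ := exists_injective_rTensor (LinearMap.pi fun i => g i • LinearMap.id : M →ₗ[B] ι → M)
      (⊥ : Ideal A).ResidueField ((LinearMap.lTensor_inj_iff_rTensor_inj _ _).1 h)
    refine ⟨a, ha, Or.inl fun p hp => ?_⟩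
    exact (LinearMap.lTensor_inj_iff_rTensor_inj _ _).2
      (H _ (isUnit_iff_ne_zero.2 (mt Ideal.algebraMap_residueField_eq_zero.1 hp)))
  · rw [mem_injLocus_fam_iff] at h
    push Not at h
    obtain ⟨P, hP, hg⟩ := h
    obtain ⟨a, ha, H⟩ := exists_specialize P hP
    refine ⟨a, ha, Or.inr (Set.disjoint_left.2 fun p hp hinj => ?_)⟩
    obtain ⟨hne, hmin⟩ := H p.asIdeal hp
    obtain ⟨Q, hQ⟩ := Ideal.nonempty_minimalPrimes hne
    exact (mem_injLocus_fam_iff g p).1 hinj Q (hmin Q hQ) fun i => hQ.1.2 (Ideal.mem_map_of_mem _ (hg i))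

theorem baseChange_fam {D : Type u} [CommRing D] [Algebra A D] {B' : Type u} [CommRing B'] [Algebra D B']
    {M' : Type u} [AddCommGroup M'] [Module D M'] [Module B' M'] [IsScalarTower D B' M'] (φ : B → B')
    (e : D ⊗[A] M ≃ₗ[D] M') (he : ∀ (b : B) (m : M), e ((1 : D) ⊗ₜ (b • m)) = φ b • e ((1 : D) ⊗ₜ m)) (g : ι → B) :
    injLocus (fam (A := D) (fun i => φ (g i)) M') = PrimeSpectrum.comap (algebraMap A D) ⁻¹' injLocus (fam (A := A) g M) := by
  classical
  rw [← injLocus_baseChange]
  refine injLocus_congr _ _ e (TensorProduct.piRight A D D (fun _ : ι => M) ≪≫ₗ LinearEquiv.piCongrRight fun _ => e) fun x => ?_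
  induction x using TensorProduct.induction_on with
  | zero => simp
  | add x y hx hy => simp only [map_add, hx, hy]
  | tmul d m =>
    funext i
    rw [show (d ⊗ₜ[A] m : D ⊗[A] M) = d • ((1 : D) ⊗ₜ m) by rw [TensorProduct.smul_tmul', smul_eq_mul, mul_one]]
    simp only [map_smul, LinearMap.baseChange_tmul, LinearEquiv.trans_apply, Pi.smul_apply,
      TensorProduct.piRight_apply, TensorProduct.piRightHom_tmul, LinearEquiv.piCongrRight_apply]
    simp [he]

end Family

section Poly

variable {n k : ℕ} {ι : Type u} [Fintype ι]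

theorem isConstructible_noetherian [IsNoetherianRing A] (T : Set (Fin k → MvPolynomial (Fin n) A))
    (g : ι → MvPolynomial (Fin n) A) :
    IsConstructible (injLocus (fam (A := A) g
      ((Fin k → MvPolynomial (Fin n) A) ⧸ Submodule.span (MvPolynomial (Fin n) A) T))) := by
  refine Cons62.isConstructible_of_forall_prime fun q => ?_
  let D := A ⧸ q.asIdeal
  obtain ⟨e, he⟩ := exists_baseChange_quotient_span (R := D) T
  let M' := (Fin k → MvPolynomial (Fin n) D) ⧸ Submodule.span (MvPolynomial (Fin n) D)
    ((fun x (i : Fin k) => MvPolynomial.map (algebraMap A D) (x i)) '' T)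
  have hloc := baseChange_fam (B := MvPolynomial (Fin n) A) (B' := MvPolynomial (Fin n) D)
    (MvPolynomial.map (algebraMap A D)) e (fun b m => by
      obtain ⟨x, rfl⟩ := Submodule.Quotient.mk_surjective _ m
      rw [← Submodule.Quotient.mk_smul, he, he, ← Submodule.Quotient.mk_smul]
      congr 1
      funext i
      simp) g
  obtain ⟨a', ha', hdense⟩ := exists_dense (A := D) (B := MvPolynomial (Fin n) D) (M := M')
    (fun i => MvPolynomial.map (algebraMap A D) (g i))
  rw [hloc] at hdense
  obtain ⟨a, rfl⟩ := Ideal.Quotient.mk_surjective a'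
  refine ⟨a, fun h => ha' (Ideal.Quotient.eq_zero_iff_mem.2 h), ?_⟩
  have hZ : ∀ p ∈ PrimeSpectrum.zeroLocus (q.asIdeal : Set A) ∩ (PrimeSpectrum.basicOpen a : Set (PrimeSpectrum A)),
      ∃ p' ∈ (PrimeSpectrum.basicOpen (Ideal.Quotient.mk q.asIdeal a) : Set (PrimeSpectrum D)),
        PrimeSpectrum.comap (algebraMap A D) p' = p := by
    rintro p ⟨hpq, hpa⟩
    obtain ⟨p', hp'⟩ : p ∈ Set.range (PrimeSpectrum.comap (Ideal.Quotient.mk q.asIdeal)) := by
      rw [range_comap_of_surjective _ _ Ideal.Quotient.mk_surjective, Ideal.mk_ker]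
      exact hpq
    subst hp'
    exact ⟨p', hpa, rfl⟩
  rcases hdense with h | h
  · rw [Set.inter_eq_left.2 fun p hp => ?_]
    · exact (ConstrTop58.isConstructible_of_isClosed (PrimeSpectrum.isClosed_zeroLocus _)).inter
        (ConstrTop58.isConstructible_of_isOpen (PrimeSpectrum.basicOpen a).2)
    · obtain ⟨p', hp', rfl⟩ := hZ p hp
      exact h hp'
  · convert IsConstructible.empty (X := PrimeSpectrum A)
    refine Set.eq_empty_of_forall_notMem fun p ⟨hp, hpE⟩ => ?_
    obtain ⟨p', hp', rfl⟩ := hZ p hp
    exact Set.disjoint_left.1 h hp' hpE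

theorem isConstructible_poly (T : Finset (Fin k → MvPolynomial (Fin n) A)) (γ : ι → MvPolynomial (Fin n) A) :
    IsConstructible (injLocus (fam (A := A) γ
      ((Fin k → MvPolynomial (Fin n) A) ⧸ Submodule.span (MvPolynomial (Fin n) A) (T : Set (Fin k → MvPolynomial (Fin n) A))))) := by
  classical
  let c : Finset A := (T.biUnion fun v => Finset.univ.biUnion fun i : Fin k => (v i).coeffs) ∪
    (Finset.univ.biUnion fun i : ι => (γ i).coeffs)
  let A₀ := Algebra.adjoin ℤ (c : Set A)
  haveI : Algebra.FiniteType ℤ A₀ := (Subalgebra.fg_iff_finiteType _).mp (Subalgebra.fg_adjoin_finset _)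
  haveI : IsNoetherianRing A₀ := Algebra.FiniteType.isNoetherianRing ℤ A₀
  have hlift : ∀ p : MvPolynomial (Fin n) A, (↑p.coeffs : Set A) ⊆ c →
      ∃ p₀ : MvPolynomial (Fin n) A₀, MvPolynomial.map (algebraMap A₀ A) p₀ = p := fun p hp =>
    MvPolynomial.mem_range_map_iff_coeffs_subset.mpr fun a ha => ⟨⟨a, Algebra.subset_adjoin (hp ha)⟩, rfl⟩
  let J := fun (x : Fin k → MvPolynomial (Fin n) A₀) (i : Fin k) => MvPolynomial.map (algebraMap A₀ A) (x i)
  have hsurj : J '' (J ⁻¹' (T : Set _)) = (T : Set _) := by
    refine Set.image_preimage_eq_of_subset fun v hv => ?_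
    choose q hq using fun i => hlift (v i) fun a ha => Finset.mem_coe.2 (Finset.mem_union_left _
      (Finset.mem_biUnion.mpr ⟨v, hv, Finset.mem_biUnion.mpr ⟨i, Finset.mem_univ _, ha⟩⟩))
    exact ⟨q, funext hq⟩
  choose g₀ hg₀ using fun i => hlift (γ i) fun a ha => Finset.mem_coe.2 (Finset.mem_union_right _
      (Finset.mem_biUnion.mpr ⟨i, Finset.mem_univ _, ha⟩))
  obtain ⟨e₂, he₂⟩ := exists_baseChange_quotient_span' (R := A) _ _ hsurj
  have hloc := baseChange_fam (B := MvPolynomial (Fin n) A₀) (B' := MvPolynomial (Fin n) A)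
    (MvPolynomial.map (algebraMap A₀ A)) e₂ (fun b m => by
      obtain ⟨x, rfl⟩ := Submodule.Quotient.mk_surjective _ m
      simp only [← Submodule.Quotient.mk_smul, he₂]
      congr 1
      funext i
      simp) g₀
  have hg : (fun i => MvPolynomial.map (algebraMap A₀ A) (g₀ i)) = γ := funext hg₀
  rw [hg] at hloc
  rw [hloc]
  obtain ⟨C, hC⟩ := PrimeSpectrum.exists_constructibleSetData_iff.2
    (isConstructible_noetherian (A := A₀) (J ⁻¹' (T : Set (Fin k → MvPolynomial (Fin n) A))) g₀)
  refine PrimeSpectrum.exists_constructibleSetData_iff.1 ⟨C.map (algebraMap A₀ A), ?_⟩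
  rw [PrimeSpectrum.ConstructibleSetData.toSet_map, hC]

omit [Fintype ι] in
theorem fam_comm {P B : Type u} [CommRing P] [Algebra A P] [CommRing B] [Algebra A B] {M N : Type u} [AddCommGroup M]
    [Module A M] [Module B M] [IsScalarTower A B M] [AddCommGroup N] [Module A N] [Module P N] [IsScalarTower A P N]
    [Fintype ι] (γ : ι → P) (g : ι → B) (e : N ≃ₗ[A] M) (he : ∀ i x, e (γ i • x) = g i • e x) :
    injLocus (fam (A := A) g M) = injLocus (fam (A := A) γ N) :=
  injLocus_congr _ _ e (LinearEquiv.piCongrRight fun _ => e) fun x => funext fun i => (he i x).symm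

/-- The injectivity locus of a family acting on a finitely presented module over a finitely presented
algebra is constructible. -/
theorem isConstructible_injLocus {B : Type u} [CommRing B] [Algebra A B] [Algebra.FinitePresentation A B]
    {M : Type u} [AddCommGroup M] [Module A M] [Module B M] [IsScalarTower A B M] [Module.FinitePresentation B M]
    (g : ι → B) : IsConstructible (injLocus (fam (A := A) g M)) := by
  classical
  obtain ⟨n, π, hπ, hker⟩ := Algebra.FinitePresentation.out (R := A) (A := B)
  letI : Algebra (MvPolynomial (Fin n) A) B := π.toRingHom.toAlgebra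
  haveI : IsScalarTower A (MvPolynomial (Fin n) A) B := IsScalarTower.of_algebraMap_eq fun a => (π.commutes a).symm
  haveI : Module.FinitePresentation (MvPolynomial (Fin n) A) B :=
    Module.finitePresentation_of_surjective (Algebra.linearMap (MvPolynomial (Fin n) A) B) hπ hker
  letI : Module (MvPolynomial (Fin n) A) M := Module.compHom M π.toRingHom
  haveI : IsScalarTower (MvPolynomial (Fin n) A) B M := IsScalarTower.of_algebraMap_smul fun _ _ => rfl
  haveI : IsScalarTower A (MvPolynomial (Fin n) A) M := IsScalarTower.of_algebraMap_smul fun a m => by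
    show π (algebraMap A _ a) • m = a • m
    rw [π.commutes, algebraMap_smul]
  haveI : Module.FinitePresentation (MvPolynomial (Fin n) A) M := Module.FinitePresentation.trans _ M B
  obtain ⟨k, K, e, ⟨T, rfl⟩⟩ := Module.FinitePresentation.exists_fin (MvPolynomial (Fin n) A) M
  choose γ hγ using fun i => hπ (g i)
  rw [fam_comm γ g (e.symm.restrictScalars A) fun i x => (e.symm.map_smul (γ i) x).trans (by rw [← hγ i]; rfl)]
  exact isConstructible_poly T γ

end Poly

end Groth.Agent.FlatMor66.RelAssLocus
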