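import Groth.Agent.FlatMor68.RelAssBC
import Groth.Agent.SchBasics.Reduced
import Groth.Agent.ConsProp93.Approx

/-!
Base change and restriction of the base for the relative assassin.
-/

set_option backward.isDefEq.respectTransparency.types false
set_option linter.style.haveILetI false
set_option autoImplicit false
universe u

open CategoryTheory CategoryTheory.Limits AlgebraicGeometry TopologicalSpace TensorProduct IsLocalRing
open Groth.Agent.FlatMor68.RelAssBC

noncomputable section

namespace Groth.Agent.FlatMor66.RelAssRed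

open Groth.Agent.FlatMor68

theorem relAss_subset_iff {X S X' S' : Scheme.{u}} (f : X ⟶ S) [LocallyOfFiniteType f] (F : X.Modules) [F.IsQuasicoherent]
    (U : Set ↑X) (g : S' ⟶ S) (f' : X' ⟶ S') (g' : X' ⟶ X) (hc : IsPullback g' f' f g) (s' : S') :
    {x : ↑X | x ∈ MoreMor.relAss f F ∧ f x = g s'} ⊆ U ↔
      {x' : ↑X' | x' ∈ MoreMor.relAss f' ((Scheme.Modules.pullback g').obj F) ∧ f' x' = s'} ⊆ g' ⁻¹' U := by
  let k := Spec.map (g.residueFieldMap s')
  have hsq := isPullback_fiberToSpecResidueField_of_isPullback hc s'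
  let e : f'.fiber s' ⟶ f.fiber (g s') := pullback.map f' (S'.fromSpecResidueField s') f (S.fromSpecResidueField (g s')) g'
    (Spec.map (g.residueFieldMap s')) g hc.w.symm (by simp)
  have he : e ≫ f.fiberι (g s') = f'.fiberι s' ≫ g' := pullback.lift_fst _ _ _
  have hept : ∀ z', f.fiberι (g s') (e z') = g' (f'.fiberι s' z') := fun z' =>
    ((Scheme.Hom.comp_apply e (f.fiberι (g s')) z').symm.trans
      (congrArg (fun k : f'.fiber s' ⟶ X => k z') he)).trans (Scheme.Hom.comp_apply (f'.fiberι s') g' z')
  haveI : Flat k := by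
    rw [HasRingHomProperty.Spec_iff (P := @Flat)]
    letI := (g.residueFieldMap s').hom.toAlgebra
    exact (inferInstance : Module.Flat (S.residueField (g s')) (S'.residueField s'))
  haveI : Surjective k := ⟨fun p => ⟨IsLocalRing.closedPoint (S'.residueField s'), Subsingleton.elim (α := PrimeSpectrum _) _ _⟩⟩
  haveI : Flat e := MorphismProperty.of_isPullback hsq.flip inferInstance
  haveI : Surjective e := MorphismProperty.of_isPullback hsq.flip inferInstance
  haveI : LocallyOfFiniteType f' := MorphismProperty.of_isPullback hc inferInstance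
  haveI : LocallyOfFiniteType (f.fiberToSpecResidueField (g s')) :=
    MorphismProperty.pullback_snd _ _ inferInstance
  haveI : IsLocallyNoetherian (f.fiber (g s')) :=
    LocallyOfFiniteType.isLocallyNoetherian (f.fiberToSpecResidueField (g s'))
  haveI : LocallyOfFiniteType (f'.fiberToSpecResidueField s') :=
    MorphismProperty.pullback_snd _ _ inferInstance
  haveI : IsLocallyNoetherian (f'.fiber s') :=
    LocallyOfFiniteType.isLocallyNoetherian (f'.fiberToSpecResidueField s')
  let F' := (Scheme.Modules.pullback g').obj F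
  haveI : F'.IsQuasicoherent := QCPull72.isQuasicoherent_pullback g' F
  let G := (Scheme.Modules.pullback (f.fiberι (g s'))).obj F
  haveI : G.IsQuasicoherent := QCPull72.isQuasicoherent_pullback _ F
  let I : (Scheme.Modules.pullback (f'.fiberι s')).obj F' ≅ (Scheme.Modules.pullback e).obj G :=
    (Scheme.Modules.pullbackComp _ _).app F ≪≫ (Scheme.Modules.pullbackCongr he.symm).app F ≪≫
      ((Scheme.Modules.pullbackComp e (f.fiberι (g s'))).app F).symm
  have key : ∀ z' : f'.fiber s',
      f'.fiberι s' z' ∈ MoreMor.relAss f' F' ↔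
      IsAssociatedPrime (maximalIdeal ((f'.fiber s').presheaf.stalk z'))
        (((Scheme.Modules.pullback e).obj G).presheaf.stalk z') := fun z' =>
    (relAss_iff f' F' s' z').trans
      ⟨fun h => (LinearEquiv.AssociatedPrimes.eq (FibreFree.stalkEquivOfIso I z')).le h,
       fun h => (LinearEquiv.AssociatedPrimes.eq (FibreFree.stalkEquivOfIso I z')).symm.le h⟩
  constructor
  · rintro h x' ⟨hx', hfx'⟩
    obtain ⟨z', rfl⟩ := E4O.exists_fiberι_eq f' hfx'
    show g' (f'.fiberι s' z') ∈ U
    rw [← hept]
    refine h ⟨(relAss_iff f F (g s') (e z')).2 ?_, E4O.apply_fiberι f _ _⟩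
    obtain ⟨E⟩ := PullbackStalk.nonempty_stalkPullbackEquiv e G z'
    letI := (e.stalkMap z').hom.toAlgebra
    haveI : Module.Flat ((f.fiber (g s')).presheaf.stalk (e z')) ((f'.fiber s').presheaf.stalk z') := Flat.stalkMap e z'
    haveI : IsLocalHom (algebraMap ((f.fiber (g s')).presheaf.stalk (e z')) ((f'.fiber s').presheaf.stalk z')) :=
      e.toLRSHom.prop z'
    exact ass_of_ass_tensor ((LinearEquiv.AssociatedPrimes.eq E).le ((key z').1 hx'))
  · rintro h x ⟨hx, hfx⟩
    obtain ⟨z, rfl⟩ := E4O.exists_fiberι_eq f hfx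
    obtain ⟨a, ha⟩ := e.surjective z
    obtain ⟨b, -⟩ := E4O.exists_fiberι_eq e ha
    have : Nonempty ↥(e.fiber z) := ⟨b⟩
    obtain ⟨Z, hZ⟩ : ∃ Z, Z ∈ irreducibleComponents ↥(e.fiber z) :=
      ⟨irreducibleComponent b, irreducibleComponent_mem_irreducibleComponents _⟩
    obtain ⟨w, -, hw⟩ := E4O.exists_eq_closure_of_mem_irreducibleComponents hZ
    have hwmax := (E4O.isFibreMax_fiberι_iff e z w).2 hw
    have hez : e (e.fiberι z w) = z := E4O.apply_fiberι e z w
    set z' := e.fiberι z w
    clear_value z'
    subst hez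
    have hass := (relAss_iff f F (g s') (e z')).1 hx
    obtain ⟨E⟩ := PullbackStalk.nonempty_stalkPullbackEquiv e G z'
    letI := (e.stalkMap z').hom.toAlgebra
    haveI : Module.Flat ((f.fiber (g s')).presheaf.stalk (e z')) ((f'.fiber s').presheaf.stalk z') := Flat.stalkMap e z'
    haveI : IsLocalHom (algebraMap ((f.fiber (g s')).presheaf.stalk (e z')) ((f'.fiber s').presheaf.stalk z')) :=
      e.toLRSHom.prop z'
    have hmin : ∀ P : Ideal ((f'.fiber s').presheaf.stalk z'), P.IsPrime →
        (maximalIdeal ((f.fiber (g s')).presheaf.stalk (e z'))).map (e.stalkMap z').hom ≤ P →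
        P = maximalIdeal _ := by
      intro P hP hle
      let pt : PrimeSpectrum ((f'.fiber s').presheaf.stalk z') := ⟨P, hP⟩
      have h1 : (f'.fiber s').fromSpecStalk z' pt ⤳ z' :=
        (Set.ext_iff.1 Scheme.range_fromSpecStalk _).1 ⟨pt, rfl⟩
      have h2 : e ((f'.fiber s').fromSpecStalk z' pt) = e z' := by
        rw [← Scheme.Hom.comp_apply, ← Scheme.SpecMap_stalkMap_fromSpecStalk, Scheme.Hom.comp_apply]
        have hcl : Spec.map (e.stalkMap z') pt = IsLocalRing.closedPoint _ := by
          refine PrimeSpectrum.ext ?_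
          haveI := hP
          exact ((maximalIdeal.isMaximal _).eq_of_le (Ideal.IsPrime.ne_top inferInstance)
            (Ideal.map_le_iff_le_comap.1 hle)).symm
        rw [hcl, Scheme.fromSpecStalk_closedPoint]
      have h3 := hwmax _ h1 h2
      have h4 : pt = IsLocalRing.closedPoint _ := by
        apply ((f'.fiber s').fromSpecStalk z').isEmbedding.injective
        rw [Scheme.fromSpecStalk_closedPoint]
        exact h3
      exact congrArg PrimeSpectrum.asIdeal h4
    have h5 := (key z').2 ((LinearEquiv.AssociatedPrimes.eq E).symm.le (ass_tensor_of_ass hmin hass))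
    have h6 : g' (f'.fiberι s' z') ∈ U := h ⟨h5, E4O.apply_fiberι f' _ _⟩
    rw [← hept] at h6
    exact h6


variable {X S X' S' : Scheme.{u}} (f : X ⟶ S) [LocallyOfFiniteType f] (F : X.Modules) [F.IsQuasicoherent]
  (g : S' ⟶ S) (f' : X' ⟶ S') (g' : X' ⟶ X) (hc : IsPullback g' f' f g)

include hc in
theorem mem_relAss_of_baseChange {x' : X'} (h : x' ∈ MoreMor.relAss f' ((Scheme.Modules.pullback g').obj F)) :
    g' x' ∈ MoreMor.relAss f F := by
  have h1 := (relAss_subset_iff f F (MoreMor.relAss f F) g f' g' hc (f' x')).1 fun x hx => hx.1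
  exact h1 ⟨h, rfl⟩

include hc in
theorem exists_relAss_baseChange {x : X} (h : x ∈ MoreMor.relAss f F) {s' : S'} (hs : f x = g s') :
    ∃ x' ∈ MoreMor.relAss f' ((Scheme.Modules.pullback g').obj F), f' x' = s' ∧ g' x' = x := by
  by_contra hne
  push Not at hne
  exact (relAss_subset_iff f F {x}ᶜ g f' g' hc s').2 (fun x' hx' => hne x' hx'.1 hx'.2) ⟨h, hs⟩ rfl

/-- The reduced closure of a point, with its inclusion. -/
theorem exists_integral_closure {S : Scheme.{u}} (η : S) :
    ∃ (Z : Scheme.{u}) (ι : Z ⟶ S) (_ : IsIntegral Z) (_ : IsClosedImmersion ι),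
      Set.range ι = closure {η} ∧ ι (genericPoint Z) = η := by
  let Zc : Closeds ↑S := ⟨closure {η}, isClosed_closure⟩
  let I := Scheme.IdealSheafData.vanishingIdeal Zc
  have hr : Set.range I.subschemeι = closure {η} := by
    rw [Scheme.IdealSheafData.range_subschemeι, Scheme.IdealSheafData.coe_support_vanishingIdeal]
    rfl
  have : IsReduced I.subscheme := SchBasics.isReduced_vanishingIdeal_subscheme Zc
  obtain ⟨η', hη'⟩ := hr.ge (subset_closure rfl)
  have hgen : IsGenericPoint η' (Set.univ : Set ↥I.subscheme) := by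
    rw [isGenericPoint_iff_specializes]
    refine fun a => iff_of_true (I.subschemeι.isEmbedding.isInducing.specializes_iff.1 ?_) trivial
    rw [hη', specializes_iff_mem_closure]
    exact hr.le ⟨a, rfl⟩
  have : IrreducibleSpace ↥I.subscheme :=
    (irreducibleSpace_def _).2 (by rw [Set.top_eq_univ]; exact hgen.isIrreducible)
  have : IsIntegral I.subscheme := isIntegral_of_irreducibleSpace_of_isReduced _
  refine ⟨I.subscheme, I.subschemeι, this, inferInstance, hr, ?_⟩
  rw [(genericPoint_spec ↥I.subscheme).eq hgen]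
  exact hη'

end Groth.Agent.FlatMor66.RelAssRed
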