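import Groth.Agent.FlatMor66.RelAssRed
import Groth.Agent.FlatMor66.RelAssGen

/-!
The relative assassin over an irreducible base.
-/

set_option backward.isDefEq.respectTransparency.types false
set_option linter.style.haveILetI false
set_option autoImplicit false
universe u

open CategoryTheory CategoryTheory.Limits AlgebraicGeometry TopologicalSpace Topology

noncomputable section

namespace Groth.Agent.FlatMor66.RelAssStmt

open RelAssRed

variable {X Y : Scheme.{u}}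

/-- Open subsets of the reduced scheme of an irreducible scheme give open subsets. -/
theorem isOpen_image {Z : Scheme.{u}} [IrreducibleSpace ↑Y] (ι : Z ⟶ Y) [IsClosedImmersion ι]
    (hr : Set.range ι = closure {genericPoint ↑Y}) (V : Z.Opens) : IsOpen (ι '' (V : Set Z)) := by
  have hsurj : Set.range ι = Set.univ := by rw [hr, genericPoint_closure]
  have h : IsOpenEmbedding ι := ⟨ι.isEmbedding, by rw [hsurj]; exact isOpen_univ⟩
  exact h.isOpenMap _ V.2

theorem exists_open_relAss_subset (f : X ⟶ Y) [IrreducibleSpace ↑Y] [LocallyOfFiniteType f] [QuasiCompact f]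
    (F : X.Modules) (hF : Coh.IsCoh F) (U : X.Opens)
    (h : ∀ x ∈ MoreMor.relAss f F, f x = genericPoint ↑Y → x ∈ U) :
    ∃ V : Y.Opens, (V : Set ↑Y).Nonempty ∧ ∀ x ∈ MoreMor.relAss f F, f x ∈ V → x ∈ U := by
  haveI : F.IsQuasicoherent := hF.1
  obtain ⟨Z, ι, _, _, hr, hg⟩ := exists_integral_closure (genericPoint ↑Y)
  have hc := IsPullback.of_hasPullback f ι
  haveI : LocallyOfFiniteType (pullback.snd f ι) := MorphismProperty.pullback_snd _ _ inferInstance
  haveI : QuasiCompact (pullback.snd f ι) := MorphismProperty.pullback_snd _ _ inferInstance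
  obtain ⟨V, hV, H⟩ := RelAssGen.exists_avoid_integral (pullback.snd f ι) _ (ConsProp93.isCoh_pullback (pullback.fst f ι) hF)
    (pullback.fst f ι ⁻¹ᵁ U) fun x' hx' hfx => h _ (mem_relAss_of_baseChange f F ι _ _ hc hx') (by
      rw [← Scheme.Hom.comp_apply, hc.w, Scheme.Hom.comp_apply, hfx, hg])
  refine ⟨⟨ι '' (V : Set Z), isOpen_image ι hr V⟩, ⟨_, genericPoint Z, hV, rfl⟩, ?_⟩
  rintro x hx ⟨s', hs', hfx⟩
  obtain ⟨x', hx', rfl, rfl⟩ := exists_relAss_baseChange f F ι _ _ hc hx hfx.symm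
  exact H x' hx' hs'

theorem exists_open_relAss_not_subset (f : X ⟶ Y) [IrreducibleSpace ↑Y] [LocallyOfFiniteType f]
    (F : X.Modules) (hF : Coh.IsCoh F) (U : X.Opens)
    (h : ∃ x ∈ MoreMor.relAss f F, f x = genericPoint ↑Y ∧ x ∉ U) :
    ∃ V : Y.Opens, (V : Set ↑Y).Nonempty ∧ ∀ y ∈ V, ∃ x ∈ MoreMor.relAss f F, f x = y ∧ x ∉ U := by
  haveI : F.IsQuasicoherent := hF.1
  obtain ⟨Z, ι, _, _, hr, hg⟩ := exists_integral_closure (genericPoint ↑Y)
  have hc := IsPullback.of_hasPullback f ι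
  haveI : LocallyOfFiniteType (pullback.snd f ι) := MorphismProperty.pullback_snd _ _ inferInstance
  obtain ⟨ξ, hξ, hfξ, hξU⟩ := h
  obtain ⟨ξ', hξ', hfξ', rfl⟩ := exists_relAss_baseChange f F ι _ _ hc hξ (hfξ.trans hg.symm)
  obtain ⟨-, O, -, hO, H, -⟩ := RelAssGen.exists_specialize_integral (pullback.snd f ι) _
    (ConsProp93.isCoh_pullback (pullback.fst f ι) hF) ξ' hξ' hfξ'
  refine ⟨⟨ι '' (O : Set Z), isOpen_image ι hr O⟩, ⟨_, genericPoint Z, hO, rfl⟩, ?_⟩
  rintro _ ⟨s', hs', rfl⟩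
  obtain ⟨x', hx', rfl, hsp⟩ := H s' hs'
  refine ⟨_, mem_relAss_of_baseChange f F ι _ _ hc hx', ?_, fun hxU => hξU ?_⟩
  · rw [← Scheme.Hom.comp_apply, hc.w, Scheme.Hom.comp_apply]
  · exact (hsp.map (pullback.fst f ι).continuous).mem_open U.2 hxU

theorem exists_generic_points_relAss {S : Scheme.{u}} (f : X ⟶ S) [LocallyOfFiniteType f]
    (F : X.Modules) (hF : Coh.IsCoh F) (ξ : X) (hξ : ξ ∈ MoreMor.relAss f F) :
    ∃ V : Set ↑X, V ⊆ closure {ξ} ∧ IsOpen (Subtype.val ⁻¹' V : Set ↑(closure ({ξ} : Set ↑X))) ∧ V.Nonempty ∧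
      ∀ (x : X) (hx : x ∈ V), (∃ C ∈ irreducibleComponents ↑(V ∩ f ⁻¹' {f x}), IsGenericPoint (⟨x, hx, rfl⟩ : ↑(V ∩ f ⁻¹' {f x})) C) →
        x ∈ MoreMor.relAss f F := by
  haveI : F.IsQuasicoherent := hF.1
  obtain ⟨Z, ι, _, _, hr, hg⟩ := exists_integral_closure (f ξ)
  have hc := IsPullback.of_hasPullback f ι
  let g' := pullback.fst f ι
  let f' := pullback.snd f ι
  haveI : LocallyOfFiniteType f' := MorphismProperty.pullback_snd _ _ inferInstance
  haveI : IsClosedImmersion g' := MorphismProperty.pullback_fst _ _ inferInstance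
  obtain ⟨ξ', hξ', hfξ', hg'ξ⟩ := exists_relAss_baseChange f F ι _ _ hc hξ hg.symm
  obtain ⟨V₀, O, hξV, hO, -, H⟩ := RelAssGen.exists_specialize_integral f' _
    (ConsProp93.isCoh_pullback g' hF) ξ' hξ' hfξ'
  let V' : Set ↑(pullback f ι) := (V₀ : Set _) ∩ f' ⁻¹' O ∩ closure {ξ'}
  have hcl : closure {ξ} = g' '' closure {ξ'} := by
    rw [← g'.isClosedEmbedding.closure_image_eq, Set.image_singleton, hg'ξ]
  refine ⟨g' '' V', fun x hx => hcl ▸ Set.image_mono Set.inter_subset_right hx, ?_, ?_, ?_⟩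
  · obtain ⟨T, hT, hTV⟩ := g'.isEmbedding.isInducing.isOpen_iff.1 (V₀.2.inter (O.2.preimage f'.continuous))
    refine isOpen_induced_iff.2 ⟨T, hT, Set.ext fun a => ?_⟩
    obtain ⟨b, hb, hab⟩ := hcl.le a.2
    simp only [Set.mem_preimage, ← hab, g'.isEmbedding.injective.mem_set_image]
    show g' b ∈ T ↔ b ∈ V'
    rw [show g' b ∈ T ↔ b ∈ (V₀ : Set _) ∩ f' ⁻¹' O from Set.ext_iff.1 hTV b]
    exact ⟨fun h => ⟨h, hb⟩, fun h => h.1⟩
  · exact ⟨_, ξ', ⟨⟨hξV, show f' ξ' ∈ O by rw [hfξ']; exact hO⟩, subset_closure rfl⟩, rfl⟩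
  · rintro _ ⟨x', hx', rfl⟩ ⟨C, hC, hgen⟩
    refine mem_relAss_of_baseChange f F ι _ _ hc (H x' hx'.1.1 hx'.1.2 (specializes_iff_mem_closure.2 hx'.2) ?_)
    intro w hwV hfw hξw hwx
    have hwmem : w ∈ V' := ⟨⟨hwV, show f' w ∈ O by rw [hfw]; exact hx'.1.2⟩, specializes_iff_mem_closure.1 hξw⟩
    have hff : f (g' w) = f (g' x') := by
      rw [← Scheme.Hom.comp_apply, ← Scheme.Hom.comp_apply, hc.w, Scheme.Hom.comp_apply, Scheme.Hom.comp_apply, hfw]
    let b : ↑(g' '' V' ∩ f ⁻¹' {f (g' x')}) := ⟨g' w, ⟨w, hwmem, rfl⟩, hff⟩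
    let a : ↑(g' '' V' ∩ f ⁻¹' {f (g' x')}) := ⟨g' x', ⟨x', hx', rfl⟩, rfl⟩
    have hba : b ⤳ a := (subtype_specializes_iff _ _).2 (hwx.map g'.continuous)
    have hb : b ∈ C := by
      have hle : C ⊆ closure {b} := by
        rw [← hgen.def]
        exact isClosed_closure.closure_subset_iff.2 (Set.singleton_subset_iff.2 (specializes_iff_mem_closure.1 hba))
      exact hC.2 isIrreducible_singleton.closure hle (subset_closure rfl)
    have hab : a ⤳ b := hgen.specializes hb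
    exact g'.isEmbedding.injective
      ((((subtype_specializes_iff _ _).1 hba).antisymm ((subtype_specializes_iff _ _).1 hab)).eq)

end Groth.Agent.FlatMor66.RelAssStmt
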