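import Groth.Agent.FlatMor66.SliceScheme
import Groth.Agent.SpPts86.CMSeq
import Groth.Agent.SpFP87.OverField
import Groth.Agent.FlatMor68.CMComp
import Groth.Prelude.Def_MoreMor
import Mathlib.AlgebraicGeometry.ZariskisMainTheorem

/-!
Slicing a Cohen–Macaulay morphism to a quasi-finite one.
-/

set_option autoImplicit false
set_option linter.unusedVariables false
set_option linter.style.haveILetI false
set_option backward.isDefEq.respectTransparency.types false
universe u

open AlgebraicGeometry CategoryTheory Limits IsLocalRing RingTheory.Sequence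

noncomputable section

namespace Groth.Agent.FlatMor66

/-- Primes containing a sequence with zero-dimensional quotient are maximal. -/
theorem eq_maximalIdeal_of_supportDim_quotient {A : Type u} [CommRing A] [IsLocalRing A] (J : Ideal A)
    (h : Module.supportDim A (A ⧸ (J • (⊤ : Submodule A A))) = 0) (P : Ideal A) [hP : P.IsPrime] (hJ : J ≤ P) :
    P = maximalIdeal A := by
  rw [Module.supportDim_eq_of_equiv (Submodule.quotEquivOfEq _ J (by rw [smul_eq_mul, Ideal.mul_top])),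
    Module.supportDim_quotient_eq_ringKrullDim] at h
  haveI : Ring.KrullDimLE 0 (A ⧸ J) := Ring.krullDimLE_iff.mpr (by rw [h]; rfl)
  haveI : (P.map (Ideal.Quotient.mk J)).IsPrime :=
    Ideal.map_isPrime_of_surjective Ideal.Quotient.mk_surjective (by rwa [Ideal.mk_ker])
  haveI : (P.map (Ideal.Quotient.mk J)).IsMaximal := ‹(P.map (Ideal.Quotient.mk J)).IsPrime›.isMaximal'
  have := Ideal.comap_isMaximal_of_surjective (Ideal.Quotient.mk J) (K := P.map (Ideal.Quotient.mk J))
    Ideal.Quotient.mk_surjective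
  rw [Ideal.comap_map_of_surjective _ Ideal.Quotient.mk_surjective, ← RingHom.ker_eq_comap_bot, Ideal.mk_ker,
    sup_eq_left.mpr hJ] at this
  exact (IsLocalRing.eq_maximalIdeal this)

variable {X S : Scheme.{u}} (f : X ⟶ S)

/-- A zero scheme on a smaller basic open. -/
theorem slice_restrict [LocallyOfFinitePresentation f] {V : S.Opens} (hV : IsAffineOpen V) {U : X.Opens}
    (hU : IsAffineOpen U) (e : U ≤ f ⁻¹ᵁ V) (hs' : List Γ(X, U))
    (h : letI := (f.appLE V U e).hom.toAlgebra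
      ((MvPolynomial.aeval hs'.get : MvPolynomial (Fin hs'.length) Γ(S, V) →ₐ[Γ(S, V)] Γ(X, U)).toRingHom).Flat)
    (g : Γ(X, U)) :
    letI := (f.appLE V (X.basicOpen g) ((X.basicOpen_le g).trans e)).hom.toAlgebra
    ((MvPolynomial.aeval (hs'.map (X.presheaf.map (homOfLE (X.basicOpen_le g)).op).hom).get :
      MvPolynomial (Fin (hs'.map (X.presheaf.map (homOfLE (X.basicOpen_le g)).op).hom).length) Γ(S, V) →ₐ[Γ(S, V)]
        Γ(X, X.basicOpen g)).toRingHom).Flat := by
  letI : Algebra Γ(S, V) Γ(X, U) := (f.appLE V U e).hom.toAlgebra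
  letI : Algebra Γ(S, V) Γ(X, X.basicOpen g) :=
    (f.appLE V (X.basicOpen g) ((X.basicOpen_le g).trans e)).hom.toAlgebra
  letI : Algebra Γ(X, U) Γ(X, X.basicOpen g) := (X.presheaf.map (homOfLE (X.basicOpen_le g)).op).hom.toAlgebra
  haveI : IsScalarTower Γ(S, V) Γ(X, U) Γ(X, X.basicOpen g) := .of_algebraMap_eq fun r => by
    show (f.appLE V (X.basicOpen g) _).hom r = (X.presheaf.map _).hom ((f.appLE V U e).hom r)
    rw [← ConcreteCategory.comp_apply, Scheme.Hom.appLE_map]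
  haveI : IsLocalization.Away g Γ(X, X.basicOpen g) := hU.isLocalization_basicOpen g
  haveI : Module.Flat Γ(X, U) Γ(X, X.basicOpen g) := IsLocalization.flat _ (Submonoid.powers g)
  set ρ := (X.presheaf.map (homOfLE (X.basicOpen_le g)).op).hom
  let σ := MvPolynomial.renameEquiv Γ(S, V) (finCongr (List.length_map (as := hs') ρ))
  have key : (MvPolynomial.aeval (hs'.map ρ).get :
      MvPolynomial _ Γ(S, V) →ₐ[Γ(S, V)] Γ(X, X.basicOpen g)) =
        ((IsScalarTower.toAlgHom Γ(S, V) Γ(X, U) Γ(X, X.basicOpen g)).comp (MvPolynomial.aeval hs'.get)).comp σ.toAlgHom :=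
    MvPolynomial.algHom_ext fun i => by simp [σ, ρ]; rfl
  rw [key]
  exact RingHom.Flat.comp (RingHom.Flat.of_bijective (f := σ.toRingEquiv.toRingHom) σ.bijective)
    (RingHom.Flat.comp h (RingHom.flat_algebraMap_iff.mpr inferInstance))

theorem fromSpec_injective {U : X.Opens} (hU : IsAffineOpen U) : Function.Injective hU.fromSpec :=
  hU.fromSpec.isOpenEmbedding.injective

/-- **Slicing to a quasi-finite morphism.** -/
theorem exists_quasiFinite_slice [LocallyOfFinitePresentation f] (x : X) (hcm : MoreMor.IsCMAt f x)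
    (hcl : IsClosed ({f.asFiber x} : Set ↑(f.fiber (f x)))) :
    ∃ (V : X.Opens) (Z : Scheme.{u}) (i : Z ⟶ (V : Scheme.{u})), Mor2.IsRegularClosedImmersion i ∧ x ∈ Set.range ⇑(i ≫ V.ι) ∧
      Flat (i ≫ V.ι ≫ f) ∧ LocallyOfFinitePresentation (i ≫ V.ι ≫ f) ∧ LocallyQuasiFinite (i ≫ V.ι ≫ f) ∧
      ∀ z : Z, f (V.ι (i z)) = f x → V.ι (i z) = x := by
  let J := (maximalIdeal (S.presheaf.stalk (f x))).map (f.stalkMap x).hom
  let A := X.presheaf.stalk x ⧸ J
  haveI hCM : LocCoh.IsCohenMacaulayLocalRing A := (FlatMor68.CMComp.cm_fibre_iff f x).1 hcm.2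
  obtain ⟨n, hn⟩ := EGA4Alg4.exists_supportDim_eq (A := A) (M := A)
  obtain ⟨os, hos, hreg, hdim⟩ := SpPts86.exists_regularSeq_of_radical (RingHom.id A) (maximalIdeal A)
    (by rw [Ideal.map_id]; exact Ideal.le_radical) (fun o ho => ho) n hCM.supportDim_eq_depth hn
  simp only [RingHom.coe_id, List.map_id] at hreg hdim
  let hs : List (X.presheaf.stalk x) := os.map (Function.surjInv (Ideal.Quotient.mk_surjective (I := J)))
  have hhs : hs.map (Ideal.Quotient.mk J) = os := by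
    rw [List.map_map]
    exact (List.map_congr_left fun a _ => Function.surjInv_eq _ a).trans (List.map_id os)
  have hregA : IsRegular A os := ⟨hreg, fun h => (maximalIdeal.isMaximal A).ne_top (top_le_iff.mp (by
    rw [smul_eq_mul, Ideal.mul_top] at h
    rw [h]
    exact Ideal.span_le.mpr hos))⟩
  obtain ⟨V₀, hV₀, U, hU, hx, e, hs', hgerm, hpoly⟩ := exists_slice f x hcm.1 hs
    (mem_maximalIdeal_of_isRegular J hs (by rw [hhs]; exact hregA)) (by rw [hhs]; exact hreg)
  obtain ⟨-, hfl, hfp⟩ := slice_props f hV₀ hU e hs' hpoly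
  set q : Spec (CommRingCat.of (Γ(X, U) ⧸ Ideal.ofList hs')) ⟶ Spec Γ(X, U) :=
    Spec.map (CommRingCat.ofHom (Ideal.Quotient.mk (Ideal.ofList hs'))) with hq
  haveI : IsClosedImmersion q := IsClosedImmersion.spec_of_surjective _ Ideal.Quotient.mk_surjective
  set h₁ := q ≫ hU.fromSpec ≫ f with hh₁
  haveI := hfp
  have hrange : ∀ y : Spec Γ(X, U), y ∈ Set.range q ↔ Ideal.ofList hs' ≤ y.asIdeal := fun y => by
    show y ∈ Set.range (PrimeSpectrum.comap (Ideal.Quotient.mk (Ideal.ofList hs'))) ↔ _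
    rw [range_comap_of_surjective _ _ Ideal.Quotient.mk_surjective, Ideal.mk_ker]
    exact Iff.rfl
  -- only `x` generalizes to `x` in the zero locus of the fibre
  have hgen : ∀ a : X, a ∈ Set.range (q ≫ hU.fromSpec) → a ⤳ x → f a = f x → a = x := by
    rintro _ ⟨w, rfl⟩ hspec hfa
    obtain ⟨P, hP⟩ := show (q ≫ hU.fromSpec) w ∈ Set.range (X.fromSpecStalk x) by
      rw [Scheme.range_fromSpecStalk]
      exact hspec
    have hcomap : P.asIdeal.comap (f.stalkMap x).hom = maximalIdeal (S.presheaf.stalk (f x)) := by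
      have h1 : S.fromSpecStalk (f x) (Spec.map (f.stalkMap x) P) = f x := by
        rw [← Scheme.Hom.comp_apply, Scheme.SpecMap_stalkMap_fromSpecStalk, Scheme.Hom.comp_apply, hP, hfa]
      have h2 : Spec.map (f.stalkMap x) P = closedPoint (S.presheaf.stalk (f x)) := by
        apply (S.fromSpecStalk (f x)).isEmbedding.injective
        rw [h1, Scheme.fromSpecStalk_closedPoint]
      exact congrArg PrimeSpectrum.asIdeal h2
    have hJP : J ≤ P.asIdeal := Ideal.map_le_iff_le_comap.mpr hcomap.ge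
    have hw : Spec.map (X.presheaf.germ U x hx) P = q w := by
      apply fromSpec_injective hU
      rw [← hU.fromSpecStalk_eq_fromSpecStalk hx] at hP
      rw [← Scheme.Hom.comp_apply, ← Scheme.Hom.comp_apply q]
      exact hP
    have hsP : Ideal.ofList hs ≤ P.asIdeal := by
      rw [← hgerm, ← Ideal.map_ofList, Ideal.map_le_iff_le_comap]
      exact ((hrange (q w)).mp ⟨w, rfl⟩).trans (congrArg PrimeSpectrum.asIdeal hw).ge
    haveI : (P.asIdeal.map (Ideal.Quotient.mk J)).IsPrime :=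
      Ideal.map_isPrime_of_surjective Ideal.Quotient.mk_surjective (by rwa [Ideal.mk_ker])
    have hmax := eq_maximalIdeal_of_supportDim_quotient (Ideal.ofList os) ((List.map_id os) ▸ hdim) (P.asIdeal.map (Ideal.Quotient.mk J))
      (by rw [← hhs, ← Ideal.map_ofList]; exact Ideal.map_mono hsP)
    have hPmax : P = closedPoint (X.presheaf.stalk x) := by
      refine PrimeSpectrum.ext ?_
      have := congrArg (Ideal.comap (Ideal.Quotient.mk J)) hmax
      rw [Ideal.comap_map_of_surjective _ Ideal.Quotient.mk_surjective, ← RingHom.ker_eq_comap_bot, Ideal.mk_ker,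
        sup_eq_left.mpr hJP] at this
      rw [this]
      exact IsLocalRing.eq_maximalIdeal (Ideal.comap_isMaximal_of_surjective _ Ideal.Quotient.mk_surjective)
    rw [← hP, hPmax, Scheme.fromSpecStalk_closedPoint]
  -- the point of the slice over `x`
  obtain ⟨z₀, hz₀⟩ : hU.primeIdealOf ⟨x, hx⟩ ∈ Set.range q := by
    refine (hrange _).mpr (Ideal.span_le.mpr fun a ha => ?_)
    letI := TopCat.Presheaf.algebra_section_stalk X.presheaf ⟨x, hx⟩
    haveI : IsLocalization.AtPrime (X.presheaf.stalk x) (hU.primeIdealOf ⟨x, hx⟩).asIdeal :=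
      hU.isLocalization_stalk ⟨x, hx⟩
    refine (IsLocalization.AtPrime.to_map_mem_maximal_iff (X.presheaf.stalk x) _ a).mp
      (mem_maximalIdeal_of_isRegular J hs (by rw [hhs]; exact hregA) _ ?_)
    rw [← hgerm]
    exact List.mem_map_of_mem ha
  have hεz₀ : hU.fromSpec (q z₀) = x := (congrArg hU.fromSpec hz₀).trans (hU.fromSpec_primeIdealOf ⟨x, hx⟩)
  have hh₁z₀ : h₁ z₀ = f x := by rw [hh₁, Scheme.Hom.comp_apply, Scheme.Hom.comp_apply, hεz₀]
  have hF : ∀ v, f ((q ≫ hU.fromSpec) v) = h₁ v := fun v => by simp only [hh₁, Scheme.Hom.comp_apply]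
  haveI : LocallyOfFiniteType (h₁.fiberToSpecResidueField (h₁ z₀)) := MorphismProperty.pullback_snd _ _ inferInstance
  haveI : IsLocallyNoetherian (h₁.fiber (h₁ z₀)) :=
    LocallyOfFiniteType.isLocallyNoetherian (h₁.fiberToSpecResidueField (h₁ z₀))
  have hinj : Function.Injective ⇑(q ≫ hU.fromSpec) := fun a b hab =>
    q.isClosedEmbedding.injective (fromSpec_injective hU hab)
  have hfibmem : ∀ w : h₁.fiber (h₁ z₀), h₁ (h₁.fiberι _ w) = h₁ z₀ := fun w => by
    rw [← Scheme.Hom.comp_apply, Scheme.Hom.fiber_fac, Scheme.Hom.comp_apply, Scheme.fromSpecResidueField_apply]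
  have hclosed : IsClosed ({h₁.asFiber z₀} : Set ↑(h₁.fiber (h₁ z₀))) := by
    have hx' : IsClosed ({h | f.fiberι (f x) h = x} : Set ↑(f.fiber (f x))) := by
      convert hcl using 1
      ext h
      refine ⟨fun hh => (f.fiberι _).isEmbedding.injective (hh.trans (f.fiberι_asFiber x).symm), fun hh => ?_⟩
      show f.fiberι (f x) h = x
      rw [hh]
      exact f.fiberι_asFiber x
    obtain ⟨c, hc, hce⟩ := (f.fiberι (f x)).isEmbedding.toIsInducing.isClosed_iff.mp hx'
    have : ({h₁.asFiber z₀} : Set ↑(h₁.fiber (h₁ z₀))) =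
        (fun w => (q ≫ hU.fromSpec) (h₁.fiberι _ w)) ⁻¹' c := by
      ext w
      refine ⟨fun hw => ?_, fun hw => ?_⟩
      · obtain rfl := hw
        show (q ≫ hU.fromSpec) (h₁.fiberι _ (h₁.asFiber z₀)) ∈ c
        rw [h₁.fiberι_asFiber, Scheme.Hom.comp_apply, hεz₀]
        have h0 : f.asFiber x ∈ f.fiberι (f x) ⁻¹' c := hce.symm ▸ f.fiberι_asFiber x
        rwa [Set.mem_preimage, f.fiberι_asFiber] at h0
      · have hfy : f ((q ≫ hU.fromSpec) (h₁.fiberι _ w)) = f x := by
          exact (hF _).trans ((hfibmem w).trans hh₁z₀)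
        obtain ⟨y, hy⟩ := (f.range_fiberι (f x)).symm.subset hfy
        have : y ∈ f.fiberι (f x) ⁻¹' c := show _ ∈ c from hy.symm ▸ hw
        rw [hce] at this
        apply (h₁.fiberι _).isEmbedding.injective
        apply hinj
        rw [← hy, this, h₁.fiberι_asFiber, Scheme.Hom.comp_apply, hεz₀]
    rw [this]
    exact hc.preimage ((q ≫ hU.fromSpec).continuous.comp (h₁.fiberι _).continuous)
  have hiso : IsOpen ({h₁.asFiber z₀} : Set ↑(h₁.fiber (h₁ z₀))) := by
    refine SpFP87.isOpen_singleton_of_closed_minimal _ hclosed fun w hw => ?_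
    apply (h₁.fiberι _).isEmbedding.injective
    apply hinj
    rw [h₁.fiberι_asFiber, Scheme.Hom.comp_apply q hU.fromSpec z₀, hεz₀]
    refine hgen _ ⟨_, rfl⟩ ?_ ?_
    · have := (hw.map (h₁.fiberι _).continuous).map (q ≫ hU.fromSpec).continuous
      rwa [h₁.fiberι_asFiber, Scheme.Hom.comp_apply q hU.fromSpec z₀, hεz₀] at this
    · exact (hF _).trans ((hfibmem w).trans hh₁z₀)
  obtain ⟨O, hO, hOeq⟩ := (h₁.fiberι (h₁ z₀)).isEmbedding.toIsInducing.isOpen_iff.mp hiso
  have hqf : z₀ ∈ h₁.quasiFiniteLocus := Scheme.Hom.quasiFiniteAt_iff_isOpen_singleton_asFiber.mpr hiso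
  have hz₀O : z₀ ∈ O := by
    have : h₁.asFiber z₀ ∈ h₁.fiberι (h₁ z₀) ⁻¹' O := hOeq.symm ▸ rfl
    rwa [Set.mem_preimage, h₁.fiberι_asFiber] at this
  obtain ⟨_, ⟨_, ⟨gb, rfl⟩, rfl⟩, hz₀g, hgO⟩ := PrimeSpectrum.isBasis_basic_opens.exists_subset_of_mem_open
    (show z₀ ∈ (h₁.quasiFiniteLocus : Set _) ∩ O from ⟨hqf, hz₀O⟩) (h₁.quasiFiniteLocus.2.inter hO)
  obtain ⟨g, rfl⟩ := Ideal.Quotient.mk_surjective gb
  have hle : X.basicOpen g ≤ U := X.basicOpen_le g
  let U' := X.basicOpen g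
  have hU' : IsAffineOpen U' := hU.basicOpen g
  haveI : IsAffine U' := hU'
  let ρ : Γ(X, U) ⟶ Γ(X, U') := X.presheaf.map (homOfLE hle).op
  let hs'' := hs'.map ρ.hom
  obtain ⟨hwr', hfl', hfp'⟩ := slice_props f hV₀ hU' (hle.trans e) hs'' (slice_restrict f hV₀ hU e hs' hpoly g)
  set q' : Spec (CommRingCat.of (Γ(X, U') ⧸ Ideal.ofList hs'')) ⟶ Spec Γ(X, U') :=
    Spec.map (CommRingCat.ofHom (Ideal.Quotient.mk (Ideal.ofList hs''))) with hq'
  haveI : IsClosedImmersion q' := IsClosedImmersion.spec_of_surjective _ Ideal.Quotient.mk_surjective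
  let bq : CommRingCat.of (Γ(X, U) ⧸ Ideal.ofList hs') ⟶ CommRingCat.of (Γ(X, U') ⧸ Ideal.ofList hs'') :=
    CommRingCat.ofHom (Ideal.quotientMap _ ρ.hom
      (Ideal.map_le_iff_le_comap.mp (Ideal.map_ofList ρ.hom hs').le))
  have sq : IsPullback (Spec.map bq) q' q (Spec.map ρ) :=
    isPullback_SpecMap_of_isPushout _ _ _ _
      (isPushout_quotient_eq ρ (Ideal.ofList hs') (Ideal.ofList hs'') (Ideal.map_ofList ρ.hom hs'))
  have hρ : Spec.map ρ ≫ hU.fromSpec = hU'.fromSpec := hU.map_fromSpec hU' _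
  haveI : IsOpenImmersion (Spec.map ρ) := by
    haveI : IsOpenImmersion (Spec.map ρ ≫ hU.fromSpec) := by rw [hρ]; infer_instance
    exact IsOpenImmersion.of_comp _ hU.fromSpec
  haveI : IsOpenImmersion (Spec.map bq) := MorphismProperty.of_isPullback sq.flip inferInstance
  have hk : q' ≫ hU'.fromSpec = Spec.map bq ≫ q ≫ hU.fromSpec := by
    rw [← hρ, ← Category.assoc, ← sq.w, Category.assoc]
  have hmemk : ∀ w, Spec.map bq w ∈ (h₁.quasiFiniteLocus : Set _) ∩ O := fun w => hgO (by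
    have hw : hU.fromSpec (q (Spec.map bq w)) ∈ X.basicOpen g := by
      rw [← Scheme.Hom.comp_apply, ← Scheme.Hom.comp_apply, ← hk, Scheme.Hom.comp_apply]
      exact hU'.range_fromSpec.subset ⟨_, rfl⟩
    have hw' : q (Spec.map bq w) ∈ hU.fromSpec ⁻¹ᵁ X.basicOpen g := hw
    rw [hU.fromSpec_preimage_basicOpen] at hw'
    exact hw')
  have hxU' : x ∈ U' := by
    have h := show z₀ ∈ q ⁻¹ᵁ hU.fromSpec ⁻¹ᵁ X.basicOpen g by
      rw [hU.fromSpec_preimage_basicOpen]
      exact hz₀g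
    exact (show hU.fromSpec (q z₀) = x from hεz₀) ▸ h
  let i := q' ≫ hU'.isoSpec.inv
  have hi : i ≫ U'.ι = q' ≫ hU'.fromSpec := by simp only [i, Category.assoc, hU'.isoSpec_inv_ι]
  refine ⟨U', _, i, ⟨inferInstance, fun z => exists_regular_chart i hs'' hU'.isoSpec.inv (𝟙 _)
    (IsPullback.of_horiz_isIso ⟨by simp [i, q']⟩) hwr' z (hU'.isoSpec.inv.homeomorph.surjective _)⟩, ?_, ?_, ?_, ?_, ?_⟩
  · obtain ⟨y, hy⟩ : hU'.primeIdealOf ⟨x, hxU'⟩ ∈ Set.range q' := by
      obtain ⟨w, hw, -⟩ := Scheme.exists_preimage_of_isPullback sq z₀ (hU'.primeIdealOf ⟨x, hxU'⟩) (by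
        apply fromSpec_injective hU
        rw [← Scheme.Hom.comp_apply (Spec.map ρ), hρ, hU'.fromSpec_primeIdealOf, hεz₀])
      refine ⟨w, ?_⟩
      apply (Spec.map ρ).isOpenEmbedding.injective
      rw [← Scheme.Hom.comp_apply, ← sq.w, Scheme.Hom.comp_apply, hw]
      apply fromSpec_injective hU
      rw [← Scheme.Hom.comp_apply (Spec.map ρ), hρ, hU'.fromSpec_primeIdealOf, hεz₀]
    refine ⟨y, ?_⟩
    rw [hi, Scheme.Hom.comp_apply, hy, hU'.fromSpec_primeIdealOf]
  · rw [reassoc_of% hi]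
    exact hfl'
  · rw [reassoc_of% hi]
    exact hfp'
  · rw [reassoc_of% hi, reassoc_of% hk, ← Scheme.Hom.quasiFiniteLocus_eq_top_iff, Scheme.Hom.quasiFiniteLocus_comp]
    exact top_le_iff.mp fun w _ => (hmemk w).1
  · intro z hz
    have e1 : U'.ι (i z) = (q ≫ hU.fromSpec) (Spec.map bq z) := by
      rw [← Scheme.Hom.comp_apply, hi, hk, Scheme.Hom.comp_apply]
    have e2 : h₁ (Spec.map bq z) = h₁ z₀ := by
      rw [hh₁z₀, ← hz, e1, hF]
    obtain ⟨y, hy⟩ := (h₁.range_fiberι (h₁ z₀)).symm.subset e2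
    have : y ∈ h₁.fiberι (h₁ z₀) ⁻¹' O := show _ ∈ O from hy.symm ▸ (hmemk z).2
    rw [hOeq] at this
    rw [e1, ← hy, show y = h₁.asFiber z₀ from this, h₁.fiberι_asFiber, Scheme.Hom.comp_apply, hεz₀]

end Groth.Agent.FlatMor66
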