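import Groth.Agent.FlatMor66.SliceAlg
import Groth.Agent.FlatMor66.FibCritScheme
import Groth.Agent.FlatMor66.Deform
import Groth.Agent.SpPts86.SliceFlat
import Groth.Prelude.Def_Mor2

/-!
Slicing a flat morphism by a sequence which is regular in the fibre: schemes.
-/

set_option autoImplicit false
set_option linter.style.haveILetI false
set_option backward.isDefEq.respectTransparency.types false
universe u

open AlgebraicGeometry CategoryTheory Limits IsLocalRing RingTheory.Sequence TensorProduct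

noncomputable section

namespace Groth.Agent.FlatMor66

/-- A weakly regular sequence transported along a ring isomorphism. -/
theorem isWeaklyRegular_map_ringEquiv {A B : Type u} [CommRing A] [CommRing B] (e : A ≃+* B) (rs : List A) :
    IsWeaklyRegular A rs ↔ IsWeaklyRegular B (rs.map e) :=
  e.toAddEquiv.isWeaklyRegular_congr (List.forall₂_map_right_iff.mpr <|
    List.forall₂_same.mpr fun r _ x => map_mul e r x)

/-- A chart for a regular closed immersion. -/
theorem exists_regular_chart {P Z : Scheme.{u}} {A : CommRingCat.{u}} (i : P ⟶ Z) [IsClosedImmersion i]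
    (rs : List A) (j : Spec A ⟶ Z) [IsOpenImmersion j] (k : Spec (CommRingCat.of (A ⧸ Ideal.ofList rs)) ⟶ P)
    (sq : IsPullback k (Spec.map (CommRingCat.ofHom (Ideal.Quotient.mk (Ideal.ofList rs)))) i j)
    (hrs : IsWeaklyRegular A rs) (z : P) (hz : i z ∈ Set.range j) :
    ∃ (W : Z.Opens) (hW : IsAffineOpen W), i z ∈ W ∧
      ∃ rs' : List Γ(Z, W), IsRegular Γ(Z, W) rs' ∧ i.ker.ideal ⟨W, hW⟩ = Ideal.ofList rs' := by
  obtain ⟨y, hy⟩ := hz
  have hne : Ideal.ofList rs ≠ ⊤ := by
    intro htop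
    obtain ⟨q, -, -⟩ := Scheme.exists_preimage_of_isPullback sq z y hy.symm
    haveI : Subsingleton (A ⧸ Ideal.ofList rs) := Ideal.Quotient.subsingleton_iff.mpr htop
    haveI := PrimeSpectrum.isEmpty_iff_subsingleton.mpr this
    exact IsEmpty.false (α := PrimeSpectrum (A ⧸ Ideal.ofList rs)) q
  let W : Z.Opens := j ''ᵁ ⊤
  have hW : IsAffineOpen W := (isAffineOpen_top (Spec A)).image_of_isOpenImmersion j
  refine ⟨W, hW, ⟨y, trivial, hy⟩, ?_⟩
  let q : A ⟶ CommRingCat.of (A ⧸ Ideal.ofList rs) := CommRingCat.ofHom (Ideal.Quotient.mk (Ideal.ofList rs))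
  let σ : A ⟶ Γ(Z, W) := (Scheme.ΓSpecIso A).inv ≫ (j.appIso ⊤).inv
  haveI : IsIso σ := by
    simp only [σ]
    infer_instance
  let e : A ≃+* Γ(Z, W) := (asIso σ).commRingCatIsoToRingEquiv
  have hmap : (Ideal.ofList rs).map e.toRingHom = Ideal.ofList (rs.map e) := Ideal.map_ofList e.toRingHom rs
  refine ⟨rs.map e, ⟨(isWeaklyRegular_map_ringEquiv e rs).mp hrs, fun h => hne ?_⟩, ?_⟩
  · rw [smul_eq_mul, Ideal.mul_top, ← hmap] at h
    have h1 := congrArg (Ideal.comap e.toRingHom) h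
    rw [Ideal.comap_top, Ideal.comap_map_of_bijective e.toRingHom e.bijective] at h1
    exact h1.symm
  · have h1 : (Spec.map q).ker = i.ker.comap j := ker_isPullback_eq_comap sq.flip
    have h2 := congrArg (fun J => Scheme.IdealSheafData.ideal J ⟨⊤, isAffineOpen_top (Spec A)⟩) h1
    simp only at h2
    rw [MP99.ideal_comap _ j ⟨W, hW⟩ ⟨⊤, isAffineOpen_top (Spec A)⟩ (j.preimage_image_eq ⊤).ge,
      ← Scheme.Hom.appIso_hom', Scheme.Hom.ker_apply] at h2
    have h3 : RingHom.ker ((Spec.map q).app ⊤).hom = (Ideal.ofList rs).map (Scheme.ΓSpecIso A).inv.hom := by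
      have hn := Scheme.ΓSpecIso_inv_naturality q
      refine le_antisymm (fun s hs => ?_) (Ideal.map_le_iff_le_comap.mpr fun a ha => ?_)
      · obtain ⟨a, rfl⟩ := (ConcreteCategory.bijective_of_isIso (Scheme.ΓSpecIso A).inv).surjective s
        refine Ideal.mem_map_of_mem _ (Ideal.Quotient.eq_zero_iff_mem.mp ?_)
        apply (ConcreteCategory.bijective_of_isIso (Scheme.ΓSpecIso (CommRingCat.of (A ⧸ Ideal.ofList rs))).inv).injective
        rw [map_zero]
        exact (DFunLike.congr_fun (congrArg CommRingCat.Hom.hom hn) a).trans hs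
      · show ((Spec.map q).app ⊤).hom ((Scheme.ΓSpecIso A).inv.hom a) = 0
        refine (DFunLike.congr_fun (congrArg CommRingCat.Hom.hom hn) a).symm.trans ?_
        show (Scheme.ΓSpecIso (CommRingCat.of (A ⧸ Ideal.ofList rs))).inv.hom (Ideal.Quotient.mk (Ideal.ofList rs) a) = 0
        rw [Ideal.Quotient.eq_zero_iff_mem.mpr ha, map_zero]
    have h4 := congrArg (Ideal.map (j.appIso ⊤).inv.hom) (h3.symm.trans h2)
    rw [Ideal.map_map, Ideal.map_map, ← CommRingCat.hom_comp, ← CommRingCat.hom_comp, Iso.hom_inv_id,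
      CommRingCat.hom_id, Ideal.map_id] at h4
    rw [← hmap]
    exact h4.symm

/-- Quotients by extended ideals are pushouts. -/
theorem isPushout_quotient_eq {O B : CommRingCat.{u}} (b : O ⟶ B) (I : Ideal O) (J : Ideal B) (hJ : I.map b.hom = J) :
    IsPushout (CommRingCat.ofHom (Ideal.Quotient.mk I)) b
      (CommRingCat.ofHom (Ideal.quotientMap J b.hom (Ideal.map_le_iff_le_comap.mp hJ.le)))
      (CommRingCat.ofHom (Ideal.Quotient.mk J)) := by
  subst hJ
  exact SpPts86.isPushout_quotient b I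

variable {X S : Scheme.{u}} (f : X ⟶ S)

/-- Germs lift to a common open. -/
theorem exists_lift_list (x : X) : ∀ hs : List (X.presheaf.stalk x),
    ∃ (W : X.Opens) (hx : x ∈ W) (hs' : List Γ(X, W)), hs'.map (X.presheaf.germ W x hx) = hs
  | [] => ⟨⊤, trivial, [], rfl⟩
  | h :: hs => by
    obtain ⟨W, hx, hs', e⟩ := exists_lift_list x hs
    obtain ⟨W₁, hx₁, s, es⟩ := X.presheaf.exists_germ_eq h
    refine ⟨W ⊓ W₁, ⟨hx, hx₁⟩, X.presheaf.map (homOfLE (show W ⊓ W₁ ≤ W₁ from inf_le_right)).op s ::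
      hs'.map (X.presheaf.map (homOfLE (show W ⊓ W₁ ≤ W from inf_le_left)).op), ?_⟩
    rw [List.map_cons, List.map_map, ← e, ← es]
    refine congrArg₂ List.cons (X.presheaf.germ_res_apply _ _ _ _) (List.map_congr_left fun a _ => ?_)
    exact X.presheaf.germ_res_apply _ _ _ _

/-- The maximal ideal contains a regular sequence. -/
theorem mem_maximalIdeal_of_isRegular {L : Type u} [CommRing L] [IsLocalRing L] (J : Ideal L) (hs : List L)
    (hreg : IsRegular (L ⧸ J) (hs.map (Ideal.Quotient.mk J))) : ∀ h ∈ hs, h ∈ maximalIdeal L := by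
  intro h hh
  by_contra hn
  have hu : IsUnit h := by
    by_contra hu
    exact hn hu
  refine hreg.top_ne_smul ?_
  rw [Ideal.eq_top_of_isUnit_mem (Ideal.ofList (hs.map (Ideal.Quotient.mk J)))
    (Ideal.subset_span (List.mem_map_of_mem hh)) (hu.map _), smul_eq_mul, Ideal.top_mul]

/-- **Slicing** at a point. -/
theorem exists_slice [LocallyOfFinitePresentation f] (x : X) (hflat : (f.stalkMap x).hom.Flat)
    (hs : List (X.presheaf.stalk x)) (hm : ∀ h ∈ hs, h ∈ maximalIdeal (X.presheaf.stalk x))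
    (hreg : IsWeaklyRegular
      (X.presheaf.stalk x ⧸ (maximalIdeal (S.presheaf.stalk (f x))).map (f.stalkMap x).hom)
      (hs.map (Ideal.Quotient.mk ((maximalIdeal (S.presheaf.stalk (f x))).map (f.stalkMap x).hom)))) :
    ∃ (V : S.Opens) (_ : IsAffineOpen V) (U : X.Opens) (_ : IsAffineOpen U) (hx : x ∈ U) (e : U ≤ f ⁻¹ᵁ V)
      (hs' : List Γ(X, U)), hs'.map (X.presheaf.germ U x hx) = hs ∧
      letI := (f.appLE V U e).hom.toAlgebra
      ((MvPolynomial.aeval hs'.get : MvPolynomial (Fin hs'.length) Γ(S, V) →ₐ[Γ(S, V)] Γ(X, U)).toRingHom).Flat := by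
  obtain ⟨W₀, hx₀, hs₀, e₀⟩ := exists_lift_list x hs
  obtain ⟨V, hV, hfV, -⟩ := exists_isAffineOpen_mem_and_subset (U := (⊤ : S.Opens)) (x := f x) trivial
  obtain ⟨W, hW, hxW, hWle⟩ := exists_isAffineOpen_mem_and_subset (U := W₀ ⊓ f ⁻¹ᵁ V) (x := x) ⟨hx₀, hfV⟩
  have eW : W ≤ f ⁻¹ᵁ V := fun z hz => (hWle hz).2
  let res : Γ(X, W₀) →+* Γ(X, W) := (X.presheaf.map (homOfLE fun z hz => (hWle hz).1).op).hom
  let hs₁ := hs₀.map res
  have e₁ : hs₁.map (X.presheaf.germ W x hxW) = hs := by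
    rw [← e₀, List.map_map]
    exact List.map_congr_left fun a _ => X.presheaf.germ_res_apply _ _ _ _
  letI : Algebra Γ(S, V) Γ(X, W) := (f.appLE V W eW).hom.toAlgebra
  haveI : Algebra.FinitePresentation Γ(S, V) Γ(X, W) := f.finitePresentation_appLE hV hW eW
  letI := TopCat.Presheaf.algebra_section_stalk S.presheaf ⟨f x, hfV⟩
  letI := TopCat.Presheaf.algebra_section_stalk X.presheaf ⟨x, hxW⟩
  letI : Algebra Γ(S, V) (X.presheaf.stalk x) :=
    ((algebraMap Γ(X, W) (X.presheaf.stalk x)).comp (algebraMap Γ(S, V) Γ(X, W))).toAlgebra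
  haveI : IsScalarTower Γ(S, V) Γ(X, W) (X.presheaf.stalk x) := .of_algebraMap_eq' rfl
  let Q := (hW.primeIdealOf ⟨x, hxW⟩).asIdeal
  let p := (hV.primeIdealOf ⟨f x, hfV⟩).asIdeal
  haveI : IsLocalization.AtPrime (X.presheaf.stalk x) Q := hW.isLocalization_stalk ⟨x, hxW⟩
  haveI : IsLocalization.AtPrime (S.presheaf.stalk (f x)) p := hV.isLocalization_stalk ⟨f x, hfV⟩
  have hp : p = Q.under Γ(S, V) := primeIdealOf_image f hV hW eW hxW
  have hC : Module.Flat Γ(S, V) (X.presheaf.stalk x) := by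
    have h := (flat_stalkMap_iff_localization f hV hW eW hxW).mp hflat
    exact Module.Flat.of_linearEquiv
      ((IsLocalization.algEquiv Q.primeCompl (X.presheaf.stalk x) (Localization.AtPrime Q)).toLinearEquiv.restrictScalars Γ(S, V))
  have hJ : (Q.under Γ(S, V)).map (algebraMap Γ(S, V) (X.presheaf.stalk x)) =
      (maximalIdeal (S.presheaf.stalk (f x))).map (f.stalkMap x).hom := by
    rw [← hp, ← IsLocalization.AtPrime.map_eq_maximalIdeal p (S.presheaf.stalk (f x)), Ideal.map_map]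
    congr 1
    exact RingHom.ext fun r => (stalkMap_germ_appLE f eW hxW r).symm
  have hmem : ∀ i, hs₁.get i ∈ Q := fun i => by
    refine (IsLocalization.AtPrime.to_map_mem_maximal_iff (X.presheaf.stalk x) Q (hs₁.get i)).mp (hm _ ?_)
    rw [← e₁]
    exact List.mem_map_of_mem (List.get_mem _ i)
  have hreg₁ : IsWeaklyRegular (X.presheaf.stalk x ⧸ (Q.under Γ(S, V)).map (algebraMap Γ(S, V) (X.presheaf.stalk x)))
      (List.ofFn fun i => Ideal.Quotient.mk ((Q.under Γ(S, V)).map (algebraMap Γ(S, V) (X.presheaf.stalk x)))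
        (algebraMap Γ(X, W) (X.presheaf.stalk x) (hs₁.get i))) := by
    have hl : ∀ (J : Ideal (X.presheaf.stalk x)),
        (List.ofFn fun i => Ideal.Quotient.mk J (algebraMap Γ(X, W) (X.presheaf.stalk x) (hs₁.get i))) =
          hs.map (Ideal.Quotient.mk J) := fun J => by
      rw [← e₁, List.map_map]
      conv_rhs => rw [← List.ofFn_get hs₁, List.map_ofFn]
      rfl
    rw [hl, hJ]
    exact hreg
  obtain ⟨g, hg, hflat'⟩ := exists_flat_over_polynomial (R := Γ(S, V)) (C := Γ(X, W)) Q hC hs₁.get hmem hreg₁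
  have hxU : x ∈ X.basicOpen g := by
    rw [X.mem_basicOpen g x hxW]
    exact IsLocalization.map_units (X.presheaf.stalk x) (⟨g, hg⟩ : Q.primeCompl)
  have eU : X.basicOpen g ≤ f ⁻¹ᵁ V := fun z hz => eW (X.basicOpen_le g hz)
  letI : Algebra Γ(S, V) Γ(X, X.basicOpen g) := (f.appLE V (X.basicOpen g) eU).hom.toAlgebra
  letI : Algebra Γ(X, W) Γ(X, X.basicOpen g) := (X.presheaf.map (homOfLE (X.basicOpen_le g)).op).hom.toAlgebra
  haveI : IsScalarTower Γ(S, V) Γ(X, W) Γ(X, X.basicOpen g) := .of_algebraMap_eq fun r => by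
    show (f.appLE V (X.basicOpen g) eU).hom r = (X.presheaf.map _).hom ((f.appLE V W eW).hom r)
    rw [← ConcreteCategory.comp_apply, Scheme.Hom.appLE_map]
  haveI : IsLocalization.Away g Γ(X, X.basicOpen g) := hW.isLocalization_basicOpen g
  refine ⟨V, hV, X.basicOpen g, hW.basicOpen g, hxU, eU,
    hs₁.map (algebraMap Γ(X, W) Γ(X, X.basicOpen g)), ?_, ?_⟩
  · rw [← e₁, List.map_map]
    exact List.map_congr_left fun a _ => X.presheaf.germ_res_apply _ _ _ _
  · have h := hflat' Γ(X, X.basicOpen g)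
    have hlen : (hs₁.map (algebraMap Γ(X, W) Γ(X, X.basicOpen g))).length = hs₁.length := List.length_map _
    let σ := (MvPolynomial.renameEquiv Γ(S, V) (finCongr hlen))
    have key : (MvPolynomial.aeval (hs₁.map (algebraMap Γ(X, W) Γ(X, X.basicOpen g))).get :
        MvPolynomial _ Γ(S, V) →ₐ[Γ(S, V)] Γ(X, X.basicOpen g)) =
          (MvPolynomial.aeval fun i => algebraMap Γ(X, W) Γ(X, X.basicOpen g) (hs₁.get i)).comp σ.toAlgHom :=
      MvPolynomial.algHom_ext fun i => by simp [σ]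
    rw [key]
    exact RingHom.Flat.comp (RingHom.Flat.of_bijective (f := σ.toRingEquiv.toRingHom) σ.bijective) h

/-- Properties of the zero scheme of a slice. -/
theorem slice_props [LocallyOfFinitePresentation f] {V : S.Opens} (hV : IsAffineOpen V) {U : X.Opens}
    (hU : IsAffineOpen U) (e : U ≤ f ⁻¹ᵁ V) (hs' : List Γ(X, U))
    (h : letI := (f.appLE V U e).hom.toAlgebra
      ((MvPolynomial.aeval hs'.get : MvPolynomial (Fin hs'.length) Γ(S, V) →ₐ[Γ(S, V)] Γ(X, U)).toRingHom).Flat) :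
    IsWeaklyRegular Γ(X, U) hs' ∧
      Flat (Spec.map (CommRingCat.ofHom (Ideal.Quotient.mk (Ideal.ofList hs'))) ≫ hU.fromSpec ≫ f) ∧
      LocallyOfFinitePresentation (Spec.map (CommRingCat.ofHom (Ideal.Quotient.mk (Ideal.ofList hs'))) ≫ hU.fromSpec ≫ f) := by
  letI := (f.appLE V U e).hom.toAlgebra
  haveI : Algebra.FinitePresentation Γ(S, V) Γ(X, U) := f.finitePresentation_appLE hV hU e
  refine ⟨?_, ?_⟩
  · letI : Algebra (MvPolynomial (Fin hs'.length) Γ(S, V)) Γ(X, U) :=
      (MvPolynomial.aeval hs'.get : MvPolynomial (Fin hs'.length) Γ(S, V) →ₐ[Γ(S, V)] Γ(X, U)).toRingHom.toAlgebra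
    haveI : Module.Flat (MvPolynomial (Fin hs'.length) Γ(S, V)) Γ(X, U) := h
    have h1 := IsWeaklyRegular.of_flat (S := Γ(X, U)) (isWeaklyRegular_X (R := Γ(S, V)) hs'.length)
    rw [List.map_ofFn] at h1
    convert h1
    conv_lhs => rw [← List.ofFn_get hs']
    exact congrArg List.ofFn (funext fun i => (MvPolynomial.aeval_X hs'.get i).symm)
  have he : Spec.map (CommRingCat.ofHom (Ideal.Quotient.mk (Ideal.ofList hs'))) ≫ hU.fromSpec ≫ f =
      Spec.map (CommRingCat.ofHom (algebraMap Γ(S, V) (Γ(X, U) ⧸ Ideal.ofList hs'))) ≫ hV.fromSpec := by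
    rw [← hV.SpecMap_appLE_fromSpec f hU e, ← Spec.map_comp_assoc]
    rfl
  have hflat : Module.Flat Γ(S, V) (Γ(X, U) ⧸ Ideal.ofList hs') := by
    have := flat_quotient_of_flat_polynomial hs'.get h
    rwa [List.ofFn_get] at this
  have hfp : Algebra.FinitePresentation Γ(S, V) (Γ(X, U) ⧸ Ideal.ofList hs') := by
    classical
    exact Algebra.FinitePresentation.quotient ⟨hs'.toFinset, by simp [Ideal.ofList]⟩
  rw [he]
  constructor
  · have : Flat (Spec.map (CommRingCat.ofHom (algebraMap Γ(S, V) (Γ(X, U) ⧸ Ideal.ofList hs')))) :=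
      Flat.SpecMap_iff.mpr (RingHom.flat_algebraMap_iff.mpr hflat)
    infer_instance
  · have : LocallyOfFinitePresentation (Spec.map (CommRingCat.ofHom (algebraMap Γ(S, V) (Γ(X, U) ⧸ Ideal.ofList hs')))) :=
      (HasRingHomProperty.Spec_iff (P := @LocallyOfFinitePresentation)).mpr (RingHom.finitePresentation_algebraMap.mpr hfp)
    infer_instance

/-- **Slicing by a regular sequence on the fibre.** -/
theorem slice_regular [LocallyOfFinitePresentation f] (x : X) (hflat : (f.stalkMap x).hom.Flat)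
    (hs : List (X.presheaf.stalk x))
    (hreg : IsRegular (X.presheaf.stalk x ⧸ (maximalIdeal (S.presheaf.stalk (f x))).map (f.stalkMap x).hom)
      (hs.map (Ideal.Quotient.mk ((maximalIdeal (S.presheaf.stalk (f x))).map (f.stalkMap x).hom)))) :
    ∃ (U : X.Opens) (hU : IsAffineOpen U) (hx : x ∈ U) (hs' : List Γ(X, U)),
      hs'.map (X.presheaf.germ U x hx) = hs ∧
      Mor2.IsRegularClosedImmersion (Spec.map (CommRingCat.ofHom (Ideal.Quotient.mk (Ideal.ofList hs'))) ≫ hU.isoSpec.inv) ∧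
      x ∈ Set.range ⇑(Spec.map (CommRingCat.ofHom (Ideal.Quotient.mk (Ideal.ofList hs'))) ≫ hU.fromSpec) ∧
      Flat (Spec.map (CommRingCat.ofHom (Ideal.Quotient.mk (Ideal.ofList hs'))) ≫ hU.fromSpec ≫ f) ∧
      LocallyOfFinitePresentation (Spec.map (CommRingCat.ofHom (Ideal.Quotient.mk (Ideal.ofList hs'))) ≫ hU.fromSpec ≫ f) ∧
      ∀ (S' : Scheme.{u}) (g : S' ⟶ S), Mor2.IsRegularClosedImmersion
        (pullback.map (Spec.map (CommRingCat.ofHom (Ideal.Quotient.mk (Ideal.ofList hs'))) ≫ hU.isoSpec.inv ≫ U.ι ≫ f) g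
          (U.ι ≫ f) g (Spec.map (CommRingCat.ofHom (Ideal.Quotient.mk (Ideal.ofList hs'))) ≫ hU.isoSpec.inv) (𝟙 S') (𝟙 S)
          (Category.comp_id _) ((Category.comp_id g).trans (Category.id_comp g).symm)) := by
  obtain ⟨V, hV, U, hU, hx, e, hs', hgerm, hpoly⟩ :=
    exists_slice f x hflat hs (mem_maximalIdeal_of_isRegular _ hs hreg) hreg.toIsWeaklyRegular
  obtain ⟨hwr, hfl, hfp⟩ := slice_props f hV hU e hs' hpoly
  haveI : IsAffine U := hU
  let I := Ideal.ofList hs'
  let mk : Γ(X, U) ⟶ CommRingCat.of (Γ(X, U) ⧸ I) := CommRingCat.ofHom (Ideal.Quotient.mk I)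
  let i := Spec.map mk ≫ hU.isoSpec.inv
  haveI : IsClosedImmersion (Spec.map mk) := IsClosedImmersion.spec_of_surjective _ Ideal.Quotient.mk_surjective
  refine ⟨U, hU, hx, hs', hgerm, ⟨inferInstance, fun z => ?_⟩, ?_, hfl, hfp, fun S' g => ?_⟩
  · exact exists_regular_chart i hs' hU.isoSpec.inv (𝟙 _) (IsPullback.of_horiz_isIso ⟨by simp [i, mk, I]⟩) hwr z
      (hU.isoSpec.inv.homeomorph.surjective _)
  · have hle : Ideal.ofList hs' ≤ (hU.primeIdealOf ⟨x, hx⟩).asIdeal := Ideal.span_le.mpr fun a ha => by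
      letI := TopCat.Presheaf.algebra_section_stalk X.presheaf ⟨x, hx⟩
      haveI : IsLocalization.AtPrime (X.presheaf.stalk x) (hU.primeIdealOf ⟨x, hx⟩).asIdeal :=
        hU.isLocalization_stalk ⟨x, hx⟩
      refine (IsLocalization.AtPrime.to_map_mem_maximal_iff (X.presheaf.stalk x) _ a).mp
        (mem_maximalIdeal_of_isRegular _ hs hreg _ ?_)
      rw [← hgerm]
      exact List.mem_map_of_mem ha
    obtain ⟨y, hy⟩ : hU.primeIdealOf ⟨x, hx⟩ ∈ Set.range (PrimeSpectrum.comap (Ideal.Quotient.mk I)) := by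
      rw [range_comap_of_surjective _ _ Ideal.Quotient.mk_surjective, PrimeSpectrum.mem_zeroLocus,
        Ideal.mk_ker]
      exact hle
    refine ⟨y, ?_⟩
    rw [Scheme.Hom.comp_apply]
    exact (congrArg hU.fromSpec hy).trans (hU.fromSpec_primeIdealOf ⟨x, hx⟩)
  · let F := U.ι ≫ f
    let a := Spec.map mk ≫ hU.isoSpec.inv ≫ U.ι ≫ f
    have ha : i ≫ F = a := Category.assoc _ _ _
    set i' := pullback.map a g F g i (𝟙 S') (𝟙 S) ((Category.comp_id _).trans ha.symm)
      ((Category.comp_id g).trans (Category.id_comp g).symm) with hi'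
    have hbase : IsPullback (pullback.fst a g) i' i (pullback.fst F g) := by
      refine IsPullback.of_bot ?_ (pullback.lift_fst _ _ _).symm (IsPullback.of_hasPullback F g)
      rw [hi', pullback.lift_snd, Category.comp_id, ha]
      exact IsPullback.of_hasPullback a g
    haveI : IsClosedImmersion i := inferInstance
    haveI : IsClosedImmersion i' := MorphismProperty.of_isPullback hbase inferInstance
    suffices h : Mor2.IsRegularClosedImmersion i' by exact h
    refine ⟨inferInstance, fun z => ?_⟩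
    let z₀ := i' z
    obtain ⟨V', hV', hzV', hVV'⟩ := exists_isAffineOpen_mem_and_subset (U := g ⁻¹ᵁ V)
      (x := pullback.snd F g z₀) (by
        show g (pullback.snd F g z₀) ∈ V
        rw [← Scheme.Hom.comp_apply, ← pullback.condition, Scheme.Hom.comp_apply]
        exact e (pullback.fst F g z₀).2)
    letI := (f.appLE V U e).hom.toAlgebra
    letI := (g.appLE V V' hVV').hom.toAlgebra
    let inl : Γ(S', V') ⟶ CommRingCat.of (Γ(S', V') ⊗[Γ(S, V)] Γ(X, U)) :=
      CommRingCat.ofHom Algebra.TensorProduct.includeLeftRingHom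
    let inr : Γ(X, U) ⟶ CommRingCat.of (Γ(S', V') ⊗[Γ(S, V)] Γ(X, U)) := CommRingCat.ofHom
      (Algebra.TensorProduct.includeRight : _ →ₐ[Γ(S, V)] Γ(S', V') ⊗[Γ(S, V)] Γ(X, U)).toRingHom
    let rs : List (CommRingCat.of (Γ(S', V') ⊗[Γ(S, V)] Γ(X, U))) := hs'.map inr.hom
    have hF : hU.isoSpec.inv ≫ F = Spec.map (f.appLE V U e) ≫ hV.fromSpec := by
      rw [hV.SpecMap_appLE_fromSpec f hU e, ← hU.isoSpec_inv_ι, Category.assoc]
    have hg : hV'.fromSpec ≫ g = Spec.map (g.appLE V V' hVV') ≫ hV.fromSpec :=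
      (hV.SpecMap_appLE_fromSpec g hV' hVV').symm
    have sqT : IsPullback (Spec.map inr) (Spec.map inl) (hU.isoSpec.inv ≫ F) (hV'.fromSpec ≫ g) := by
      rw [hF, hg]
      exact SpPts86.isPullback_comp_mono (isPullback_SpecMap_of_isPushout _ _ _ _
        (CommRingCat.isPushout_tensorProduct Γ(S, V) Γ(S', V') Γ(X, U))).flip hV.fromSpec
    let j : Spec (CommRingCat.of (Γ(S', V') ⊗[Γ(S, V)] Γ(X, U))) ⟶ pullback F g :=
      pullback.lift (Spec.map inr ≫ hU.isoSpec.inv) (Spec.map inl ≫ hV'.fromSpec)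
        (by rw [Category.assoc, Category.assoc]; exact sqT.w)
    have hjfst : j ≫ pullback.fst F g = Spec.map inr ≫ hU.isoSpec.inv := pullback.lift_fst _ _ _
    have hjsnd : j ≫ pullback.snd F g = Spec.map inl ≫ hV'.fromSpec := pullback.lift_snd _ _ _
    have sqU : IsPullback (Spec.map inr ≫ hU.isoSpec.inv) (Spec.map inl) F (hV'.fromSpec ≫ g) := by
      have h := IsPullback.paste_horiz sqT (IsPullback.of_horiz_isIso (fst := hU.isoSpec.inv)
        (snd := hU.isoSpec.inv ≫ F) (f := F) (g := 𝟙 S) ⟨by rw [Category.comp_id]⟩)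
      rwa [Category.comp_id] at h
    have sqj : IsPullback (Spec.map inl) j hV'.fromSpec (pullback.snd F g) :=
      IsPullback.of_bot (by rw [hjfst]; exact sqU.flip) hjsnd.symm (IsPullback.of_hasPullback F g).flip
    haveI : IsOpenImmersion j := MorphismProperty.of_isPullback (P := @IsOpenImmersion) sqj inferInstance
    have hzj : i' z ∈ Set.range j := by
      obtain ⟨v, hv⟩ : pullback.snd F g z₀ ∈ Set.range hV'.fromSpec := by rwa [IsAffineOpen.range_fromSpec]
      obtain ⟨q, -, hq⟩ := Scheme.exists_preimage_of_isPullback sqj v z₀ hv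
      exact ⟨q, hq⟩
    let bq : CommRingCat.of (Γ(X, U) ⧸ I) ⟶
        CommRingCat.of ((Γ(S', V') ⊗[Γ(S, V)] Γ(X, U)) ⧸ Ideal.ofList rs) :=
      CommRingCat.ofHom (Ideal.quotientMap _ inr.hom
        (Ideal.map_le_iff_le_comap.mp (Ideal.map_ofList inr.hom hs').le))
    have sqq : IsPullback (Spec.map bq) (Spec.map (CommRingCat.ofHom (Ideal.Quotient.mk (Ideal.ofList rs))))
        (Spec.map mk) (Spec.map inr) := by
      refine isPullback_SpecMap_of_isPushout _ _ _ _ ?_
      exact isPushout_quotient_eq inr I (Ideal.ofList rs) (Ideal.map_ofList inr.hom hs')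
    have sqqi : IsPullback (Spec.map bq) (Spec.map (CommRingCat.ofHom (Ideal.Quotient.mk (Ideal.ofList rs))))
        i (j ≫ pullback.fst F g) := by
      rw [hjfst]
      exact SpPts86.isPullback_comp_mono sqq hU.isoSpec.inv
    let k := hbase.lift (Spec.map bq) (Spec.map (CommRingCat.ofHom (Ideal.Quotient.mk (Ideal.ofList rs))) ≫ j)
      (by rw [sqqi.w, Category.assoc])
    have sqk : IsPullback k (Spec.map (CommRingCat.ofHom (Ideal.Quotient.mk (Ideal.ofList rs)))) i' j :=
      IsPullback.of_right (by rw [hbase.lift_fst]; exact sqqi) (hbase.lift_snd _ _ _) hbase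
    refine exists_regular_chart i' rs j k sqk ?_ z hzj
    have h := isWeaklyRegular_baseChange hs'.get hpoly Γ(S', V')
    have hrs : rs = List.ofFn (fun i => (1 : Γ(S', V')) ⊗ₜ[Γ(S, V)] hs'.get i) := by
      show hs'.map _ = _
      conv_lhs => rw [← List.ofFn_get hs', List.map_ofFn]
      rfl
    rw [hrs]
    exact h

end Groth.Agent.FlatMor66
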