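import Groth.Agent.FlatMor66.AffStrat
import Groth.Agent.Coh69.AffinePush
import Groth.Agent.QC70.ToSheaf
import Mathlib.Algebra.Homology.DerivedCategory.Ext.ExactSequences
import Groth.Agent.QCFilt57.FPGen
import Groth.Agent.TopCoh49.ColimCoh
import Groth.Agent.QCAlgMod72.RS
import Groth.Agent.QCPull72.Annihilator
import Groth.Agent.QCPull72.Support
import Groth.Agent.QCqs72.Basic
import Groth.Agent.QC70.CohOps
import Groth.Agent.Approx60.AffineImage

/-!
Vanishing of cohomology above the affine stratification number.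
-/

set_option autoImplicit false
set_option linter.style.haveILetI false
set_option backward.isDefEq.respectTransparency.types false
set_option maxHeartbeats 1000000
universe u

open CategoryTheory CategoryTheory.Limits AlgebraicGeometry TopologicalSpace Opposite
open Groth.Agent.QC70

noncomputable section

namespace Groth.Agent.FlatMor66.StratCoh

variable {X : Scheme.{u}}

theorem ext_comp_comp {C : Type*} [Category C] [Abelian C] [HasExt.{u} C] {Z A B D : C} {n : ℕ}
    (x : Abelian.Ext.{u} Z A n) (f : A ⟶ B) (g : B ⟶ D) :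
    Abelian.Ext.comp (Abelian.Ext.comp x (Abelian.Ext.mk₀ f) (add_zero n)) (Abelian.Ext.mk₀ g) (add_zero n) =
      Abelian.Ext.comp x (Abelian.Ext.mk₀ (f ≫ g)) (add_zero n) := by
  rw [Abelian.Ext.comp_assoc_of_second_deg_zero, Abelian.Ext.mk₀_comp_mk₀]

/-- The forgetful functor to abelian sheaves, on `X.Modules`. -/
def toAbF (X : Scheme.{u}) : X.Modules ⥤ Sheaf (Opens.grothendieckTopology X) AddCommGrpCat.{u} :=
  SheafOfModules.toSheaf X.ringCatSheaf

instance toAbF_additive : (toAbF X).Additive where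

instance toAbF_preservesFiniteLimits : PreservesFiniteLimits (toAbF X) :=
  inferInstanceAs (PreservesFiniteLimits (SheafOfModules.toSheaf.{u} X.ringCatSheaf))

instance toAbF_preservesFiniteColimits : PreservesFiniteColimits (toAbF X) :=
  inferInstanceAs (PreservesFiniteColimits (SheafOfModules.toSheaf.{u} X.ringCatSheaf))

/-- The short complex of abelian sheaves underlying a short complex of modules. -/
abbrev abComplex (S : ShortComplex X.Modules) :
    ShortComplex (Sheaf (Opens.grothendieckTopology X) AddCommGrpCat.{u}) :=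
  { X₁ := Coh.toAb S.X₁
    X₂ := Coh.toAb S.X₂
    X₃ := Coh.toAb S.X₃
    f := (toAbF X).map S.f
    g := (toAbF X).map S.g
    zero := (S.map (toAbF X)).zero }

theorem abComplex_shortExact {S : ShortComplex X.Modules} (hS : S.ShortExact) : (abComplex S).ShortExact :=
  hS.map_of_exact (toAbF X)

/-- Cohomology of a module on the whole space, as an `Ext` group. -/
abbrev E (M : X.Modules) (p : ℕ) : Type u := Coh69.HE (Coh.toAb M) p (⊤ : X.Opens)

theorem subsingleton_E_iff (M : X.Modules) (p : ℕ) : Subsingleton (E M p) ↔ Subsingleton (Coh.HH X M p) :=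
  (Coh69.hhEquiv M p).toEquiv.subsingleton_congr.symm

theorem vanish_X₂ {S : ShortComplex X.Modules} (hS : S.ShortExact) (p : ℕ) (h1 : Subsingleton (E S.X₁ p))
    (h3 : Subsingleton (E S.X₃ p)) : Subsingleton (E S.X₂ p) := by
  refine subsingleton_of_forall_eq 0 fun y => ?_
  obtain ⟨x, rfl⟩ := Abelian.Ext.covariant_sequence_exact₂ _ (abComplex_shortExact hS) y (h3.elim _ _)
  rw [h1.elim x 0]
  exact Abelian.Ext.zero_comp _ _ _ _ _

theorem vanish_X₁ {S : ShortComplex X.Modules} (hS : S.ShortExact) (p : ℕ) (h3 : Subsingleton (E S.X₃ p))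
    (h2 : Subsingleton (E S.X₂ (p + 1))) : Subsingleton (E S.X₁ (p + 1)) := by
  refine subsingleton_of_forall_eq 0 fun y => ?_
  obtain ⟨x, rfl⟩ := Abelian.Ext.covariant_sequence_exact₁ _ (abComplex_shortExact hS) y (h2.elim _ _) rfl
  rw [h3.elim x 0]
  exact Abelian.Ext.zero_comp _ _ _ _ _

theorem support_subset_of_mono {M N : X.Modules} (φ : M ⟶ N) [Mono φ] : CohB1.support M ⊆ CohB1.support N :=
  fun x hx h => hx ((injective_stalkMapM_of_mono φ x).subsingleton)

theorem support_subset_of_epi {M N : X.Modules} (φ : M ⟶ N) [Epi φ] : CohB1.support N ⊆ CohB1.support M :=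
  fun x hx h => hx ((surjective_stalkMapM_of_epi φ x).subsingleton)

/-- Vanishing for modules supported in a closed set follows from the case of finite type. -/
theorem vanish_of_finiteType [CompactSpace X] [QuasiSeparatedSpace X] (A : Set X) (p : ℕ)
    (h : ∀ G : X.Modules, G.IsQuasicoherent → G.IsFiniteType → CohB1.support G ⊆ A → Subsingleton (E G p))
    (K : X.Modules) (hK : K.IsQuasicoherent) (hKA : CohB1.support K ⊆ A) : Subsingleton (E K p) := by
  obtain ⟨I, _, _, D, c, hc, hD, rfl⟩ := QCFilt57.exists_diagram K hK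
  let T := SheafOfModules.toSheaf.{u} X.ringCatSheaf
  let F := D ⋙ T
  haveI := QCAlgMod72.preservesColimitsOfShape_toSheaf X.ringCatSheaf I
  let e : Limits.colimit F ≅ Coh.toAb c.pt :=
    (Limits.colimit.isColimit F).coconePointUniqueUpToIso (Limits.isColimitOfPreserves T hc)
  refine subsingleton_of_forall_eq 0 fun y => ?_
  obtain ⟨k, x, hx⟩ := (TopCoh49.colim_E (X := X.carrier) (U := ⊤) isCompact_univ p F).1
    (Abelian.Ext.comp y (Abelian.Ext.mk₀ e.inv) (add_zero p))
  have hy : y = Abelian.Ext.comp x (Abelian.Ext.mk₀ (T.map (c.ι.app k))) (add_zero p) := by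
    have h1 : y = Abelian.Ext.comp (Abelian.Ext.comp y (Abelian.Ext.mk₀ e.inv) (add_zero p))
        (Abelian.Ext.mk₀ e.hom) (add_zero p) := by
      rw [ext_comp_comp, e.inv_hom_id, Abelian.Ext.comp_mk₀_id]
    rw [h1, ← hx]
    refine (ext_comp_comp x _ _).trans ?_
    congr 2
    exact (Limits.colimit.isColimit F).comp_coconePointUniqueUpToIso_hom _ k
  have hk := hD k
  haveI : (D.obj k).IsFinitePresentation := hk
  haveI : (D.obj k).IsQuasicoherent := inferInstance
  haveI : c.pt.IsQuasicoherent := hK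
  let φ : D.obj k ⟶ c.pt := c.ι.app k
  let G := Abelian.image φ
  haveI hG : G.IsFiniteType := isFiniteType_of_epi (Abelian.factorThruImage φ)
  have hGA : CohB1.support G ⊆ A := (support_subset_of_mono (Abelian.image.ι φ)).trans hKA
  have h0 := h G (isQuasicoherent_abelianImage _) hG hGA
  have e1 : T.map (c.ι.app k) = T.map (Abelian.factorThruImage φ) ≫ T.map (Abelian.image.ι φ) :=
    (congrArg T.map (Abelian.image.fac φ).symm).trans (T.map_comp _ _)
  rw [hy, e1, ← Abelian.Ext.mk₀_comp_mk₀, ← Abelian.Ext.comp_assoc_of_second_deg_zero]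
  rw [show Abelian.Ext.comp x (Abelian.Ext.mk₀ (T.map (Abelian.factorThruImage φ))) (add_zero p) = (0 : E G p) from
    h0.elim _ _]
  exact Abelian.Ext.zero_comp _ _ _ _ _

/-- A map bijective on small opens is bijective on stalks. -/
theorem bijective_stalkMapM {M N : X.Modules} (φ : M ⟶ N) (U : X.Opens)
    (hW : ∀ W : X.Opens, W ≤ U → Function.Bijective (φ.app W)) (x : X) (hx : x ∈ U) :
    Function.Bijective (stalkMapM φ x) := by
  refine ⟨(injective_iff_map_eq_zero _).2 fun e he => ?_, fun e => ?_⟩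
  · obtain ⟨W, hxW, s, rfl⟩ := germM_exist e
    obtain ⟨W', hW', hxW', h0⟩ := germM_eq_zero ((stalkMapM_germ φ hxW s).symm.trans he)
    have hxV : x ∈ W' ⊓ U := ⟨hxW', hx⟩
    have h1 : φ.app (W' ⊓ U) (res M (inf_le_left.trans hW') s) = 0 := by
      rw [app_res, ← res_res hW' inf_le_left, h0, res_zero]
    rw [← germM_res (inf_le_left.trans hW') hxV, (injective_iff_map_eq_zero _).1 (hW _ inf_le_right).1 _ h1]
    exact germM_zero hxV
  · obtain ⟨W, hxW, t, rfl⟩ := germM_exist e
    have hxV : x ∈ W ⊓ U := ⟨hxW, hx⟩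
    obtain ⟨s, hs⟩ := (hW _ inf_le_right).2 (res _ (inf_le_left : W ⊓ U ≤ W) t)
    exact ⟨germM M (W ⊓ U) x hxV s, by rw [stalkMapM_germ, hs, germM_res]⟩

/-- The stalk map of the unit for an open subscheme is bijective on the open. -/
theorem bijective_stalk_unit (U : X.Opens) (F : X.Modules) (x : X) (hx : x ∈ U) :
    Function.Bijective (stalkMapM ((Scheme.Modules.restrictAdjunction U.ι).unit.app F) x) := by
  refine bijective_stalkMapM _ U (fun W hW => ?_) x hx
  have hle : W ≤ U.ι ''ᵁ (U.ι ⁻¹ᵁ W) := fun z hz => ⟨⟨z, hW hz⟩, hz, rfl⟩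
  haveI : IsIso (homOfLE (U.ι.image_preimage_le W)) := ⟨homOfLE hle, Subsingleton.elim _ _, Subsingleton.elim _ _⟩
  rw [Scheme.Modules.restrictAdjunction_unit_app_app]
  exact ConcreteCategory.bijective_of_isIso (F.presheaf.mapIso (asIso (homOfLE (U.ι.image_preimage_le W))).op).hom

theorem subsingleton_E_of_iso {M N : X.Modules} (e : M ≅ N) (p : ℕ) (h : Subsingleton (E N p)) :
    Subsingleton (E M p) := by
  let T := SheafOfModules.toSheaf.{u} X.ringCatSheaf
  refine subsingleton_of_forall_eq 0 fun y => ?_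
  rw [← Abelian.Ext.comp_mk₀_id y, ← (T.mapIso e).hom_inv_id, ← Abelian.Ext.mk₀_comp_mk₀,
    ← Abelian.Ext.comp_assoc_of_second_deg_zero]
  rw [show Abelian.Ext.comp y (Abelian.Ext.mk₀ (T.mapIso e).hom) (add_zero p) = (0 : E N p) from h.elim _ _]
  exact Abelian.Ext.zero_comp _ _ _ _ _

theorem isAffine_of_range_univ {Z : Scheme.{u}} (ι : Z ⟶ X) [IsAffine Z] [IsImmersion ι]
    (h : Set.range ι = Set.univ) : IsAffine X := by
  haveI : IsClosedImmersion ι := IsClosedImmersion.of_isPreimmersion _ (by rw [h]; exact isClosed_univ)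
  haveI : Surjective ι := ⟨Set.range_eq_univ.1 h⟩
  exact Approx60.S0593 Z X ι

/-- The top stratum is an affine open with affine inclusion. -/
theorem isAffine_top_stratum (U : X.Opens) {Z : Scheme.{u}} (ι : Z ⟶ X) [IsAffine Z] [IsImmersion ι] [IsAffineHom ι]
    (h : Set.range ι = (U : Set X)) : IsAffineOpen U ∧ IsAffineHom U.ι := by
  let l := IsOpenImmersion.lift U.ι ι (by rw [h, Scheme.Opens.range_ι])
  have hl : l ≫ U.ι = ι := IsOpenImmersion.lift_fac _ _ _
  haveI : IsImmersion (l ≫ U.ι) := by rw [hl]; infer_instance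
  haveI : IsImmersion l := IsImmersion.of_comp l U.ι
  have hr : Set.range l = Set.univ := Set.eq_univ_of_forall fun w => by
    obtain ⟨z, hz⟩ := h.ge w.2
    refine ⟨z, U.ι.isOpenEmbedding.injective ?_⟩
    rw [← Scheme.Hom.comp_apply, hl]
    exact hz
  refine ⟨isAffine_of_range_univ l hr, ⟨fun V hV => ?_⟩⟩
  haveI : IsAffine (ι ⁻¹ᵁ V : Scheme.{u}) := hV.preimage ι
  haveI : IsImmersion (l ∣_ (U.ι ⁻¹ᵁ V)) := IsZariskiLocalAtTarget.restrict (P := @IsImmersion) inferInstance _
  haveI : IsAffine (l ⁻¹ᵁ (U.ι ⁻¹ᵁ V) : Scheme.{u}) := by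
    rw [← Scheme.Hom.comp_preimage, hl]
    infer_instance
  refine isAffine_of_range_univ (l ∣_ (U.ι ⁻¹ᵁ V)) (Set.eq_univ_of_forall fun w => ?_)
  obtain ⟨z, hz⟩ := hr.ge (Set.mem_univ w.1)
  exact ⟨⟨z, show l z ∈ U.ι ⁻¹ᵁ V by rw [hz]; exact w.2⟩, Subtype.ext (by simpa using hz)⟩

/-- The closed subschemes inside the lower strata inherit a shorter stratification. -/
theorem hasAffineStratification_lower {n : ℕ} (s : X → Fin (n + 2)) (hcl : ∀ i, IsClosed {x : X | s x ≤ i})
    (hst : ∀ i, ∃ (Z : Scheme.{u}) (ι : Z ⟶ X), IsImmersion ι ∧ IsAffine Z ∧ IsAffineHom ι ∧ Set.range ι = {x : X | s x = i})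
    {W : Scheme.{u}} (i : W ⟶ X) [IsClosedImmersion i] (hi : ∀ w, s (i w) ≠ Fin.last (n + 1)) :
    MoreMor.HasAffineStratification W n := by
  refine ⟨fun w => Fin.castPred (s (i w)) (hi w), fun k => ?_, fun k => ?_⟩
  · rw [show {w : W | Fin.castPred (s (i w)) (hi w) ≤ k} = i ⁻¹' {x | s x ≤ k.castSucc} by
      ext w; simp [Fin.castPred_le_iff]]
    exact (hcl _).preimage i.continuous
  obtain ⟨Z, ι, _, _, _, hr⟩ := hst k.castSucc
  refine ⟨pullback i ι, pullback.fst i ι, MorphismProperty.pullback_fst _ _ inferInstance,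
    isAffine_of_isAffineHom (pullback.snd i ι), MorphismProperty.pullback_fst _ _ inferInstance, ?_⟩
  rw [Scheme.Pullback.range_fst, hr]
  ext w
  simp [Fin.castPred_eq_iff_eq_castSucc]

/-- Cohomology vanishes above the affine stratification number. -/
theorem subsingleton_E_of_hasAffineStratification (n : ℕ) : ∀ (X : Scheme.{u}), MoreMor.HasAffineStratification X n →
    ∀ (F : X.Modules), F.IsQuasicoherent → ∀ p, n < p → Subsingleton (E F p) := by
  induction n with
  | zero =>
    rintro X ⟨s, -, hst⟩ F hF p hp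
    obtain ⟨Z, ι, _, _, _, hr⟩ := hst 0
    haveI := isAffine_of_range_univ ι (hr.trans (Set.eq_univ_of_forall fun x => Subsingleton.elim (α := Fin 1) _ _))
    obtain ⟨q, rfl⟩ : ∃ q, p = q + 1 := ⟨p - 1, by omega⟩
    haveI := hF
    exact Coh69.qcoh_subsingleton_HE F (isAffineOpen_top X) q
  | succ n ih =>
    intro X hX F hF p hp
    obtain ⟨_, _⟩ := qcqs_of_hasAffineStratification hX
    obtain ⟨s, hcl, hst⟩ := hX
    let U : X.Opens := ⟨{x | s x ≤ (Fin.last n).castSucc}ᶜ, (hcl _).isOpen_compl⟩
    have hU : (U : Set X) = {x | s x = Fin.last (n + 1)} := by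
      ext x
      show ¬ (s x ≤ (Fin.last n).castSucc) ↔ _
      simp only [Fin.le_def, Fin.val_castSucc, Fin.val_last, Set.mem_setOf_eq, Fin.ext_iff]
      have := (s x).isLt
      omega
    have lower : ∀ K : X.Modules, K.IsQuasicoherent → (∀ x ∈ CohB1.support K, x ∉ U) →
        ∀ q, n < q → Subsingleton (E K q) := by
      intro K hK hKU q hq
      refine vanish_of_finiteType (U : Set X)ᶜ q (fun G hGq hGf hG => ?_) K hK hKU
      haveI := hGq
      haveI := hGf
      obtain ⟨J, -, hJiso, -, hJs⟩ := QCPull72.exists_schemeTheoreticSupport G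
      let i := J.subschemeι
      let M := (Scheme.Modules.pullback i).obj G
      haveI : M.IsQuasicoherent := QCPull72.isQuasicoherent_pullback i G
      have hW : MoreMor.HasAffineStratification J.subscheme n := by
        refine hasAffineStratification_lower s hcl hst i fun w hw => ?_
        have h1 : i w ∈ (J.support : Set X) := by
          rw [← Scheme.IdealSheafData.range_subschemeι]; exact ⟨w, rfl⟩
        rw [hJs] at h1
        exact hG h1 (hU.ge hw)
      have h2 := ih J.subscheme hW M inferInstance q hq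
      rw [subsingleton_E_iff] at h2
      obtain ⟨e⟩ := Coh69.nonempty_hh_push i M q
      refine subsingleton_E_of_iso (asIso ((Scheme.Modules.pullbackPushforwardAdjunction i).unit.app G)) q ?_
      rw [subsingleton_E_iff]
      exact e.symm.toEquiv.subsingleton
    obtain ⟨Z, ι, _, _, _, hr⟩ := hst (Fin.last (n + 1))
    obtain ⟨hUaff, hUι⟩ := isAffine_top_stratum U ι (hr.trans hU.symm)
    haveI := hUι
    haveI : IsAffine (U : Scheme.{u}) := hUaff
    haveI := hF
    let adj := Scheme.Modules.restrictAdjunction U.ι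
    let G := (Scheme.Modules.pushforward U.ι).obj (F.restrict U.ι)
    haveI : G.IsQuasicoherent := QCqs72.isQuasicoherent_pushforward _ U.ι
    let η : F ⟶ G := adj.unit.app F
    obtain ⟨q, rfl⟩ : ∃ q, p = q + 1 := ⟨p - 1, by omega⟩
    have hGv : Subsingleton (E G (q + 1)) := by
      rw [subsingleton_E_iff]
      haveI := Coh69.qcoh_subsingleton_HH (F.restrict U.ι) q
      obtain ⟨e⟩ := Coh69.nonempty_hh_push U.ι (F.restrict U.ι) (q + 1)
      exact e.symm.toEquiv.subsingleton
    haveI := isQuasicoherent_kernel η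
    haveI := isQuasicoherent_cokernel η
    have hker : ∀ x ∈ CohB1.support (kernel η), x ∉ U := fun x hx hxU => hx <| by
      refine subsingleton_of_forall_eq 0 fun a => injective_stalkMapM_of_mono (kernel.ι η) x ?_
      refine (bijective_stalk_unit U F x hxU).1 ?_
      show stalkMapM η x (stalkMapM (kernel.ι η) x a) = stalkMapM η x (stalkMapM (kernel.ι η) x 0)
      rw [← stalkMapM_comp, ← stalkMapM_comp, kernel.condition, stalkMapM_zero, stalkMapM_zero]
    have hcoker : ∀ x ∈ CohB1.support (cokernel η), x ∉ U := fun x hx hxU => hx <| by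
      refine subsingleton_of_forall_eq 0 fun a => ?_
      obtain ⟨b, rfl⟩ := surjective_stalkMapM_of_epi (cokernel.π η) x a
      obtain ⟨c, hc⟩ := (bijective_stalk_unit U F x hxU).2 b
      rw [← hc, ← stalkMapM_comp, cokernel.condition, stalkMapM_zero]
    -- the image
    let S₁ := ShortComplex.mk (Abelian.image.ι η) (cokernel.π η) (kernel.condition _)
    have hS₁ : S₁.ShortExact :=
      { exact := ShortComplex.exact_of_f_is_kernel _ (kernelIsKernel _)
        mono_f := (inferInstance : Mono (Abelian.image.ι η))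
        epi_g := (inferInstance : Epi (cokernel.π η)) }
    let S₀ := ShortComplex.mk (kernel.ι η) (Abelian.factorThruImage η) (by
      rw [← cancel_mono (Abelian.image.ι η), Category.assoc, Abelian.image.fac, kernel.condition, zero_comp])
    have hS₀ : S₀.ShortExact :=
      { exact := ShortComplex.exact_of_f_is_kernel _ (KernelFork.IsLimit.ofι' _ _
          (fun {A} k hk => ⟨kernel.lift η k (by
            rw [← Abelian.image.fac η, reassoc_of% hk, zero_comp]), kernel.lift_ι _ _ _⟩))
        mono_f := (inferInstance : Mono (kernel.ι η))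
        epi_g := (inferInstance : Epi (Abelian.factorThruImage η)) }
    exact vanish_X₂ hS₀ (q + 1) (lower _ ‹_› hker _ (by omega))
      (vanish_X₁ hS₁ q (lower _ ‹_› hcoker _ (by omega)) hGv)

end Groth.Agent.FlatMor66.StratCoh
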