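import Groth.Agent.Div89.GenTriv
import Groth.Agent.FlatCrit65.Assassin.SocleLocal
import Groth.Agent.PerfSch56.PicPerf

/-! Invertible modules over valuation rings: triviality from the generic fibre. -/

set_option autoImplicit false
set_option linter.style.haveILetI false
set_option linter.unusedSectionVars false
set_option backward.isDefEq.respectTransparency.types false
set_option maxHeartbeats 500000

universe u

open CategoryTheory AlgebraicGeometry TopologicalSpace IsLocalRing

noncomputable section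

namespace Groth.Agent.FlatMor66.ValTriv

open Var76.LineBundle Var76.ZeroScheme Div89 Div89.Coord Div89.GenTriv

section Algebra

variable {A R : Type u} [CommRing A] [IsDomain A] [ValuationRing A] [CommRing R] [IsLocalRing R] [Algebra A R]
  [IsLocalHom (algebraMap A R)] [Algebra.EssFiniteType A R] [Module.Flat A R]

/-- A nonzero element is a multiple of one which is nonzero on the special fibre. -/
theorem exists_content {b : R} (hb : b ≠ 0) :
    ∃ (a : A) (b' : R), a ≠ 0 ∧ b = algebraMap A R a * b' ∧ b' ∉ (maximalIdeal A).map (algebraMap A R) := by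
  obtain ⟨I, hI, hmem, hmin⟩ := FlatCrit65.exists_content_of_valuationRing (A := A) (B := R) b
  obtain ⟨a, rfl⟩ := hI.principal
  rw [Ideal.submodule_span_eq, Ideal.smul_top_eq_map, Submodule.restrictScalars_mem, Ideal.map_span,
    Set.image_singleton, Ideal.mem_span_singleton'] at hmem
  obtain ⟨b', hb'⟩ := hmem
  have ha : a ≠ 0 := by rintro rfl; exact hb (by rw [← hb', map_zero, mul_zero])
  refine ⟨a, b', ha, by rw [← hb', mul_comm], fun hm => ?_⟩
  have hle : Ideal.span {a} ≤ Ideal.span {a} * maximalIdeal A := by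
    rw [← Ideal.submodule_span_eq]
    refine hmin _ ?_
    rw [Ideal.submodule_span_eq, Ideal.smul_top_eq_map, Submodule.restrictScalars_mem, Ideal.map_mul, ← hb',
      Ideal.map_span, Set.image_singleton, mul_comm b']
    exact Ideal.mul_mem_mul (Ideal.mem_span_singleton_self _) hm
  obtain ⟨m, hm', e⟩ := Ideal.mem_span_singleton_mul.1 (hle (Ideal.mem_span_singleton_self a))
  have h1 : m = 1 := mul_left_cancel₀ ha (by rw [e, mul_one])
  exact (maximalIdeal.isMaximal A).ne_top ((Ideal.eq_top_iff_one _).2 (h1 ▸ hm'))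

theorem algebraMap_mul_ne_zero {a : A} (ha : a ≠ 0) {b : R} (hb : b ≠ 0) : algebraMap A R a * b ≠ 0 := by
  intro h
  refine hb (Module.Flat.isSMulRegular_of_nonZeroDivisors (R := A) (M := R) (mem_nonZeroDivisors_of_ne_zero ha) ?_)
  show a • b = a • (0 : R)
  rw [smul_zero, Algebra.smul_def, h]

theorem isDomain_of_isPrime (hP : ((maximalIdeal A).map (algebraMap A R)).IsPrime) : IsDomain R := by
  haveI : NoZeroDivisors R := ⟨fun {b c} h => by
    by_contra hc
    push Not at hc
    obtain ⟨a, b', ha, rfl, hb'⟩ := exists_content (A := A) hc.1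
    obtain ⟨a', c', ha', rfl, hc'⟩ := exists_content (A := A) hc.2
    rw [mul_mul_mul_comm, ← map_mul] at h
    exact algebraMap_mul_ne_zero (mul_ne_zero ha ha')
      (fun e => (hP.mem_or_mem (e ▸ Ideal.zero_mem _ : b' * c' ∈ _)).elim hb' hc') h⟩
  exact NoZeroDivisors.to_isDomain R

/-- An element dividing a nonzero scalar is a scalar times a unit. -/
theorem exists_eq_mul_unit (hP : ((maximalIdeal A).map (algebraMap A R)).IsPrime) {a : A} (ha : a ≠ 0) {b b' : R}
    (h : b * b' = algebraMap A R a) : ∃ (c : A) (w : Rˣ), c ≠ 0 ∧ b = algebraMap A R c * w := by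
  have := isDomain_of_isPrime (A := A) hP
  have hb : b ≠ 0 := fun e => algebraMap_mul_ne_zero (R := R) ha one_ne_zero (by rw [mul_one, ← h, e, zero_mul])
  have hb' : b' ≠ 0 := fun e => algebraMap_mul_ne_zero (R := R) ha one_ne_zero (by rw [mul_one, ← h, e, mul_zero])
  obtain ⟨α, v, hα, rfl, hv⟩ := exists_content (A := A) hb
  obtain ⟨α', v', hα', rfl, hv'⟩ := exists_content (A := A) hb'
  rw [mul_mul_mul_comm, ← map_mul] at h
  have hu : IsUnit (v * v') := by
    rcases ValuationRing.cond (α * α') a with ⟨e, he | he⟩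
    · have h2 : v * v' = algebraMap A R e := by
        by_contra hne
        exact algebraMap_mul_ne_zero (mul_ne_zero hα hα') (sub_ne_zero.2 hne)
          (by rw [mul_sub, h, ← map_mul, he, sub_self])
      rw [h2]
      refine IsUnit.map _ (by_contra fun hn => ?_)
      exact (hP.mem_or_mem (h2 ▸ Ideal.mem_map_of_mem _ ((mem_maximalIdeal e).2 hn))).elim hv hv'
    · refine IsUnit.of_mul_eq_one (algebraMap A R e) ?_
      by_contra hne
      refine algebraMap_mul_ne_zero ha (sub_ne_zero.2 hne) ?_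
      have h3 : v * v' * algebraMap A R (α * α') = algebraMap A R a := by rw [mul_comm]; exact h
      rw [mul_sub, mul_one, ← mul_assoc, mul_comm (algebraMap A R a), mul_assoc, ← map_mul, he, h3, sub_self]
  exact ⟨α, (isUnit_of_mul_isUnit_left hu).unit, hα, rfl⟩

end Algebra

/-- The algebra, for a ring homomorphism. -/
theorem dichotomy_of_hom {A R : Type u} [CommRing A] [CommRing R] (φ : A →+* R) [IsDomain A] (hV : ValuationRing A)
    [IsLocalRing R] (hl : IsLocalHom φ) (hfl : φ.Flat) (hft : φ.EssFiniteType)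
    (hP : ((maximalIdeal A).map φ).IsPrime) :
    IsDomain R ∧ ∀ (a : A) (b b' : R), a ≠ 0 → b * b' = φ a → ∃ (c : A) (w : Rˣ), c ≠ 0 ∧ b = φ c * w := by
  letI := φ.toAlgebra
  haveI : Module.Flat A R := hfl
  haveI : IsLocalHom (algebraMap A R) := hl
  haveI : Algebra.EssFiniteType A R := hft
  haveI := hV
  exact ⟨isDomain_of_isPrime hP, fun a b b' ha h => exists_eq_mul_unit hP ha h⟩

variable {A : Type u} [CommRing A] [IsDomain A] [ValuationRing A] {X : Scheme.{u}}
  (f : X ⟶ Spec (CommRingCat.of A))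

theorem valuationRing_stalk (p : Spec (CommRingCat.of A)) :
    ValuationRing ((Spec (CommRingCat.of A)).presheaf.stalk p) := by
  letI : Algebra A ((Spec (CommRingCat.of A)).presheaf.stalk p) :=
    inferInstanceAs (Algebra A ((Spec.structureSheaf A).presheaf.stalk p))
  haveI : IsLocalization.AtPrime ((Spec (CommRingCat.of A)).presheaf.stalk p)
      (show PrimeSpectrum A from p).asIdeal :=
    inferInstanceAs (IsLocalization.AtPrime ((Spec.structureSheaf A).presheaf.stalk p) _)
  refine ValuationRing.iff_dvd_total.2 ⟨fun x y => ?_⟩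
  obtain ⟨a, s, rfl⟩ := IsLocalization.exists_mk'_eq (show PrimeSpectrum A from p).asIdeal.primeCompl x
  obtain ⟨b, t, rfl⟩ := IsLocalization.exists_mk'_eq (show PrimeSpectrum A from p).asIdeal.primeCompl y
  have hd : ∀ (a b : A) (s t : (show PrimeSpectrum A from p).asIdeal.primeCompl), a ∣ b →
      IsLocalization.mk' ((Spec (CommRingCat.of A)).presheaf.stalk p) a s ∣
        IsLocalization.mk' ((Spec (CommRingCat.of A)).presheaf.stalk p) b t := by
    rintro a _ s t ⟨c, rfl⟩
    refine ⟨IsLocalization.mk' _ (c * s.1) t, ?_⟩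
    rw [← IsLocalization.mk'_mul]
    exact IsLocalization.mk'_eq_of_eq (by simp only [Submonoid.coe_mul]; ring)
  rcases ValuationRing.cond a b with ⟨c, hc | hc⟩
  · exact Or.inl (hd a b s t ⟨c, hc.symm⟩)
  · exact Or.inr (hd b a t s ⟨c, hc.symm⟩)

abbrev s₀ : Spec (CommRingCat.of A) := closedPoint A

theorem exists_specializes_closed [UniversallyClosed f] (y : X) : ∃ x : X, y ⤳ x ∧ f x = s₀ := by
  have hc : IsClosed (f '' closure {y}) := f.isClosedMap _ isClosed_closure
  have h : f y ⤳ s₀ (A := A) := IsLocalRing.specializes_closedPoint (R := A) _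
  obtain ⟨x, hx, e⟩ := h.mem_closed hc ⟨y, subset_closure rfl, rfl⟩
  exact ⟨x, specializes_iff_mem_closure.2 hx, e⟩

variable [hint : IsIntegral (f.fiber (closedPoint A))]

/-- The generic point of the closed fibre. -/
def ξ : X := f.fiberι s₀ (genericPoint (f.fiber s₀))

theorem f_ξ : f (ξ f) = s₀ := by
  have := Set.mem_range_self (f := f.fiberι (s₀ (A := A))) (genericPoint (f.fiber s₀))
  rwa [Scheme.Hom.range_fiberι] at this

theorem ξ_specializes {x : X} (hx : f x = s₀) : ξ f ⤳ x := by
  obtain ⟨z, rfl⟩ : x ∈ Set.range (f.fiberι s₀) := by rw [Scheme.Hom.range_fiberι]; exact hx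
  exact ((genericPoint_spec (f.fiber s₀)).specializes trivial).map (f.fiberι s₀).continuous

theorem isPrime_map {x : X} (hx : f x = s₀) :
    ((maximalIdeal _).map (f.stalkMap x).hom).IsPrime := by
  obtain ⟨z, rfl⟩ : x ∈ Set.range (f.fiberι s₀) := by rw [Scheme.Hom.range_fiberι]; exact hx
  rw [← FlatMor68.FibreStalk.ker_fiberι_stalkMap f s₀ z]
  exact RingHom.ker_isPrime _

theorem stalk_dichotomy [Flat f] [LocallyOfFiniteType f] {x : X} (hx : f x = s₀) :
    IsDomain (X.presheaf.stalk x) ∧
      ∀ (a : (Spec (CommRingCat.of A)).presheaf.stalk (f x)) (b b' : X.presheaf.stalk x), a ≠ 0 →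
        b * b' = (f.stalkMap x).hom a →
          ∃ (c : (Spec (CommRingCat.of A)).presheaf.stalk (f x)) (w : (X.presheaf.stalk x)ˣ),
            c ≠ 0 ∧ b = (f.stalkMap x).hom c * w :=
  dichotomy_of_hom (f.stalkMap x).hom (valuationRing_stalk (f x)) inferInstance (Flat.stalkMap f x)
    (LocallyOfFiniteType.stalkMap f x) (isPrime_map f hx)

theorem isIntegral_total [IsProper f] [Flat f] : IsIntegral X := by
  have hdom : ∀ {x : X}, f x = s₀ → IsDomain (X.presheaf.stalk x) := fun hx => (stalk_dichotomy f hx).1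
  haveI : ∀ y : X, _root_.IsReduced (X.presheaf.stalk y) := fun y => by
    obtain ⟨x, hyx, hx⟩ := exists_specializes_closed f y
    haveI := hdom hx
    letI := (X.presheaf.stalkSpecializes hyx).hom.toAlgebra
    haveI := Cyc90.isLocalization_genPrime hyx
    exact isReduced_localizationPreserves (Cyc90.genPrime hyx).asIdeal.primeCompl _ inferInstance
  haveI := isReduced_of_isReduced_stalk X
  have hmin : ∀ {x : X}, f x = s₀ → ∃ z : X, z ⤳ x ∧ ∀ y, y ⤳ x → z ⤳ y := fun {x} hx => by
    haveI := hdom hx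
    refine ⟨(X.fromSpecStalk x).base ⟨⊥, Ideal.isPrime_bot⟩, Cyc90.fromSpecStalk_specializes _, fun y hy => ?_⟩
    refine (Cyc90.genPrime_le_iff (Cyc90.fromSpecStalk_specializes _) hy).1 ?_
    rw [Cyc90.genPrime_fromSpecStalk]
    exact bot_le
  obtain ⟨z₀, hz₀, hz₀'⟩ := hmin (f_ξ f)
  have hall : ∀ y, z₀ ⤳ y := fun y => by
    obtain ⟨x, hyx, hx⟩ := exists_specializes_closed f y
    obtain ⟨z, hz, hz'⟩ := hmin hx
    exact (hz₀' z (hz' _ (ξ_specializes f hx))).trans (hz' y hyx)
  have : IrreducibleSpace X := by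
    haveI : Nonempty X := ⟨z₀⟩
    haveI : PreirreducibleSpace X := ⟨fun U V hU hV ⟨a, _, ha⟩ ⟨b, _, hb⟩ =>
      ⟨z₀, trivial, (hall a).mem_open hU ha, (hall b).mem_open hV hb⟩⟩
    exact ⟨inferInstance⟩
  exact isIntegral_of_irreducibleSpace_of_isReduced X

theorem isIntegral_genericFibre {S : Scheme.{u}} (g : X ⟶ S) [IsIntegral X] [IsIntegral S]
    (hη : g (genericPoint X) = genericPoint S) : IsIntegral (g.fiber (genericPoint S)) := by
  set F := g.fiber (genericPoint S)
  set ι := g.fiberι (genericPoint S)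
  obtain ⟨w₀, hw₀⟩ : genericPoint X ∈ Set.range ι := by rw [Scheme.Hom.range_fiberι]; exact hη
  haveI : ∀ w : F, _root_.IsReduced (F.presheaf.stalk w) := fun w => by
    have hs : ∀ s : S, s = genericPoint S → maximalIdeal (S.presheaf.stalk s) = ⊥ := by
      rintro _ rfl
      exact isField_iff_maximalIdeal_eq.1 (Field.toIsField S.functionField)
    have hinj : Function.Injective (ι.stalkMap w).hom := by
      rw [RingHom.injective_iff_ker_eq_bot, FlatMor68.FibreStalk.ker_fiberι_stalkMap, hs, Ideal.map_bot]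
      have := Set.mem_range_self (f := ι) w
      rwa [Scheme.Hom.range_fiberι] at this
    exact isReduced_of_injective (RingEquiv.ofBijective _ ⟨hinj, ι.stalkMap_surjective w⟩).symm
      (RingEquiv.ofBijective _ ⟨hinj, ι.stalkMap_surjective w⟩).symm.injective
  haveI := isReduced_of_isReduced_stalk F
  have hall : ∀ w : F, w₀ ⤳ w := fun w =>
    ι.isEmbedding.isInducing.specializes_iff.1 (hw₀ ▸ (genericPoint_spec X).specializes trivial)
  have : IrreducibleSpace F := by
    haveI : Nonempty F := ⟨w₀⟩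
    haveI : PreirreducibleSpace F := ⟨fun U V hU hV ⟨a, _, ha⟩ ⟨b, _, hb⟩ =>
      ⟨w₀, trivial, (hall a).mem_open hU ha, (hall b).mem_open hV hb⟩⟩
    exact ⟨inferInstance⟩
  exact isIntegral_of_irreducibleSpace_of_isReduced F

theorem trivial_of_generic [IsProper f] [Flat f] {L : X.Modules} (hL : PicF.IsInvertible L)
    (htriv : Nonempty ((Scheme.Modules.pullback (f.fiberι (genericPoint ↑(Spec (CommRingCat.of A))))).obj L ≅
      Coh.structureModule (f.fiber (genericPoint ↑(Spec (CommRingCat.of A)))))) :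
    Nonempty (L ≅ Coh.structureModule X) := by
  haveI := isIntegral_total f
  have hη : f (genericPoint X) = genericPoint (Spec (CommRingCat.of A)) := by
    obtain ⟨z, hz, hzz⟩ := Flat.generalizingMap f
      ((genericPoint_spec (Spec (CommRingCat.of A))).specializes (Set.mem_univ (f (genericPoint X))))
    rw [← hzz, (hz.antisymm ((genericPoint_spec X).specializes trivial)).eq]
  haveI := isIntegral_genericFibre f hη
  obtain ⟨U₀, hU₀, e₀, he₀⟩ := Mero90.exists_frame' hL (genericPoint X)
  obtain ⟨i⟩ := htriv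
  obtain ⟨σ, hσ⟩ := exists_sigma f hη hL he₀ hU₀ i
  have hσ0 : σ ≠ 0 := (hσ _ hη).ne_zero
  -- the scalar at a point of the closed fibre
  have hscal : ∀ x, f x = s₀ → ∃ c : (Spec (CommRingCat.of A)).functionField,
      c ≠ 0 ∧ Good he₀ hU₀ x (σ * emb f hη c) := by
    intro x hx
    obtain ⟨hdom, hdiv⟩ := stalk_dichotomy f hx
    obtain ⟨k, hk⟩ := exists_good hL (he₀ := he₀) (hU₀ := hU₀) x
    obtain ⟨a, ha, b, hb⟩ := exists_mul_mem (φ := f) (r := σ * k⁻¹) (x := x) fun x' h e => by
      obtain ⟨v, hv⟩ := (hk.mono h).ratio (hσ x' e)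
      exact ⟨v, by rw [hv, mul_assoc, mul_inv_cancel₀ hk.ne_zero, mul_one]⟩
    obtain ⟨a', ha', b', hb'⟩ := exists_mul_mem (φ := f) (r := k * σ⁻¹) (x := x) fun x' h e => by
      obtain ⟨v, hv⟩ := (hσ x' e).ratio (hk.mono h)
      exact ⟨v, by rw [hv, mul_assoc, mul_inv_cancel₀ (hσ x' e).ne_zero, mul_one]⟩
    have hbb : b * b' = (f.stalkMap x).hom (a * a') := by
      refine IsFractionRing.injective (X.presheaf.stalk x) X.functionField ?_
      rw [map_mul, map_mul (f.stalkMap x).hom, map_mul, hb, hb']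
      have hk0 := hk.ne_zero
      field_simp
    obtain ⟨c, w, hc, hw⟩ := hdiv _ b b' (mul_ne_zero ha ha') hbb
    have hinj := IsFractionRing.injective ((Spec (CommRingCat.of A)).presheaf.stalk (f x))
      (Spec (CommRingCat.of A)).functionField
    refine ⟨algebraMap _ _ a / algebraMap _ _ c,
      div_ne_zero ((map_ne_zero_iff _ hinj).2 ha) ((map_ne_zero_iff _ hinj).2 hc), ?_⟩
    have hgood := hk.scale w.isUnit
    convert hgood using 1
    rw [map_div₀, emb_toK, emb_toK]
    rw [hw, map_mul] at hb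
    have hk0 := hk.ne_zero
    have hc' : algebraMap _ X.functionField ((f.stalkMap x).hom c) ≠ 0 := by
      rw [← emb_toK f hη]
      exact (map_ne_zero_iff _ (emb f hη).injective).2 ((map_ne_zero_iff _ hinj).2 hc)
    field_simp at hb ⊢
    linear_combination -hb
  obtain ⟨c₀, hc₀, hg₀⟩ := hscal _ (f_ξ f)
  have hclosed : ∀ x, f x = s₀ → Good he₀ hU₀ x (σ * emb f hη c₀) := by
    intro x hx
    obtain ⟨c, hc, h⟩ := hscal x hx
    have e : f (ξ f) = f x := (f_ξ f).trans hx.symm
    have key : ∀ (q : (Spec (CommRingCat.of A)).functionField) (y y' : Spec (CommRingCat.of A)), y = y' →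
        (∃ a : (Spec (CommRingCat.of A)).presheaf.stalk y, algebraMap _ _ a = q) →
        ∃ a : (Spec (CommRingCat.of A)).presheaf.stalk y', algebraMap _ _ a = q := fun q y y' e he => e ▸ he
    obtain ⟨a, ha⟩ := key _ _ _ e (good_ratio hη hσ hc (h.mono (ξ_specializes f hx)) hg₀)
    obtain ⟨a', ha'⟩ := key _ _ _ e (good_ratio hη hσ hc₀ hg₀ (h.mono (ξ_specializes f hx)))
    have hu : IsUnit ((f.stalkMap x).hom a) := (IsUnit.of_mul_eq_one a'
      (IsFractionRing.injective ((Spec (CommRingCat.of A)).presheaf.stalk (f x))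
        (Spec (CommRingCat.of A)).functionField (by
          rw [map_mul, ha, ha', map_one]; field_simp))).map _
    have := h.scale hu
    rwa [← emb_toK f hη, ha, map_div₀, mul_left_comm, div_mul_cancel₀ _
      ((map_ne_zero_iff _ (emb f hη).injective).2 hc)] at this
  have hgood : ∀ y : X, Good he₀ hU₀ y (σ * emb f hη c₀) := fun y => by
    obtain ⟨x, hyx, hx⟩ := exists_specializes_closed f y
    exact (hclosed x hx).mono hyx
  obtain ⟨t, ht⟩ := exists_of_co he₀ hU₀ hL (U := ⊤) (σ * emb f hη c₀) fun x _ => by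
    obtain ⟨U, hxU, e, -, hk⟩ := hgood x
    exact ⟨U, hxU, e, hk⟩
  have htf : IsFrame L ⊤ t := Amp73.isFrame_of_locally t fun x _ => by
    obtain ⟨U, hxU, e, he, hk⟩ := hgood x
    refine ⟨U, le_top, hxU, ?_⟩
    rw [show res L (le_top : U ≤ ⊤) t = e from eq_of_co he₀ hU₀ hL fun h => by rw [co_res, ht]; exact hk.symm]
    exact he
  obtain ⟨ψ, hψ⟩ := PerfSch56.exists_hom_of_values (M := L) (fun _ : PUnit.{u + 1} => (⊤ : X.Opens))
    (iSup_const ..) (fun _ => t) fun _ _ => rfl
  have : IsIso ψ := Amp73.isIso_of_frames ψ fun x => ⟨⊤, PerfSch56.one _, trivial, PerfSch56.isFrame_one _, by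
    show IsFrame _ _ (val _ ψ ⊤)
    rw [hψ ⟨⟩]
    exact htf⟩
  exact ⟨(asIso ψ).symm⟩

end Groth.Agent.FlatMor66.ValTriv
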