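import Groth.Agent.FlatMor66.HorizParam
import Groth.Agent.E4O.ChartDim
import Groth.Agent.E4O.FibreComp
import Mathlib

/-!
Locally principal subschemes with empty generic fibre are vertical.
-/

set_option autoImplicit false
set_option linter.style.haveILetI false
set_option backward.isDefEq.respectTransparency.types false
universe u

open AlgebraicGeometry CategoryTheory Limits TopologicalSpace Topology Groth.Agent.E4O

noncomputable section

namespace Groth.Agent.FlatMor66

set_option synthInstance.maxHeartbeats 100000 in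
/-- A closed subset locally cut out by one equation, missing the generic fibre, contains a component
of the fibre through each of its points. -/
theorem exists_isFibreMax_mem {X S : Scheme.{u}} (f : X ⟶ S) [IrreducibleSpace ↑S] [IrreducibleSpace ↑X]
    [IsDominant f] [LocallyOfFiniteType f] (s : S)
    (hdim : topologicalKrullDim ↑(f.fiber s) ≤ topologicalKrullDim ↑(f.fiber (genericPoint ↑S)))
    (Z : Set X) (hloc : ∀ x : X, ∃ (U : X.Opens) (g : Γ(X, U)), x ∈ U ∧ ∀ y ∈ U, y ∈ Z ↔ y ∉ X.basicOpen g)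
    (hη : ∀ x ∈ Z, f x ≠ genericPoint ↑S) (x : X) (hxZ : x ∈ Z) (hfx : f x = s) :
    ∃ z : X, z ⤳ x ∧ f z = s ∧ IsFibreMax f z ∧ z ∈ Z := by
  subst hfx
  by_contra hno
  push Not at hno
  obtain ⟨U, g, hxU, hZU⟩ := hloc x
  obtain ⟨C, ⟨q, rfl⟩, hCU, -⟩ := exists_chart_le f x U hxU
  obtain ⟨q₀, hq₀⟩ : genericPoint ↑X ∈ Set.range C.pt :=
    (genericPoint_specializes _).mem_open C.isOpen_range ⟨q, rfl⟩
  have hgen : f (genericPoint ↑X) = genericPoint ↑S := by
    refine IsGenericPoint.eq ?_ (genericPoint_spec ↑S)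
    have h := (genericPoint_spec ↑X).image f.continuous
    rwa [Set.image_univ, f.denseRange.closure_eq] at h
  let n := fdeg f (C.pt q₀)
  have hn : ∀ w, f w = genericPoint ↑S → fdeg f w ≤ n := fun w hw => by
    show fdeg f w ≤ fdeg f (C.pt q₀)
    rw [hq₀]
    exact fdeg_le (genericPoint_specializes w) (hgen.trans hw.symm)
  have hle : ∀ w, f w = f (C.pt q) → fdeg f w ≤ n := fun w hw => by
    have h1 := (dim_fiber_le_iff f _ _).1 hdim w hw
    have h2 := (dim_fiber_le_iff f (genericPoint ↑S) (n : WithBot ℕ∞)).2 fun v hv => by exact_mod_cast hn v hv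
    exact_mod_cast h1.trans h2
  have hmin : ∀ r, q₀ ≤ r := fun r => by
    refine (C.specializes_iff _ _).1 ?_
    rw [hq₀]
    exact genericPoint_specializes _
  let p₀ : Ideal C.A := q₀.asIdeal.under C.A
  let A' := C.A ⧸ p₀
  let B' := C.B ⧸ q₀.asIdeal
  let mq : C.B →+* B' := Ideal.Quotient.mk q₀.asIdeal
  have hker : RingHom.ker mq ≤ q.asIdeal := Ideal.mk_ker.le.trans (hmin q)
  let P' : Ideal B' := q.asIdeal.map mq
  have hP' : P'.IsPrime := Ideal.map_isPrime_of_surjective Ideal.Quotient.mk_surjective hker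
  have hP'c : P'.comap mq = q.asIdeal := by
    rw [Ideal.comap_map_of_surjective mq Ideal.Quotient.mk_surjective, ← RingHom.ker_eq_comap_bot, sup_eq_left.2 hker]
  let B₁ := Localization.AtPrime P'
  have : FaithfulSMul A' B' := (faithfulSMul_iff_algebraMap_injective _ _).2 Ideal.algebraMap_quotient_injective
  have : Algebra.FiniteType C.A B' :=
    Algebra.FiniteType.of_surjective (Ideal.Quotient.mkₐ C.A q₀.asIdeal) Ideal.Quotient.mk_surjective
  have : Algebra.FiniteType A' B' := .of_restrictScalars_finiteType C.A _ _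
  have hP : (IsLocalRing.maximalIdeal B₁).under B' = P' := Localization.AtPrime.under_maximalIdeal
  let toB : PrimeSpectrum B₁ → PrimeSpectrum C.B := fun t =>
    PrimeSpectrum.comap mq (PrimeSpectrum.comap (algebraMap B' B₁) t)
  have htoBinj : Function.Injective toB := (PrimeSpectrum.comap_injective_of_surjective _ Ideal.Quotient.mk_surjective).comp
    (PrimeSpectrum.localization_comap_injective B₁ P'.primeCompl)
  have htoBle : ∀ t, toB t ≤ q := fun t => by
    rw [← PrimeSpectrum.asIdeal_le_asIdeal, ← hP'c, ← hP]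
    exact Ideal.comap_mono (Ideal.comap_mono (IsLocalRing.le_maximalIdeal t.2.ne_top))
  have htoBr : ∀ w : PrimeSpectrum C.B, w ≤ q → ∃ t, toB t = w := fun w hw => by
    have hk : RingHom.ker mq ≤ w.asIdeal := Ideal.mk_ker.le.trans (hmin w)
    let w' : PrimeSpectrum B' := ⟨w.asIdeal.map mq, Ideal.map_isPrime_of_surjective Ideal.Quotient.mk_surjective hk⟩
    obtain ⟨t, ht⟩ : w' ∈ Set.range (PrimeSpectrum.comap (algebraMap B' B₁)) := by
      rw [PrimeSpectrum.localization_comap_range B₁ P'.primeCompl]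
      exact Set.disjoint_left.2 fun b hb hbw => hb (Ideal.map_mono hw hbw)
    refine ⟨t, PrimeSpectrum.ext ?_⟩
    show ((PrimeSpectrum.comap (algebraMap B' B₁) t).asIdeal).comap mq = w.asIdeal
    rw [ht]
    show (w.asIdeal.map mq).comap mq = w.asIdeal
    rw [Ideal.comap_map_of_surjective mq Ideal.Quotient.mk_surjective, ← RingHom.ker_eq_comap_bot, sup_eq_left.2 hk]
  let p' : Ideal A' := P'.under A'
  have hp'c : p'.comap (Ideal.Quotient.mk p₀) = q.asIdeal.under C.A := by
    show (P'.comap (algebraMap A' B')).comap (Ideal.Quotient.mk p₀) = q.asIdeal.comap (algebraMap C.A C.B)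
    rw [← hP'c, Ideal.comap_comap, Ideal.comap_comap]; rfl
  let J : Ideal B₁ := Ideal.map (algebraMap A' B₁) p'
  have hJ : ∀ t : PrimeSpectrum B₁, J ≤ t.asIdeal ↔ f (C.pt (toB t)) = f (C.pt q) := fun t => by
    have hkey : ∀ a : C.A, algebraMap C.A C.B a ∈ (toB t).asIdeal ↔ algebraMap A' B₁ (Ideal.Quotient.mk p₀ a) ∈ t.asIdeal :=
      fun a => by
        rw [IsScalarTower.algebraMap_apply A' B' B₁]; rfl
    rw [C.apply, C.apply, C.isOpenEmbedding_ptY.injective.eq_iff, PrimeSpectrum.ext_iff]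
    refine ⟨fun h => le_antisymm (Ideal.comap_mono (htoBle t)) fun a ha => ?_, fun h => ?_⟩
    · exact (hkey a).2 (h (Ideal.mem_map_of_mem _ (show Ideal.Quotient.mk p₀ a ∈ p' from hp'c.ge ha)))
    · refine Ideal.map_le_iff_le_comap.2 fun a ha => ?_
      obtain ⟨a, rfl⟩ := Ideal.Quotient.mk_surjective a
      exact (hkey a).1 (h.ge (hp'c.le ha))
  let e := fdeg f (C.pt q)
  -- the equation
  let V : (Spec (CommRingCat.of C.B)).Opens := C.e ⁻¹ᵁ U
  have hV : (⊤ : (Spec (CommRingCat.of C.B)).Opens) ≤ C.e ⁻¹ᵁ U := fun y _ => hCU ⟨y, rfl⟩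
  let gB : C.B := (Scheme.ΓSpecIso (CommRingCat.of C.B)).hom (C.e.appLE U ⊤ hV g)
  have hgB : ∀ w : PrimeSpectrum C.B, C.pt w ∈ Z ↔ gB ∈ w.asIdeal := fun w => by
    rw [hZU _ (hCU ⟨w, rfl⟩)]
    have h1 : C.e ⁻¹ᵁ X.basicOpen g = (Spec (CommRingCat.of C.B)).basicOpen (C.e.appLE U ⊤ hV g) := by
      rw [Scheme.basicOpen_appLE]
      simp
    have h2 : C.pt w ∈ X.basicOpen g ↔ w ∈ (Spec (CommRingCat.of C.B)).basicOpen (C.e.appLE U ⊤ hV g) := by
      rw [← h1]; rfl
    rw [h2]
    have h3 : (Spec (CommRingCat.of C.B)).basicOpen (C.e.appLE U ⊤ hV g) = PrimeSpectrum.basicOpen gB := by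
      rw [← basicOpen_eq_of_affine]
      exact congrArg _ (Iso.hom_inv_id_apply (Scheme.ΓSpecIso (CommRingCat.of C.B)) _).symm
    rw [h3]
    exact not_not
  let g' : B₁ := algebraMap B' B₁ (mq gB)
  have hgt : ∀ t : PrimeSpectrum B₁, g' ∈ t.asIdeal ↔ C.pt (toB t) ∈ Z := fun t => (hgB (toB t)).symm
  obtain ⟨a, ha, hag⟩ : ∃ a : A', a ≠ 0 ∧ algebraMap A' B₁ a ∈ Ideal.span {g'} := by
    by_contra hc
    push Not at hc
    have hd : Disjoint (Ideal.span {mq gB} : Set B') ((nonZeroDivisors A').map (algebraMap A' B')) := by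
      rw [Set.disjoint_left]
      rintro _ hb ⟨a, ha, rfl⟩
      refine hc a (nonZeroDivisors.ne_zero ha) ?_
      rw [IsScalarTower.algebraMap_apply A' B' B₁]
      obtain ⟨c, hc'⟩ := Ideal.mem_span_singleton'.1 hb
      rw [← hc', map_mul]
      exact Ideal.mul_mem_left _ _ (Ideal.mem_span_singleton_self g')
    obtain ⟨Q, hQ, hgQ, hQd⟩ := Ideal.exists_le_prime_disjoint _ _ hd
    let w : PrimeSpectrum C.B := ⟨Q.comap mq, inferInstance⟩
    refine hη (C.pt w) ((hgB w).2 (hgQ (Ideal.mem_span_singleton_self _))) ?_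
    rw [← hgen, ← hq₀, C.apply, C.apply]
    congr 1
    refine PrimeSpectrum.ext (le_antisymm (fun a ha => ?_) (Ideal.comap_mono (hmin w)))
    by_contra hane
    refine Set.disjoint_left.1 hQd (show algebraMap A' B' (Ideal.Quotient.mk p₀ a) ∈ Q from ha)
      ⟨_, mem_nonZeroDivisors_of_ne_zero fun h => hane (Ideal.Quotient.eq_zero_iff_mem.1 h), rfl⟩
  have hgm : g' ∈ IsLocalRing.maximalIdeal B₁ := by
    show mq gB ∈ (IsLocalRing.maximalIdeal B₁).comap (algebraMap B' B₁)
    rw [show (IsLocalRing.maximalIdeal B₁).comap (algebraMap B' B₁) = P' from hP]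
    exact Ideal.mem_map_of_mem _ ((hgB q).1 hxZ)
  refine not_mem_span_of_proper_cut P'.primeCompl g' hgm ?_ (n - e) e ?_ ?_ ?_ a ha hag
  · rw [hP]
    intro Q hQ hgQ
    let t : PrimeSpectrum B₁ := ⟨Q, hQ.1.1⟩
    have hfz := (hJ t).1 hQ.1.2
    refine hno (C.pt (toB t)) ((C.specializes_iff _ _).2 (htoBle t)) hfz (fun v hv hfv => ?_) ((hgt t).1 hgQ)
    obtain ⟨w, rfl⟩ := hv.mem_open C.isOpen_range ⟨_, rfl⟩
    have hwle : w ≤ toB t := (C.specializes_iff _ _).1 hv
    obtain ⟨t', rfl⟩ := htoBr w (hwle.trans (htoBle t))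
    have hJt' := (hJ t').2 (hfv.trans hfz)
    refine congrArg C.pt (le_antisymm hwle ?_)
    have h1 : t'.asIdeal ≤ t.asIdeal := by
      intro b hb
      obtain ⟨c, s, rfl⟩ := IsLocalization.exists_mk'_eq P'.primeCompl b
      rw [IsLocalization.mk'_mem_iff] at hb ⊢
      obtain ⟨c, rfl⟩ := Ideal.Quotient.mk_surjective c
      exact hwle hb
    exact Ideal.comap_mono (Ideal.comap_mono (hQ.2 ⟨t'.2, hJt'⟩ h1))
  · rw [hP]
    refine iSup_le fun l => ?_
    let toR : PrimeSpectrum (B₁ ⧸ J) → PrimeSpectrum C.B := fun t => toB (PrimeSpectrum.comap (Ideal.Quotient.mk J) t)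
    have hmono : StrictMono toR := Monotone.strictMono_of_injective
      (fun a b hab => Ideal.comap_mono (Ideal.comap_mono (Ideal.comap_mono hab)))
      (htoBinj.comp (PrimeSpectrum.comap_injective_of_surjective _ Ideal.Quotient.mk_surjective))
    have hf' : ∀ t, f (C.pt (toR t)) = f (C.pt q) := fun t => (hJ _).1 fun b hb => by
      show Ideal.Quotient.mk J b ∈ t.asIdeal
      rw [Ideal.Quotient.eq_zero_iff_mem.2 hb]
      exact t.asIdeal.zero_mem
    have key : ∀ i : Fin (l.length + 1), fdeg f (C.pt (toR (l i))) + i ≤ n := by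
      intro i
      induction i using Fin.induction with
      | zero => simpa using hle _ (hf' _)
      | succ i ih =>
        have hlt := hmono (l.step i)
        have := fdeg_lt (f := f) ((C.specializes_iff _ _).2 hlt.le)
          ((hf' (l i.castSucc)).trans (hf' (l i.succ)).symm) fun h => hlt.ne (C.isOpenEmbedding_pt.injective h)
        simp only [Fin.val_succ, Fin.val_castSucc] at *
        omega
    have h1 := key (Fin.last _)
    have h2 : e ≤ fdeg f (C.pt (toR (l (Fin.last _)))) :=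
      fdeg_le ((C.specializes_iff _ _).2 (htoBle _)) (hf' _)
    simp only [Fin.val_last] at h1
    exact_mod_cast (show l.length ≤ n - e by omega)
  · rw [hP]
    show _ = ((fdeg f (C.pt q) : ℕ) : Cardinal)
    rw [← C.trdeg_eq_fdeg]
    refine trdeg_eq_of_ringEquiv ((Ideal.quotEquivOfEq ?_).trans (DoubleQuot.quotQuotEquivQuotOfLE
      (show p₀ ≤ q.asIdeal.under C.A from Ideal.comap_mono (hmin q)))) (DoubleQuot.quotQuotEquivQuotOfLE (hmin q))
      (Ideal.Quotient.ringHom_ext (Ideal.Quotient.ringHom_ext (RingHom.ext fun x => rfl)))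
    refine Ideal.comap_injective_of_surjective (Ideal.Quotient.mk p₀) Ideal.Quotient.mk_surjective ?_
    rw [Ideal.comap_map_of_surjective _ Ideal.Quotient.mk_surjective, ← RingHom.ker_eq_comap_bot, Ideal.mk_ker,
      sup_eq_left.2 (show p₀ ≤ q.asIdeal.under C.A from Ideal.comap_mono (hmin q))]
    exact hp'c
  · rw [C.trdeg_eq_fdeg q₀, Nat.sub_add_cancel (show e ≤ n from hle _ rfl)]

end Groth.Agent.FlatMor66
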