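import Groth.Agent.FlatMor66.PowerPert
import Groth.Agent.E4O.FibreDimRing
import Groth.Agent.E4O.DimField
import Mathlib

/-!
Weak relative Noether normalization.
-/

set_option autoImplicit false
set_option linter.style.haveILetI false
set_option backward.isDefEq.respectTransparency.types false
universe u

open scoped Polynomial

noncomputable section

namespace Groth.Agent.FlatMor66.WeakNorm

open PowerPert

variable {R S : Type u} [CommRing R] [CommRing S] [Algebra R S]

/-- Fibre dimensions are bounded by residue transcendence degrees. -/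
theorem forall_fiber_le_iff [Algebra.FiniteType R S] (d : ℕ) :
    (∀ P : PrimeSpectrum R, ringKrullDim (P.asIdeal.Fiber S) ≤ d) ↔
      ∀ w : PrimeSpectrum S, Algebra.trdeg (DQ R w) (EQ w) ≤ d := by
  have hQ : ∀ (P : PrimeSpectrum R) (Q : PrimeSpectrum (P.asIdeal.Fiber S)) (w : PrimeSpectrum S),
      w.asIdeal.under R = P.asIdeal → w.asIdeal = Q.asIdeal.comap Algebra.TensorProduct.includeRight.toRingHom →
      (ringKrullDim (P.asIdeal.Fiber S ⧸ Q.asIdeal) ≤ d ↔ Algebra.trdeg (DQ R w) (EQ w) ≤ d) := by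
    intro P Q w h1 h2
    obtain ⟨p, hp⟩ := P
    obtain rfl : w.asIdeal.under R = p := h1
    have h := E4O.trdeg_fiber_quotient (w.asIdeal.under R) Q.asIdeal w.asIdeal h2
    show _ ↔ Algebra.trdeg (R ⧸ w.asIdeal.under R) (S ⧸ w.asIdeal) ≤ d
    dsimp only
    refine (iff_of_eq (congrArg (· ≤ (d : WithBot ℕ∞)) (E4O.ringKrullDim_eq_trdeg (w.asIdeal.under R).ResidueField
      ((w.asIdeal.under R).Fiber S ⧸ Q.asIdeal)))).trans ?_
    rw [← h, E4O.trdeg_eq_natCast (w.asIdeal.under R).ResidueField ((w.asIdeal.under R).Fiber S ⧸ Q.asIdeal)]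
    simp
  constructor
  · intro h w
    let P := PrimeSpectrum.comap (algebraMap R S) w
    let Q := PrimeSpectrum.preimageHomeomorphFiber R S P ⟨w, rfl⟩
    refine (hQ P Q w rfl ?_).1 ((ringKrullDim_quotient_le _).trans (h P))
    exact congr($((PrimeSpectrum.preimageHomeomorphFiber R S P).symm_apply_apply ⟨w, rfl⟩).1.asIdeal).symm
  · intro h P
    refine iSup_le fun l => ?_
    let w := ((PrimeSpectrum.preimageHomeomorphFiber R S P).symm l.head).1
    have hw : w.asIdeal.under R = P.asIdeal :=
      congrArg PrimeSpectrum.asIdeal ((PrimeSpectrum.preimageHomeomorphFiber R S P).symm l.head).2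
    refine le_trans ?_ ((hQ P l.head w hw rfl).2 (h w))
    rw [ringKrullDim_quotient]
    let l' : LTSeries (PrimeSpectrum.zeroLocus (R := P.asIdeal.Fiber S) (l.head.asIdeal : Set (P.asIdeal.Fiber S))) :=
      LTSeries.mk l.length (fun i => ⟨l i, fun x hx => (LTSeries.head_le l i) hx⟩)
        fun i j hij => LTSeries.strictMono l hij
    exact Order.LTSeries.length_le_krullDim l'

/-- Changing the base to a polynomial ring in one element lowers the residue degree by one exactly where the
element is transcendental. -/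
theorem trdeg_polynomial [Algebra R[X] S] [IsScalarTower R R[X] S] (t : S) (ht : algebraMap R[X] S Polynomial.X = t)
    (w : PrimeSpectrum S) :
    ∃ j : ℕ, (Trans R w t → j = 1) ∧ (¬ Trans R w t → j = 0) ∧
      Algebra.trdeg (DQ R w) (EQ w) = j + Algebra.trdeg (DQ R[X] w) (EQ w) := by
  let D := DQ R w
  let D' := DQ R[X] w
  have hle : w.asIdeal.under R ≤ (w.asIdeal.under R[X]).comap (algebraMap R R[X]) := fun r hr => by
    show algebraMap R[X] S (algebraMap R R[X] r) ∈ w.asIdeal
    rw [← IsScalarTower.algebraMap_apply]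
    exact hr
  letI : Algebra D D' := (Ideal.quotientMap _ (algebraMap R R[X]) hle).toAlgebra
  have : IsScalarTower D D' (EQ w) := IsScalarTower.of_algebraMap_eq fun x => by
    obtain ⟨x, rfl⟩ := Ideal.Quotient.mk_surjective x
    exact congrArg (Ideal.Quotient.mk w.asIdeal) (IsScalarTower.algebraMap_apply R R[X] S x)
  have hinj : Function.Injective (algebraMap D D') := fun x y h => by
    refine FaithfulSMul.algebraMap_injective D (EQ w) ?_
    rw [IsScalarTower.algebraMap_apply D D' (EQ w), h, ← IsScalarTower.algebraMap_apply]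
  have : FaithfulSMul D D' := (faithfulSMul_iff_algebraMap_injective _ _).2 hinj
  let x : D' := Ideal.Quotient.mk _ Polynomial.X
  have hx : algebraMap D' (EQ w) x = Ideal.Quotient.mk w.asIdeal t := congrArg (Ideal.Quotient.mk w.asIdeal) ht
  have htop : ∀ z : D', z ∈ Algebra.adjoin D ({x} : Set D') := fun z => by
    obtain ⟨p, rfl⟩ := Ideal.Quotient.mk_surjective z
    induction p using Polynomial.induction_on' with
    | add p q hp hq => rw [map_add]; exact add_mem hp hq
    | monomial n r =>
      rw [← Polynomial.C_mul_X_pow_eq_monomial, map_mul, map_pow]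
      have h1 : Ideal.Quotient.mk (w.asIdeal.under R[X]) (Polynomial.C r) = algebraMap D D' (Ideal.Quotient.mk (w.asIdeal.under R) r) :=
        (Ideal.quotientMap_mk (H := hle) (x := r)).symm
      have h2 : x ∈ Algebra.adjoin D ({x} : Set D') := Algebra.subset_adjoin (Set.mem_singleton x)
      rw [h1]
      refine mul_mem (Subalgebra.algebraMap_mem _ _) ?_
      exact pow_mem h2 n
  have : Algebra.IsAlgebraic (Algebra.adjoin D ({x} : Set D')) D' :=
    ⟨fun z => isAlgebraic_algebraMap (⟨z, htop z⟩ : Algebra.adjoin D ({x} : Set D'))⟩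
  have hadd := trdeg_add_eq D D' (A := EQ w)
  by_cases hT : Trans R w t
  · refine ⟨1, fun _ => rfl, fun h => absurd hT h, ?_⟩
    rw [← hadd]
    congr 1
    have hxt : Transcendental D x := fun h => hT (hx ▸ h.algebraMap)
    rw [Nat.cast_one]
    refine le_antisymm ((Algebra.IsAlgebraic.trdeg_le_cardinalMk D ({x} : Set D')).trans (by simp)) ?_
    have hind : AlgebraicIndependent D (fun _ : PUnit.{u+1} => x) := algebraicIndependent_unique_type_iff.2 hxt
    simpa using hind.cardinalMk_le_trdeg
  · refine ⟨0, fun h => absurd h hT, fun _ => rfl, ?_⟩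
    rw [← hadd]
    congr 1
    have hxa : IsAlgebraic D x := by
      by_contra h
      exact hT fun ha => h ((isAlgebraic_algebraMap_iff (FaithfulSMul.algebraMap_injective D' (EQ w))).1 (hx ▸ ha))
    have : Algebra.IsAlgebraic D D' := ⟨fun z => by
      induction htop z using Algebra.adjoin_induction with
      | mem v hv => obtain rfl := hv; exact hxa
      | algebraMap r => exact isAlgebraic_algebraMap r
      | add v v' _ _ h1 h2 => exact h1.add h2
      | mul v v' _ _ h1 h2 => exact h1.mul h2⟩
    rw [trdeg_eq_zero, Nat.cast_zero]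

/-- One element that is transcendental wherever the residue degree is maximal. -/
theorem exists_transcendental [Algebra.FiniteType R S] (d : ℕ) (hd0 : 0 < d)
    (hd : ∀ w : PrimeSpectrum S, Algebra.trdeg (DQ R w) (EQ w) ≤ d) :
    ∃ t : S, ∀ w : PrimeSpectrum S, Algebra.trdeg (DQ R w) (EQ w) = d → Trans R w t := by
  classical
  obtain ⟨G, hG⟩ := Algebra.FiniteType.out (R := R) (A := S)
  have key : ∀ F : Finset S, ∃ t : S, ∀ w : PrimeSpectrum S, Algebra.trdeg (DQ R w) (EQ w) = d →
      (∃ x ∈ F, Trans R w x) → Trans R w t := by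
    intro F
    induction F using Finset.induction with
    | empty => exact ⟨0, fun w _ ⟨x, hx, _⟩ => absurd hx (Finset.notMem_empty x)⟩
    | insert x F hxF ih =>
      obtain ⟨t, ht⟩ := ih
      obtain ⟨n₀, hn⟩ := exists_forall_transcendental d t x hd
      refine ⟨t ^ n₀ + x, fun w hw ⟨y, hy, hyT⟩ => hn n₀ le_rfl w hw ?_⟩
      rcases Finset.mem_insert.1 hy with rfl | hy
      · exact Or.inr hyT
      · exact Or.inl (ht w hw ⟨y, hy, hyT⟩)
  obtain ⟨t, ht⟩ := key G
  refine ⟨t, fun w hw => ht w hw ?_⟩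
  by_contra! h
  have : Algebra.IsAlgebraic (DQ R w) (EQ w) := ⟨fun z => by
    obtain ⟨z, rfl⟩ := Ideal.Quotient.mk_surjective z
    have hz : z ∈ Algebra.adjoin R (G : Set S) := hG ▸ Algebra.mem_top
    induction hz using Algebra.adjoin_induction with
    | mem x hx => exact not_not.1 (h x hx)
    | algebraMap r => exact isAlgebraic_algebraMap (Ideal.Quotient.mk (w.asIdeal.under R) r)
    | add x y _ _ hx hy => rw [map_add]; exact hx.add hy
    | mul x y _ _ hx hy => rw [map_mul]; exact hx.mul hy⟩
  rw [trdeg_eq_zero] at hw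
  exact hd0.ne (by exact_mod_cast hw)

/-- Weak relative Noether normalization. -/
theorem exists_quasiFinite : ∀ (d : ℕ) (R : Type u) [CommRing R] [Algebra R S] [Algebra.FiniteType R S],
    (∀ w : PrimeSpectrum S, Algebra.trdeg (DQ R w) (EQ w) ≤ d) →
      ∃ φ : MvPolynomial (Fin d) R →ₐ[R] S, φ.toRingHom.QuasiFinite := by
  intro d
  induction d with
  | zero =>
    intro R _ _ _ hd
    refine ⟨MvPolynomial.aeval Fin.elim0, RingHom.QuasiFinite.of_comp (g := algebraMap R (MvPolynomial (Fin 0) R)) ?_⟩
    rw [AlgHom.toRingHom_eq_coe, AlgHom.comp_algebraMap, RingHom.quasiFinite_algebraMap]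
    refine ⟨fun P hP => ?_⟩
    have hle := (forall_fiber_le_iff (R := R) (S := S) 0).2 hd ⟨P, hP⟩
    have : IsNoetherianRing (P.Fiber S) := Algebra.FiniteType.isNoetherianRing P.ResidueField _
    have : IsArtinianRing (P.Fiber S) := isArtinianRing_iff_isNoetherianRing_krullDimLE_zero.2
      ⟨inferInstance, Ring.krullDimLE_iff.2 hle⟩
    exact (Module.finite_iff_isArtinianRing P.ResidueField _).2 inferInstance
  | succ k ih =>
    intro R _ _ _ hd
    obtain ⟨t, ht⟩ := exists_transcendental (k + 1) k.succ_pos hd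
    letI : Algebra R[X] S := (Polynomial.aeval (R := R) t).toRingHom.toAlgebra
    have : IsScalarTower R R[X] S := IsScalarTower.of_algebraMap_eq fun x => ((Polynomial.aeval (R := R) t).commutes x).symm
    have hX : algebraMap R[X] S Polynomial.X = t := Polynomial.aeval_X t
    have : Algebra.FiniteType R[X] S := .of_restrictScalars_finiteType R _ _
    obtain ⟨ψ, hψ⟩ := ih R[X] fun w => by
      obtain ⟨j, hj1, hj0, hj⟩ := trdeg_polynomial (R := R) t hX w
      have hlt : Algebra.trdeg (DQ R[X] w) (EQ w) ≤ Algebra.trdeg (DQ R w) (EQ w) := hj ▸ le_add_self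
      obtain ⟨m, hm⟩ := Cardinal.lt_aleph0.1 ((hlt.trans (hd w)).trans_lt Cardinal.natCast_lt_aleph0)
      have hd' := hd w
      rw [hj, hm, ← Nat.cast_add, Nat.cast_le] at hd'
      rw [hm, Nat.cast_le]
      by_contra hmk
      have hj' : j = 1 := hj1 (ht w (by rw [hj, hm]; exact_mod_cast (show j + m = k + 1 by omega)))
      omega
    let g : MvPolynomial (Fin (k + 1)) R →ₐ[R] MvPolynomial (Fin k) R[X] :=
      MvPolynomial.aeval (Fin.cons (MvPolynomial.C Polynomial.X) MvPolynomial.X)
    refine ⟨(ψ.restrictScalars R).comp g, RingHom.QuasiFinite.comp (f := ψ.toRingHom) hψ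
      (RingHom.QuasiFinite.of_finite (RingHom.Finite.of_surjective _ ?_))⟩
    intro p
    induction p using MvPolynomial.induction_on with
    | C q =>
      induction q using Polynomial.induction_on' with
      | add a b ha hb =>
        obtain ⟨a', ha'⟩ := ha
        obtain ⟨b', hb'⟩ := hb
        exact ⟨a' + b', by rw [map_add, ha', hb', map_add]⟩
      | monomial n r =>
        refine ⟨MvPolynomial.C r * MvPolynomial.X 0 ^ n, ?_⟩
        show g (MvPolynomial.C r * MvPolynomial.X 0 ^ n) = _
        rw [map_mul, map_pow, MvPolynomial.aeval_C, MvPolynomial.aeval_X, Fin.cons_zero, ← Polynomial.C_mul_X_pow_eq_monomial,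
          map_mul, map_pow]
        rfl
    | add a b ha hb =>
      obtain ⟨a', ha'⟩ := ha
      obtain ⟨b', hb'⟩ := hb
      exact ⟨a' + b', by rw [map_add, ha', hb']⟩
    | mul_X a i ha =>
      obtain ⟨a', ha'⟩ := ha
      refine ⟨a' * MvPolynomial.X i.succ, ?_⟩
      rw [map_mul, ha']
      show _ * g (MvPolynomial.X i.succ) = _
      rw [MvPolynomial.aeval_X, Fin.cons_succ]

/-- Power perturbations keep the fibre dimension bound. -/
theorem exists_forall_fiber_le [Algebra.FiniteType R S] (d : ℕ) (a b : S)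
    (ha : ∀ P : PrimeSpectrum R[X], letI := (Polynomial.aeval (R := R) a).toRingHom.toAlgebra
      ringKrullDim (P.asIdeal.Fiber S) ≤ d) :
    ∃ n₀ : ℕ, ∀ n ≥ n₀, ∀ P : PrimeSpectrum R[X], letI := (Polynomial.aeval (R := R) (a ^ n + b)).toRingHom.toAlgebra
      ringKrullDim (P.asIdeal.Fiber S) ≤ d := by
  have key : ∀ t : S, (∀ P : PrimeSpectrum R[X], letI := (Polynomial.aeval (R := R) t).toRingHom.toAlgebra
      ringKrullDim (P.asIdeal.Fiber S) ≤ d) ↔ ∀ w : PrimeSpectrum S, Algebra.trdeg (DQ R w) (EQ w) ≤ (d + 1 : ℕ) ∧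
        (Algebra.trdeg (DQ R w) (EQ w) = (d + 1 : ℕ) → Trans R w t) := by
    intro t
    letI : Algebra R[X] S := (Polynomial.aeval (R := R) t).toRingHom.toAlgebra
    have : IsScalarTower R R[X] S := IsScalarTower.of_algebraMap_eq fun x => ((Polynomial.aeval (R := R) t).commutes x).symm
    have : Algebra.FiniteType R[X] S := .of_restrictScalars_finiteType R _ _
    rw [forall_fiber_le_iff]
    refine forall_congr' fun w => ?_
    obtain ⟨j, hj1, hj0, hj⟩ := trdeg_polynomial (R := R) t (Polynomial.aeval_X t) w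
    rw [hj]
    constructor
    · intro h
      obtain ⟨m, hm⟩ := Cardinal.lt_aleph0.1 (h.trans_lt Cardinal.natCast_lt_aleph0)
      rw [hm, Nat.cast_le] at h
      by_cases hT : Trans R w t
      · exact ⟨by rw [hm, hj1 hT, ← Nat.cast_add, Nat.cast_le]; omega, fun _ => hT⟩
      · refine ⟨by rw [hm, hj0 hT, ← Nat.cast_add, Nat.cast_le]; omega, fun he => ?_⟩
        rw [hm, hj0 hT, ← Nat.cast_add, Nat.cast_inj] at he
        omega
    · rintro ⟨h1, h2⟩
      obtain ⟨m, hm⟩ := Cardinal.lt_aleph0.1 ((le_add_self.trans h1).trans_lt Cardinal.natCast_lt_aleph0)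
      rw [hm, ← Nat.cast_add, Nat.cast_le] at h1
      rw [hm, Nat.cast_le]
      by_contra hc
      have := hj1 (h2 (by rw [hm, ← Nat.cast_add, Nat.cast_inj]; omega))
      omega
  obtain ⟨n₀, hn⟩ := exists_forall_transcendental (R := R) (d + 1) a b fun w => ((key a).1 ha w).1
  exact ⟨n₀, fun n hn' => (key _).2 fun w => ⟨((key a).1 ha w).1,
    fun he => hn n hn' w he (Or.inl (((key a).1 ha w).2 he))⟩⟩

end Groth.Agent.FlatMor66.WeakNorm
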